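import Groth.Agent.Lib.Helper46.TorRegular
import Mathlib.Algebra.Homology.DerivedCategory.Ext.ExactSequences
import Mathlib.Algebra.Homology.DerivedCategory.Ext.Linear
import Mathlib.Algebra.Homology.DerivedCategory.Ext.EnoughProjectives
import Mathlib.Algebra.Category.ModuleCat.Ext.HasExt

/-!
# `Ext` of the quotient by a regular sequence (helper46)

For `l` weakly regular on `A` of length `k` and any `A`-module `M`:
`Extⁱ(A/(l), M) = 0` for `i > k` and `Extᵏ(A/(l), M) ≃ M/(l)M`.
-/

set_option autoImplicit false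
set_option backward.isDefEq.respectTransparency false
set_option backward.defeqAttrib.useBackward true

namespace Groth.Agent.Lib.Helper46.ExtRegular

open CategoryTheory Limits Category Abelian Pointwise
open Groth.Agent.Lib.Helper46 Groth.Agent.Lib.Helper46.TorShift RingTheory.Sequence

universe u

variable {A : Type u} [CommRing A]

lemma ofList_smul_le_snoc (M : Type*) [AddCommGroup M] [Module A M] (l : List A) (r : A) :
    (Ideal.ofList l • ⊤ : Submodule A M) ≤ Ideal.ofList (l ++ [r]) • ⊤ :=
  Submodule.smul_mono_left (TorRegular.ofList_le_snoc A l r)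

/-- exactness of `M/(l)M --r--> M/(l)M --> M/(l ++ [r])M`. -/
theorem exact_quot_snoc_module (M : Type*) [AddCommGroup M] [Module A M] (l : List A) (r : A) :
    Function.Exact (r • (LinearMap.id :
        (M ⧸ (Ideal.ofList l • ⊤ : Submodule A M)) →ₗ[A] (M ⧸ (Ideal.ofList l • ⊤ : Submodule A M))))
      (Submodule.factor (ofList_smul_le_snoc M l r)) := by
  have hle := ofList_smul_le_snoc M l r
  have hP : (Ideal.ofList (l ++ [r]) • ⊤ : Submodule A M) =
      (Ideal.ofList l • ⊤ : Submodule A M) ⊔ r • (⊤ : Submodule A M) := by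
    rw [Ideal.ofList_append, Ideal.ofList_singleton, Submodule.sup_smul,
      Submodule.ideal_span_singleton_smul]
  intro y
  obtain ⟨a, rfl⟩ := Submodule.Quotient.mk_surjective _ y
  have hmk : Submodule.factor hle (Submodule.Quotient.mk a) = Submodule.Quotient.mk a :=
    Submodule.factor_mk hle a
  rw [hmk, Submodule.Quotient.mk_eq_zero, hP]
  constructor
  · intro ha
    obtain ⟨y, hy, z, hz, rfl⟩ := Submodule.mem_sup.mp ha
    obtain ⟨c, -, rfl⟩ := (Submodule.mem_smul_pointwise_iff_exists _ _ _).mp hz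
    refine ⟨Submodule.Quotient.mk c, ?_⟩
    simp only [LinearMap.smul_apply, LinearMap.id_coe, id_eq]
    rw [← Submodule.Quotient.mk_smul, Submodule.Quotient.mk_add,
      (Submodule.Quotient.mk_eq_zero _).mpr hy, zero_add]
  · rintro ⟨z, hz⟩
    obtain ⟨c, rfl⟩ := Submodule.Quotient.mk_surjective _ z
    simp only [LinearMap.smul_apply, LinearMap.id_coe, id_eq] at hz
    rw [← Submodule.Quotient.mk_smul, Submodule.Quotient.eq] at hz
    have h1 : r • c ∈ (Ideal.ofList l • ⊤ : Submodule A M) ⊔ r • (⊤ : Submodule A M) :=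
      Submodule.mem_sup_right (Submodule.smul_mem_pointwise_smul _ _ _ Submodule.mem_top)
    have h2 : r • c - a ∈ (Ideal.ofList l • ⊤ : Submodule A M) ⊔ r • (⊤ : Submodule A M) :=
      Submodule.mem_sup_left hz
    have := Submodule.sub_mem _ h1 h2
    simpa using this

/-- transport of `X / rX` along a linear equivalence -/
theorem equiv_of_cokernels {X' X Y Y' : Type*} [AddCommGroup X'] [Module A X'] [AddCommGroup X]
    [Module A X] [AddCommGroup Y] [Module A Y] [AddCommGroup Y'] [Module A Y'] (r : A)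
    (d : X →ₗ[A] X') (hd : Function.Surjective d)
    (hdr : LinearMap.ker d = LinearMap.range (r • (LinearMap.id : X →ₗ[A] X)))
    (j : Y →ₗ[A] Y') (hj : Function.Surjective j)
    (hjr : LinearMap.ker j = LinearMap.range (r • (LinearMap.id : Y →ₗ[A] Y)))
    (e : X ≃ₗ[A] Y) : Nonempty (X' ≃ₗ[A] Y') := by
  have hmap : (LinearMap.ker d).map (e : X →ₗ[A] Y) = LinearMap.ker j := by
    rw [hdr, hjr]
    ext y
    simp only [Submodule.mem_map, LinearMap.mem_range, LinearMap.smul_apply, LinearMap.id_apply]
    constructor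
    · rintro ⟨x, ⟨x', rfl⟩, rfl⟩
      exact ⟨e x', by simp⟩
    · rintro ⟨y', rfl⟩
      exact ⟨r • e.symm y', ⟨e.symm y', rfl⟩, by simp⟩
  exact ⟨(d.quotKerEquivOfSurjective hd).symm ≪≫ₗ
    Submodule.Quotient.equiv (LinearMap.ker d) (LinearMap.ker j) e hmap ≪≫ₗ
    j.quotKerEquivOfSurjective hj⟩

variable (M : Type u) [AddCommGroup M] [Module A M]

/-- For `l` weakly regular on `A` of length `k`: `Extⁱ(A/(l), M) = 0` for `i > k` and
`Extᵏ(A/(l), M) ≃ M/(l)M`. -/
theorem ext_quot_regular (l : List A) (hA : IsWeaklyRegular A l) :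
    (∀ i, l.length < i →
      ∀ x : Ext (ModuleCat.of A (A ⧸ Ideal.ofList l)) (ModuleCat.of A M) i, x = 0) ∧
    Nonempty (Ext (ModuleCat.of A (A ⧸ Ideal.ofList l)) (ModuleCat.of A M) l.length ≃ₗ[A]
      (M ⧸ (Ideal.ofList l • ⊤ : Submodule A M))) := by
  induction l using List.reverseRecOn with
  | nil =>
    have e : (A ⧸ Ideal.ofList ([] : List A)) ≃ₗ[A] A :=
      Submodule.quotEquivOfEqBot _ Ideal.ofList_nil
    haveI : Module.Projective A (A ⧸ Ideal.ofList ([] : List A)) :=
      Module.Projective.of_equiv e.symm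
    haveI : Projective (ModuleCat.of A (A ⧸ Ideal.ofList ([] : List A))) :=
      (IsProjective.iff_projective (R := A) _).mp inferInstance
    constructor
    · intro i hi x
      obtain ⟨k, rfl⟩ : ∃ k, i = k + 1 := ⟨i - 1, by simp at hi; omega⟩
      exact Ext.eq_zero_of_projective x
    · have hbot : (Ideal.ofList ([] : List A) • ⊤ : Submodule A M) = ⊥ := by
        rw [Ideal.ofList_nil, Submodule.bot_smul]
      exact ⟨Ext.linearEquiv₀ ≪≫ₗ ModuleCat.homLinearEquiv ≪≫ₗ
        LinearEquiv.arrowCongr e (LinearEquiv.refl A M) ≪≫ₗ LinearMap.ringLmapEquivSelf A A M ≪≫ₗ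
        (Submodule.quotEquivOfEqBot _ hbot).symm⟩
  | append_singleton l r ih =>
    have hreg := TorRegular.isSMulRegular_quot_of_snoc A l r hA
    obtain ⟨hvan, ⟨e⟩⟩ := ih ((isWeaklyRegular_append_iff A l [r]).mp hA).1
    have hex := TorRegular.exact_quot_snoc A l r
    have hπ : Function.Surjective (Submodule.factor (TorRegular.ofList_le_snoc A l r)) :=
      Submodule.factor_surjective _
    have hι := TorLinear.smulId_injective r hreg
    have hS := sesSC_shortExact _ _ hι hex hπ
    have hlen : (l ++ [r]).length = l.length + 1 := by simp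
    have hf : (sesSC _ _ hex).f = r • 𝟙 _ := rfl
    constructor
    · intro i hi x
      obtain ⟨j, rfl⟩ : ∃ j, i = j + 1 := ⟨i - 1, by omega⟩
      obtain ⟨x₁, rfl⟩ := Ext.contravariant_sequence_exact₃ hS (ModuleCat.of A M) x
        (hvan (j + 1) (by omega) _) (n₀ := j) (by omega)
      rw [hvan j (by omega) x₁, Ext.comp_zero]
    · rw [hlen]
      refine equiv_of_cokernels r
        (Ext.bilinearCompOfLinear A _ _ (ModuleCat.of A M) 1 l.length (l.length + 1) (by omega)
          hS.extClass) ?_ ?_
        (Submodule.factor (ofList_smul_le_snoc M l r)) (Submodule.factor_surjective _)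
        ((LinearMap.exact_iff).mp (exact_quot_snoc_module M l r)) e
      · intro x
        obtain ⟨x₁, hx₁⟩ := Ext.contravariant_sequence_exact₃ hS (ModuleCat.of A M) x
          (hvan (l.length + 1) (by omega) _) (n₀ := l.length) (by omega)
        exact ⟨x₁, hx₁⟩
      · ext x₁
        simp only [LinearMap.mem_ker, LinearMap.mem_range, LinearMap.smul_apply,
          LinearMap.id_apply, Ext.bilinearCompOfLinear_apply_apply]
        constructor
        · intro h
          obtain ⟨x₂, hx₂⟩ := Ext.contravariant_sequence_exact₁ hS (ModuleCat.of A M) x₁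
            (by omega) h
          refine ⟨x₂, ?_⟩
          rw [← hx₂, hf, Ext.mk₀_smul, Ext.smul_comp, Ext.mk₀_id_comp]
        · rintro ⟨x₂, rfl⟩
          have : r • x₂ = (Ext.mk₀ (sesSC _ _ hex).f).comp x₂ (zero_add _) := by
            rw [hf, Ext.mk₀_smul, Ext.smul_comp, Ext.mk₀_id_comp]
          rw [this]
          exact hS.extClass_comp_assoc x₂

end Groth.Agent.Lib.Helper46.ExtRegular
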