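import Groth.Agent.Lib.Helper46.TorOne

/-!
# Module-level consequences of the Tor long exact sequences (helper46)

All statements are for Mathlib's `Tor (ModuleCat R)` evaluated at `ModuleCat.of R _`, for a short exact
sequence `0 → X --ι--> Y --π--> Z → 0` of `R`-modules given by linear maps.
Suffix `₁`: the sequence is in the first variable; suffix `₂`: in the second variable.
-/

set_option autoImplicit false
set_option backward.isDefEq.respectTransparency false
set_option backward.defeqAttrib.useBackward true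

namespace Groth.Agent.Lib.Helper46.TorShift

open CategoryTheory Limits MonoidalCategory Category
open Groth.Agent.Lib.Helper46

universe u

variable {R : Type u} [CommRing R]
variable {X Y Z N : Type u} [AddCommGroup X] [Module R X] [AddCommGroup Y] [Module R Y]
  [AddCommGroup Z] [Module R Z] [AddCommGroup N] [Module R N]

/-- abbreviation for `Torₙ(M, N)` on types -/
noncomputable abbrev T (R : Type u) [CommRing R] (n : ℕ) (M N : Type u) [AddCommGroup M] [Module R M]
    [AddCommGroup N] [Module R N] : ModuleCat.{u} R :=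
  ((Tor (ModuleCat.{u} R) n).obj (ModuleCat.of R M)).obj (ModuleCat.of R N)

/-- The short complex in `ModuleCat` of a short exact sequence of linear maps. -/
noncomputable abbrev sesSC (ι : X →ₗ[R] Y) (π : Y →ₗ[R] Z) (hex : Function.Exact ι π) :
    ShortComplex (ModuleCat.{u} R) :=
  ModuleCat.shortComplexOfCompEqZero ι π hex.linearMap_comp_eq_zero

lemma sesSC_shortExact (ι : X →ₗ[R] Y) (π : Y →ₗ[R] Z) (hι : Function.Injective ι)
    (hex : Function.Exact ι π) (hπ : Function.Surjective π) : (sesSC ι π hex).ShortExact :=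
  ModuleCat.shortComplex_shortExact _ hex hι hπ

section
variable (ι : X →ₗ[R] Y) (π : Y →ₗ[R] Z) (hι : Function.Injective ι)
    (hex : Function.Exact ι π) (hπ : Function.Surjective π)
include hι hex hπ

/-- first variable, middle term -/
theorem isZero_mid₁ (n : ℕ) (hX : IsZero (T R n X N)) (hZ : IsZero (T R n Z N)) :
    IsZero (T R n Y N) :=
  (TorLES.exact₂ _ (sesSC_shortExact ι π hι hex hπ) (ModuleCat.of R N) n).isZero_X₂
    (hX.eq_of_src _ _) (hZ.eq_of_tgt _ _)

/-- first variable, left term: `Torₙ₊₁(Z,N) = 0` and `Torₙ(Y,N) = 0` imply `Torₙ(X,N) = 0`. -/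
theorem isZero_left₁ (n : ℕ) (hZ : IsZero (T R (n + 1) Z N)) (hY : IsZero (T R n Y N)) :
    IsZero (T R n X N) :=
  (TorLES.exact₁ _ (sesSC_shortExact ι π hι hex hπ) (ModuleCat.of R N) n).isZero_X₂
    (hZ.eq_of_src _ _) (hY.eq_of_tgt _ _)

/-- first variable, right term: `Torₙ₊₁(Y,N) = 0` and `Torₙ(X,N) = 0` imply `Torₙ₊₁(Z,N) = 0`. -/
theorem isZero_right₁ (n : ℕ) (hY : IsZero (T R (n + 1) Y N)) (hX : IsZero (T R n X N)) :
    IsZero (T R (n + 1) Z N) :=
  (TorLES.exact₃ _ (sesSC_shortExact ι π hι hex hπ) (ModuleCat.of R N) n).isZero_X₂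
    (hY.eq_of_src _ _) (hX.eq_of_tgt _ _)

/-- second variable, middle term -/
theorem isZero_mid₂ (n : ℕ) (hX : IsZero (T R n N X)) (hZ : IsZero (T R n N Z)) :
    IsZero (T R n N Y) :=
  (TorLES2.exact₂₂ (ModuleCat.of R N) _ (sesSC_shortExact ι π hι hex hπ) n).isZero_X₂
    (hX.eq_of_src _ _) (hZ.eq_of_tgt _ _)

/-- second variable, left term -/
theorem isZero_left₂ (n : ℕ) (hZ : IsZero (T R (n + 1) N Z)) (hY : IsZero (T R n N Y)) :
    IsZero (T R n N X) :=
  (TorLES2.exact₁₂ (ModuleCat.of R N) _ (sesSC_shortExact ι π hι hex hπ) n).isZero_X₂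
    (hZ.eq_of_src _ _) (hY.eq_of_tgt _ _)

/-- second variable, right term -/
theorem isZero_right₂ (n : ℕ) (hY : IsZero (T R (n + 1) N Y)) (hX : IsZero (T R n N X)) :
    IsZero (T R (n + 1) N Z) :=
  (TorLES2.exact₃₂ (ModuleCat.of R N) _ (sesSC_shortExact ι π hι hex hπ) n).isZero_X₂
    (hY.eq_of_src _ _) (hX.eq_of_tgt _ _)

/-- second variable: if `Torₙ₊₁(N, Y) = 0` the connecting map `Torₙ₊₁(N,Z) → Torₙ(N,X)` is injective. -/
theorem exists_injective₂ (n : ℕ) (hY : IsZero (T R (n + 1) N Y)) :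
    ∃ f : (T R (n + 1) N Z) →ₗ[R] (T R n N X), Function.Injective f := by
  have hS := sesSC_shortExact ι π hι hex hπ
  have : Mono (TorLES2.δ₂ (ModuleCat.of R N) _ hS n) :=
    (TorLES2.exact₃₂ (ModuleCat.of R N) _ hS n).mono_g (hY.eq_of_src _ _)
  exact ⟨(TorLES2.δ₂ (ModuleCat.of R N) _ hS n).hom, (ModuleCat.mono_iff_injective _).mp this⟩

/-- first variable: if `Torₙ₊₁(Y, N) = 0` the connecting map `Torₙ₊₁(Z,N) → Torₙ(X,N)` is injective. -/
theorem exists_injective₁ (n : ℕ) (hY : IsZero (T R (n + 1) Y N)) :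
    ∃ f : (T R (n + 1) Z N) →ₗ[R] (T R n X N), Function.Injective f := by
  have hS := sesSC_shortExact ι π hι hex hπ
  have : Mono ((TorLES.δ _ hS n).app (ModuleCat.of R N)) :=
    (TorLES.exact₃ _ hS (ModuleCat.of R N) n).mono_g (hY.eq_of_src _ _)
  exact ⟨((TorLES.δ _ hS n).app (ModuleCat.of R N)).hom, (ModuleCat.mono_iff_injective _).mp this⟩

end

/-- `Torₙ` is invariant under linear equivalences in both variables. -/
noncomputable def torCongr {M M' N N' : Type u} [AddCommGroup M] [Module R M] [AddCommGroup M']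
    [Module R M'] [AddCommGroup N] [Module R N] [AddCommGroup N'] [Module R N']
    (e₁ : M ≃ₗ[R] M') (e₂ : N ≃ₗ[R] N') (n : ℕ) : T R n M N ≅ T R n M' N' :=
  ((Tor (ModuleCat.{u} R) n).mapIso e₁.toModuleIso).app _ ≪≫
    ((Tor (ModuleCat.{u} R) n).obj _).mapIso e₂.toModuleIso

lemma isZero_congr {M M' N N' : Type u} [AddCommGroup M] [Module R M] [AddCommGroup M']
    [Module R M'] [AddCommGroup N] [Module R N] [AddCommGroup N'] [Module R N']
    (e₁ : M ≃ₗ[R] M') (e₂ : N ≃ₗ[R] N') (n : ℕ) (h : IsZero (T R n M N)) : IsZero (T R n M' N') :=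
  h.of_iso (torCongr e₁ e₂ n).symm

/-- `Tor₀(M, N) ≃ₗ M ⊗ N`. -/
noncomputable def torZeroEquiv (M N : Type u) [AddCommGroup M] [Module R M] [AddCommGroup N]
    [Module R N] : (T R 0 M N) ≃ₗ[R] TensorProduct R M N :=
  ((TorLES.torZeroIso (ModuleCat.of R M)).app (ModuleCat.of R N)).toLinearEquiv

/-- higher Tor vanishes if the first variable is flat -/
lemma isZero_of_flat_left (M N : Type u) [AddCommGroup M] [Module R M] [AddCommGroup N]
    [Module R N] [Module.Flat R M] (n : ℕ) : IsZero (T R (n + 1) M N) :=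
  TorLES.isZero_tor_succ_of_flat_left (ModuleCat.of R M) (ModuleCat.of R N) n

/-- higher Tor vanishes if the second variable is flat -/
lemma isZero_of_flat_right (M N : Type u) [AddCommGroup M] [Module R M] [AddCommGroup N]
    [Module R N] [Module.Flat R N] (n : ℕ) : IsZero (T R (n + 1) M N) :=
  TorLES.isZero_tor_succ_of_flat_right (ModuleCat.of R N) n (ModuleCat.of R M)

end Groth.Agent.Lib.Helper46.TorShift
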