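import Groth.Agent.Lib.Helper46.TorLES2
import Mathlib.Algebra.Category.ModuleCat.EpiMono

/-!
# `Tor₁` criteria (helper46)

For Mathlib's `Tor (ModuleCat R)`:
* `isZero_tor_one_iff_mono₂`: for a short exact sequence `S` with flat middle term (second variable),
  `Tor₁(N, S.X₃) = 0 ↔ N ⊗ S.X₁ ⟶ N ⊗ S.X₂` is mono.
* `isZero_tor_one_iff_mono₁`: same in the first variable.
* linear-map versions `isZero_tor_one_iff_injective_lTensor/rTensor`.
-/

set_option autoImplicit false
set_option backward.isDefEq.respectTransparency false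
set_option backward.defeqAttrib.useBackward true

namespace Groth.Agent.Lib.Helper46.TorOne

open CategoryTheory Limits MonoidalCategory Category
open Groth.Agent.Lib.Helper46

universe u

variable {R : Type u} [CommRing R]

/-- `Tor₁(N, S.X₃) = 0 ↔ N ⊗ S.X₁ ⟶ N ⊗ S.X₂` mono, for `S` short exact with `S.X₂` flat. -/
theorem isZero_tor_one_iff_mono₂ (N : ModuleCat.{u} R) (S : ShortComplex (ModuleCat.{u} R))
    (hS : S.ShortExact) [Module.Flat R S.X₂] :
    IsZero (((Tor (ModuleCat.{u} R) 1).obj N).obj S.X₃) ↔ Mono (N ◁ S.f) := by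
  have hP : IsZero (((Tor (ModuleCat.{u} R) 1).obj N).obj S.X₂) :=
    TorLES.isZero_tor_succ_of_flat_right S.X₂ 0 N
  have e1 := TorLES2.exact₁₂ N S hS 0
  have e3 := TorLES2.exact₃₂ N S hS 0
  have hmono : Mono (TorLES2.δ₂ N S hS 0) := e3.mono_g (hP.eq_of_src _ _)
  have hnat : ((Tor (ModuleCat.{u} R) 0).obj N).map S.f ≫ (TorLES.torZeroIso N).hom.app S.X₂ =
      (TorLES.torZeroIso N).hom.app S.X₁ ≫ N ◁ S.f := (TorLES.torZeroIso N).hom.naturality S.f
  have key : Mono (((Tor (ModuleCat.{u} R) 0).obj N).map S.f) ↔ Mono (N ◁ S.f) := by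
    constructor
    · intro h
      have : N ◁ S.f = (TorLES.torZeroIso N).inv.app S.X₁ ≫
          ((Tor (ModuleCat.{u} R) 0).obj N).map S.f ≫ (TorLES.torZeroIso N).hom.app S.X₂ := by
        rw [hnat, Iso.inv_hom_id_app_assoc]
      rw [this]; infer_instance
    · intro h
      have : ((Tor (ModuleCat.{u} R) 0).obj N).map S.f = (TorLES.torZeroIso N).hom.app S.X₁ ≫
          N ◁ S.f ≫ (TorLES.torZeroIso N).inv.app S.X₂ := by
        rw [← reassoc_of% hnat, Iso.hom_inv_id_app, comp_id]
      rw [this]; infer_instance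
  rw [← key]
  constructor
  · intro hz
    exact e1.mono_g (hz.eq_of_src _ _)
  · intro h
    have hz : TorLES2.δ₂ N S hS 0 = 0 := by
      rw [← cancel_mono (((Tor (ModuleCat.{u} R) 0).obj N).map S.f), TorLES2.δ₂_map_f, zero_comp]
    rw [IsZero.iff_id_eq_zero, ← cancel_mono (TorLES2.δ₂ N S hS 0), hz]
    simp

/-- `Tor₁(S.X₃, N) = 0 ↔ S.X₁ ⊗ N ⟶ S.X₂ ⊗ N` mono, for `S` short exact with `S.X₂` flat. -/
theorem isZero_tor_one_iff_mono₁ (S : ShortComplex (ModuleCat.{u} R))
    (hS : S.ShortExact) [Module.Flat R S.X₂] (N : ModuleCat.{u} R) :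
    IsZero (((Tor (ModuleCat.{u} R) 1).obj S.X₃).obj N) ↔ Mono (S.f ▷ N) := by
  have hP : IsZero (((Tor (ModuleCat.{u} R) 1).obj S.X₂).obj N) :=
    TorLES.isZero_tor_succ_of_flat_left S.X₂ N 0
  have e1 := TorLES.exact₁ S hS N 0
  have e3 := TorLES.exact₃ S hS N 0
  have hmono : Mono ((TorLES.δ S hS 0).app N) := e3.mono_g (hP.eq_of_src _ _)
  have hnat := TorLES.torZeroIso_hom_naturality S.f N
  have key : Mono (((Tor (ModuleCat.{u} R) 0).map S.f).app N) ↔ Mono (S.f ▷ N) := by
    constructor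
    · intro h
      have : S.f ▷ N = (TorLES.torZeroIso S.X₁).inv.app N ≫
          ((Tor (ModuleCat.{u} R) 0).map S.f).app N ≫ (TorLES.torZeroIso S.X₂).hom.app N := by
        rw [hnat, Iso.inv_hom_id_app_assoc]
      rw [this]; infer_instance
    · intro h
      have : ((Tor (ModuleCat.{u} R) 0).map S.f).app N = (TorLES.torZeroIso S.X₁).hom.app N ≫
          S.f ▷ N ≫ (TorLES.torZeroIso S.X₂).inv.app N := by
        rw [← reassoc_of% hnat, Iso.hom_inv_id_app, comp_id]
      rw [this]; infer_instance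
  rw [← key]
  constructor
  · intro hz
    exact e1.mono_g (hz.eq_of_src _ _)
  · intro h
    have hz : (TorLES.δ S hS 0).app N = 0 := by
      rw [← cancel_mono (((Tor (ModuleCat.{u} R) 0).map S.f).app N), TorLES.δ_map_f, zero_comp]
    rw [IsZero.iff_id_eq_zero, ← cancel_mono ((TorLES.δ S hS 0).app N), hz]
    simp

section Linear

variable {N Z P M : Type u} [AddCommGroup N] [Module R N] [AddCommGroup Z] [Module R Z]
  [AddCommGroup P] [Module R P] [AddCommGroup M] [Module R M]

/-- Second variable: for `0 → Z → P → M → 0` exact with `P` flat,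
`Tor₁(N, M) = 0 ↔ N ⊗ Z → N ⊗ P` injective. -/
theorem isZero_tor_one_iff_injective_lTensor (ι : Z →ₗ[R] P) (π : P →ₗ[R] M)
    (hι : Function.Injective ι) (hex : Function.Exact ι π) (hπ : Function.Surjective π)
    [Module.Flat R P] :
    IsZero (((Tor (ModuleCat.{u} R) 1).obj (ModuleCat.of R N)).obj (ModuleCat.of R M)) ↔
      Function.Injective (ι.lTensor N) := by
  let S : ShortComplex (ModuleCat.{u} R) :=
    ModuleCat.shortComplexOfCompEqZero ι π hex.linearMap_comp_eq_zero
  have hS : S.ShortExact := ModuleCat.shortComplex_shortExact S hex hι hπ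
  haveI : Module.Flat R S.X₂ := ‹Module.Flat R P›
  have h := isZero_tor_one_iff_mono₂ (ModuleCat.of R N) S hS
  rw [ModuleCat.mono_iff_injective] at h
  exact h

/-- First variable: for `0 → Z → P → N → 0` exact with `P` flat,
`Tor₁(N, M) = 0 ↔ Z ⊗ M → P ⊗ M` injective. -/
theorem isZero_tor_one_iff_injective_rTensor (ι : Z →ₗ[R] P) (π : P →ₗ[R] N)
    (hι : Function.Injective ι) (hex : Function.Exact ι π) (hπ : Function.Surjective π)
    [Module.Flat R P] :
    IsZero (((Tor (ModuleCat.{u} R) 1).obj (ModuleCat.of R N)).obj (ModuleCat.of R M)) ↔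
      Function.Injective (ι.rTensor M) := by
  let S : ShortComplex (ModuleCat.{u} R) :=
    ModuleCat.shortComplexOfCompEqZero ι π hex.linearMap_comp_eq_zero
  have hS : S.ShortExact := ModuleCat.shortComplex_shortExact S hex hι hπ
  haveI : Module.Flat R S.X₂ := ‹Module.Flat R P›
  have h := isZero_tor_one_iff_mono₁ S hS (ModuleCat.of R M)
  rw [ModuleCat.mono_iff_injective] at h
  exact h

end Linear

end Groth.Agent.Lib.Helper46.TorOne
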