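import Groth.Agent.Lib.Helper46.TorPrime
import Groth.Agent.Lib.Helper46.TorShift
import Mathlib.Algebra.Category.ModuleCat.FilteredColimits
import Mathlib.CategoryTheory.Limits.ConcreteCategory.Basic
import Mathlib.CategoryTheory.Limits.Types.Filtered
import Mathlib.CategoryTheory.Limits.Preserves.Filtered

/-!
# `Tor` commutes with filtered colimits (helper46)
-/

set_option autoImplicit false
set_option backward.isDefEq.respectTransparency false
set_option backward.defeqAttrib.useBackward true

namespace Groth.Agent.Lib.Helper46.TorFiltered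

open CategoryTheory Limits MonoidalCategory Category
open Groth.Agent.Lib.Helper46

universe u

section Kernel

variable {R : Type u} [Ring R] {J : Type u} [SmallCategory J] [IsFiltered J]

/-- recognition of filtered colimits in `ModuleCat`, elementwise -/
theorem nonempty_isColimit_of_elementwise {K : J ⥤ ModuleCat.{u} R} (t : Cocone K)
    (hsurj : ∀ x : t.pt, ∃ (i : J) (xi : K.obj i), t.ι.app i xi = x)
    (hinj : ∀ (i : J) (x : K.obj i), t.ι.app i x = 0 → ∃ (k : J) (f : i ⟶ k), K.map f x = 0) :
    Nonempty (IsColimit t) := by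
  refine ⟨isColimitOfReflects (forget (ModuleCat.{u} R))
    (Types.FilteredColimit.isColimitOf' _ _ ?_ ?_)⟩
  · intro x
    obtain ⟨i, xi, h⟩ := hsurj x
    exact ⟨i, xi, h.symm⟩
  · intro i x y h
    have h' : t.ι.app i (show K.obj i from x) = t.ι.app i (show K.obj i from y) := h
    obtain ⟨k, f, hf⟩ := hinj i ((show K.obj i from x) - (show K.obj i from y))
      (by rw [map_sub, h', sub_self])
    refine ⟨k, f, ?_⟩
    rw [map_sub, sub_eq_zero] at hf
    exact hf

variable {D : Type*} [Category D]

/-- The kernel of a natural transformation between functors to `ModuleCat` preserving filtered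
colimits of shape `J` preserves filtered colimits of shape `J`. -/
theorem preservesColimitsOfShape_of_kernel (F G H : D ⥤ ModuleCat.{u} R) (ι : H ⟶ F) (α : F ⟶ G)
    (hmono : ∀ X, Mono (ι.app X)) (hzero : ∀ X, ι.app X ≫ α.app X = 0)
    (hexact : ∀ X, (ShortComplex.mk (ι.app X) (α.app X) (hzero X)).Exact)
    [PreservesColimitsOfShape J F] [PreservesColimitsOfShape J G] :
    PreservesColimitsOfShape J H := by
  constructor
  intro K
  constructor
  intro t ht
  have tF : IsColimit (F.mapCocone t) := isColimitOfPreserves F ht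
  have tG : IsColimit (G.mapCocone t) := isColimitOfPreserves G ht
  have hinjι : ∀ X, Function.Injective (ι.app X) := fun X =>
    (ModuleCat.mono_iff_injective _).mp (hmono X)
  have natι : ∀ {X Y : D} (f : X ⟶ Y) (h : H.obj X), ι.app Y (H.map f h) = F.map f (ι.app X h) :=
    fun f h => ConcreteCategory.congr_hom (ι.naturality f) h
  have natα : ∀ {X Y : D} (f : X ⟶ Y) (x : F.obj X), α.app Y (F.map f x) = G.map f (α.app X x) :=
    fun f x => ConcreteCategory.congr_hom (α.naturality f) x
  have hzero' : ∀ X (h : H.obj X), α.app X (ι.app X h) = 0 := fun X h =>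
    ConcreteCategory.congr_hom (hzero X) h
  apply nonempty_isColimit_of_elementwise
  · intro h
    change H.obj t.pt at h
    obtain ⟨j, x, hx⟩ := Concrete.isColimit_exists_rep (K ⋙ F) tF (ι.app t.pt h)
    change F.obj (K.obj j) at x
    have hx' : F.map (t.ι.app j) x = ι.app t.pt h := hx
    have h0 : G.map (t.ι.app j) (α.app (K.obj j) x) = 0 :=
      (natα (t.ι.app j) x).symm.trans
        ((congrArg (fun z => α.app t.pt z) hx').trans (hzero' t.pt h))
    have h0' : (G.mapCocone t).ι.app j (α.app (K.obj j) x) = (G.mapCocone t).ι.app j 0 :=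
      h0.trans (map_zero (G.map (t.ι.app j)).hom).symm
    obtain ⟨k, f, g, hfg⟩ := (Concrete.isColimit_rep_eq_iff_exists (K ⋙ G) tG _ _).mp h0'
    have hfg' : G.map (K.map f) (α.app (K.obj j) x) = 0 :=
      hfg.trans (map_zero (G.map (K.map g)).hom)
    have hk : α.app (K.obj k) (F.map (K.map f) x) = 0 := (natα (K.map f) x).trans hfg'
    obtain ⟨h', hh'⟩ := (ShortComplex.moduleCat_exact_iff _).mp (hexact (K.obj k)) _ hk
    have hh'' : ι.app (K.obj k) h' = F.map (K.map f) x := hh'
    refine ⟨k, h', ?_⟩
    apply hinjι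
    calc ι.app t.pt (H.map (t.ι.app k) h')
        = F.map (t.ι.app k) (ι.app (K.obj k) h') := natι (t.ι.app k) h'
      _ = F.map (t.ι.app k) (F.map (K.map f) x) := congrArg (fun z => F.map (t.ι.app k) z) hh''
      _ = F.map (K.map f ≫ t.ι.app k) x := by rw [F.map_comp]; rfl
      _ = F.map (t.ι.app j) x := by rw [t.w f]; rfl
      _ = ι.app t.pt h := hx'
  · intro i h hh
    change H.obj (K.obj i) at h
    have hh' : H.map (t.ι.app i) h = 0 := hh
    have h0 : F.map (t.ι.app i) (ι.app (K.obj i) h) = 0 :=
      (natι (t.ι.app i) h).symm.trans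
        ((congrArg (fun z => ι.app t.pt z) hh').trans (map_zero (ι.app t.pt).hom))
    have h0' : (F.mapCocone t).ι.app i (ι.app (K.obj i) h) = (F.mapCocone t).ι.app i 0 :=
      h0.trans (map_zero (F.map (t.ι.app i)).hom).symm
    obtain ⟨k, f, g, hfg⟩ := (Concrete.isColimit_rep_eq_iff_exists (K ⋙ F) tF _ _).mp h0'
    have hfg' : F.map (K.map f) (ι.app (K.obj i) h) = 0 :=
      hfg.trans (map_zero (F.map (K.map g)).hom)
    refine ⟨k, f, ?_⟩
    apply hinjι
    calc ι.app (K.obj k) (H.map (K.map f) h)
        = F.map (K.map f) (ι.app (K.obj i) h) := natι (K.map f) h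
      _ = 0 := hfg'
      _ = ι.app (K.obj k) 0 := (map_zero (ι.app (K.obj k)).hom).symm

end Kernel

section Tor

variable {R : Type u} [CommRing R] (J : Type u) [SmallCategory J] [IsFiltered J]

instance (M : ModuleCat.{u} R) : PreservesColimitsOfShape J (tensorLeft M) := inferInstance

/-- `Torₚ(M, -)` preserves filtered colimits. -/
theorem tor_obj_preservesColimitsOfShape :
    ∀ (p : ℕ) (M : ModuleCat.{u} R), PreservesColimitsOfShape J ((Tor (ModuleCat.{u} R) p).obj M)
  | 0, M => preservesColimitsOfShape_of_natIso (TorLES.torZeroIso M).symm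
  | 1, M => by
    let S := TorLES.presentation M
    have hS : S.ShortExact := TorLES.presentation_shortExact M
    haveI := tor_obj_preservesColimitsOfShape 0 S.X₁
    haveI := tor_obj_preservesColimitsOfShape 0 S.X₂
    exact preservesColimitsOfShape_of_kernel ((Tor (ModuleCat.{u} R) 0).obj S.X₁)
      ((Tor (ModuleCat.{u} R) 0).obj S.X₂) ((Tor (ModuleCat.{u} R) 1).obj M)
      (TorLES.δ S hS 0) ((Tor (ModuleCat.{u} R) 0).map S.f)
      (fun N => TorBalance.mono_δ_app S hS 0 N)
      (fun N => TorLES.δ_map_f S hS N 0)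
      (fun N => TorLES.exact₁ S hS N 0)
  | p + 2, M => by
    let S := TorLES.presentation M
    have hS : S.ShortExact := TorLES.presentation_shortExact M
    haveI := tor_obj_preservesColimitsOfShape (p + 1) S.X₁
    exact preservesColimitsOfShape_of_natIso (TorBalance.δIso S hS p).symm

end Tor

end Groth.Agent.Lib.Helper46.TorFiltered
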