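import Groth.Agent.Lib.Helper46.DerivedLES
import Mathlib.CategoryTheory.Monoidal.Tor
import Mathlib.RingTheory.Flat.CategoryTheory
import Mathlib.Algebra.Category.ModuleCat.Projective
import Mathlib.Algebra.Category.ModuleCat.Abelian
import Mathlib.Algebra.Category.ModuleCat.Monoidal.Basic
import Mathlib.Algebra.Category.ModuleCat.Monoidal.Symmetric
import Mathlib.Algebra.Category.ModuleCat.Monoidal.Closed
import Mathlib.Algebra.Homology.ShortComplex.ShortExact

/-!
# Long exact sequence of `Tor` in the first variable (helper46)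

`Tor (ModuleCat R) n` is Mathlib's Tor, left-derived in the SECOND variable.  For a short exact sequence
`S` of modules (in the FIRST variable) we get natural connecting maps
`δ S hS n : (Tor _ (n+1)).obj S.X₃ ⟶ (Tor _ n).obj S.X₁` and a long exact sequence.
Also: `Tor₀ ≅ ⊗` naturally in both variables, vanishing for flat modules in either variable.
-/

set_option autoImplicit false
set_option backward.isDefEq.respectTransparency false
set_option backward.defeqAttrib.useBackward true

namespace Groth.Agent.Lib.Helper46.TorLES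

open CategoryTheory Limits MonoidalCategory Category

universe u

variable {R : Type u} [CommRing R]

/-- A projective object of `ModuleCat R` is a flat module. -/
lemma flat_of_projective (P : ModuleCat.{u} R) [Projective P] : Module.Flat R P := by
  have : Module.Projective R P := (IsProjective.iff_projective (R := R) (P := P)).mpr ‹_›
  infer_instance

instance (N : ModuleCat.{u} R) : PreservesFiniteColimits (tensorRight N) :=
  preservesFiniteColimits_of_natIso (BraidedCategory.tensorLeftIsoTensorRight N)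

/-- The short exact sequence of functors `S.X₁ ⊗ - ⟶ S.X₂ ⊗ - ⟶ S.X₃ ⊗ -`. -/
noncomputable def torSES (S : ShortComplex (ModuleCat.{u} R)) (hS : S.ShortExact) :
    DerivedLES.FunSES (ModuleCat.{u} R) (ModuleCat.{u} R) where
  F₁ := (tensoringLeft _).obj S.X₁
  F₂ := (tensoringLeft _).obj S.X₂
  F₃ := (tensoringLeft _).obj S.X₃
  α := (tensoringLeft _).map S.f
  β := (tensoringLeft _).map S.g
  zero X := by
    change S.f ▷ X ≫ S.g ▷ X = 0
    rw [← comp_whiskerRight, S.zero, MonoidalPreadditive.zero_whiskerRight]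
  exact P hP := by
    haveI := hP
    haveI := flat_of_projective P
    exact hS.map_of_exact (tensorRight P)

section LES

variable (S : ShortComplex (ModuleCat.{u} R)) (hS : S.ShortExact)
include hS

/-- The connecting morphism `Torₙ₊₁(S.X₃, -) ⟶ Torₙ(S.X₁, -)` (natural in the second variable). -/
noncomputable def δ (n : ℕ) :
    (Tor (ModuleCat.{u} R) (n + 1)).obj S.X₃ ⟶ (Tor (ModuleCat.{u} R) n).obj S.X₁ :=
  (torSES S hS).δ n

@[reassoc]
lemma map_f_map_g (N : ModuleCat.{u} R) (n : ℕ) :
    ((Tor (ModuleCat.{u} R) n).map S.f).app N ≫ ((Tor (ModuleCat.{u} R) n).map S.g).app N = 0 :=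
  (torSES S hS).α_β_app N n

@[reassoc]
lemma map_g_δ (N : ModuleCat.{u} R) (n : ℕ) :
    ((Tor (ModuleCat.{u} R) (n + 1)).map S.g).app N ≫ (δ S hS n).app N = 0 :=
  (torSES S hS).β_δ_app N n

@[reassoc]
lemma δ_map_f (N : ModuleCat.{u} R) (n : ℕ) :
    (δ S hS n).app N ≫ ((Tor (ModuleCat.{u} R) n).map S.f).app N = 0 :=
  (torSES S hS).δ_α_app N n

/-- Exactness of `Torₙ(S.X₁,N) ⟶ Torₙ(S.X₂,N) ⟶ Torₙ(S.X₃,N)`. -/
lemma exact₂ (N : ModuleCat.{u} R) (n : ℕ) :
    (ShortComplex.mk _ _ (map_f_map_g S hS N n)).Exact :=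
  (torSES S hS).exact₂ N n

/-- Exactness of `Torₙ₊₁(S.X₂,N) ⟶ Torₙ₊₁(S.X₃,N) ⟶ Torₙ(S.X₁,N)`. -/
lemma exact₃ (N : ModuleCat.{u} R) (n : ℕ) :
    (ShortComplex.mk _ _ (map_g_δ S hS N n)).Exact :=
  (torSES S hS).exact₃ N n

/-- Exactness of `Torₙ₊₁(S.X₃,N) ⟶ Torₙ(S.X₁,N) ⟶ Torₙ(S.X₂,N)`. -/
lemma exact₁ (N : ModuleCat.{u} R) (n : ℕ) :
    (ShortComplex.mk _ _ (δ_map_f S hS N n)).Exact :=
  (torSES S hS).exact₁ N n

lemma epi_map_g_zero (N : ModuleCat.{u} R) :
    Epi (((Tor (ModuleCat.{u} R) 0).map S.g).app N) :=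
  (torSES S hS).epi_β_zero N

end LES

/-- `Tor₀(M, -) ≅ M ⊗ -`. -/
noncomputable def torZeroIso (M : ModuleCat.{u} R) :
    (Tor (ModuleCat.{u} R) 0).obj M ≅ tensorLeft M :=
  Functor.leftDerivedZeroIsoSelf (tensorLeft M)

@[reassoc]
lemma torZeroIso_hom_naturality {M M' : ModuleCat.{u} R} (f : M ⟶ M') (N : ModuleCat.{u} R) :
    ((Tor (ModuleCat.{u} R) 0).map f).app N ≫ (torZeroIso M').hom.app N =
      (torZeroIso M).hom.app N ≫ f ▷ N :=
  DerivedLES.fromLeftDerivedZero_naturality ((tensoringLeft _).map f) N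

/-- `Torₙ₊₁(M, N) = 0` if `M` (the first, non-derived, variable) is flat. -/
lemma isZero_tor_succ_of_flat_left (M N : ModuleCat.{u} R) [Module.Flat R M] (n : ℕ) :
    IsZero (((Tor (ModuleCat.{u} R) (n + 1)).obj M).obj N) := by
  let P : ProjectiveResolution N := projectiveResolution N
  have e := (P.isoLeftDerivedObj ((tensoringLeft (ModuleCat.{u} R)).obj M) (n + 1))
  refine IsZero.of_iso ?_ e
  change IsZero (HomologicalComplex.homology _ (n + 1))
  rw [← HomologicalComplex.exactAt_iff_isZero_homology]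
  exact Module.Flat.lTensor_shortComplex_exact M _ (P.complex_exactAt_succ n)

lemma mono_torZero_map {M M' : ModuleCat.{u} R} (f : M ⟶ M') [Mono f] (N : ModuleCat.{u} R)
    [Module.Flat R N] : Mono (((Tor (ModuleCat.{u} R) 0).map f).app N) := by
  have h := torZeroIso_hom_naturality f N
  have h1 : Mono (f ▷ N) := (inferInstance : Mono ((tensorRight N).map f))
  have : Mono (((Tor (ModuleCat.{u} R) 0).map f).app N ≫ (torZeroIso M').hom.app N) := by
    rw [h]; infer_instance
  exact mono_of_mono _ ((torZeroIso M').hom.app N)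

/-- The canonical projective presentation `0 ⟶ K ⟶ P ⟶ M ⟶ 0` of a module. -/
noncomputable def presentation (M : ModuleCat.{u} R) : ShortComplex (ModuleCat.{u} R) :=
  ShortComplex.mk (kernel.ι (Projective.π M)) (Projective.π M) (kernel.condition _)

lemma presentation_shortExact (M : ModuleCat.{u} R) : (presentation M).ShortExact where
  exact := ShortComplex.exact_kernel (Projective.π M)
  mono_f := by dsimp [presentation]; infer_instance
  epi_g := by dsimp [presentation]; infer_instance

instance (M : ModuleCat.{u} R) : Module.Flat R (presentation M).X₂ :=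
  flat_of_projective (Projective.over M)

/-- `Torₙ₊₁(M, N) = 0` if `N` (the second, derived, variable) is flat. -/
lemma isZero_tor_succ_of_flat_right (N : ModuleCat.{u} R) [Module.Flat R N] (n : ℕ)
    (M : ModuleCat.{u} R) : IsZero (((Tor (ModuleCat.{u} R) (n + 1)).obj M).obj N) := by
  induction n generalizing M with
  | zero =>
    let S := presentation M
    have hS : S.ShortExact := presentation_shortExact M
    have h0 : IsZero (((Tor (ModuleCat.{u} R) (0 + 1)).obj S.X₂).obj N) :=
      isZero_tor_succ_of_flat_left _ _ 0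
    have hmono : Mono ((δ S hS 0).app N) := (exact₃ S hS N 0).mono_g (h0.eq_of_src _ _)
    haveI : Mono S.f := hS.mono_f
    haveI := mono_torZero_map S.f N
    have hz : (δ S hS 0).app N = 0 := by
      rw [← cancel_mono (((Tor (ModuleCat.{u} R) 0).map S.f).app N), δ_map_f, zero_comp]
    rw [IsZero.iff_id_eq_zero, ← cancel_mono ((δ S hS 0).app N), hz]
    simp
  | succ m ih =>
    let S := presentation M
    have hS : S.ShortExact := presentation_shortExact M
    have h0 : IsZero (((Tor (ModuleCat.{u} R) (m + 1 + 1)).obj S.X₂).obj N) :=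
      isZero_tor_succ_of_flat_left _ _ (m + 1)
    have hmono : Mono ((δ S hS (m + 1)).app N) :=
      (exact₃ S hS N (m + 1)).mono_g (h0.eq_of_src _ _)
    rw [IsZero.iff_id_eq_zero, ← cancel_mono ((δ S hS (m + 1)).app N)]
    exact (ih S.X₁).eq_of_tgt _ _

end Groth.Agent.Lib.Helper46.TorLES
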