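import Mathlib.Algebra.Azumaya.Basic
import Mathlib.LinearAlgebra.Contraction
import Mathlib.LinearAlgebra.Dual.Lemmas
import Mathlib.LinearAlgebra.TensorProduct.Opposite
import Mathlib.RingTheory.Finiteness.Nakayama
import Mathlib.RingTheory.TensorProduct.Basic
import Mathlib.RingTheory.TensorProduct.Finite
import Mathlib.Algebra.Module.Projective
import Mathlib.Tactic.Ring
import Mathlib.Tactic.Abel

/-!
# Basic theory of Azumaya algebras over a commutative ring (helper46)

* `exists_contractLeft_eq_one` : a faithful f.g. projective module has trace ideal `R`.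
* `faithfulSMul_tensorProduct`, `faithfulSMul_baseChange`.
* `endBC_bijective` : `S ⊗ End_R M ≃ End_S (S ⊗ M)` for `M` f.g. projective.
* `isAzumaya_baseChange`, `isAzumaya_tensorProduct`, `isAzumaya_end`.
-/

set_option autoImplicit false

namespace Groth.Agent.Lib.Helper46.Azumaya

open TensorProduct MulOpposite

section Trace

variable (R : Type*) [CommRing R] (P : Type*) [AddCommGroup P] [Module R P]
  [Module.Finite R P] [Module.Projective R P] [FaithfulSMul R P]

/-- A faithful f.g. projective module has trace ideal `R`. -/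
theorem exists_contractLeft_eq_one : ∃ x : Module.Dual R P ⊗[R] P, contractLeft R P x = 1 := by
  let T : Ideal R := LinearMap.range (contractLeft R P)
  have hle : (⊤ : Submodule R P) ≤ T • ⊤ := by
    intro p _
    obtain ⟨s, hs⟩ := Module.projective_def'.1 (inferInstance : Module.Projective R P)
    have hp : p = Finsupp.linearCombination R id (s p) := by
      have := LinearMap.congr_fun hs p
      simpa using this.symm
    rw [hp, Finsupp.linearCombination_apply]
    refine Submodule.sum_mem _ fun q _ => ?_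
    refine Submodule.smul_mem_smul ?_ Submodule.mem_top
    exact ⟨((Finsupp.lapply q) ∘ₗ s) ⊗ₜ p, by simp [contractLeft_apply]⟩
  obtain ⟨r, hr, hr0⟩ := Submodule.exists_sub_one_mem_and_smul_eq_zero_of_fg_of_le_smul T ⊤
    Module.Finite.fg_top hle
  have : r = 0 := by
    apply FaithfulSMul.eq_of_smul_eq_smul (α := P)
    intro p; rw [zero_smul]; exact hr0 p Submodule.mem_top
  subst this
  have h1 : (1 : R) ∈ T := by
    have := T.neg_mem hr
    simpa using this
  exact h1

theorem faithfulSMul_tensorProduct (Q : Type*) [AddCommGroup Q] [Module R Q] [FaithfulSMul R Q] :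
    FaithfulSMul R (P ⊗[R] Q) := by
  obtain ⟨x, hx⟩ := exists_contractLeft_eq_one R P
  refine ⟨fun {r₁ r₂} h => ?_⟩
  apply FaithfulSMul.eq_of_smul_eq_smul (α := Q)
  intro q
  have key : ∀ y : Module.Dual R P ⊗[R] P,
      r₁ • (contractLeft R P y • q) = r₂ • (contractLeft R P y • q) := by
    intro y
    induction y using TensorProduct.induction_on with
    | zero => simp
    | tmul g p =>
      have := congrArg ((TensorProduct.lid R Q).toLinearMap ∘ₗ LinearMap.rTensor Q g) (h (p ⊗ₜ q))
      simpa [contractLeft_apply] using this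
    | add y z hy hz => simp only [map_add, add_smul, smul_add, hy, hz]
  simpa [hx] using key x

theorem faithfulSMul_baseChange (S : Type*) [CommRing S] [Algebra R S] :
    FaithfulSMul S (S ⊗[R] P) := by
  obtain ⟨x, hx⟩ := exists_contractLeft_eq_one R P
  refine ⟨fun {s₁ s₂} h => ?_⟩
  have key : ∀ y : Module.Dual R P ⊗[R] P,
      s₁ * algebraMap R S (contractLeft R P y) = s₂ * algebraMap R S (contractLeft R P y) := by
    intro y
    induction y using TensorProduct.induction_on with
    | zero => simp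
    | tmul g p =>
      have := congrArg ((TensorProduct.rid R S).toLinearMap ∘ₗ LinearMap.lTensor S g) (h (1 ⊗ₜ p))
      simpa [contractLeft_apply, TensorProduct.smul_tmul', Algebra.smul_def, mul_comm] using this
    | add y z hy hz => simp only [map_add, mul_add, hy, hz]
  simpa [hx] using key x

end Trace

section EndBC

variable (R : Type*) [CommRing R] (S : Type*) [CommRing S] [Algebra R S]
  (M : Type*) [AddCommGroup M] [Module R M]

/-- The canonical map `S ⊗ End_R M → End_S (S ⊗ M)`. -/
noncomputable def endBC : S ⊗[R] Module.End R M →ₗ[S] Module.End S (S ⊗[R] M) :=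
  (LinearMap.baseChangeHom R S M M).liftBaseChange S

lemma endBC_tmul (s : S) (f : Module.End R M) :
    endBC R S M (s ⊗ₜ f) = s • f.baseChange S := rfl

theorem endBC_bijective [Module.Finite R M] [Module.Projective R M] :
    Function.Bijective (endBC R S M) := by
  let ρ : (S ⊗[R] M →ₗ[S] S ⊗[R] M) ≃ₗ[S] (M →ₗ[R] S ⊗[R] M) :=
    (LinearMap.liftBaseChangeEquiv S).symm
  have h : ∀ x, ρ (endBC R S M x) = lTensorHomEquivHomLTensor R M S M x := by
    intro x
    induction x using TensorProduct.induction_on with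
    | zero => simp
    | tmul s f =>
      ext m
      simp [ρ, endBC_tmul, LinearMap.liftBaseChangeEquiv_symm_apply, TensorProduct.smul_tmul']
    | add x y hx hy => simp only [map_add, hx, hy]
  have h2 : ⇑ρ ∘ ⇑(endBC R S M) = ⇑(lTensorHomEquivHomLTensor R M S M) := funext h
  exact (Function.Bijective.of_comp_iff' ρ.bijective _).1
    (h2 ▸ (lTensorHomEquivHomLTensor R M S M).bijective)

end EndBC

section BaseChange

variable (R : Type*) [CommRing R] (S : Type*) [CommRing S] [Algebra R S]
  (A : Type*) [Ring A] [Algebra R A]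

/-- The comparison map `S ⊗ (A ⊗ Aᵐᵒᵖ) → (S ⊗ A) ⊗_S (S ⊗ A)ᵐᵒᵖ`. -/
noncomputable def bcPsi : S ⊗[R] (A ⊗[R] Aᵐᵒᵖ) →ₗ[S] (S ⊗[R] A) ⊗[S] (S ⊗[R] A)ᵐᵒᵖ :=
  LinearMap.liftBaseChange S <| TensorProduct.lift <|
    LinearMap.mk₂ R (fun (a : A) (a' : Aᵐᵒᵖ) =>
      ((1 : S) ⊗ₜ[R] a) ⊗ₜ[S] op ((1 : S) ⊗ₜ[R] unop a'))
      (fun a b c => by simp [tmul_add, add_tmul])
      (fun r a c => by simp [TensorProduct.smul_tmul'])
      (fun a b c => by simp [tmul_add, add_tmul])
      (fun r a c => by simp [TensorProduct.tmul_smul])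

lemma bcPsi_tmul (s : S) (a : A) (a' : Aᵐᵒᵖ) :
    bcPsi R S A (s ⊗ₜ (a ⊗ₜ a')) = s • (((1 : S) ⊗ₜ[R] a) ⊗ₜ[S] op ((1 : S) ⊗ₜ[R] unop a')) := by
  simp [bcPsi]

lemma mulLeftRight_bcPsi (z : S ⊗[R] (A ⊗[R] Aᵐᵒᵖ)) :
    AlgHom.mulLeftRight S (S ⊗[R] A) (bcPsi R S A z) =
      endBC R S A ((AlgHom.mulLeftRight R A).toLinearMap.baseChange S z) := by
  induction z using TensorProduct.induction_on with
  | zero => simp
  | add x y hx hy => simp only [map_add, hx, hy]
  | tmul s y =>
    induction y using TensorProduct.induction_on with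
    | zero => simp
    | add x y hx hy => simp only [tmul_add, map_add, hx, hy]
    | tmul a a' =>
      rw [bcPsi_tmul, map_smul, LinearMap.baseChange_tmul, endBC_tmul]
      congr 1
      ext x
      simp [AlgHom.mulLeftRight_apply]

lemma bcPsi_surjective : Function.Surjective (bcPsi R S A) := by
  intro w
  induction w using TensorProduct.induction_on with
  | zero => exact ⟨0, map_zero _⟩
  | add x y hx hy =>
    obtain ⟨a, rfl⟩ := hx; obtain ⟨b, rfl⟩ := hy; exact ⟨a + b, map_add _ _ _⟩
  | tmul y z =>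
    obtain ⟨z', rfl⟩ := op_surjective z
    induction y using TensorProduct.induction_on with
    | zero => exact ⟨0, by simp⟩
    | add x y hx hy =>
      obtain ⟨a, ha⟩ := hx; obtain ⟨b, hb⟩ := hy
      exact ⟨a + b, by rw [map_add, ha, hb, add_tmul]⟩
    | tmul s a =>
      induction z' using TensorProduct.induction_on with
      | zero => exact ⟨0, by simp⟩
      | add x y hx hy =>
        obtain ⟨c, hc⟩ := hx; obtain ⟨d, hd⟩ := hy
        exact ⟨c + d, by rw [map_add, hc, hd, op_add, tmul_add]⟩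
      | tmul t b =>
        refine ⟨(s * t) ⊗ₜ (a ⊗ₜ op b), ?_⟩
        rw [bcPsi_tmul]
        have h1 : s ⊗ₜ[R] a = s • ((1 : S) ⊗ₜ[R] a) := by simp [TensorProduct.smul_tmul']
        have h2 : op (t ⊗ₜ[R] b) = t • op ((1 : S) ⊗ₜ[R] b) := by
          rw [← op_smul]; simp [TensorProduct.smul_tmul']
        rw [h1, h2, TensorProduct.smul_tmul_smul]
        simp

/-- Base change of an Azumaya algebra is Azumaya. -/
theorem isAzumaya_baseChange [IsAzumaya R A] : IsAzumaya S (S ⊗[R] A) := by
  haveI : FaithfulSMul S (S ⊗[R] A) := faithfulSMul_baseChange R A S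
  let e : A ⊗[R] Aᵐᵒᵖ ≃ₗ[R] Module.End R A :=
    LinearEquiv.ofBijective (AlgHom.mulLeftRight R A).toLinearMap IsAzumaya.bij
  have hb : Function.Bijective ((AlgHom.mulLeftRight R A).toLinearMap.baseChange S) :=
    (e.baseChange R S _ _).bijective
  have hF : Function.Bijective
      (fun z => endBC R S A ((AlgHom.mulLeftRight R A).toLinearMap.baseChange S z)) :=
    (endBC_bijective R S A).comp hb
  have hcomp : (fun z => AlgHom.mulLeftRight S (S ⊗[R] A) (bcPsi R S A z)) =
      (fun z => endBC R S A ((AlgHom.mulLeftRight R A).toLinearMap.baseChange S z)) :=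
    funext (mulLeftRight_bcPsi R S A)
  rw [← hcomp] at hF
  refine { bij := ⟨?_, ?_⟩ }
  · intro y y' hyy
    obtain ⟨z, rfl⟩ := bcPsi_surjective R S A y
    obtain ⟨z', rfl⟩ := bcPsi_surjective R S A y'
    rw [hF.1 hyy]
  · intro f
    obtain ⟨z, hz⟩ := hF.2 f
    exact ⟨_, hz⟩

end BaseChange

section Tensor

variable (R : Type*) [CommRing R] (A : Type*) [Ring A] [Algebra R A]
  (B : Type*) [Ring B] [Algebra R B]

/-- `(A ⊗ Aᵐᵒᵖ) ⊗ (B ⊗ Bᵐᵒᵖ) ≃ (A ⊗ B) ⊗ (A ⊗ B)ᵐᵒᵖ`. -/
noncomputable def tpPsi :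
    (A ⊗[R] Aᵐᵒᵖ) ⊗[R] (B ⊗[R] Bᵐᵒᵖ) ≃ₗ[R] (A ⊗[R] B) ⊗[R] (A ⊗[R] B)ᵐᵒᵖ :=
  (TensorProduct.tensorTensorTensorComm R A Aᵐᵒᵖ B Bᵐᵒᵖ) ≪≫ₗ
    TensorProduct.congr (LinearEquiv.refl R (A ⊗[R] B))
      (Algebra.TensorProduct.opAlgEquiv R R A B).toLinearEquiv

lemma tpPsi_tmul (a : A) (a' : Aᵐᵒᵖ) (b : B) (b' : Bᵐᵒᵖ) :
    tpPsi R A B ((a ⊗ₜ a') ⊗ₜ (b ⊗ₜ b')) = (a ⊗ₜ b) ⊗ₜ op (unop a' ⊗ₜ unop b') := by
  simp [tpPsi]

lemma mulLeftRight_tpPsi :
    (AlgHom.mulLeftRight R (A ⊗[R] B)).toLinearMap ∘ₗ (tpPsi R A B).toLinearMap =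
      (homTensorHomMap (.id R) A B A B) ∘ₗ
        TensorProduct.map (AlgHom.mulLeftRight R A).toLinearMap
          (AlgHom.mulLeftRight R B).toLinearMap := by
  ext a a' b b' x y
  simp [tpPsi_tmul, AlgHom.mulLeftRight_apply]

/-- The tensor product of two Azumaya algebras is Azumaya. -/
theorem isAzumaya_tensorProduct [IsAzumaya R A] [IsAzumaya R B] : IsAzumaya R (A ⊗[R] B) := by
  have : FaithfulSMul R (A ⊗[R] B) := faithfulSMul_tensorProduct R A B
  let eA : A ⊗[R] Aᵐᵒᵖ ≃ₗ[R] Module.End R A :=
    LinearEquiv.ofBijective (AlgHom.mulLeftRight R A).toLinearMap IsAzumaya.bij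
  let eB : B ⊗[R] Bᵐᵒᵖ ≃ₗ[R] Module.End R B :=
    LinearEquiv.ofBijective (AlgHom.mulLeftRight R B).toLinearMap IsAzumaya.bij
  have hb : Function.Bijective ((homTensorHomMap (.id R) A B A B) ∘ₗ
        TensorProduct.map (AlgHom.mulLeftRight R A).toLinearMap
          (AlgHom.mulLeftRight R B).toLinearMap) := by
    have h1 : Function.Bijective (TensorProduct.map (AlgHom.mulLeftRight R A).toLinearMap
          (AlgHom.mulLeftRight R B).toLinearMap) := (TensorProduct.congr eA eB).bijective
    have h2 : Function.Bijective (homTensorHomMap (.id R) A B A B) := by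
      rw [← homTensorHomEquiv_toLinearMap]
      exact (homTensorHomEquiv R A B A B).bijective
    exact h2.comp h1
  rw [← mulLeftRight_tpPsi] at hb
  have hb' : Function.Bijective
      (⇑(AlgHom.mulLeftRight R (A ⊗[R] B)) ∘ ⇑(tpPsi R A B)) := hb
  exact { bij := (Function.Bijective.of_comp_iff _ (tpPsi R A B).bijective).1 hb' }

end Tensor

section EndP

open Module

variable (R : Type*) [CommRing R] (P : Type*) [AddCommGroup P] [Module R P]
  [Module.Finite R P] [Module.Projective R P]

theorem transpose_bijective :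
    Function.Bijective (Module.Dual.transpose (R := R) (M := P) (M' := P)) := by
  constructor
  · intro f g hfg
    have h : f.dualMap = g.dualMap := hfg
    have : f.dualMap.dualMap = g.dualMap.dualMap := by rw [h]
    exact (Module.dualMap_dualMap_eq_iff R P).1 this
  · intro h
    refine ⟨(Module.evalEquiv R P).symm.toLinearMap ∘ₗ h.dualMap ∘ₗ
      (Module.evalEquiv R P).toLinearMap, ?_⟩
    ext φ p
    simp [Module.Dual.transpose_apply, LinearMap.dualMap_apply]

/-- transpose as a linear equivalence `End P ≃ End (Dual P)` -/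
noncomputable def transposeEquiv : Module.End R P ≃ₗ[R] Module.End R (Module.Dual R P) :=
  LinearEquiv.ofBijective (Module.Dual.transpose (R := R) (M := P) (M' := P))
    (transpose_bijective R P)

lemma transposeEquiv_apply (g : Module.End R P) (φ : Module.Dual R P) :
    transposeEquiv R P g φ = φ ∘ₗ g := rfl

instance : Module.Projective R (Module.End R P) :=
  Module.Projective.of_equiv (dualTensorHomEquiv R P P)

instance : Module.Finite R (Module.End R P) :=
  Module.Finite.equiv (dualTensorHomEquiv R P P)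

/-- the chain of equivalences `End P ⊗ (End P)ᵐᵒᵖ ≃ End (End P)` -/
noncomputable def endChain :
    Module.End R P ⊗[R] (Module.End R P)ᵐᵒᵖ ≃ₗ[R] Module.End R (Module.End R P) :=
  TensorProduct.comm R _ _ ≪≫ₗ
    TensorProduct.congr ((opLinearEquiv R).symm ≪≫ₗ transposeEquiv R P)
      (LinearEquiv.refl R (Module.End R P)) ≪≫ₗ
    homTensorHomEquiv R (Module.Dual R P) P (Module.Dual R P) P ≪≫ₗ
    (dualTensorHomEquiv R P P).conj

lemma mulLeftRight_end_eq :
    (AlgHom.mulLeftRight R (Module.End R P)).toLinearMap = (endChain R P).toLinearMap := by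
  refine TensorProduct.ext' fun f g' => ?_
  obtain ⟨g, rfl⟩ := op_surjective g'
  apply LinearMap.ext
  intro h
  obtain ⟨y, rfl⟩ := (dualTensorHomEquiv R P P).surjective h
  induction y using TensorProduct.induction_on with
  | zero => simp
  | add y z hy hz => simp only [map_add, hy, hz]
  | tmul φ p =>
    ext x
    simp [endChain, AlgHom.mulLeftRight_apply, LinearEquiv.conj_apply, transposeEquiv_apply,
      dualTensorHom_apply]

/-- `End_R P` is Azumaya for `P` faithful f.g. projective. -/
theorem isAzumaya_end [FaithfulSMul R P] : IsAzumaya R (Module.End R P) := by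
  have : FaithfulSMul R (Module.End R P) := by
    refine ⟨fun {r₁ r₂} h => ?_⟩
    apply FaithfulSMul.eq_of_smul_eq_smul (α := P)
    intro p
    have := LinearMap.congr_fun (h 1) p
    simpa using this
  refine { bij := ?_ }
  have h : ⇑(AlgHom.mulLeftRight R (Module.End R P)) = ⇑(endChain R P) := by
    have := mulLeftRight_end_eq R P
    exact congrArg DFunLike.coe this
  rw [h]
  exact (endChain R P).bijective

end EndP

end Groth.Agent.Lib.Helper46.Azumaya
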