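import Groth.Agent.S0391
import Mathlib

/-!
# Critère de platitude par fibres (Noetherian local case, Stacks 00MP)

`A → B → C` local homomorphisms of Noetherian local rings, `M` a nonzero finite `C`-module.
Then `M` is `A`-flat and `M/m_A M` is `B/m_A B`-flat iff `B` is `A`-flat and `M` is `B`-flat.
-/

set_option autoImplicit false
universe u

open TensorProduct

namespace Groth.Agent.Lib.Helper46.FibreFlat

/-- Comparison of `I • ⊤` over `R` and `(I S) • ⊤` over `S`. -/
lemma mem_map_smul_top_iff {R S : Type*} [CommRing R] [CommRing S] [Algebra R S] (I : Ideal R)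
    {X : Type*} [AddCommGroup X] [Module S X] [Module R X] [IsScalarTower R S X] (x : X) :
    x ∈ (I.map (algebraMap R S) • (⊤ : Submodule S X)) ↔ x ∈ (I • (⊤ : Submodule R X)) := by
  constructor
  · intro hx
    refine Submodule.smul_induction_on hx ?_ ?_
    · intro s hs x' _
      have hs' : s ∈ Submodule.span S (⇑(algebraMap R S) '' (I : Set R)) := hs
      have : ∀ x' : X, s • x' ∈ I • (⊤ : Submodule R X) := by
        refine Submodule.span_induction
          (p := fun s _ => ∀ x' : X, s • x' ∈ I • (⊤ : Submodule R X)) ?_ ?_ ?_ ?_ hs'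
        · rintro _ ⟨r, hr, rfl⟩ x'
          rw [algebraMap_smul]
          exact Submodule.smul_mem_smul hr Submodule.mem_top
        · intro x'; rw [zero_smul]; exact zero_mem _
        · intro a b _ _ ha hb x'; rw [add_smul]; exact add_mem (ha x') (hb x')
        · intro t a _ ha x'
          rw [smul_eq_mul, mul_comm, mul_smul]
          exact ha _
      exact this x'
    · intro a b ha hb; exact add_mem ha hb
  · intro hx
    refine Submodule.smul_induction_on hx ?_ ?_
    · intro r hr x' _
      rw [← algebraMap_smul S r x']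
      exact Submodule.smul_mem_smul (Ideal.mem_map_of_mem _ hr) Submodule.mem_top
    · intro a b ha hb; exact add_mem ha hb

/-- `M ⧸ I M` and `(B ⧸ I) ⊗ M` are isomorphic as `B ⧸ I`-modules. -/
noncomputable def quotEquiv {B : Type*} [CommRing B] (I : Ideal B) (M : Type*) [AddCommGroup M]
    [Module B M] : ((B ⧸ I) ⊗[B] M) ≃ₗ[B ⧸ I] (M ⧸ (I • (⊤ : Submodule B M))) :=
  { (TensorProduct.quotTensorEquivQuotSMul M I).toAddEquiv with
    map_smul' := by
      intro c x
      obtain ⟨b, rfl⟩ := Ideal.Quotient.mk_surjective c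
      have h1 : (Ideal.Quotient.mk I b) • x = b • x := by
        rw [← Ideal.Quotient.algebraMap_eq, algebraMap_smul]
      show TensorProduct.quotTensorEquivQuotSMul M I ((Ideal.Quotient.mk I b) • x) =
        (Ideal.Quotient.mk I b) • TensorProduct.quotTensorEquivQuotSMul M I x
      rw [h1, map_smul]
      obtain ⟨m, hm⟩ := Submodule.Quotient.mk_surjective _
        (TensorProduct.quotTensorEquivQuotSMul M I x)
      rw [← hm]
      rfl }

lemma flat_quot_iff {B : Type u} [CommRing B] (I : Ideal B) (M : Type u) [AddCommGroup M]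
    [Module B M] :
    Module.Flat (B ⧸ I) (M ⧸ (I • (⊤ : Submodule B M))) ↔
      Module.Flat (B ⧸ I) ((B ⧸ I) ⊗[B] M) :=
  ⟨fun _ => Module.Flat.of_linearEquiv (quotEquiv I M),
    fun _ => Module.Flat.of_linearEquiv (quotEquiv I M).symm⟩

/-- Descent of flatness along a faithfully flat module. -/
theorem flat_of_faithfullyFlat_module (A B M : Type*) [CommRing A] [CommRing B] [Algebra A B]
    [AddCommGroup M] [Module A M] [Module B M] [IsScalarTower A B M]
    [Module.FaithfullyFlat B M] [Module.Flat A M] : Module.Flat A B := by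
  rw [Module.Flat.iff_lTensor_injectiveₛ]
  intro P _ _ N
  have h1 : Function.Injective (N.subtype.lTensor M) :=
    Module.Flat.lTensor_preserves_injective_linearMap _ Subtype.val_injective
  rw [← AlgebraTensorModule.coe_lTensor (A := B)]
  rw [← Module.FaithfullyFlat.lTensor_injective_iff_injective B M]
  have key := AlgebraTensorModule.lTensor_comp_cancelBaseChange (R := A) (A := B) (B := B)
    (M := M) N.subtype
  have h2 : Function.Injective ((AlgebraTensorModule.lTensor B M N.subtype) ∘ₗ
      (AlgebraTensorModule.cancelBaseChange A B B M N).toLinearMap) := by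
    rw [LinearMap.coe_comp]
    exact (h1.comp (AlgebraTensorModule.cancelBaseChange A B B M N).injective)
  rw [key] at h2
  rw [LinearMap.coe_comp, LinearEquiv.coe_coe] at h2
  exact Function.Injective.of_comp h2

/-- If `M` is flat over `A`, then `(𝔪 B) ⊗_B M → M` is injective for every ideal `𝔪` of `A`. -/
theorem rTensor_map_injective {A B M : Type u} [CommRing A] [CommRing B] [Algebra A B]
    [AddCommGroup M] [Module A M] [Module B M] [IsScalarTower A B M] [Module.Flat A M]
    (𝔪 : Ideal A) :
    Function.Injective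
      (LinearMap.rTensor M (Submodule.subtype (𝔪.map (algebraMap A B)))) := by
  obtain ⟨α, hα⟩ : ∃ α : 𝔪 ⊗[A] M →ₗ[A] (𝔪.map (algebraMap A B)) ⊗[B] M,
      ∀ (a : 𝔪) (y : M), α (a ⊗ₜ y) = (Algebra.idealMap B 𝔪 a) ⊗ₜ[B] y :=
    ⟨(TensorProduct.mapOfCompatibleSMul B A A (𝔪.map (algebraMap A B)) M) ∘ₗ
      (TensorProduct.map (Algebra.idealMap B 𝔪) LinearMap.id), fun a y => rfl⟩
  have hsurj : Function.Surjective α := by
    have hpure : ∀ (b : B) (hb : b ∈ 𝔪.map (algebraMap A B)) (y : M),
        (⟨b, hb⟩ : 𝔪.map (algebraMap A B)) ⊗ₜ[B] y ∈ LinearMap.range α := by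
      intro b hb
      have hb' : b ∈ Submodule.span B (⇑(algebraMap A B) '' (𝔪 : Set A)) := hb
      refine Submodule.span_induction
        (p := fun b hb => ∀ y : M,
          (⟨b, hb⟩ : 𝔪.map (algebraMap A B)) ⊗ₜ[B] y ∈ LinearMap.range α) ?_ ?_ ?_ ?_ hb'
      · rintro _ ⟨a, ha, rfl⟩ y
        exact ⟨(⟨a, ha⟩ : 𝔪) ⊗ₜ y, hα _ _⟩
      · intro y
        have : ((⟨0, zero_mem _⟩ : 𝔪.map (algebraMap A B))) = 0 := rfl
        rw [this, TensorProduct.zero_tmul]
        exact zero_mem _
      · intro b₁ b₂ h₁ h₂ ih₁ ih₂ y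
        have : ((⟨b₁ + b₂, add_mem h₁ h₂⟩ : 𝔪.map (algebraMap A B))) =
            (⟨b₁, h₁⟩ : 𝔪.map (algebraMap A B)) + ⟨b₂, h₂⟩ := rfl
        rw [this, TensorProduct.add_tmul]
        exact add_mem (ih₁ y) (ih₂ y)
      · intro c b₁ h₁ ih y
        have : ((⟨c • b₁, Submodule.smul_mem _ c h₁⟩ : 𝔪.map (algebraMap A B))) =
            c • (⟨b₁, h₁⟩ : 𝔪.map (algebraMap A B)) := rfl
        rw [this, TensorProduct.smul_tmul]
        exact ih (c • y)
    intro z
    induction z using TensorProduct.induction_on with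
    | zero => exact ⟨0, map_zero _⟩
    | add z₁ z₂ h₁ h₂ =>
      obtain ⟨w₁, rfl⟩ := h₁
      obtain ⟨w₂, rfl⟩ := h₂
      exact ⟨w₁ + w₂, map_add _ _ _⟩
    | tmul b y =>
      obtain ⟨b, hb⟩ := b
      exact hpure b hb y
  have hcompat : ∀ w : 𝔪 ⊗[A] M,
      TensorProduct.lid B M
        (LinearMap.rTensor M (Submodule.subtype (𝔪.map (algebraMap A B))) (α w)) =
      TensorProduct.lid A M (LinearMap.rTensor M (Submodule.subtype 𝔪) w) := by
    intro w
    induction w using TensorProduct.induction_on with
    | zero => simp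
    | add w₁ w₂ h₁ h₂ => simp only [map_add, h₁, h₂]
    | tmul a y =>
      rw [hα, LinearMap.rTensor_tmul, LinearMap.rTensor_tmul, TensorProduct.lid_tmul,
        TensorProduct.lid_tmul]
      show (algebraMap A B a.1) • y = a.1 • y
      rw [algebraMap_smul]
  have hflat : Function.Injective (LinearMap.rTensor M (Submodule.subtype 𝔪)) :=
    Module.Flat.rTensor_preserves_injective_linearMap _ Subtype.val_injective
  rw [injective_iff_map_eq_zero]
  intro z hz
  obtain ⟨w, rfl⟩ := hsurj z
  have h := hcompat w
  rw [hz, map_zero] at h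
  have h2 : LinearMap.rTensor M (Submodule.subtype 𝔪) w = 0 :=
    (TensorProduct.lid A M).injective (by rw [map_zero]; exact h.symm)
  have h3 : w = 0 := hflat (h2.trans (map_zero _).symm)
  rw [h3, map_zero]

/-- **Critère de platitude par fibres**, Noetherian local case. -/
theorem fibre_crit {A B C M : Type u} [CommRing A] [CommRing B] [CommRing C]
    [IsLocalRing A] [IsLocalRing B] [IsLocalRing C] [IsNoetherianRing B] [IsNoetherianRing C]
    [Algebra A B] [Algebra B C] [IsLocalHom (algebraMap A B)] [IsLocalHom (algebraMap B C)]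
    [AddCommGroup M] [Module A M] [Module B M] [Module C M] [IsScalarTower A B M]
    [IsScalarTower B C M] [Module.Finite C M] [Nontrivial M] :
    (Module.Flat A M ∧ Module.Flat (B ⧸ (IsLocalRing.maximalIdeal A).map (algebraMap A B))
        (M ⧸ ((IsLocalRing.maximalIdeal A).map (algebraMap A B) • (⊤ : Submodule B M)))) ↔
      (Module.Flat A B ∧ Module.Flat B M) := by
  constructor
  · rintro ⟨hA, hq⟩
    rw [flat_quot_iff] at hq
    have hle : (IsLocalRing.maximalIdeal A).map (algebraMap A B) ≤ IsLocalRing.maximalIdeal B :=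
      ((IsLocalRing.local_hom_TFAE (algebraMap A B)).out 0 2).mp
        (inferInstance : IsLocalHom (algebraMap A B))
    have hI : (IsLocalRing.maximalIdeal A).map (algebraMap A B) ≠ ⊤ := by
      intro h
      rw [h, top_le_iff] at hle
      exact Ideal.IsPrime.ne_top' hle
    have hBM : Module.Flat B M :=
      Groth.Agent.S0391.result (R := B) (S := C) _ hI
        (rTensor_map_injective (IsLocalRing.maximalIdeal A)) hq
    have hff : Module.FaithfullyFlat B M := by
      refine ⟨fun m hm htop => ?_⟩
      rw [IsLocalRing.eq_maximalIdeal hm] at htop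
      have hle2 : (IsLocalRing.maximalIdeal B).map (algebraMap B C) ≤ IsLocalRing.maximalIdeal C :=
        ((IsLocalRing.local_hom_TFAE (algebraMap B C)).out 0 2).mp
          (inferInstance : IsLocalHom (algebraMap B C))
      have h1 : (⊤ : Submodule C M) ≤ IsLocalRing.maximalIdeal C • (⊤ : Submodule C M) := by
        intro x _
        have hx : x ∈ (IsLocalRing.maximalIdeal B • (⊤ : Submodule B M)) := by
          rw [htop]; exact Submodule.mem_top
        rw [← mem_map_smul_top_iff (S := C)] at hx
        exact Submodule.smul_mono_left hle2 hx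
      have h2 := Submodule.eq_bot_of_le_smul_of_le_jacobson_bot (IsLocalRing.maximalIdeal C)
        (⊤ : Submodule C M) Module.Finite.fg_top h1 (IsLocalRing.maximalIdeal_le_jacobson _)
      exact top_ne_bot h2
    exact ⟨flat_of_faithfullyFlat_module A B M, hBM⟩
  · rintro ⟨hAB, hBM⟩
    refine ⟨Module.Flat.trans A B M, ?_⟩
    rw [flat_quot_iff]
    infer_instance

end Groth.Agent.Lib.Helper46.FibreFlat
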