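import Groth.Agent.Lib.Helper46.TorShift
import Mathlib.Algebra.Homology.Linear
import Mathlib.Algebra.Homology.ShortComplex.Linear
import Mathlib.CategoryTheory.Monoidal.Linear
import Mathlib.RingTheory.Nakayama
import Mathlib.RingTheory.Regular.IsSMulRegular

/-!
# `Tor` is `R`-linear in the first variable (helper46)

`((Tor _ n).map (r • 𝟙 B)).app N = r • 𝟙 _`, and consequences for the long exact sequence of
`0 → B --r--> B → B' → 0`.
-/

set_option autoImplicit false
set_option backward.isDefEq.respectTransparency false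
set_option backward.defeqAttrib.useBackward true

namespace Groth.Agent.Lib.Helper46.TorLinear

open CategoryTheory Limits MonoidalCategory Category
open Groth.Agent.Lib.Helper46

universe u

section General

variable {R : Type*} [Ring R] {C : Type*} [Category C] [Abelian C] [Linear R C]

lemma homologyMap_smul {ι : Type*} {c : ComplexShape ι}
    {K L : HomologicalComplex C c} (r : R) (f : K ⟶ L) (i : ι) :
    HomologicalComplex.homologyMap (r • f) i = r • HomologicalComplex.homologyMap f i := by
  have h : (HomologicalComplex.shortComplexFunctor C c i).map (r • f) =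
      r • (HomologicalComplex.shortComplexFunctor C c i).map f := by
    ext <;> simp <;> rfl
  unfold HomologicalComplex.homologyMap
  rw [h, ShortComplex.homologyMap_smul]

end General

variable {R : Type u} [CommRing R]

/-- `Torₙ(r • 𝟙, N) = r • 𝟙`. -/
lemma tor_map_smul_id_app (r : R) (B N : ModuleCat.{u} R) (n : ℕ) :
    ((Tor (ModuleCat.{u} R) n).map (r • 𝟙 B)).app N = r • 𝟙 _ := by
  let P : ProjectiveResolution N := projectiveResolution N
  change (NatTrans.leftDerived ((tensoringLeft _).map (r • 𝟙 B)) n).app N = _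
  rw [P.leftDerived_app_eq]
  have h : (NatTrans.mapHomologicalComplex ((tensoringLeft (ModuleCat.{u} R)).map (r • 𝟙 B))
      (ComplexShape.down ℕ)).app P.complex = r • 𝟙 _ := by
    ext i : 1
    change (r • 𝟙 B) ▷ (P.complex.X i) = _
    rw [MonoidalLinear.smul_whiskerRight, id_whiskerRight]
    rfl
  rw [h]
  change _ ≫ HomologicalComplex.homologyMap (r • 𝟙 _) n ≫ _ = _
  rw [homologyMap_smul, HomologicalComplex.homologyMap_id, Linear.smul_comp, Linear.comp_smul,
    id_comp, Iso.hom_inv_id]
  rfl


section Reg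

open TorShift

variable {B B' N : Type u} [AddCommGroup B] [Module R B] [AddCommGroup B'] [Module R B']
  [AddCommGroup N] [Module R N]

lemma smulId_injective (r : R) (hreg : IsSMulRegular B r) :
    Function.Injective (r • (LinearMap.id : B →ₗ[R] B)) := by
  intro a b hab
  exact hreg (by simpa using hab)

/-- `r • 𝟙` is a monomorphism on a module on which `r` is regular. -/
lemma mono_smul_id (r : R) (X : ModuleCat.{u} R) (h : IsSMulRegular X r) : Mono (r • 𝟙 X) := by
  rw [ModuleCat.mono_iff_injective]
  intro a b hab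
  exact h (by simpa using hab)

lemma isSMulRegular_of_mono_smul_id (r : R) (X : ModuleCat.{u} R) (h : Mono (r • 𝟙 X)) :
    IsSMulRegular X r := by
  rw [ModuleCat.mono_iff_injective] at h
  intro a b hab
  exact h (by simpa using hab)

variable (r : R) (π : B →ₗ[R] B') (hreg : IsSMulRegular B r)
  (hex : Function.Exact (r • (LinearMap.id : B →ₗ[R] B)) π) (hπ : Function.Surjective π)
include hreg hex hπ

/-- For `0 → B --r--> B → B' → 0`: if `Torᵢ(B,N) = 0` for `i ≥ 1` and `r` is regular on `B ⊗ N` then
`Torᵢ(B',N) = 0` for `i ≥ 1`. -/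
theorem isZero_tor_quot_of_regular (h : ∀ i, 1 ≤ i → IsZero (T R i B N))
    (hr : IsSMulRegular (TensorProduct R B N) r) : ∀ i, 1 ≤ i → IsZero (T R i B' N) := by
  have hι := smulId_injective r hreg
  have hS := sesSC_shortExact _ π hι hex hπ
  intro i hi
  obtain ⟨k, rfl⟩ : ∃ k, i = k + 1 := ⟨i - 1, by omega⟩
  cases k with
  | zero =>
    have hmono : Mono ((TorLES.δ _ hS 0).app (ModuleCat.of R N)) :=
      (TorLES.exact₃ _ hS (ModuleCat.of R N) 0).mono_g ((h 1 le_rfl).eq_of_src _ _)
    have hz := TorLES.δ_map_f _ hS (ModuleCat.of R N) 0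
    have hf : ((Tor (ModuleCat.{u} R) 0).map (sesSC _ π hex).f).app (ModuleCat.of R N) =
        r • 𝟙 _ := tor_map_smul_id_app r (ModuleCat.of R B) (ModuleCat.of R N) 0
    rw [hf] at hz
    haveI : Mono (r • 𝟙 (T R 0 B N)) :=
      mono_smul_id r _ (((torZeroEquiv B N).isSMulRegular_congr r).mpr hr)
    have hδ : (TorLES.δ _ hS 0).app (ModuleCat.of R N) = 0 :=
      (cancel_mono (r • 𝟙 (T R 0 B N))).mp (hz.trans zero_comp.symm)
    exact IsZero.of_mono_eq_zero _ hδ
  | succ k =>
    exact isZero_right₁ _ π hι hex hπ (k + 1) (h (k + 2) (by omega)) (h (k + 1) (by omega))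

/-- For `0 → B --r--> B → B' → 0` with `r` in the Jacobson radical and finite Tor modules: if
`Torᵢ(B',N) = 0` for `i ≥ 1` then `Torᵢ(B,N) = 0` for `i ≥ 1` and `r` is regular on `B ⊗ N`. -/
theorem isZero_tor_and_regular_of_quot (hr : r ∈ (⊥ : Ideal R).jacobson)
    (hfin : ∀ i, Module.Finite R (T R i B N))
    (h : ∀ i, 1 ≤ i → IsZero (T R i B' N)) :
    (∀ i, 1 ≤ i → IsZero (T R i B N)) ∧ IsSMulRegular (TensorProduct R B N) r := by
  have hι := smulId_injective r hreg
  have hS := sesSC_shortExact _ π hι hex hπ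
  have hf : ∀ i, ((Tor (ModuleCat.{u} R) i).map (sesSC _ π hex).f).app (ModuleCat.of R N) =
      r • 𝟙 _ := fun i => tor_map_smul_id_app r (ModuleCat.of R B) (ModuleCat.of R N) i
  constructor
  · intro i hi
    have hepi : Epi (((Tor (ModuleCat.{u} R) i).map (sesSC _ π hex).f).app (ModuleCat.of R N)) :=
      (TorLES.exact₂ _ hS (ModuleCat.of R N) i).epi_f ((h i hi).eq_of_tgt _ _)
    rw [hf i, ModuleCat.epi_iff_surjective] at hepi
    haveI := hfin i
    have htop : (⊤ : Submodule R (T R i B N)) = ⊥ := by
      refine Submodule.eq_bot_of_le_smul_of_le_jacobson_bot (Ideal.span {r}) ⊤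
        Module.Finite.fg_top ?_ ((Ideal.span_singleton_le_iff_mem _).mpr hr)
      intro t _
      obtain ⟨t', ht'⟩ := hepi t
      have : r • t' = t := by simpa using ht'
      rw [← this]
      exact Submodule.smul_mem_smul (Ideal.mem_span_singleton_self r) Submodule.mem_top
    haveI : Subsingleton (T R i B N) := by
      rw [← Submodule.subsingleton_iff R]
      exact subsingleton_of_bot_eq_top htop.symm
    exact ModuleCat.isZero_of_subsingleton _
  · have hmono : Mono (((Tor (ModuleCat.{u} R) 0).map (sesSC _ π hex).f).app (ModuleCat.of R N)) :=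
      (TorLES.exact₁ _ hS (ModuleCat.of R N) 0).mono_g ((h 1 le_rfl).eq_of_src _ _)
    rw [hf 0] at hmono
    exact ((torZeroEquiv B N).isSMulRegular_congr r).mp (isSMulRegular_of_mono_smul_id r _ hmono)

end Reg

end Groth.Agent.Lib.Helper46.TorLinear
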