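import Groth.Agent.Lib.Helper46.TorPrime

/-!
# Naturality of the balancing isomorphism in the resolved variable (helper46)

`torIsoH K : Torₙ(K.opcycles 0, -) ≅ Hₙ(K ⊗ -)` is natural with respect to chain maps `φ : K ⟶ L`
between flat resolutions.  Consequently `torSymm` is natural in both variables and
`Tor ≅ Tor.flip` as bifunctors.
-/

set_option autoImplicit false
set_option backward.isDefEq.respectTransparency false
set_option backward.defeqAttrib.useBackward true

namespace Groth.Agent.Lib.Helper46.TorNatural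

open CategoryTheory Limits MonoidalCategory Category
open Groth.Agent.Lib.Helper46 Groth.Agent.Lib.Helper46.TorBalance

universe u

variable {R : Type u} [CommRing R]

section DeltaNat

variable {S S' : ShortComplex (ModuleCat.{u} R)} (hS : S.ShortExact) (hS' : S'.ShortExact)
  (ψ : S ⟶ S')

/-- morphism of short exact sequences of functors induced by a morphism of short complexes -/
noncomputable def torSESHom : DerivedLES.FunSES.Hom (TorLES.torSES S hS) (TorLES.torSES S' hS') where
  τ₁ := (tensoringLeft _).map ψ.τ₁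
  τ₂ := (tensoringLeft _).map ψ.τ₂
  τ₃ := (tensoringLeft _).map ψ.τ₃
  comm₁₂ := by
    change (tensoringLeft _).map S.f ≫ (tensoringLeft _).map ψ.τ₂ =
      (tensoringLeft _).map ψ.τ₁ ≫ (tensoringLeft _).map S'.f
    rw [← Functor.map_comp, ← Functor.map_comp, ψ.comm₁₂]
  comm₂₃ := by
    change (tensoringLeft _).map S.g ≫ (tensoringLeft _).map ψ.τ₃ =
      (tensoringLeft _).map ψ.τ₂ ≫ (tensoringLeft _).map S'.g
    rw [← Functor.map_comp, ← Functor.map_comp, ψ.comm₂₃]

/-- naturality of the first-variable connecting map with respect to morphisms of short exact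
sequences -/
lemma δ_naturality (n : ℕ) :
    TorLES.δ S hS n ≫ (Tor (ModuleCat.{u} R) n).map ψ.τ₁ =
      (Tor (ModuleCat.{u} R) (n + 1)).map ψ.τ₃ ≫ TorLES.δ S' hS' n :=
  DerivedLES.FunSES.δ_naturality_hom (torSESHom hS hS' ψ) n

lemma δ_naturality_app (n : ℕ) (N : ModuleCat.{u} R) :
    (TorLES.δ S hS n).app N ≫ ((Tor (ModuleCat.{u} R) n).map ψ.τ₁).app N =
      ((Tor (ModuleCat.{u} R) (n + 1)).map ψ.τ₃).app N ≫ (TorLES.δ S' hS' n).app N := by
  rw [← NatTrans.comp_app, ← NatTrans.comp_app, δ_naturality hS hS' ψ n]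

end DeltaNat

variable {K L : ChainComplex (ModuleCat.{u} R) ℕ} (φ : K ⟶ L)

/-- `φ ⊗ N` -/
noncomputable def tensMap (N : ModuleCat.{u} R) : (tensK K).obj N ⟶ (tensK L).obj N :=
  ((tensorRight N).mapHomologicalComplex _).map φ

@[simp] lemma tensMap_f (N : ModuleCat.{u} R) (i : ℕ) : (tensMap φ N).f i = φ.f i ▷ N := rfl

/-- `Hₙ(φ ⊗ N)` -/
noncomputable def HMap (n : ℕ) (N : ModuleCat.{u} R) : (Hfun K n).obj N ⟶ (Hfun L n).obj N :=
  HomologicalComplex.homologyMap (tensMap φ N) n

@[reassoc]
lemma opcyclesMap_fromOpcycles (k : ℕ) :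
    HomologicalComplex.opcyclesMap φ (k + 1) ≫ L.fromOpcycles (k + 1) k =
      K.fromOpcycles (k + 1) k ≫ φ.f k := by
  rw [← cancel_epi (K.pOpcycles (k + 1)), HomologicalComplex.p_opcyclesMap_assoc,
    HomologicalComplex.p_fromOpcycles, HomologicalComplex.p_fromOpcycles_assoc, φ.comm]

/-- the morphism of syzygy sequences induced by a chain map -/
noncomputable def syzMap (k : ℕ) : syzSC K k ⟶ syzSC L k :=
  ShortComplex.homMk (HomologicalComplex.opcyclesMap φ (k + 1)) (φ.f k)
    (HomologicalComplex.opcyclesMap φ k)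
    (opcyclesMap_fromOpcycles φ k)
    (HomologicalComplex.p_opcyclesMap φ k).symm

@[reassoc]
lemma cInv_naturality (j : ℕ) (N : ModuleCat.{u} R) :
    HomologicalComplex.opcyclesMap φ j ▷ N ≫ cInv L j N =
      cInv K j N ≫ HomologicalComplex.opcyclesMap (tensMap φ N) j := by
  rw [← cancel_epi (K.pOpcycles j ▷ N), ← comp_whiskerRight_assoc,
    HomologicalComplex.p_opcyclesMap, comp_whiskerRight_assoc, p_cInv, p_cInv_assoc,
    HomologicalComplex.p_opcyclesMap, tensMap_f]

@[reassoc]
lemma cHom_naturality' (j : ℕ) (N : ModuleCat.{u} R) :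
    HomologicalComplex.opcyclesMap (tensMap φ N) j ≫ cHom L j N =
      cHom K j N ≫ HomologicalComplex.opcyclesMap φ j ▷ N := by
  rw [← cancel_epi (((tensK K).obj N).pOpcycles j), HomologicalComplex.p_opcyclesMap_assoc,
    p_cHom, p_cHom_assoc, tensMap_f, ← comp_whiskerRight, ← comp_whiskerRight,
    HomologicalComplex.p_opcyclesMap]

/-- naturality of `torZeroIsoH` -/
lemma torZeroIsoH_naturality (N : ModuleCat.{u} R) :
    ((Tor (ModuleCat.{u} R) 0).map (HomologicalComplex.opcyclesMap φ 0)).app N ≫
        (torZeroIsoH L).hom.app N =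
      (torZeroIsoH K).hom.app N ≫ HMap φ 0 N := by
  have e : ∀ (K : ChainComplex (ModuleCat.{u} R) ℕ), (torZeroIsoH K).hom.app N =
      (TorLES.torZeroIso (K.opcycles 0)).hom.app N ≫ cInv K 0 N ≫
        ((tensK K).obj N).isoHomologyι₀.inv := fun K => rfl
  rw [e K, e L, TorLES.torZeroIso_hom_naturality_assoc, cInv_naturality_assoc, assoc, assoc]
  congr 2
  exact (ChainComplex.isoHomologyι₀_inv_naturality (tensMap φ N)).symm

section StageB

variable (k : ℕ) (hK : K.ExactAt (k + 1)) (hL : L.ExactAt (k + 1))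
  [Module.Flat R (K.X k)] [Module.Flat R (L.X k)]

@[reassoc]
lemma ιT_naturality_left (N : ModuleCat.{u} R) :
    ((Tor (ModuleCat.{u} R) 1).map (HomologicalComplex.opcyclesMap φ k)).app N ≫ ιT L k hL N =
      ιT K k hK N ≫ HomologicalComplex.opcyclesMap φ (k + 1) ▷ N := by
  have h := δ_naturality_app (syzSC_shortExact K k hK) (syzSC_shortExact L k hL) (syzMap φ k) 0 N
  have h' : (δZ K k hK).app N ≫
      ((Tor (ModuleCat.{u} R) 0).map (HomologicalComplex.opcyclesMap φ (k + 1))).app N =
      ((Tor (ModuleCat.{u} R) 1).map (HomologicalComplex.opcyclesMap φ k)).app N ≫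
        (δZ L k hL).app N := h
  dsimp only [ιT]
  rw [← assoc, ← h', assoc, assoc, TorLES.torZeroIso_hom_naturality]

lemma bHom_naturality_left (N : ModuleCat.{u} R) :
    HMap φ (k + 1) N ≫ bHom L k hL N =
      bHom K k hK N ≫ ((Tor (ModuleCat.{u} R) 1).map (HomologicalComplex.opcyclesMap φ k)).app N := by
  rw [← cancel_mono (ιT L k hL N), assoc, assoc, bHom_ιT, ιT_naturality_left φ k hK hL N,
    bHom_ιT_assoc]
  dsimp only [HMap]
  rw [HomologicalComplex.homologyι_naturality_assoc, cHom_naturality']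

lemma stageB_naturality_left (N : ModuleCat.{u} R) :
    ((Tor (ModuleCat.{u} R) 1).map (HomologicalComplex.opcyclesMap φ k)).app N ≫
        (stageB L k hL).inv.app N =
      (stageB K k hK).inv.app N ≫ HMap φ (k + 1) N := by
  have h := bHom_naturality_left φ k hK hL N
  have e1 : (stageB K k hK).hom.app N = bHom K k hK N := rfl
  have e2 : (stageB L k hL).hom.app N = bHom L k hL N := rfl
  rw [← e1, ← e2] at h
  rw [← cancel_mono ((stageB L k hL).hom.app N), assoc, assoc, h, Iso.inv_hom_id_app,
    Iso.inv_hom_id_app_assoc, comp_id]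

lemma δIso_naturality_left (n : ℕ) (N : ModuleCat.{u} R) :
    ((Tor (ModuleCat.{u} R) (n + 1 + 1)).map (HomologicalComplex.opcyclesMap φ k)).app N ≫
        (δIso (syzSC L k) (syzSC_shortExact L k hL) n).hom.app N =
      (δIso (syzSC K k) (syzSC_shortExact K k hK) n).hom.app N ≫
        ((Tor (ModuleCat.{u} R) (n + 1)).map (HomologicalComplex.opcyclesMap φ (k + 1))).app N :=
  (δ_naturality_app (syzSC_shortExact K k hK) (syzSC_shortExact L k hL) (syzMap φ k) (n + 1) N).symm

end StageB

section Main

variable (hflatK : ∀ i, Module.Flat R (K.X i)) (hexactK : ∀ i, K.ExactAt (i + 1))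
  (hflatL : ∀ i, Module.Flat R (L.X i)) (hexactL : ∀ i, L.ExactAt (i + 1))

lemma torSuccIso_naturality_left : ∀ (n k m : ℕ) (h : m = k + n + 1) (N : ModuleCat.{u} R),
    ((Tor (ModuleCat.{u} R) (n + 1)).map (HomologicalComplex.opcyclesMap φ k)).app N ≫
        (torSuccIso L hflatL hexactL n k m h).hom.app N =
      (torSuccIso K hflatK hexactK n k m h).hom.app N ≫ HMap φ m N
  | 0, k, m, h, N => by
    subst h
    haveI := hflatK k
    haveI := hflatL k
    exact stageB_naturality_left φ k (hexactK k) (hexactL k) N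
  | n + 1, k, m, h, N => by
    haveI := hflatK k
    haveI := hflatL k
    have ih := torSuccIso_naturality_left n (k + 1) m (by omega) N
    have eK : (torSuccIso K hflatK hexactK (n + 1) k m h).hom.app N =
        (δIso (syzSC K k) (syzSC_shortExact K k (hexactK k)) n).hom.app N ≫
          (torSuccIso K hflatK hexactK n (k + 1) m (by omega)).hom.app N := rfl
    have eL : (torSuccIso L hflatL hexactL (n + 1) k m h).hom.app N =
        (δIso (syzSC L k) (syzSC_shortExact L k (hexactL k)) n).hom.app N ≫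
          (torSuccIso L hflatL hexactL n (k + 1) m (by omega)).hom.app N := rfl
    rw [eK, eL, ← assoc, δIso_naturality_left φ k (hexactK k) (hexactL k) n N, assoc, ih, assoc]

/-- naturality of the balancing isomorphism `torIsoH` with respect to chain maps -/
lemma torIsoH_naturality_left (n : ℕ) (N : ModuleCat.{u} R) :
    ((Tor (ModuleCat.{u} R) n).map (HomologicalComplex.opcyclesMap φ 0)).app N ≫
        (torIsoH L hflatL hexactL n).hom.app N =
      (torIsoH K hflatK hexactK n).hom.app N ≫ HMap φ n N := by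
  cases n with
  | zero => exact torZeroIsoH_naturality φ N
  | succ n => exact torSuccIso_naturality_left φ hflatK hexactK hflatL hexactL n 0 (n + 1) (by omega) N

end Main

section Resolutions

variable {M M' : ModuleCat.{u} R} (f : M ⟶ M')

/-- the chosen lift of `f` to the chosen projective resolutions -/
noncomputable def resLift : TorLES2.resK M ⟶ TorLES2.resK M' :=
  ProjectiveResolution.lift f (projectiveResolution M) (projectiveResolution M')

@[reassoc]
lemma p_opcyclesIsoOfRes_hom (M : ModuleCat.{u} R) (P : ProjectiveResolution M) :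
    P.complex.pOpcycles 0 ≫ (TorLES2.opcyclesIsoOfRes M P).hom = P.π.f 0 :=
  IsColimit.comp_coconePointUniqueUpToIso_hom
    (P.complex.opcyclesIsCokernel 1 0 (by simp)) P.isColimitCokernelCofork WalkingParallelPair.one

@[reassoc]
lemma opcyclesIsoOfRes_naturality :
    HomologicalComplex.opcyclesMap (resLift f) 0 ≫
        (TorLES2.opcyclesIsoOfRes M' (projectiveResolution M')).hom =
      (TorLES2.opcyclesIsoOfRes M (projectiveResolution M)).hom ≫ f := by
  rw [← cancel_epi ((projectiveResolution M).complex.pOpcycles 0)]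
  have h1 := HomologicalComplex.p_opcyclesMap (resLift f) 0
  have h1' : (projectiveResolution M).complex.pOpcycles 0 ≫
      HomologicalComplex.opcyclesMap (resLift f) 0 =
      (resLift f).f 0 ≫ (projectiveResolution M').complex.pOpcycles 0 := h1
  rw [← assoc, h1', assoc, p_opcyclesIsoOfRes_hom, p_opcyclesIsoOfRes_hom_assoc]
  exact ProjectiveResolution.lift_commutes_zero f _ _

lemma torIsoHfun_naturality_left (n : ℕ) (N : ModuleCat.{u} R) :
    ((Tor (ModuleCat.{u} R) n).map f).app N ≫ (TorLES2.torIsoHfun M' n).hom.app N =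
      (TorLES2.torIsoHfun M n).hom.app N ≫ HMap (resLift f) n N := by
  have e : ∀ (M : ModuleCat.{u} R), (TorLES2.torIsoHfun M n).hom.app N =
      ((Tor (ModuleCat.{u} R) n).map
        (TorLES2.opcyclesIsoOfRes M (projectiveResolution M)).inv).app N ≫
      (torIsoH (TorLES2.resK M) (TorLES2.resK_flat M) (TorLES2.resK_exact M) n).hom.app N :=
    fun M => rfl
  have h : f ≫ (TorLES2.opcyclesIsoOfRes M' (projectiveResolution M')).inv =
      (TorLES2.opcyclesIsoOfRes M (projectiveResolution M)).inv ≫
        HomologicalComplex.opcyclesMap (resLift f) 0 := by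
    rw [Iso.eq_inv_comp, ← assoc, Iso.comp_inv_eq]
    exact (opcyclesIsoOfRes_naturality f).symm
  rw [e M, e M', ← assoc, ← NatTrans.comp_app, ← Functor.map_comp, h, Functor.map_comp,
    NatTrans.comp_app, assoc, assoc]
  congr 1
  exact torIsoH_naturality_left (resLift f) (TorLES2.resK_flat M) (TorLES2.resK_exact M)
    (TorLES2.resK_flat M') (TorLES2.resK_exact M') n N

lemma torIsoHfun_inv_naturality_left (n : ℕ) (N : ModuleCat.{u} R) :
    HMap (resLift f) n N ≫ (TorLES2.torIsoHfun M' n).inv.app N =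
      (TorLES2.torIsoHfun M n).inv.app N ≫ ((Tor (ModuleCat.{u} R) n).map f).app N := by
  rw [← cancel_mono ((TorLES2.torIsoHfun M' n).hom.app N), assoc, assoc,
    Iso.inv_hom_id_app, comp_id, torIsoHfun_naturality_left, Iso.inv_hom_id_app_assoc]

open TorPrime in
/-- naturality of `tor'IsoTor` in the first (resolved) variable -/
lemma tor'IsoTor_naturality_left (Y : ModuleCat.{u} R) (i : ℕ) :
    ((Tor' (ModuleCat.{u} R) i).map f).app Y ≫ (tor'IsoTor M' Y i).hom =
      (tor'IsoTor M Y i).hom ≫ ((Tor (ModuleCat.{u} R) i).map f).app Y := by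
  have h1 : ((Tor' (ModuleCat.{u} R) i).map f).app Y =
      ((projectiveResolution M).isoLeftDerivedObj ((tensoringRight _).obj Y) i).hom ≫
        HMap (resLift f) i Y ≫
        ((projectiveResolution M').isoLeftDerivedObj ((tensoringRight _).obj Y) i).inv :=
    Functor.leftDerived_map_eq ((tensoringRight (ModuleCat.{u} R)).obj Y) i f (resLift f)
      (ProjectiveResolution.lift_commutes f _ _)
  dsimp only [tor'IsoTor, Iso.trans_hom, Iso.symm_hom, Iso.app_inv]
  rw [h1, assoc, assoc, Iso.inv_hom_id_assoc, torIsoHfun_inv_naturality_left, assoc]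

open TorPrime in
/-- naturality of `torSymm` in the second variable -/
lemma torSymm_naturality_right (X : ModuleCat.{u} R) (i : ℕ) :
    ((Tor (ModuleCat.{u} R) i).obj X).map f ≫ (torSymm X M' i).hom =
      (torSymm X M i).hom ≫ ((Tor (ModuleCat.{u} R) i).map f).app X := by
  have h2 : ((Tor (ModuleCat.{u} R) i).obj X).map f ≫ (torIsoTor'Swap X M' i).hom =
      (torIsoTor'Swap X M i).hom ≫ ((Tor' (ModuleCat.{u} R) i).map f).app X :=
    (leftDerivedIso (BraidedCategory.tensorLeftIsoTensorRight X) i).hom.naturality f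
  dsimp only [torSymm, Iso.trans_hom]
  rw [← assoc, h2, assoc, tor'IsoTor_naturality_left, assoc]

open TorPrime in
/-- **Symmetry of Tor as a bifunctor**: `Tor ≅ Tor.flip`. -/
noncomputable def torFlipNatIso (i : ℕ) :
    Tor (ModuleCat.{u} R) i ≅ (Tor (ModuleCat.{u} R) i).flip :=
  NatIso.ofComponents (fun X => (torFlipIso X i).symm) (fun {X X'} f => by
    refine NatTrans.ext (funext fun Y => ?_)
    change ((Tor (ModuleCat.{u} R) i).map f).app Y ≫ (torSymm Y X' i).inv =
      (torSymm Y X i).inv ≫ ((Tor (ModuleCat.{u} R) i).obj Y).map f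
    rw [Iso.comp_inv_eq, assoc, Iso.eq_inv_comp]
    exact (torSymm_naturality_right f Y i).symm)

end Resolutions

end Groth.Agent.Lib.Helper46.TorNatural
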