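import Groth.Agent.Lib.Helper46.TorLES2

/-!
# `Tor'` versus `Tor` (helper46)

`tor'IsoTor X Y n : ((Tor' _ n).obj X).obj Y ≅ ((Tor _ n).obj X).obj Y` (balancing, objectwise).
-/

set_option autoImplicit false
set_option backward.isDefEq.respectTransparency false
set_option backward.defeqAttrib.useBackward true

namespace Groth.Agent.Lib.Helper46.TorPrime

open CategoryTheory Limits MonoidalCategory Category
open Groth.Agent.Lib.Helper46 Groth.Agent.Lib.Helper46.TorBalance

universe u

variable {R : Type u} [CommRing R]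

/-- Balancing of Tor, objectwise: `Tor'ₙ(X, Y)` (derived in the first variable) is isomorphic to
`Torₙ(X, Y)` (derived in the second variable). -/
noncomputable def tor'IsoTor (X Y : ModuleCat.{u} R) (n : ℕ) :
    ((Tor' (ModuleCat.{u} R) n).obj X).obj Y ≅ ((Tor (ModuleCat.{u} R) n).obj X).obj Y :=
  (projectiveResolution X).isoLeftDerivedObj ((tensoringRight _).obj Y) n ≪≫
    ((TorLES2.torIsoHfun X n).app Y).symm

/-- an isomorphism of additive functors induces an isomorphism of left derived functors -/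
noncomputable def leftDerivedIso {C D : Type*} [Category C] [Category D] [Abelian C]
    [HasProjectiveResolutions C] [Abelian D] {F G : C ⥤ D} [F.Additive] [G.Additive]
    (e : F ≅ G) (n : ℕ) : F.leftDerived n ≅ G.leftDerived n where
  hom := NatTrans.leftDerived e.hom n
  inv := NatTrans.leftDerived e.inv n
  hom_inv_id := by rw [← NatTrans.leftDerived_comp, e.hom_inv_id, NatTrans.leftDerived_id]
  inv_hom_id := by rw [← NatTrans.leftDerived_comp, e.inv_hom_id, NatTrans.leftDerived_id]

/-- `Torₙ(X, Y) ≅ Tor'ₙ(Y, X)` via the braiding -/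
noncomputable def torIsoTor'Swap (X Y : ModuleCat.{u} R) (n : ℕ) :
    ((Tor (ModuleCat.{u} R) n).obj X).obj Y ≅ ((Tor' (ModuleCat.{u} R) n).obj Y).obj X :=
  (leftDerivedIso (BraidedCategory.tensorLeftIsoTensorRight X) n).app Y

/-- Symmetry of Tor, objectwise: `Torₙ(X, Y) ≅ Torₙ(Y, X)`. -/
noncomputable def torSymm (X Y : ModuleCat.{u} R) (n : ℕ) :
    ((Tor (ModuleCat.{u} R) n).obj X).obj Y ≅ ((Tor (ModuleCat.{u} R) n).obj Y).obj X :=
  torIsoTor'Swap X Y n ≪≫ tor'IsoTor Y X n

section Naturality

variable {M M' : ModuleCat.{u} R} (f : M ⟶ M') (N : ModuleCat.{u} R) (p : ℕ)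

lemma torIsoTor'Swap_naturality :
    ((Tor (ModuleCat.{u} R) p).map f).app N ≫ (torIsoTor'Swap M' N p).hom =
      (torIsoTor'Swap M N p).hom ≫ ((Tor' (ModuleCat.{u} R) p).obj N).map f := by
  have h : (tensoringLeft (ModuleCat.{u} R)).map f ≫
      (BraidedCategory.tensorLeftIsoTensorRight M').hom =
      (BraidedCategory.tensorLeftIsoTensorRight M).hom ≫
        (tensoringRight (ModuleCat.{u} R)).map f := by
    ext Z : 2
    exact BraidedCategory.braiding_naturality_left f Z
  change (NatTrans.leftDerived ((tensoringLeft (ModuleCat.{u} R)).map f) p).app N ≫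
      (NatTrans.leftDerived (BraidedCategory.tensorLeftIsoTensorRight M').hom p).app N =
    (NatTrans.leftDerived (BraidedCategory.tensorLeftIsoTensorRight M).hom p).app N ≫
      (NatTrans.leftDerived ((tensoringRight (ModuleCat.{u} R)).map f) p).app N
  rw [← NatTrans.comp_app, ← NatTrans.comp_app, ← NatTrans.leftDerived_comp,
    ← NatTrans.leftDerived_comp, h]

lemma tor'IsoTor_naturality_right :
    ((Tor' (ModuleCat.{u} R) p).obj N).map f ≫ (tor'IsoTor N M' p).hom =
      (tor'IsoTor N M p).hom ≫ ((Tor (ModuleCat.{u} R) p).obj N).map f := by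
  have h1 : ((Tor' (ModuleCat.{u} R) p).obj N).map f =
      ((projectiveResolution N).isoLeftDerivedObj ((tensoringRight _).obj M) p).hom ≫
        (Hfun (TorLES2.resK N) p).map f ≫
        ((projectiveResolution N).isoLeftDerivedObj ((tensoringRight _).obj M') p).inv :=
    (projectiveResolution N).leftDerived_app_eq ((tensoringRight (ModuleCat.{u} R)).map f) p
  have h2 := (TorLES2.torIsoHfun N p).inv.naturality f
  dsimp only [tor'IsoTor, Iso.trans_hom, Iso.symm_hom, Iso.app_inv]
  rw [h1, assoc, assoc, Iso.inv_hom_id_assoc, h2, assoc]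

/-- `Torₚ(-, N) ≅ Torₚ(N, -)` as functors. -/
noncomputable def torFlipIso : (Tor (ModuleCat.{u} R) p).flip.obj N ≅ (Tor (ModuleCat.{u} R) p).obj N :=
  NatIso.ofComponents (fun M => torSymm M N p) (fun {M M'} f => by
    change ((Tor (ModuleCat.{u} R) p).map f).app N ≫
        ((torIsoTor'Swap M' N p).hom ≫ (tor'IsoTor N M' p).hom) =
      ((torIsoTor'Swap M N p).hom ≫ (tor'IsoTor N M p).hom) ≫
        ((Tor (ModuleCat.{u} R) p).obj N).map f
    rw [← assoc, torIsoTor'Swap_naturality, assoc, tor'IsoTor_naturality_right, assoc])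

end Naturality

end Groth.Agent.Lib.Helper46.TorPrime
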