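import Groth.Agent.Lib.Helper46.TorLinear
import Mathlib.RingTheory.Regular.RegularSequence
import Mathlib.LinearAlgebra.TensorProduct.Quotient
import Mathlib.Algebra.Homology.ShortComplex.ModuleCat

/-!
# `Tor` of the quotient by a regular sequence (helper46)

For `l` weakly regular on `A` of length `k` and any `A`-module `M`:
`Torᵢ(A/(l), M) = 0` for `i > k` and `Torₖ(A/(l), M) ≃ Hom(A/(l), M)`.
-/

set_option autoImplicit false
set_option backward.isDefEq.respectTransparency false
set_option backward.defeqAttrib.useBackward true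

namespace Groth.Agent.Lib.Helper46.TorRegular

open CategoryTheory Limits MonoidalCategory Category
open Groth.Agent.Lib.Helper46 Groth.Agent.Lib.Helper46.TorShift RingTheory.Sequence

universe u

variable (A : Type u) [CommRing A]

lemma ofList_le_snoc (l : List A) (r : A) : Ideal.ofList l ≤ Ideal.ofList (l ++ [r]) := by
  rw [Ideal.ofList_append]; exact le_sup_left

/-- exactness of `A/I' --r--> A/I' --> A/(I' + (r))`. -/
theorem exact_quot_snoc (l : List A) (r : A) :
    Function.Exact (r • (LinearMap.id : (A ⧸ Ideal.ofList l) →ₗ[A] (A ⧸ Ideal.ofList l)))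
      (Submodule.factor (ofList_le_snoc A l r)) := by
  have hle := ofList_le_snoc A l r
  intro y
  obtain ⟨a, rfl⟩ := Submodule.Quotient.mk_surjective (Ideal.ofList l) y
  have hmk : Submodule.factor hle (Submodule.Quotient.mk (p := Ideal.ofList l) a) =
      Submodule.Quotient.mk (p := Ideal.ofList (l ++ [r])) a :=
    Submodule.factor_mk hle a
  rw [hmk, Submodule.Quotient.mk_eq_zero, Ideal.ofList_append, Ideal.ofList_singleton]
  constructor
  · intro ha
    obtain ⟨y, hy, z, hz, rfl⟩ := Submodule.mem_sup.mp ha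
    obtain ⟨c, rfl⟩ := Ideal.mem_span_singleton'.mp hz
    refine ⟨Submodule.Quotient.mk (p := Ideal.ofList l) c, ?_⟩
    simp only [LinearMap.smul_apply, LinearMap.id_coe, id_eq]
    rw [← Submodule.Quotient.mk_smul, Submodule.Quotient.mk_add,
      (Submodule.Quotient.mk_eq_zero _).mpr hy, zero_add, smul_eq_mul, mul_comm]
  · rintro ⟨z, hz⟩
    obtain ⟨c, rfl⟩ := Submodule.Quotient.mk_surjective (Ideal.ofList l) z
    simp only [LinearMap.smul_apply, LinearMap.id_coe, id_eq] at hz
    rw [← Submodule.Quotient.mk_smul, Submodule.Quotient.eq] at hz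
    have h1 : r • c ∈ Ideal.ofList l ⊔ Ideal.span {r} :=
      Submodule.mem_sup_right (by
        rw [smul_eq_mul, mul_comm]; exact Ideal.mul_mem_left _ _ (Ideal.mem_span_singleton_self r))
    have h2 : r • c - a ∈ Ideal.ofList l ⊔ Ideal.span {r} := Submodule.mem_sup_left hz
    have := Submodule.sub_mem _ h1 h2
    simpa using this

/-- If `l ++ [r]` is weakly regular on `A` then `r` is regular on `A/(l)`. -/
lemma isSMulRegular_quot_of_snoc (l : List A) (r : A) (h : IsWeaklyRegular A (l ++ [r])) :
    IsSMulRegular (A ⧸ Ideal.ofList l) r := by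
  rw [isWeaklyRegular_append_iff] at h
  have e1 : (A ⧸ (Ideal.ofList l • ⊤ : Submodule A A)) ≃ₗ[A] (A ⧸ Ideal.ofList l) :=
    Submodule.quotEquivOfEq _ _ (by simp)
  exact (e1.isSMulRegular_congr r).mp ((isWeaklyRegular_singleton_iff _ r).mp h.2)

variable {A}

/-- transport of `r`-torsion along a linear equivalence -/
theorem equiv_of_kernels {X' X Y Y' : Type*} [AddCommGroup X'] [Module A X'] [AddCommGroup X]
    [Module A X] [AddCommGroup Y] [Module A Y] [AddCommGroup Y'] [Module A Y'] (r : A)
    (d : X' →ₗ[A] X) (hd : Function.Injective d)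
    (hdr : LinearMap.range d = LinearMap.ker (r • (LinearMap.id : X →ₗ[A] X)))
    (j : Y' →ₗ[A] Y) (hj : Function.Injective j)
    (hjr : LinearMap.range j = LinearMap.ker (r • (LinearMap.id : Y →ₗ[A] Y)))
    (e : X ≃ₗ[A] Y) : Nonempty (X' ≃ₗ[A] Y') := by
  have hmap : (LinearMap.range d).map (e : X →ₗ[A] Y) = LinearMap.range j := by
    rw [hdr, hjr]
    ext y
    simp only [Submodule.mem_map, LinearMap.mem_ker, LinearMap.smul_apply, LinearMap.id_apply]
    constructor
    · rintro ⟨x, hx, rfl⟩
      change r • e x = 0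
      rw [← map_smul, hx, map_zero]
    · intro hy
      refine ⟨e.symm y, ?_, by simp⟩
      rw [← map_smul, hy, map_zero]
  exact ⟨(LinearEquiv.ofInjective d hd) ≪≫ₗ (e.submoduleMap (LinearMap.range d)) ≪≫ₗ
    (LinearEquiv.ofEq _ _ hmap) ≪≫ₗ (LinearEquiv.ofInjective j hj).symm⟩

/-- `Hom(B', M)` is the `r`-torsion of `Hom(B, M)` when `B --r--> B --π--> B' → 0` is exact. -/
theorem range_lcomp_eq_ker {B B' M : Type*} [AddCommGroup B] [Module A B] [AddCommGroup B']
    [Module A B'] [AddCommGroup M] [Module A M] (r : A) (π : B →ₗ[A] B')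
    (hex : Function.Exact (r • (LinearMap.id : B →ₗ[A] B)) π) (hπ : Function.Surjective π) :
    LinearMap.range (LinearMap.lcomp A M π) =
      LinearMap.ker (r • (LinearMap.id : (B →ₗ[A] M) →ₗ[A] (B →ₗ[A] M))) := by
  ext φ
  simp only [LinearMap.mem_range, LinearMap.mem_ker, LinearMap.smul_apply, LinearMap.id_apply]
  constructor
  · rintro ⟨ψ, rfl⟩
    ext b
    have h0 : π (r • b) = 0 := (hex (r • b)).mpr ⟨b, by simp⟩
    simp only [LinearMap.smul_apply, LinearMap.lcomp_apply', LinearMap.comp_apply,
      LinearMap.zero_apply]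
    rw [← map_smul, ← map_smul, h0, map_zero]
  · intro hφ
    have hker : LinearMap.ker π ≤ LinearMap.ker φ := by
      intro b hb
      obtain ⟨c, rfl⟩ := (hex b).mp hb
      have := LinearMap.congr_fun hφ c
      simpa using this
    refine ⟨(LinearMap.ker π).liftQ φ hker ∘ₗ (π.quotKerEquivOfSurjective hπ).symm.toLinearMap, ?_⟩
    ext b
    have : (π.quotKerEquivOfSurjective hπ).symm (π b) = Submodule.Quotient.mk b := by
      rw [LinearEquiv.symm_apply_eq]; rfl
    simp [this]

variable (M : Type u) [AddCommGroup M] [Module A M]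

/-- For `l` weakly regular on `A` of length `k`: `Torᵢ(A/(l), M) = 0` for `i > k` and
`Torₖ(A/(l), M) ≃ Hom(A/(l), M)`. -/
theorem tor_quot_regular (l : List A) (hA : IsWeaklyRegular A l) :
    (∀ i, l.length < i → IsZero (T A i (A ⧸ Ideal.ofList l) M)) ∧
    Nonempty ((T A l.length (A ⧸ Ideal.ofList l) M) ≃ₗ[A] ((A ⧸ Ideal.ofList l) →ₗ[A] M)) := by
  induction l using List.reverseRecOn with
  | nil =>
    have e : (A ⧸ Ideal.ofList ([] : List A)) ≃ₗ[A] A :=
      Submodule.quotEquivOfEqBot _ Ideal.ofList_nil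
    constructor
    · intro i hi
      obtain ⟨k, rfl⟩ : ∃ k, i = k + 1 := ⟨i - 1, by simp at hi; omega⟩
      exact isZero_congr e.symm (LinearEquiv.refl A M) (k + 1) (isZero_of_flat_left A M k)
    · exact ⟨torZeroEquiv _ M ≪≫ₗ TensorProduct.congr e (LinearEquiv.refl A M) ≪≫ₗ
        TensorProduct.lid A M ≪≫ₗ (LinearMap.ringLmapEquivSelf A A M).symm ≪≫ₗ
        LinearEquiv.arrowCongr e.symm (LinearEquiv.refl A M)⟩
  | append_singleton l r ih =>
    have hreg := isSMulRegular_quot_of_snoc A l r hA
    obtain ⟨hvan, ⟨e⟩⟩ := ih ((isWeaklyRegular_append_iff A l [r]).mp hA).1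
    have hex := exact_quot_snoc A l r
    have hπ : Function.Surjective (Submodule.factor (ofList_le_snoc A l r)) :=
      Submodule.factor_surjective _
    have hι := TorLinear.smulId_injective r hreg
    have hS := sesSC_shortExact _ _ hι hex hπ
    have hlen : (l ++ [r]).length = l.length + 1 := by simp
    constructor
    · intro i hi
      obtain ⟨j, rfl⟩ : ∃ j, i = j + 1 := ⟨i - 1, by omega⟩
      exact isZero_right₁ _ _ hι hex hπ j (hvan (j + 1) (by omega)) (hvan j (by omega))
    · rw [hlen]
      have hf : ((Tor (ModuleCat.{u} A) l.length).map (sesSC _ _ hex).f).app (ModuleCat.of A M) =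
          r • 𝟙 _ := TorLinear.tor_map_smul_id_app r _ (ModuleCat.of A M) l.length
      have hmono : Mono ((TorLES.δ _ hS l.length).app (ModuleCat.of A M)) :=
        (TorLES.exact₃ _ hS (ModuleCat.of A M) l.length).mono_g
          ((hvan (l.length + 1) (by omega)).eq_of_src _ _)
      have hex1 := TorLES.exact₁ _ hS (ModuleCat.of A M) l.length
      rw [ShortComplex.moduleCat_exact_iff_range_eq_ker] at hex1
      refine equiv_of_kernels r ((TorLES.δ _ hS l.length).app (ModuleCat.of A M)).hom
        ((ModuleCat.mono_iff_injective _).mp hmono) ?_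
        (LinearMap.lcomp A M (Submodule.factor (ofList_le_snoc A l r))) ?_
        (range_lcomp_eq_ker r _ hex hπ) e
      · rw [hex1]
        change LinearMap.ker (((Tor (ModuleCat.{u} A) l.length).map (sesSC _ _ hex).f).app
          (ModuleCat.of A M)).hom = _
        rw [hf]
        rfl
      · intro ψ₁ ψ₂ h
        refine LinearMap.ext fun b' => ?_
        obtain ⟨b, rfl⟩ := hπ b'
        exact LinearMap.congr_fun h b

end Groth.Agent.Lib.Helper46.TorRegular
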