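import Groth.Prelude.Def_DTen4
import Groth.Agent.Lib.Helper12.DerivedCompute
import Groth.Agent.Lib.Helper36.KProjHtpy
import Groth.Agent.Lib.Helper36.BaseChangeKProj
import Mathlib.Algebra.Homology.DerivedCategory.KProjective
import Mathlib.Algebra.Homology.BifunctorHomotopy

/-!
# The derived tensor products of `Def_DTen*` are computed on K-projective complexes (helper46)

Namespace `Groth.Agent.Lib.Helper46.DTenKProj`.

* `exists_Q_map_eq`, `nonempty_homotopy_of_Q_map_eq`: morphisms out of a K-projective complex in `D(A)`.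
* `tensor₂_map_eq`: `Q(f ⊗ g)` only depends on the homotopy classes of `f`, `g`.
* `isIso_ε_of_isKProjective`, `isIso_εMix_of_isKProjective`: the counits of `LTen₂`, `LTenMix` are
  isomorphisms at pairs of K-projective complexes.
* `isIso_baseCmp_of_isKProjective`: `LBase φ (Q P) ⟶ Q (P ⊗_R A)` is an isomorphism for `P` K-projective.
* `isIso_split_app` (S13893).
-/

set_option autoImplicit false
universe u
open CategoryTheory CategoryTheory.Limits MonoidalCategory
attribute [local instance] HasDerivedCategory.standard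

namespace Groth.Agent.Lib.Helper46.DTenKProj

section General

lemma isIso_app_of_iso {C D : Type*} [Category C] [Category D] {F G : C ⥤ D} (α : F ⟶ G)
    {X Y : C} (e : X ≅ Y) [IsIso (α.app X)] : IsIso (α.app Y) := by
  have h : α.app Y = F.map e.inv ≫ α.app X ≫ G.map e.hom := by
    rw [← Category.assoc, α.naturality e.inv, Category.assoc, ← G.map_comp, e.inv_hom_id,
      G.map_id, Category.comp_id]
  rw [h]
  infer_instance

end General

section KProjLift

variable {A : Type u} [CommRing A]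

lemma exists_Q_map_eq {S L : DRing.Cx A} [S.IsKProjective]
    (φ : (DerivedCategory.Q.obj S : Dual.D A) ⟶ DerivedCategory.Q.obj L) :
    ∃ f : S ⟶ L, DerivedCategory.Q.map f = φ := by
  obtain ⟨g', hg'⟩ := (CochainComplex.IsKProjective.Qh_map_bijective S
    ((HomotopyCategory.quotient _ _).obj L)).2
    ((DerivedCategory.quotientCompQhIso (ModuleCat.{u} A)).hom.app S ≫ φ ≫
      (DerivedCategory.quotientCompQhIso (ModuleCat.{u} A)).inv.app L)
  obtain ⟨g, rfl⟩ := (HomotopyCategory.quotient _ _).map_surjective g'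
  refine ⟨g, ?_⟩
  have := DerivedCategory.quotientCompQhIso_hom_naturality (C := ModuleCat.{u} A) g
  rw [hg'] at this
  simp only [Category.assoc, Iso.inv_hom_id_app, Category.comp_id] at this
  exact ((cancel_epi _).1 this).symm

lemma nonempty_homotopy_of_Q_map_eq {S L : DRing.Cx A} [S.IsKProjective] (f g : S ⟶ L)
    (h : (DerivedCategory.Q.map f : (DerivedCategory.Q.obj S : Dual.D A) ⟶ _) =
      DerivedCategory.Q.map g) : Nonempty (Homotopy f g) := by
  have h1 : DerivedCategory.Qh.map ((HomotopyCategory.quotient _ _).map f) =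
      DerivedCategory.Qh.map ((HomotopyCategory.quotient _ _).map g) := by
    rw [← cancel_mono ((DerivedCategory.quotientCompQhIso (ModuleCat.{u} A)).hom.app L),
      DerivedCategory.quotientCompQhIso_hom_naturality,
      DerivedCategory.quotientCompQhIso_hom_naturality, h]
  have h2 := (CochainComplex.IsKProjective.Qh_map_bijective S
    ((HomotopyCategory.quotient _ _).obj L)).1 h1
  exact ⟨HomotopyCategory.homotopyOfEq _ _ h2⟩

instance small_hom_Q (P : DRing.Cx A) [P.IsKProjective] (Y : Dual.D A) :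
    Small.{u} ((DerivedCategory.Q.obj P : Dual.D A) ⟶ Y) := by
  let e : DerivedCategory.Q.obj (DerivedCategory.Q.objPreimage Y) ≅ Y :=
    DerivedCategory.Q.objObjPreimageIso Y
  refine small_of_surjective
    (f := fun s : P ⟶ DerivedCategory.Q.objPreimage Y => DerivedCategory.Q.map s ≫ e.hom) ?_
  intro t
  obtain ⟨s, hs⟩ := exists_Q_map_eq (t ≫ e.inv)
  exact ⟨s, by simp [hs]⟩

/-- every object of `D(A)` is the image of a K-projective complex -/
lemma exists_kproj_iso (E : Dual.D A) :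
    ∃ (P : DRing.Cx A) (_ : P.IsKProjective), Nonempty (DerivedCategory.Q.obj P ≅ E) := by
  obtain ⟨P, p, hp, hP, -⟩ := Groth.Agent.Lib.Helper36.KP.exists_resolution
    (DerivedCategory.Q.objPreimage E : DRing.Cx A)
  have : IsIso (DerivedCategory.Q.map p : (DerivedCategory.Q.obj P : Dual.D A) ⟶ _) :=
    (DerivedCategory.isIso_Q_map_iff_quasiIso (ModuleCat.{u} A) p).2 hp
  exact ⟨P, hP, ⟨asIso (DerivedCategory.Q.map p) ≪≫ DerivedCategory.Q.objObjPreimageIso E⟩⟩

/-- `Q (f ⊗ g)` only depends on the homotopy classes of `f` and `g`. -/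
lemma tensor₂_map_eq {K K' L L' : DRing.Cx A} (f f' : K ⟶ K') (g g' : L ⟶ L')
    (hf : Nonempty (Homotopy f f')) (hg : Nonempty (Homotopy g g')) :
    (DTen.tensor₂ A).map (Prod.mkHom f g) = (DTen.tensor₂ A).map (Prod.mkHom f' g') := by
  obtain ⟨hf⟩ := hf
  obtain ⟨hg⟩ := hg
  have H : Homotopy (f ⊗ₘ g) (f' ⊗ₘ g') :=
    (HomologicalComplex.mapBifunctorMapHomotopy₁ hf g (curriedTensor (ModuleCat.{u} A))
      (ComplexShape.up ℤ)).trans
      (HomologicalComplex.mapBifunctorMapHomotopy₂ f' hg (curriedTensor (ModuleCat.{u} A))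
        (ComplexShape.up ℤ))
  have e : ∀ (a : K ⟶ K') (b : L ⟶ L'), (DTen.tensorT A).map (Prod.mkHom a b) = a ⊗ₘ b :=
    fun a b => (MonoidalCategory.tensorHom_def a b).symm
  change DerivedCategory.Q.map ((DTen.tensorT A).map (Prod.mkHom f g)) =
    DerivedCategory.Q.map ((DTen.tensorT A).map (Prod.mkHom f' g'))
  rw [e, e]
  exact DerivedCategory.Q_map_eq_of_homotopy (ModuleCat.{u} A) H

end KProjLift

section Counit

open Groth.Agent.Lib.Helper12

/-- the counit of `LTen₂` is an isomorphism at a pair of K-projective complexes -/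
theorem isIso_ε_of_isKProjective (A : Type u) [CommRing A] [DTen.HasLTen A] (P₁ P₂ : DRing.Cx A)
    [P₁.IsKProjective] [P₂.IsKProjective] : IsIso ((DTen.ε A).app (P₁, P₂)) := by
  haveI : ∀ Y : Dual.D A × Dual.D A, Small.{u} ((DTen.QQ A).obj (P₁, P₂) ⟶ Y) := fun Y =>
    inferInstanceAs (Small.{u} (((DerivedCategory.Q.obj P₁ : Dual.D A) ⟶ Y.1) ×
      ((DerivedCategory.Q.obj P₂ : Dual.D A) ⟶ Y.2)))
  refine isIso_counit_app (DTen.QQ A) (DTen.qis₂ A) (DTen.tensor₂ A) (DTen.LTen₂ A) (DTen.ε A)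
    (P₁, P₂) ?_ ?_
  · rintro ⟨X₁, X₂⟩ ⟨t₁, t₂⟩
    obtain ⟨s₁, h₁⟩ := exists_Q_map_eq t₁
    obtain ⟨s₂, h₂⟩ := exists_Q_map_eq t₂
    exact ⟨(s₁, s₂), Prod.ext h₁ h₂⟩
  · rintro ⟨X₁, X₂⟩ ⟨s₁, s₂⟩ ⟨s₁', s₂'⟩ h
    have h₁ : (DerivedCategory.Q.map s₁ : (DerivedCategory.Q.obj P₁ : Dual.D A) ⟶ _) =
        DerivedCategory.Q.map s₁' := congrArg Prod.fst h
    have h₂ : (DerivedCategory.Q.map s₂ : (DerivedCategory.Q.obj P₂ : Dual.D A) ⟶ _) =
        DerivedCategory.Q.map s₂' := congrArg Prod.snd h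
    exact tensor₂_map_eq s₁ s₁' s₂ s₂' (nonempty_homotopy_of_Q_map_eq _ _ h₁)
      (nonempty_homotopy_of_Q_map_eq _ _ h₂)

variable {R A : Type u} [CommRing R] [CommRing A] (φ : R →+* A)

/-- the counit of `LTenMix` is an isomorphism at a pair of K-projective complexes -/
theorem isIso_εMix_of_isKProjective [DTen.HasLTenMix φ] (P₁ : DRing.Cx R) (P₂ : DRing.Cx A)
    [P₁.IsKProjective] [P₂.IsKProjective] : IsIso ((DTen.εMix φ).app (P₁, P₂)) := by
  haveI : ∀ Y : Dual.D R × Dual.D A, Small.{u} ((DTen.QMix R A).obj (P₁, P₂) ⟶ Y) := fun Y =>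
    inferInstanceAs (Small.{u} (((DerivedCategory.Q.obj P₁ : Dual.D R) ⟶ Y.1) ×
      ((DerivedCategory.Q.obj P₂ : Dual.D A) ⟶ Y.2)))
  refine isIso_counit_app (DTen.QMix R A) (DTen.qisMix R A) (DTen.mix₂ φ) (DTen.LTenMix φ)
    (DTen.εMix φ) (P₁, P₂) ?_ ?_
  · rintro ⟨X₁, X₂⟩ ⟨t₁, t₂⟩
    obtain ⟨s₁, h₁⟩ := exists_Q_map_eq t₁
    obtain ⟨s₂, h₂⟩ := exists_Q_map_eq t₂
    exact ⟨(s₁, s₂), Prod.ext h₁ h₂⟩
  · rintro ⟨X₁, X₂⟩ ⟨s₁, s₂⟩ ⟨s₁', s₂'⟩ h
    have h₁ : (DerivedCategory.Q.map s₁ : (DerivedCategory.Q.obj P₁ : Dual.D R) ⟶ _) =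
        DerivedCategory.Q.map s₁' := congrArg Prod.fst h
    have h₂ : (DerivedCategory.Q.map s₂ : (DerivedCategory.Q.obj P₂ : Dual.D A) ⟶ _) =
        DerivedCategory.Q.map s₂' := congrArg Prod.snd h
    obtain ⟨H₁⟩ := nonempty_homotopy_of_Q_map_eq _ _ h₁
    exact tensor₂_map_eq ((DTen.extCx φ).map s₁) ((DTen.extCx φ).map s₁') s₂ s₂'
      ⟨(ModuleCat.extendScalars.{u, u, u} φ).mapHomotopy H₁⟩
      (nonempty_homotopy_of_Q_map_eq _ _ h₂)

end Counit

section BaseChange

variable {R A : Type u} [CommRing R] [CommRing A] (φ : R →+* A)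

/-- the module level adjunction -/
noncomputable abbrev adj0 :
    ModuleCat.extendScalars.{u, u, u} φ ⊣ ModuleCat.restrictScalars.{u} φ :=
  ModuleCat.extendRestrictScalarsAdj.{u, u, u} φ

/-- the counit `(Y|_R) ⊗_R A ⟶ Y` termwise on complexes -/
noncomputable def counitCx (Y : DRing.Cx A) : (DTen.extCx φ).obj ((DTen.resCx φ).obj Y) ⟶ Y where
  f i := (adj0 φ).counit.app (Y.X i)
  comm' i j _ := ((adj0 φ).counit.naturality (Y.d i j)).symm

lemma unitCx_res_counitCx (Y : DRing.Cx A) :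
    (DTen.unitCx φ).app ((DTen.resCx φ).obj Y) ≫ (DTen.resCx φ).map (counitCx φ Y) = 𝟙 _ :=
  HomologicalComplex.hom_ext _ _ (fun i => (adj0 φ).right_triangle_components (Y.X i))

lemma ext_unitCx_counitCx (K : DRing.Cx R) :
    (DTen.extCx φ).map ((DTen.unitCx φ).app K) ≫ counitCx φ ((DTen.extCx φ).obj K) = 𝟙 _ :=
  HomologicalComplex.hom_ext _ _ (fun i => (adj0 φ).left_triangle_components (K.X i))

lemma counitCx_naturality {Y Y' : DRing.Cx A} (s : Y ⟶ Y') :
    (DTen.extCx φ).map ((DTen.resCx φ).map s) ≫ counitCx φ Y' = counitCx φ Y ≫ s :=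
  HomologicalComplex.hom_ext _ _ (fun i => (adj0 φ).counit.naturality (s.f i))

lemma unitCx_comp_res_transpose {P : DRing.Cx R} {Y : DRing.Cx A} (t : P ⟶ (DTen.resCx φ).obj Y) :
    (DTen.unitCx φ).app P ≫ (DTen.resCx φ).map ((DTen.extCx φ).map t ≫ counitCx φ Y) = t := by
  have h : t ≫ (DTen.unitCx φ).app ((DTen.resCx φ).obj Y) =
      (DTen.unitCx φ).app P ≫ (DTen.resCx φ).map ((DTen.extCx φ).map t) :=
    (DTen.unitCx φ).naturality t
  rw [Functor.map_comp, ← Category.assoc, ← h, Category.assoc, unitCx_res_counitCx]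
  exact Category.comp_id t

lemma transpose_eq {P : DRing.Cx R} {Y : DRing.Cx A} (s : (DTen.extCx φ).obj P ⟶ Y) :
    (DTen.extCx φ).map ((DTen.unitCx φ).app P ≫ (DTen.resCx φ).map s) ≫ counitCx φ Y = s := by
  rw [Functor.map_comp, Category.assoc, counitCx_naturality, ← Category.assoc,
    ext_unitCx_counitCx, Category.id_comp]

theorem bijective_baseγ_comp [DTen.HasLBase φ] (P : DRing.Cx R) [P.IsKProjective] (Y : Dual.D A) :
    Function.Bijective (fun g : (DerivedCategory.Q.obj ((DTen.extCx φ).obj P) : Dual.D A) ⟶ Y =>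
      (DTen.baseγ φ).app P ≫ (DRing.restrictD φ).map g) := by
  have : ((DTen.extCx φ).obj P).IsKProjective :=
    Groth.Agent.Lib.Helper36.BCKP.isKProjective_extendScalars φ P
  let Y₀ : DRing.Cx A := DerivedCategory.Q.objPreimage Y
  let e : DerivedCategory.Q.obj Y₀ ≅ Y := DerivedCategory.Q.objObjPreimageIso Y
  have key : ∀ s : (DTen.extCx φ).obj P ⟶ Y₀,
      (DTen.baseγ φ).app P ≫ (DRing.restrictD φ).map (DerivedCategory.Q.map s) =
        DerivedCategory.Q.map ((DTen.unitCx φ).app P ≫ (DTen.resCx φ).map s) ≫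
          (DTen.resFactors φ).inv.app Y₀ := by
    intro s
    have hn := (DTen.resFactors φ).inv.naturality s
    show (DerivedCategory.Q.map ((DTen.unitCx φ).app P) ≫
      (DTen.resFactors φ).inv.app ((DTen.extCx φ).obj P)) ≫
        (DRing.restrictD φ).map (DerivedCategory.Q.map s) = _
    rw [Category.assoc, Functor.map_comp, Category.assoc]
    congr 1
    exact hn.symm
  constructor
  · intro g g' hgg
    dsimp only at hgg
    obtain ⟨s, hs⟩ := exists_Q_map_eq (g ≫ e.inv)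
    obtain ⟨s', hs'⟩ := exists_Q_map_eq (g' ≫ e.inv)
    have h1 : (DTen.baseγ φ).app P ≫ (DRing.restrictD φ).map (DerivedCategory.Q.map s) =
        (DTen.baseγ φ).app P ≫ (DRing.restrictD φ).map (DerivedCategory.Q.map s') := by
      rw [hs, hs', Functor.map_comp, Functor.map_comp, ← Category.assoc, ← Category.assoc, hgg]
    rw [key, key] at h1
    have h2 : DerivedCategory.Q.map ((DTen.unitCx φ).app P ≫ (DTen.resCx φ).map s) =
        DerivedCategory.Q.map ((DTen.unitCx φ).app P ≫ (DTen.resCx φ).map s') :=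
      (cancel_mono _).1 h1
    obtain ⟨H⟩ := nonempty_homotopy_of_Q_map_eq (S := P)
      ((DTen.unitCx φ).app P ≫ (DTen.resCx φ).map s)
      ((DTen.unitCx φ).app P ≫ (DTen.resCx φ).map s') h2
    have H' := ((ModuleCat.extendScalars.{u, u, u} φ).mapHomotopy H).compRight (counitCx φ Y₀)
    have e1 : DerivedCategory.Q.map ((DTen.extCx φ).map
        ((DTen.unitCx φ).app P ≫ (DTen.resCx φ).map s) ≫ counitCx φ Y₀) =
        DerivedCategory.Q.map s := by rw [transpose_eq]
    have e2 : DerivedCategory.Q.map ((DTen.extCx φ).map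
        ((DTen.unitCx φ).app P ≫ (DTen.resCx φ).map s') ≫ counitCx φ Y₀) =
        DerivedCategory.Q.map s' := by rw [transpose_eq]
    have h3 : DerivedCategory.Q.map s = DerivedCategory.Q.map s' :=
      e1.symm.trans ((DerivedCategory.Q_map_eq_of_homotopy (ModuleCat.{u} A) H').trans e2)
    have h4 : g ≫ e.inv = g' ≫ e.inv := by rw [← hs, ← hs', h3]
    exact (cancel_mono e.inv).1 h4
  · intro h
    obtain ⟨t, ht⟩ := exists_Q_map_eq
      (h ≫ (DRing.restrictD φ).map e.inv ≫ (DTen.resFactors φ).hom.app Y₀)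
    refine ⟨DerivedCategory.Q.map ((DTen.extCx φ).map t ≫ counitCx φ Y₀) ≫ e.hom, ?_⟩
    dsimp only
    rw [Functor.map_comp, ← Category.assoc, key, unitCx_comp_res_transpose, ht]
    simp only [Category.assoc, Iso.hom_inv_id_app_assoc]
    rw [← Functor.map_comp, e.inv_hom_id, CategoryTheory.Functor.map_id]
    exact Category.comp_id h

/-- `LBase φ (Q P) ⟶ Q (P ⊗_R A)` is an isomorphism for `P` K-projective -/
theorem isIso_baseCmp_of_isKProjective [DTen.HasLBase φ] (P : DRing.Cx R) [P.IsKProjective] :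
    IsIso ((DTen.baseCmp φ).app P) := by
  rw [isIso_iff_coyoneda_map_bijective]
  intro Y
  have hb := bijective_baseγ_comp φ P Y
  have hE : ∀ x : (DerivedCategory.Q.obj ((DTen.extCx φ).obj P) : Dual.D A) ⟶ Y,
      (DTen.baseAdj φ).homEquiv _ _ ((DTen.baseCmp φ).app P ≫ x) =
        (DTen.baseγ φ).app P ≫ (DRing.restrictD φ).map x := fun x => by
    rw [Adjunction.homEquiv_unit, Functor.map_comp, ← Category.assoc, DTen.baseCmp_fac]
  constructor
  · intro x x' hxx
    apply hb.1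
    dsimp only at hxx ⊢
    rw [← hE, ← hE, hxx]
  · intro y
    obtain ⟨x, hx⟩ := hb.2 ((DTen.baseAdj φ).homEquiv _ _ y)
    refine ⟨x, ?_⟩
    dsimp only at hx ⊢
    apply ((DTen.baseAdj φ).homEquiv _ _).injective
    rw [hE, hx]

/-- **S13893** -/
theorem isIso_split_app [DTen.HasLTen A] [DTen.HasLBase φ] [DTen.HasLTenMix φ]
    (E : Dual.D R) (N : Dual.D A) : IsIso ((DTen.split φ).app (E, N)) := by
  obtain ⟨P, hP, ⟨i₁⟩⟩ := exists_kproj_iso E
  obtain ⟨P', hP', ⟨i₂⟩⟩ := exists_kproj_iso N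
  have : ((DTen.extCx φ).obj P).IsKProjective :=
    Groth.Agent.Lib.Helper36.BCKP.isKProjective_extendScalars φ P
  have h1 : IsIso ((DTen.εMix φ).app (P, P')) := isIso_εMix_of_isKProjective φ P P'
  have h2 : IsIso ((DTen.ε A).app ((DTen.extCx φ).obj P, P')) :=
    isIso_ε_of_isKProjective A ((DTen.extCx φ).obj P) P'
  have h3 : IsIso ((DTen.baseCmp φ).app P) := isIso_baseCmp_of_isKProjective φ P
  have h4 : IsIso ((DTen.splitβ φ).app (P, P')) := by
    have : IsIso (Prod.mkHom ((DTen.baseCmp φ).app P) (𝟙 (DerivedCategory.Q.obj P' : Dual.D A))) :=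
      (isIso_prod_iff _ _).2 ⟨h3, inferInstance⟩
    show IsIso ((DTen.LTen₂ A).map (Prod.mkHom ((DTen.baseCmp φ).app P)
      (𝟙 (DerivedCategory.Q.obj P'))) ≫ (DTen.ε A).app ((DTen.extCx φ).obj P, P'))
    infer_instance
  have h5 : IsIso ((DTen.split φ).app ((DTen.QMix R A).obj (P, P'))) := by
    have hfac := DTen.split_fac φ (P, P')
    have : (DTen.split φ).app ((DTen.QMix R A).obj (P, P')) =
        (DTen.splitβ φ).app (P, P') ≫ inv ((DTen.εMix φ).app (P, P')) :=
      (IsIso.eq_comp_inv _).2 hfac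
    rw [this]
    infer_instance
  have h6 : IsIso ((DTen.split φ).app (DerivedCategory.Q.obj P, DerivedCategory.Q.obj P')) := h5
  exact isIso_app_of_iso (DTen.split φ) (Iso.prod i₁ i₂)

end BaseChange

end Groth.Agent.Lib.Helper46.DTenKProj
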