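import Mathlib

/-!
# A five lemma for natural transformations between middle-exact functors (helper46)

Namespace `Groth.Agent.Lib.Helper46.TriFive`.

`C` is a pretriangulated category, `D` a preadditive category.  A functor `F : C ⥤ D` is
*middle exact at a triangle `T`* (`MidAt F T`) if `Hom(W, F T.obj₁) → Hom(W, F T.obj₂) → Hom(W, F T.obj₃)`
is exact in the middle for all `W`.  No compatibility of `F` with the shift is needed.

* `MidAt.of_iso`: invariance under isomorphisms of triangles.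
* `isIso_app_obj₂`: if `F`, `G` are middle exact at all distinguished triangles and `η : F ⟶ G` is an
  isomorphism at `T.obj₃⟦-1⟧`, `T.obj₁`, `T.obj₃`, `T.obj₁⟦1⟧`, then it is an isomorphism at `T.obj₂`.
* `isIso_app_of_finite_projective`: a natural transformation between additive functors on `ModuleCat A`
  which is an isomorphism at `A` is an isomorphism at all finite projective modules.
-/

namespace Groth.Agent.Lib.Helper46.TriFive

open CategoryTheory CategoryTheory.Limits CategoryTheory.Pretriangulated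

universe v₁ v₂ u₁ u₂

section Five

variable {C : Type u₁} [Category.{v₁} C] [HasZeroObject C] [HasShift C ℤ] [Preadditive C]
  [∀ n : ℤ, (shiftFunctor C n).Additive] [Pretriangulated C]
  {D : Type u₂} [Category.{v₂} D] [Preadditive D]

/-- exactness in the middle of `Hom(W, F -)` applied to the triangle `T` -/
def MidAt (F : C ⥤ D) (T : Triangle C) : Prop :=
  ∀ (W : D) (x : W ⟶ F.obj T.obj₂), x ≫ F.map T.mor₂ = 0 →
    ∃ y : W ⟶ F.obj T.obj₁, y ≫ F.map T.mor₁ = x

lemma MidAt.of_iso {F : C ⥤ D} {T T' : Triangle C} (e : T ≅ T') (h : MidAt F T') : MidAt F T := by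
  intro W x hx
  have h1 : (x ≫ F.map e.hom.hom₂) ≫ F.map T'.mor₂ = 0 := by
    rw [Category.assoc, ← F.map_comp, ← e.hom.comm₂, F.map_comp, ← Category.assoc, hx, zero_comp]
  obtain ⟨y, hy⟩ := h W _ h1
  refine ⟨y ≫ F.map e.inv.hom₁, ?_⟩
  rw [Category.assoc, ← F.map_comp, ← e.inv.comm₁, F.map_comp, ← Category.assoc, hy, Category.assoc,
    ← F.map_comp, e.hom_inv_id_triangle_hom₂, F.map_id, Category.comp_id]

theorem isIso_app_obj₂ {F G : C ⥤ D} [F.PreservesZeroMorphisms] [G.PreservesZeroMorphisms]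
    (η : F ⟶ G) (hF : ∀ T ∈ distTriang C, MidAt F T) (hG : ∀ T ∈ distTriang C, MidAt G T)
    (T : Triangle C) (hT : T ∈ distTriang C)
    (h₀ : IsIso (η.app (T.obj₃⟦(-1 : ℤ)⟧))) (h₁ : IsIso (η.app T.obj₁))
    (h₃ : IsIso (η.app T.obj₃)) (h₄ : IsIso (η.app (T.obj₁⟦(1 : ℤ)⟧))) :
    IsIso (η.app T.obj₂) := by
  have hR := rot_of_distTriang T hT
  have hI := inv_rot_of_distTriang T hT
  have h₀' : IsIso (η.app T.invRotate.obj₁) := h₀
  -- injectivity
  have inj : ∀ (W : D) (x : W ⟶ F.obj T.obj₂), x ≫ η.app T.obj₂ = 0 → x = 0 := by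
    intro W x hx
    have hx3 : x ≫ F.map T.mor₂ = 0 := by
      have : (x ≫ F.map T.mor₂) ≫ η.app T.obj₃ = 0 := by
        rw [Category.assoc, η.naturality, ← Category.assoc, hx, zero_comp]
      rw [← cancel_mono (η.app T.obj₃), this, zero_comp]
    obtain ⟨y, hy⟩ := hF T hT W x hx3
    have hy1 : (y ≫ η.app T.obj₁) ≫ G.map T.invRotate.mor₂ = 0 := by
      show (y ≫ η.app T.obj₁) ≫ G.map T.mor₁ = 0
      rw [Category.assoc, ← η.naturality, ← Category.assoc, hy, hx]
    obtain ⟨z, hz⟩ := hG T.invRotate hI W (y ≫ η.app T.obj₁) hy1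
    have hz' : (z ≫ inv (η.app T.invRotate.obj₁)) ≫ F.map T.invRotate.mor₁ = y := by
      have : IsIso (η.app T.invRotate.obj₂) := h₁
      rw [← cancel_mono (η.app T.invRotate.obj₂), Category.assoc, Category.assoc, η.naturality,
        IsIso.inv_hom_id_assoc]
      exact hz
    have hk : F.map T.invRotate.mor₁ ≫ F.map T.invRotate.mor₂ = 0 := by
      rw [← F.map_comp, comp_distTriang_mor_zero₁₂ T.invRotate hI, F.map_zero]
    have h5 : ((z ≫ inv (η.app T.invRotate.obj₁)) ≫ F.map T.invRotate.mor₁) ≫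
        F.map T.invRotate.mor₂ = 0 := by
      rw [Category.assoc, hk, comp_zero]
    rw [hz'] at h5
    exact hy.symm.trans h5
  -- surjectivity
  have surj : ∀ (W : D) (z : W ⟶ G.obj T.obj₂), ∃ x : W ⟶ F.obj T.obj₂, x ≫ η.app T.obj₂ = z := by
    intro W z
    let u : W ⟶ F.obj T.obj₃ := z ≫ G.map T.mor₂ ≫ inv (η.app T.obj₃)
    have hu : u ≫ η.app T.obj₃ = z ≫ G.map T.mor₂ := by simp [u]
    have hu' : u ≫ F.map T.rotate.mor₂ = 0 := by
      show u ≫ F.map T.mor₃ = 0
      rw [← cancel_mono (η.app (T.obj₁⟦(1 : ℤ)⟧)), Category.assoc, η.naturality, ← Category.assoc, hu,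
        Category.assoc, ← G.map_comp, comp_distTriang_mor_zero₂₃ T hT, G.map_zero, comp_zero,
        zero_comp]
    obtain ⟨v, hv2⟩ : ∃ v : W ⟶ F.obj T.obj₂, v ≫ F.map T.mor₂ = u := hF T.rotate hR W u hu'
    have hv' : (v ≫ η.app T.obj₂ - z) ≫ G.map T.mor₂ = 0 := by
      rw [Preadditive.sub_comp, Category.assoc, ← η.naturality, ← Category.assoc, hv2, hu, sub_self]
    obtain ⟨w, hw⟩ := hG T hT W _ hv'
    refine ⟨v - (w ≫ inv (η.app T.obj₁)) ≫ F.map T.mor₁, ?_⟩
    rw [Preadditive.sub_comp, Category.assoc, Category.assoc, η.naturality, IsIso.inv_hom_id_assoc, hw]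
    abel
  obtain ⟨s, hs⟩ := surj _ (𝟙 (G.obj T.obj₂))
  refine ⟨s, ?_, hs⟩
  have := inj _ (η.app T.obj₂ ≫ s - 𝟙 _) (by
    rw [Preadditive.sub_comp, Category.assoc, hs, Category.comp_id, Category.id_comp, sub_self])
  exact sub_eq_zero.1 this

end Five

section Free

variable {A : Type u₁} [CommRing A] {D : Type u₂} [Category.{v₂} D] [Preadditive D]

/-- a natural transformation between additive functors on `ModuleCat A` which is an isomorphism at
`A` is an isomorphism at every finite projective module -/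
theorem isIso_app_of_finite_projective {F G : ModuleCat.{u₁} A ⥤ D} [F.Additive] [G.Additive]
    (η : F ⟶ G) (h : IsIso (η.app (ModuleCat.of A A))) (M : ModuleCat.{u₁} A)
    [Module.Finite A M] [Module.Projective A M] : IsIso (η.app M) := by
  obtain ⟨n, f, g, -, -, hfg⟩ := Module.Finite.exists_comp_eq_id_of_projective A M
  -- the free module
  let N : ModuleCat.{u₁} A := ModuleCat.of A (Fin n → A)
  let π : Fin n → (N ⟶ ModuleCat.of A A) := fun i => ModuleCat.ofHom (LinearMap.proj i)
  let ι : Fin n → (ModuleCat.of A A ⟶ N) := fun i =>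
    ModuleCat.ofHom (LinearMap.single A (fun _ : Fin n => A) i)
  have hsum : ∑ i, π i ≫ ι i = 𝟙 N := by
    refine ModuleCat.hom_ext (LinearMap.ext fun v => ?_)
    simp only [ModuleCat.hom_sum, ModuleCat.hom_comp, ModuleCat.hom_id, LinearMap.sum_apply,
      LinearMap.id_coe, id_eq, π, ι, ModuleCat.hom_ofHom, LinearMap.coe_comp, Function.comp_apply,
      LinearMap.coe_proj, Function.eval, LinearMap.coe_single]
    exact Finset.univ_sum_single v
  have hN : IsIso (η.app N) := by
    refine ⟨∑ i, G.map (π i) ≫ inv (η.app (ModuleCat.of A A)) ≫ F.map (ι i), ?_, ?_⟩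
    · rw [Preadditive.comp_sum]
      have : ∀ i, η.app N ≫ G.map (π i) ≫ inv (η.app (ModuleCat.of A A)) ≫ F.map (ι i) =
          F.map (π i ≫ ι i) := by
        intro i
        rw [← η.naturality_assoc, IsIso.hom_inv_id_assoc, F.map_comp]
      simp only [this]
      rw [← Functor.map_sum, hsum, F.map_id]
    · rw [Preadditive.sum_comp]
      have : ∀ i, (G.map (π i) ≫ inv (η.app (ModuleCat.of A A)) ≫ F.map (ι i)) ≫ η.app N =
          G.map (π i ≫ ι i) := by
        intro i
        rw [Category.assoc, Category.assoc, η.naturality, IsIso.inv_hom_id_assoc, G.map_comp]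
      simp only [this]
      rw [← Functor.map_sum, hsum, G.map_id]
  -- retract
  let i : M ⟶ N := ModuleCat.ofHom g
  let r : N ⟶ M := ModuleCat.ofHom f
  have hir : i ≫ r = 𝟙 M := by
    refine ModuleCat.hom_ext ?_
    rw [ModuleCat.hom_comp, ModuleCat.hom_id]
    exact hfg
  refine ⟨G.map i ≫ inv (η.app N) ≫ F.map r, ?_, ?_⟩
  · rw [← η.naturality_assoc, IsIso.hom_inv_id_assoc, ← F.map_comp, hir, F.map_id]
  · rw [Category.assoc, Category.assoc, η.naturality, IsIso.inv_hom_id_assoc, ← G.map_comp, hir,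
      G.map_id]

end Free

end Groth.Agent.Lib.Helper46.TriFive
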