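import Groth.Agent.Lib.Helper46.DTenUnitShift
import Groth.Agent.Lib.Helper46.TriFive
import Groth.Prelude.Def_DTen3

/-!
# Middle exactness of the derived tensor product; `evalTen` (helper46)

Namespace `Groth.Agent.Lib.Helper46.DTenMid`.

* `midAt_tensorRightD`: `- ⊗^L Y` is middle exact (`TriFive.MidAt`) at every distinguished triangle.
* `midAt_tensorRightD_comp_RHomR`: so is `RHom(M, - ⊗^L L)`.
* `associator_naturality`, `evalTenNat`: `evalTen K L M` is natural in `K`.
* `isIso_evalTen_of_isEquivalence`: `evalTen K L M` is an isomorphism if `K ⊗^L -` is an equivalence.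
-/

set_option autoImplicit false
universe u
open CategoryTheory CategoryTheory.Limits MonoidalCategory HomologicalComplex
  CategoryTheory.Pretriangulated
attribute [local instance] HasDerivedCategory.standard

namespace Groth.Agent.Lib.Helper46.DTenMid

open Groth.Agent.Lib.Helper46.DTenKProj Groth.Agent.Lib.Helper46.DTenAssoc
  Groth.Agent.Lib.Helper46.DTenUnitShift Groth.Agent.Lib.Helper46.TriFive
  Groth.Agent.Lib.Helper94.KFlatBi Groth.Agent.Lib.Helper94.KFlatAbs

variable (A : Type u) [CommRing A]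

lemma isKProjective_mappingCone {E F : DRing.Cx A} (β : E ⟶ F) [E.IsKProjective]
    [F.IsKProjective] : (CochainComplex.mappingCone β).IsKProjective := by
  rw [CochainComplex.isKProjective_iff_leftOrthogonal]
  exact (HomotopyCategory.subcategoryAcyclic
    (ModuleCat.{u} A)).leftOrthogonal.ext_of_isTriangulatedClosed₃ _
    (HomotopyCategory.mappingCone_triangleh_distinguished β)
    (CochainComplex.IsKProjective.leftOrthogonal E) (CochainComplex.IsKProjective.leftOrthogonal F)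

section Mid

variable [DTen.HasLTen A]

open DerivedCategory in
theorem exact_cone {P₁ P₂ : DRing.Cx A} [P₁.IsKProjective] [P₂.IsKProjective] (g : P₁ ⟶ P₂)
    (Y W : Dual.D A)
    (x : W ⟶ (DTen.tensorRightD A Y).obj (Q.obj (CochainComplex.mappingCone.triangle g).obj₃))
    (hx : x ≫ (DTen.tensorRightD A Y).map (Q.map (CochainComplex.mappingCone.triangle g).mor₃) = 0) :
    ∃ y : W ⟶ (DTen.tensorRightD A Y).obj (Q.obj (CochainComplex.mappingCone.triangle g).obj₂),
      y ≫ (DTen.tensorRightD A Y).map (Q.map (CochainComplex.mappingCone.triangle g).mor₂) = x := by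
  obtain ⟨Y₀, hY₀, ⟨eY⟩⟩ := exists_kproj_iso Y
  have := hY₀
  have k3 : (CochainComplex.mappingCone.triangle g).obj₃.IsKProjective :=
    isKProjective_mappingCone A g
  have k2 : (CochainComplex.mappingCone.triangle g).obj₂.IsKProjective := ‹P₂.IsKProjective›
  let c : ∀ (P : DRing.Cx A), (DTen.tensorRightD A Y).obj (Q.obj P) ⟶ Q.obj (P ⊗ Y₀) := fun P =>
    (DTen.LTen₂ A).map (Prod.mkHom (𝟙 (Q.obj P)) eY.inv) ≫ (DTen.ε A).app (P, Y₀)
  have hc : ∀ (P : DRing.Cx A) [P.IsKProjective], IsIso (c P) := fun P _ => by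
    have := isIso_ε_of_isKProjective A P Y₀
    have : IsIso (Prod.mkHom (𝟙 (Q.obj P)) eY.inv :
        ((Q.obj P, Y) : Dual.D A × Dual.D A) ⟶ (Q.obj P, Q.obj Y₀)) :=
      (isIso_prod_iff _ _).2 ⟨inferInstance, inferInstance⟩
    dsimp only [c]
    infer_instance
  have cnat : ∀ {P P' : DRing.Cx A} (a : P ⟶ P'),
      (DTen.tensorRightD A Y).map (Q.map a) ≫ c P' = c P ≫ Q.map (a ▷ Y₀) := by
    intro P P' a
    have e1 : (DTen.LTen₂ A).map (Prod.mkHom (Q.map a) (𝟙 Y)) ≫
        (DTen.LTen₂ A).map (Prod.mkHom (𝟙 (Q.obj P')) eY.inv) =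
        (DTen.LTen₂ A).map (Prod.mkHom (𝟙 (Q.obj P)) eY.inv) ≫
          (DTen.LTen₂ A).map (Prod.mkHom (Q.map a) (𝟙 (Q.obj Y₀))) := by
      rw [← Functor.map_comp, ← Functor.map_comp]
      congr 1
      exact CategoryTheory.Prod.hom_ext (by simp) (by simp)
    show (DTen.LTen₂ A).map (Prod.mkHom (Q.map a) (𝟙 Y)) ≫
      (DTen.LTen₂ A).map (Prod.mkHom (𝟙 (Q.obj P')) eY.inv) ≫ (DTen.ε A).app (P', Y₀) =
      ((DTen.LTen₂ A).map (Prod.mkHom (𝟙 (Q.obj P)) eY.inv) ≫ (DTen.ε A).app (P, Y₀)) ≫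
        Q.map (a ▷ Y₀)
    rw [reassoc_of% e1, ε_nat_left, Category.assoc]
  have hS : ((CochainComplex.mappingCone.triangleRotateShortComplex g).map
      (Ψ₁ (curriedTensor (ModuleCat.{u} A)) Y₀)).ShortExact :=
    shortExact_map_cone g (preservesSplit_Ψ₁ _ Y₀)
  have hdist := DerivedCategory.triangleOfSES_distinguished hS
  have n3 := cnat (CochainComplex.mappingCone.triangle g).mor₃
  have n2 := cnat (CochainComplex.mappingCone.triangle g).mor₂
  have hx' : (x ≫ c (CochainComplex.mappingCone.triangle g).obj₃) ≫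
      Q.map ((CochainComplex.mappingCone.triangle g).mor₃ ▷ Y₀) = 0 := by
    rw [Category.assoc, ← n3, ← Category.assoc, hx, zero_comp]
  obtain ⟨y', hy'⟩ : ∃ y' : W ⟶ Q.obj ((CochainComplex.mappingCone.triangle g).obj₂ ⊗ Y₀),
      x ≫ c (CochainComplex.mappingCone.triangle g).obj₃ =
      y' ≫ Q.map ((CochainComplex.mappingCone.triangle g).mor₂ ▷ Y₀) :=
    Triangle.coyoneda_exact₂ _ hdist (x ≫ c (CochainComplex.mappingCone.triangle g).obj₃) hx'
  have i2 : IsIso (c (CochainComplex.mappingCone.triangle g).obj₂) := hc _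
  have i3 : IsIso (c (CochainComplex.mappingCone.triangle g).obj₃) := hc _
  refine ⟨y' ≫ inv (c (CochainComplex.mappingCone.triangle g).obj₂), ?_⟩
  rw [← cancel_mono (c (CochainComplex.mappingCone.triangle g).obj₃), Category.assoc, Category.assoc,
    n2, IsIso.inv_hom_id_assoc]
  exact hy'.symm

open DerivedCategory in
theorem midAt_tensorRightD (Y : Dual.D A) (T : Triangle (Dual.D A))
    (hT : T ∈ distTriang (Dual.D A)) : MidAt (DTen.tensorRightD A Y) T := by
  have hI := inv_rot_of_distTriang T hT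
  obtain ⟨X, X', f, ⟨e⟩⟩ := (DerivedCategory.mem_distTriang_iff _).1 hI
  obtain ⟨P₁, p₁, hp₁, hP₁, -⟩ := Groth.Agent.Lib.Helper36.KP.exists_resolution X
  obtain ⟨P₂, p₂, hp₂, hP₂, -⟩ := Groth.Agent.Lib.Helper36.KP.exists_resolution X'
  haveI := hP₁
  haveI := hP₂
  haveI : IsIso (Q.map p₁ : (Q.obj P₁ : Dual.D A) ⟶ _) :=
    (DerivedCategory.isIso_Q_map_iff_quasiIso (ModuleCat.{u} A) p₁).2 hp₁
  haveI : IsIso (Q.map p₂ : (Q.obj P₂ : Dual.D A) ⟶ _) :=
    (DerivedCategory.isIso_Q_map_iff_quasiIso (ModuleCat.{u} A) p₂).2 hp₂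
  obtain ⟨g, hg⟩ := exists_Q_map_eq (S := P₁) (L := P₂) (Q.map p₁ ≫ Q.map f ≫ inv (Q.map p₂))
  have hTg : Q.mapTriangle.obj (CochainComplex.mappingCone.triangle g) ∈ distTriang (Dual.D A) :=
    (DerivedCategory.mem_distTriang_iff _).2 ⟨_, _, g, ⟨Iso.refl _⟩⟩
  have hTf : Q.mapTriangle.obj (CochainComplex.mappingCone.triangle f) ∈ distTriang (Dual.D A) :=
    (DerivedCategory.mem_distTriang_iff _).2 ⟨_, _, f, ⟨Iso.refl _⟩⟩
  let i₁ : (Q.obj P₁ : Dual.D A) ≅ Q.obj X := asIso (Q.map p₁)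
  let i₂ : (Q.obj P₂ : Dual.D A) ≅ Q.obj X' := asIso (Q.map p₂)
  let e' : Q.mapTriangle.obj (CochainComplex.mappingCone.triangle g) ≅
      Q.mapTriangle.obj (CochainComplex.mappingCone.triangle f) :=
    isoTriangleOfIso₁₂ _ _ hTg hTf i₁ i₂ (by
      show Q.map g ≫ Q.map p₂ = Q.map p₁ ≫ Q.map f
      rw [hg]
      simp)
  let e₀ : T ≅ (Q.mapTriangle.obj (CochainComplex.mappingCone.triangle g)).rotate :=
    ((triangleRotation (Dual.D A)).counitIso.app T).symm ≪≫
      (rotate (Dual.D A)).mapIso (e ≪≫ e'.symm)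
  refine MidAt.of_iso e₀ ?_
  intro W x hx
  have hx2 : x ≫ (DTen.tensorRightD A Y).map
      (Q.map (CochainComplex.mappingCone.triangle g).mor₃) ≫
      (DTen.tensorRightD A Y).map ((Q.commShiftIso (1 : ℤ)).hom.app P₁) = 0 := by
    rw [← Functor.map_comp]
    exact hx
  have hx3 : x ≫ (DTen.tensorRightD A Y).map
      (Q.map (CochainComplex.mappingCone.triangle g).mor₃) = 0 := by
    have h := hx2
    rw [← Category.assoc] at h
    exact (cancel_mono ((DTen.tensorRightD A Y).map ((Q.commShiftIso (1 : ℤ)).hom.app P₁))).1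
      (h.trans zero_comp.symm)
  exact exact_cone A g Y W x hx3

variable [DTen.HasRHom A]

theorem midAt_tensorRightD_comp_RHomR (L M : Dual.D A) (T : Triangle (Dual.D A))
    (hT : T ∈ distTriang (Dual.D A)) : MidAt (DTen.tensorRightD A L ⋙ DTen.RHomR A M) T := by
  intro W x hx
  have hx' : x ≫ (DTen.RHomR A M).map ((DTen.tensorRightD A L).map T.mor₂) = 0 := hx
  have h1 : ((DTen.rhomAdj A M).homEquiv W _).symm x ≫ (DTen.tensorRightD A L).map T.mor₂ = 0 := by
    rw [← Adjunction.homEquiv_naturality_right_symm, hx', Adjunction.homEquiv_counit,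
      Functor.map_zero, zero_comp]
  obtain ⟨y, hy⟩ := midAt_tensorRightD A L T hT _ _ h1
  refine ⟨(DTen.rhomAdj A M).homEquiv _ _ y, ?_⟩
  show (DTen.rhomAdj A M).homEquiv _ _ y ≫
    (DTen.RHomR A M).map ((DTen.tensorRightD A L).map T.mor₁) = x
  rw [← Adjunction.homEquiv_naturality_right, hy, Equiv.apply_symm_apply]

end Mid

section Eval

variable [DTen.HasLTen A] [DTen.HasLTen₃ A] [DTen.IsSymMonoidal A]

/-- the associativity constraint as a natural isomorphism -/
noncomputable def assocIso : DTen.LTenL A ≅ DTen.LTenR A :=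
  asIso (DTen.assocL A) ≪≫ (asIso (DTen.assocR A)).symm

lemma associator_hom_eq (a b c : Dual.D A) :
    (DTen.associator a b c).hom = (assocIso A).hom.app (a, (b, c)) := rfl

lemma associator_naturality {a a' b b' c c' : Dual.D A} (f : a ⟶ a') (g : b ⟶ b') (h : c ⟶ c') :
    (DTen.LTen₂ A).map (Prod.mkHom ((DTen.LTen₂ A).map (Prod.mkHom f g)) h) ≫
        (DTen.associator a' b' c').hom =
      (DTen.associator a b c).hom ≫
        (DTen.LTen₂ A).map (Prod.mkHom f ((DTen.LTen₂ A).map (Prod.mkHom g h))) := by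
  rw [associator_hom_eq, associator_hom_eq]
  exact (assocIso A).hom.naturality
    (Prod.mkHom f (Prod.mkHom g h) :
      ((a, (b, c)) : Dual.D A × (Dual.D A × Dual.D A)) ⟶ (a', (b', c')))

variable [DTen.HasRHom A]

lemma evalTenAux_naturality {K K' : Dual.D A} (f : K ⟶ K') (L M : Dual.D A) :
    (DTen.LTen₂ A).map (Prod.mkHom ((DTen.LTen₂ A).map
        (Prod.mkHom f (𝟙 ((DTen.RHomR A M).obj L)))) (𝟙 M)) ≫ DTen.evalTenAux K' L M =
      DTen.evalTenAux K L M ≫ (DTen.LTen₂ A).map (Prod.mkHom f (𝟙 L)) := by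
  have h := associator_naturality A f (𝟙 ((DTen.RHomR A M).obj L)) (𝟙 M)
  dsimp only [DTen.evalTenAux]
  rw [reassoc_of% h, Category.assoc, ← Functor.map_comp, ← Functor.map_comp]
  congr 2
  refine CategoryTheory.Prod.hom_ext (by simp) ?_
  show (DTen.LTen₂ A).map (Prod.mkHom (𝟙 ((DTen.RHomR A M).obj L)) (𝟙 M)) ≫ DTen.ev M L =
    DTen.ev M L ≫ 𝟙 L
  rw [← prod_id, CategoryTheory.Functor.map_id, Category.id_comp, Category.comp_id]

/-- `evalTen K L M` as a natural transformation in `K` -/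
noncomputable def evalTenNat (L M : Dual.D A) :
    DTen.tensorRightD A ((DTen.RHomR A M).obj L) ⟶ DTen.tensorRightD A L ⋙ DTen.RHomR A M where
  app K := DTen.evalTen K L M
  naturality K K' f := by
    show (DTen.LTen₂ A).map (Prod.mkHom f (𝟙 _)) ≫ DTen.evalTen K' L M =
      DTen.evalTen K L M ≫ (DTen.RHomR A M).map ((DTen.LTen₂ A).map (Prod.mkHom f (𝟙 L)))
    dsimp only [DTen.evalTen]
    rw [← Adjunction.homEquiv_naturality_left, ← Adjunction.homEquiv_naturality_right]
    congr 1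
    exact evalTenAux_naturality A f L M

@[simp] lemma evalTenNat_app (L M K : Dual.D A) : (evalTenNat A L M).app K = DTen.evalTen K L M := rfl

theorem isIso_evalTen_of_isEquivalence (K L M : Dual.D A)
    [((DTen.LTen A).obj K).IsEquivalence] : IsIso (DTen.evalTen K L M) := by
  let T := (DTen.LTen A).obj K
  let X := (DTen.RHomR A M).obj L
  let adj := DTen.rhomAdj A M
  let Φ : ∀ W : Dual.D A, (W ⟶ T.obj X) → ((DTen.LTen₂ A).obj (W, M) ⟶ T.obj L) := fun W x =>
    (DTen.LTen₂ A).map (Prod.mkHom x (𝟙 M)) ≫ DTen.evalTenAux K L M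
  have h1 : ∀ (W : Dual.D A) (x : W ⟶ T.obj X),
      x ≫ DTen.evalTen K L M = adj.homEquiv _ _ (Φ W x) := by
    intro W x
    dsimp only [DTen.evalTen, Φ]
    exact (adj.homEquiv_naturality_left x _).symm
  have h2 : ∀ (W' : Dual.D A) (y : W' ⟶ X), Φ (T.obj W') (T.map y) =
      (DTen.associator K W' M).hom ≫ T.map ((adj.homEquiv _ _).symm y) := by
    intro W' y
    have h := associator_naturality A (𝟙 K) y (𝟙 M)
    show (DTen.LTen₂ A).map (Prod.mkHom ((DTen.LTen₂ A).map (Prod.mkHom (𝟙 K) y)) (𝟙 M)) ≫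
      (DTen.associator K X M).hom ≫ (DTen.LTen₂ A).map (Prod.mkHom (𝟙 K) (DTen.ev M L)) =
      (DTen.associator K W' M).hom ≫
        (DTen.LTen₂ A).map (Prod.mkHom (𝟙 K) ((adj.homEquiv _ _).symm y))
    rw [reassoc_of% h, ← Functor.map_comp, Adjunction.homEquiv_counit]
    congr 2
    all_goals exact CategoryTheory.Prod.hom_ext (by simp) rfl
  have h3 : ∀ {W₁ W : Dual.D A} (w : W₁ ⟶ W) (x : W ⟶ T.obj X),
      Φ W₁ (w ≫ x) = (DTen.LTen₂ A).map (Prod.mkHom w (𝟙 M)) ≫ Φ W x := by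
    intro W₁ W w x
    dsimp only [Φ]
    rw [← Category.assoc, ← Functor.map_comp]
    congr 2
    all_goals exact CategoryTheory.Prod.hom_ext rfl (by simp)
  apply isIso_of_yoneda_map_bijective
  intro W
  suffices hΦ : Function.Bijective (Φ W) by
    refine ⟨fun x x' hxx => hΦ.1 ((adj.homEquiv _ _).injective ?_), fun z => ?_⟩
    · rw [← h1, ← h1]
      exact hxx
    · obtain ⟨x, hx⟩ := hΦ.2 ((adj.homEquiv _ _).symm z)
      refine ⟨x, ?_⟩
      show x ≫ DTen.evalTen K L M = z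
      rw [h1, hx, Equiv.apply_symm_apply]
  let W' := T.objPreimage W
  let e : T.obj W' ≅ W := T.objObjPreimageIso W
  constructor
  · intro x x' hxx
    have h4 : Φ (T.obj W') (e.hom ≫ x) = Φ (T.obj W') (e.hom ≫ x') := by rw [h3, h3, hxx]
    have hy : T.map (T.preimage (e.hom ≫ x)) = e.hom ≫ x := T.map_preimage _
    have hy' : T.map (T.preimage (e.hom ≫ x')) = e.hom ≫ x' := T.map_preimage _
    rw [← hy, ← hy', h2, h2] at h4
    have h5 := T.map_injective ((cancel_epi _).1 h4)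
    have h6 := (adj.homEquiv _ _).symm.injective h5
    have h7 : e.hom ≫ x = e.hom ≫ x' := by rw [← hy, ← hy', h6]
    exact (cancel_epi e.hom).1 h7
  · intro t
    let t' := (DTen.LTen₂ A).map (Prod.mkHom e.hom (𝟙 M)) ≫ t
    let s := T.preimage ((DTen.associator K W' M).inv ≫ t')
    let y := adj.homEquiv _ _ s
    refine ⟨e.inv ≫ T.map y, ?_⟩
    rw [h3, h2, Equiv.symm_apply_apply, T.map_preimage, Iso.hom_inv_id_assoc]
    dsimp only [t']
    rw [← Category.assoc, ← Functor.map_comp]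
    have : (Prod.mkHom e.inv (𝟙 M) ≫ Prod.mkHom e.hom (𝟙 M) :
        ((W, M) : Dual.D A × Dual.D A) ⟶ (W, M)) = 𝟙 _ :=
      CategoryTheory.Prod.hom_ext (by simp) (by simp)
    rw [this, CategoryTheory.Functor.map_id, Category.id_comp]

end Eval

end Groth.Agent.Lib.Helper46.DTenMid
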