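import Groth.Agent.Lib.Helper46.DTenMid
import Groth.Agent.Lib.Helper12.DRingTrunc

/-!
# `evalTen K L M` is an isomorphism for perfect `K` (helper46)

Namespace `Groth.Agent.Lib.Helper46.DTenPerfect`.

Dévissage: the class of `K` such that `evalTen (K⟦n⟧) L M` is an isomorphism for all `n` contains the
shifts of the unit (`K ⊗^L -` is then an equivalence), is closed under extensions (five lemma of
`TriFive`, `- ⊗^L Y` being middle exact), hence contains `N[-a]` for `N` finite projective and all
bounded complexes of finite projective modules (`Helper12.bounded_induction`).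
-/

set_option autoImplicit false
universe u
open CategoryTheory CategoryTheory.Limits MonoidalCategory HomologicalComplex
  CategoryTheory.Pretriangulated
attribute [local instance] HasDerivedCategory.standard

namespace Groth.Agent.Lib.Helper46.DTenPerfect

open Groth.Agent.Lib.Helper46.DTenKProj Groth.Agent.Lib.Helper46.DTenAssoc
  Groth.Agent.Lib.Helper46.DTenUnitShift Groth.Agent.Lib.Helper46.TriFive
  Groth.Agent.Lib.Helper46.DTenMid Groth.Agent.Lib.Helper12 DRing

variable (A : Type u) [CommRing A] [DTen.HasLTen A]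

section Additive

variable [DTen.HasRHom A]

instance additive_tensorRightD (X : Dual.D A) : (DTen.tensorRightD A X).Additive := by
  have := preservesBinaryBiproducts_of_preservesBinaryCoproducts (DTen.tensorRightD A X)
  exact Functor.additive_of_preservesBinaryBiproducts _

instance additive_RHomR (M : Dual.D A) : (DTen.RHomR A M).Additive :=
  (DTen.rhomAdj A M).right_adjoint_additive

end Additive

variable [DTen.HasLTen₃ A] [DTen.IsSymMonoidal A] [DTen.HasRHom A] (L M : Dual.D A)

/-- `evalTen` is an isomorphism at all shifts of `K` -/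
def Pr (K : Dual.D A) : Prop := ∀ n : ℤ, IsIso ((evalTenNat A L M).app (K⟦n⟧))

variable {A L M} in
lemma Pr.of_iso {K K' : Dual.D A} (e : K ≅ K') (h : Pr A L M K) : Pr A L M K' := fun n =>
  haveI := h n
  isIso_app_of_iso (evalTenNat A L M) ((shiftFunctor (Dual.D A) n).mapIso e)

lemma pr_of_isZero {K : Dual.D A} (h : IsZero K) : Pr A L M K := fun n => by
  have h1 : IsZero (K⟦n⟧) := (shiftFunctor (Dual.D A) n).map_isZero h
  have h2 := (DTen.tensorRightD A ((DTen.RHomR A M).obj L)).map_isZero h1
  have h3 := (DTen.tensorRightD A L ⋙ DTen.RHomR A M).map_isZero h1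
  exact ⟨0, h2.eq_of_src _ _, h3.eq_of_src _ _⟩

lemma pr_ext (T : Triangle (Dual.D A)) (hT : T ∈ distTriang (Dual.D A))
    (h₁ : Pr A L M T.obj₁) (h₃ : Pr A L M T.obj₃) : Pr A L M T.obj₂ := by
  intro n
  have hTn := Triangle.shift_distinguished T hT n
  refine isIso_app_obj₂ (evalTenNat A L M) (fun T hT => midAt_tensorRightD A _ T hT)
    (fun T hT => midAt_tensorRightD_comp_RHomR A L M T hT)
    ((CategoryTheory.shiftFunctor (Triangle (Dual.D A)) n).obj T) hTn ?_ (h₁ n) (h₃ n) ?_
  · haveI := h₃ (n + (-1))
    exact isIso_app_of_iso _ ((shiftFunctorAdd' (Dual.D A) n (-1) (n + (-1)) rfl).app T.obj₃)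
  · haveI := h₁ (n + 1)
    exact isIso_app_of_iso _ ((shiftFunctorAdd' (Dual.D A) n 1 (n + 1) rfl).app T.obj₁)

open DerivedCategory in
lemma pr_unitShift (m : ℤ) : Pr A L M (Q.obj (unitShift A m)) := by
  intro n
  have e : (Q.obj (unitShift A (m + n)) : Dual.D A) ≅ (Q.obj (unitShift A m))⟦n⟧ :=
    Q.mapIso ((shiftFunctorAdd' (DRing.Cx A) m n (m + n) rfl).app (𝟙_ (DRing.Cx A))) ≪≫
      (Q.commShiftIso n).app _
  haveI : IsIso ((evalTenNat A L M).app (Q.obj (unitShift A (m + n)))) := by
    show IsIso (DTen.evalTen _ L M)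
    exact isIso_evalTen_of_isEquivalence A _ L M
  exact isIso_app_of_iso _ e

open DerivedCategory in
lemma pr_single (a : ℤ) (N : ModuleCat.{u} A) [Module.Finite A N] [Module.Projective A N] :
    Pr A L M (toD (singleCx a N)) := by
  intro n
  let S : ModuleCat.{u} A ⥤ Dual.D A :=
    HomologicalComplex.single (ModuleCat.{u} A) (ComplexShape.up ℤ) a ⋙ Q ⋙
      shiftFunctor (Dual.D A) n
  refine isIso_app_of_finite_projective (Functor.whiskerLeft S (evalTenNat A L M)) ?_ N
  show IsIso ((evalTenNat A L M).app ((Q.obj (singleCx a (ModuleCat.of A A)))⟦n⟧))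
  have e : (Q.obj (unitShift A (-a)) : Dual.D A) ≅ Q.obj (singleCx a (ModuleCat.of A A)) :=
    Q.mapIso (((CochainComplex.singleFunctors (ModuleCat.{u} A)).shiftIso (-a) a 0
      (by omega)).app (ModuleCat.of A A))
  exact (Pr.of_iso e (pr_unitShift A L M (-a))) n

theorem isIso_evalTen_of_isPerfect (K : Dual.D A) (hK : DRing.IsPerfect A K) :
    IsIso (DTen.evalTen K L M) := by
  obtain ⟨E, a, b, hE, hproj, ⟨e⟩⟩ := hK
  have hPr : Pr A L M (toD E) :=
    bounded_induction (Pr A L M) (fun N => Module.Finite A N ∧ Module.Projective A N)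
      (fun {N N'} i h => by
        haveI := h.1
        haveI := h.2
        exact ⟨Module.Finite.equiv i.toLinearEquiv, Module.Projective.of_equiv i.toLinearEquiv⟩)
      (fun {N} h => by
        haveI : Subsingleton N := ModuleCat.subsingleton_of_isZero h
        exact ⟨inferInstance, inferInstance⟩)
      (fun K h => pr_of_isZero A L M h)
      (fun N a h => by
        haveI := h.1
        haveI := h.2
        exact pr_single A L M a N)
      (fun T hT h1 h3 => pr_ext A L M T hT h1 h3)
      E a b hE hproj
  haveI := (Pr.of_iso e hPr) 0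
  exact isIso_app_of_iso (evalTenNat A L M) ((shiftFunctorZero (Dual.D A) ℤ).app K)

end Groth.Agent.Lib.Helper46.DTenPerfect
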