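import Mathlib

/-!
# Flatness ascends from `A` to `B` along a weakly étale map `A → B`

If `A → B` is weakly étale (flat, with `B ⊗_A B → B` flat) and `Z` is a `B`-module which is flat over
`A`, then `Z` is flat over `B`.  Proof by the equational criterion of flatness, using that the kernel
of `B ⊗_A B → B` is a pure ideal.
-/

set_option autoImplicit false
universe u

open TensorProduct

namespace Groth.Agent.Lib.Helper46.WeaklyEtaleFlat

section
variable {A B : Type u} [CommRing A] [CommRing B] [Algebra A B]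
variable {Z : Type u} [AddCommGroup Z] [Module A Z] [Module B Z] [IsScalarTower A B Z]

/-- `phi x (c ⊗ d) = c ⊗ d • x` -/
noncomputable def phi (x : Z) : B ⊗[A] B →ₗ[A] B ⊗[A] Z :=
  LinearMap.lTensor B ((LinearMap.toSpanSingleton B Z x).restrictScalars A)

lemma phi_tmul (x : Z) (c d : B) : phi (A := A) x (c ⊗ₜ d) = c ⊗ₜ (d • x) := by
  simp [phi]

lemma phi_add (x y : Z) (t : B ⊗[A] B) : phi (A := A) (x + y) t = phi x t + phi y t := by
  induction t using TensorProduct.induction_on with
  | zero => simp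
  | tmul c d => simp only [phi_tmul, smul_add, tmul_add]
  | add t₁ t₂ h₁ h₂ => simp only [map_add, h₁, h₂]; abel

lemma phi_zero (t : B ⊗[A] B) : phi (A := A) (0 : Z) t = 0 := by
  induction t using TensorProduct.induction_on with
  | zero => simp
  | tmul c d => simp [phi_tmul]
  | add t₁ t₂ h₁ h₂ => simp only [map_add, h₁, h₂, add_zero]

lemma smul_phi (f : B) (x : Z) (t : B ⊗[A] B) :
    f • phi (A := A) x t = phi x ((f ⊗ₜ[A] (1 : B)) * t) := by
  induction t using TensorProduct.induction_on with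
  | zero => simp
  | tmul c d =>
    rw [phi_tmul, Algebra.TensorProduct.tmul_mul_tmul, phi_tmul, TensorProduct.smul_tmul',
      smul_eq_mul, one_mul]
  | add t₁ t₂ h₁ h₂ => simp only [map_add, smul_add, mul_add, h₁, h₂]

lemma phi_smul (f : B) (x : Z) (t : B ⊗[A] B) :
    phi (A := A) (f • x) t = phi x (((1 : B) ⊗ₜ[A] f) * t) := by
  induction t using TensorProduct.induction_on with
  | zero => simp
  | tmul c d =>
    rw [phi_tmul, Algebra.TensorProduct.tmul_mul_tmul, phi_tmul, one_mul, smul_smul, mul_comm]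
  | add t₁ t₂ h₁ h₂ => simp only [map_add, mul_add, h₁, h₂]

/-- multiplication `B ⊗ Z → Z` -/
noncomputable def muZ : B ⊗[A] Z →ₗ[B] Z :=
  LinearMap.liftBaseChange B (LinearMap.id : Z →ₗ[A] Z)

lemma muZ_phi (x : Z) (t : B ⊗[A] B) :
    muZ (A := A) (phi x t) = (Algebra.TensorProduct.lmul' A (S := B) t) • x := by
  induction t using TensorProduct.induction_on with
  | zero => simp
  | tmul c d =>
    rw [phi_tmul, muZ, LinearMap.liftBaseChange_tmul, Algebra.TensorProduct.lmul'_apply_tmul,
      LinearMap.id_apply, mul_smul]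
  | add t₁ t₂ h₁ h₂ => simp only [map_add, add_smul, h₁, h₂]

end

section
variable (A B : Type u) [CommRing A] [CommRing B] [Algebra A B]

lemma exists_unit_like [Algebra.WeaklyEtale A B] {ι : Type*} (s : Finset ι) (t : ι → B ⊗[A] B)
    (ht : ∀ i ∈ s, Algebra.TensorProduct.lmul' A (S := B) (t i) = 0) :
    ∃ e : B ⊗[A] B, Algebra.TensorProduct.lmul' A (S := B) e = 1 ∧ ∀ i ∈ s, e * t i = 0 := by
  classical
  letI alg : Algebra (B ⊗[A] B) B := (Algebra.TensorProduct.lmul' A (S := B)).toRingHom.toAlgebra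
  have hflat : Module.Flat (B ⊗[A] B) B := Algebra.WeaklyEtale.flat_lmul' A B
  have hsurj : Function.Surjective (Algebra.linearMap (B ⊗[A] B) B) := by
    intro b
    exact ⟨b ⊗ₜ 1, by
      show Algebra.TensorProduct.lmul' A (S := B) (b ⊗ₜ 1) = b
      rw [Algebra.TensorProduct.lmul'_apply_tmul, mul_one]⟩
  obtain ⟨J, hJ⟩ : ∃ J : Ideal (B ⊗[A] B), J = LinearMap.ker (Algebra.linearMap (B ⊗[A] B) B) :=
    ⟨_, rfl⟩
  have hmem : ∀ x : B ⊗[A] B, x ∈ J ↔ Algebra.TensorProduct.lmul' A (S := B) x = 0 := by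
    intro x; rw [hJ]; exact Iff.rfl
  have hpure : J.Pure := by
    rw [hJ]
    exact Module.Flat.of_linearEquiv
      ((Algebra.linearMap (B ⊗[A] B) B).quotKerEquivOfSurjective hsurj)
  induction s using Finset.induction_on with
  | empty => exact ⟨1, map_one _, by simp⟩
  | insert i s hi ih =>
    obtain ⟨e, he1, he⟩ := ih (fun j hj => ht j (Finset.mem_insert_of_mem hj))
    have hti : t i ∈ J := (hmem _).mpr (ht i (Finset.mem_insert_self i s))
    obtain ⟨y, hy, hxy⟩ := Ideal.exists_eq_mul_of_pure hti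
    refine ⟨e * (1 - y), ?_, ?_⟩
    · rw [map_mul, he1, map_sub, map_one, (hmem y).mp hy, sub_zero, one_mul]
    · intro j hj
      rcases Finset.mem_insert.mp hj with rfl | hj
      · have : (1 - y) * t j = 0 := by
          rw [sub_mul, one_mul, mul_comm y, ← hxy, sub_self]
        rw [mul_assoc, this, mul_zero]
      · rw [mul_right_comm, he j hj, zero_mul]

/-- An `A`-flat `B`-module is `B`-flat when `A → B` is weakly étale. -/
theorem flat_of_flat_of_weaklyEtale [Algebra.WeaklyEtale A B]
    (Z : Type u) [AddCommGroup Z] [Module A Z] [Module B Z] [IsScalarTower A B Z]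
    [Module.Flat A Z] : Module.Flat B Z := by
  rw [Module.Flat.iff_forall_isTrivialRelation]
  intro l f x hfx
  obtain ⟨t, htdef⟩ : ∃ t : Fin l → B ⊗[A] B, ∀ i, t i = f i ⊗ₜ[A] (1 : B) - (1 : B) ⊗ₜ[A] f i :=
    ⟨_, fun _ => rfl⟩
  have ht : ∀ i ∈ (Finset.univ : Finset (Fin l)),
      Algebra.TensorProduct.lmul' A (S := B) (t i) = 0 := by
    intro i _
    rw [htdef, map_sub, Algebra.TensorProduct.lmul'_apply_tmul,
      Algebra.TensorProduct.lmul'_apply_tmul, mul_one, one_mul, sub_self]
  obtain ⟨e, he1, he⟩ := exists_unit_like A B Finset.univ t ht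
  have hy : ∑ i, f i • phi (A := A) (x i) e = 0 := by
    have h1 : ∀ i, f i • phi (A := A) (x i) e =
        phi (x i) (t i * e) + phi (f i • x i) e := by
      intro i
      rw [smul_phi, phi_smul, ← map_add, ← add_mul, htdef, sub_add_cancel]
    simp_rw [h1]
    rw [Finset.sum_add_distrib]
    have h2 : ∀ i, phi (A := A) (x i) (t i * e) = 0 := by
      intro i; rw [mul_comm, he i (Finset.mem_univ i), map_zero]
    simp_rw [h2]
    rw [Finset.sum_const_zero, zero_add]
    have h3 : ∀ s : Finset (Fin l),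
        ∑ i ∈ s, phi (A := A) (f i • x i) e = phi (∑ i ∈ s, f i • x i) e := by
      classical
      intro s
      induction s using Finset.induction_on with
      | empty => rw [Finset.sum_empty, Finset.sum_empty, phi_zero]
      | insert i s hi ih => rw [Finset.sum_insert hi, Finset.sum_insert hi, phi_add, ih]
    rw [h3, hfx, phi_zero]
  obtain ⟨k, a, z, hz, ha⟩ := Module.Flat.isTrivialRelation_of_sum_smul_eq_zero hy
  refine ⟨k, a, fun j => muZ (A := A) (z j), fun i => ?_, ha⟩
  have := congrArg (muZ (A := A)) (hz i)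
  rw [muZ_phi, he1, one_smul, map_sum] at this
  rw [this]
  exact Finset.sum_congr rfl fun j _ => map_smul _ _ _

end

end Groth.Agent.Lib.Helper46.WeaklyEtaleFlat
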