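import Groth.Agent.Lib.Helper46.DTenAssoc
import Groth.Agent.Lib.Helper94.KFlatCycles

/-!
# Termwise base change preserves quasi-isomorphisms between K-flat complexes (helper46)

Namespace `Groth.Agent.Lib.Helper46.DTenKFlatBase`.

* `exact_map_tensorLeft_of_kflat_acyclic`: an acyclic K-flat complex stays exact after `M ⊗ -`.
* `acyclic_extCx_of_kflat_acyclic`, `quasiIso_extCx_map`.
* `isIso_baseCmp_app_of_isKFlat` (S13894).
-/

set_option autoImplicit false
universe u
open CategoryTheory CategoryTheory.Limits MonoidalCategory HomologicalComplex CochainComplex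
attribute [local instance] HasDerivedCategory.standard

namespace Groth.Agent.Lib.Helper46.DTenKFlatBase

open Groth.Agent.Lib.Helper46.DTenKProj Groth.Agent.Lib.Helper46.DTenAssoc
  Groth.Agent.Lib.Helper94.KFlatBi Groth.Agent.Lib.Helper94.KFlatAbs
  Groth.Agent.Lib.Helper94.KFlatSymm Groth.Agent.Lib.Helper94.KFlatSymmInst
  Groth.Agent.Lib.Helper94.KFlatRing Groth.Agent.Lib.Helper94.KFlatCycles
  Groth.Agent.Lib.Helper94.KFlatTrunc

variable {R A : Type u} [CommRing R] [CommRing A] (φ : R →+* A)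

lemma exact_map_tensorLeft_of_kflat_acyclic (K : DRing.Cx R)
    (hK : IsKFlat₂ (curriedTensor (ModuleCat.{u} R)) K) (hac : K.Acyclic) (M : ModuleCat.{u} R)
    (p : ℤ) : ((K.sc' (p - 1) p (p + 1)).map (tensorLeft M)).Exact := by
  let L : DRing.Cx R := (HomologicalComplex.single (ModuleCat.{u} R) (ComplexShape.up ℤ) 0).obj M
  have h1 : (mapBifunctor L K (curriedTensor (ModuleCat.{u} R)) (ComplexShape.up ℤ)).Acyclic :=
    acyclic_of_isKFlat₂_of_acyclic (curriedTensor (ModuleCat.{u} R)) (hres_ring R) K hK hac L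
  have h2 : (mapBifunctor K L (curriedTensor (ModuleCat.{u} R)).flip (ComplexShape.up ℤ)).Acyclic :=
    acyclic_of_iso
      (mapBifunctorFlipIso L K (curriedTensor (ModuleCat.{u} R)) (ComplexShape.up ℤ)).symm h1
  have h3 := exact_map_of_acyclic_concentrated (curriedTensor (ModuleCat.{u} R)).flip K L 0
    (fun q hq => isZero_single_obj_X _ _ _ _ hq) h2 p
  let e : L.X 0 ≅ M := singleObjXSelf (ComplexShape.up ℤ) 0 M
  exact (ShortComplex.exact_iff_of_iso
    ((K.sc' (p - 1) p (p + 1)).mapNatIso ((curriedTensor (ModuleCat.{u} R)).mapIso e))).1 h3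

lemma acyclic_extCx_of_kflat_acyclic (K : DRing.Cx R) (hK : DRing.IsKFlat R K)
    (hac : K.Acyclic) : ((DTen.extCx φ).obj K).Acyclic := by
  intro p
  rw [HomologicalComplex.exactAt_iff' _ (p - 1) p (p + 1) (by simp) (by simp),
    ShortComplex.moduleCat_exact_iff]
  have h := exact_map_tensorLeft_of_kflat_acyclic K ((kf_iff R K).1 hK) hac
    ((ModuleCat.restrictScalars φ).obj (ModuleCat.of A A)) p
  rw [ShortComplex.moduleCat_exact_iff] at h
  exact h

theorem quasiIso_extCx_map {X' X : DRing.Cx R} (q : X' ⟶ X) [QuasiIso q]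
    (hX' : DRing.IsKFlat R X') (hX : DRing.IsKFlat R X) : QuasiIso ((DTen.extCx φ).map q) := by
  have hcone : DRing.IsKFlat R (mappingCone q) :=
    (kf_iff R _).2 (isKFlat₂_cone _ q ((kf_iff R X').1 hX') ((kf_iff R X).1 hX))
  have hac : (mappingCone q).Acyclic := (quasiIso_iff_acyclic_mappingCone q).1 inferInstance
  have h1 := acyclic_extCx_of_kflat_acyclic φ _ hcone hac
  rw [quasiIso_iff_acyclic_mappingCone]
  exact acyclic_of_iso
    (mappingCone.mapHomologicalComplexIso q (ModuleCat.extendScalars.{u, u, u} φ)) h1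

/-- **S13894** -/
theorem isIso_baseCmp_app_of_isKFlat [DTen.HasLBase φ] (K : DRing.Cx R)
    (hK : DRing.IsKFlat R K) : IsIso ((DTen.baseCmp φ).app K) := by
  obtain ⟨P, p, hp, hP, -⟩ := Groth.Agent.Lib.Helper36.KP.exists_resolution K
  haveI := hP
  haveI := hp
  have hPf : DRing.IsKFlat R P := (kf_iff R P).2 (isKFlat₂_of_isKProjective R P)
  have h1 : IsIso ((DTen.baseCmp φ).app P) := isIso_baseCmp_of_isKProjective φ P
  have h2 : QuasiIso ((DTen.extCx φ).map p) := quasiIso_extCx_map φ p hPf hK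
  have h3 : IsIso (DerivedCategory.Q.map ((DTen.extCx φ).map p) :
      (DerivedCategory.Q.obj _ : Dual.D A) ⟶ _) :=
    (DerivedCategory.isIso_Q_map_iff_quasiIso (ModuleCat.{u} A) _).2 h2
  have h4 : IsIso (DerivedCategory.Q.map p : (DerivedCategory.Q.obj P : Dual.D R) ⟶ _) :=
    (DerivedCategory.isIso_Q_map_iff_quasiIso (ModuleCat.{u} R) p).2 hp
  have hn := (DTen.baseCmp φ).naturality p
  have h5 : IsIso ((DerivedCategory.Q ⋙ DTen.LBase φ).map p) := by
    show IsIso ((DTen.LBase φ).map (DerivedCategory.Q.map p))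
    infer_instance
  have h7 : IsIso ((DTen.extCx φ ⋙ DerivedCategory.Q).map p) := h3
  have h6 : (DTen.baseCmp φ).app K = inv ((DerivedCategory.Q ⋙ DTen.LBase φ).map p) ≫
      (DTen.baseCmp φ).app P ≫ (DTen.extCx φ ⋙ DerivedCategory.Q).map p := by
    rw [← hn, IsIso.inv_hom_id_assoc]
  rw [h6]
  infer_instance

end Groth.Agent.Lib.Helper46.DTenKFlatBase
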