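import Groth.Prelude.Def_DTen5
import Groth.Agent.Lib.Helper46.DTenKProj

/-!
# The chain-level projection formula `P ⊗_R Y|_R ≅ ((P ⊗_R A) ⊗_A Y)|_R` (helper46)

Namespace `Groth.Agent.Lib.Helper46.DTenRelProj`.
-/

set_option autoImplicit false
set_option backward.isDefEq.respectTransparency false
universe u
open CategoryTheory CategoryTheory.Limits MonoidalCategory
attribute [local instance] HasDerivedCategory.standard

namespace Groth.Agent.Lib.Helper46.DTenRelProj

open Groth.Agent.Lib.Helper46.DTenKProj TensorProduct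

variable {R A : Type u} [CommRing R] [CommRing A] (φ : R →+* A)

section Module

/-- extension of scalars on modules -/
noncomputable abbrev extM : ModuleCat.{u} R ⥤ ModuleCat.{u} A := ModuleCat.extendScalars.{u, u, u} φ

/-- the module-level projection formula map `X ⊗_R N|_R ⟶ ((X ⊗_R A) ⊗_A N)|_R` -/
noncomputable def θ (X : ModuleCat.{u} R) (N : ModuleCat.{u} A) :
    X ⊗ (DTen.resM φ).obj N ⟶ (DTen.resM φ).obj ((extM φ).obj X ⊗ N) :=
  ((adj0 φ).unit.app X ▷ (DTen.resM φ).obj N) ≫ DTen.resTen₀app φ ((extM φ).obj X) N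

/-- the pure tensor `a ⊗ x` of `X ⊗_R A` -/
noncomputable def pt (X : ModuleCat.{u} R) (a : A) (x : X) : ((extM φ).obj X : ModuleCat.{u} A) :=
  (show (ModuleCat.restrictScalars φ).obj (ModuleCat.of A A) from a) ⊗ₜ[R] x

lemma θ_tmul (X : ModuleCat.{u} R) (N : ModuleCat.{u} A) (x : X) (n : N) :
    (θ φ X N).hom (x ⊗ₜ[R] (show (DTen.resM φ).obj N from n)) =
      (show (DTen.resM φ).obj ((extM φ).obj X ⊗ N) from
        (pt φ X 1 x ⊗ₜ[A] n : ((extM φ).obj X ⊗ N : ModuleCat.{u} A))) := rfl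

/-- for fixed `n`, the `R`-linear map `A ⊗_R X → X ⊗_R N|_R`, `a ⊗ x ↦ x ⊗ a • n` -/
noncomputable def gmap (X : ModuleCat.{u} R) (N : ModuleCat.{u} A) (n : N) :
    ((extM φ).obj X : ModuleCat.{u} A) →+ (X ⊗ (DTen.resM φ).obj N : ModuleCat.{u} R) :=
  (TensorProduct.lift
    (LinearMap.mk₂ R
      (fun (a : (ModuleCat.restrictScalars φ).obj (ModuleCat.of A A)) (x : X) =>
        (x ⊗ₜ[R] (show (DTen.resM φ).obj N from ((show A from a) • n)) :
          (X ⊗ (DTen.resM φ).obj N : ModuleCat.{u} R)))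
      (fun a a' x => by
        change x ⊗ₜ[R] (show (DTen.resM φ).obj N from (((show A from a) + (show A from a')) • n)) = _
        rw [add_smul]; exact TensorProduct.tmul_add _ _ _)
      (fun r a x => by
        change x ⊗ₜ[R] (show (DTen.resM φ).obj N from ((φ r * (show A from a)) • n)) = _
        rw [mul_smul, ← TensorProduct.tmul_smul]; rfl)
      (fun a x x' => TensorProduct.add_tmul _ _ _)
      (fun r a x => (TensorProduct.smul_tmul' _ _ _).symm))).toAddMonoidHom

lemma gmap_pt (X : ModuleCat.{u} R) (N : ModuleCat.{u} A) (n : N) (a : A) (x : X) :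
    gmap φ X N n (pt φ X a x) = x ⊗ₜ[R] (show (DTen.resM φ).obj N from (a • n)) := rfl

lemma pt_induction (X : ModuleCat.{u} R) {motive : ((extM φ).obj X : ModuleCat.{u} A) → Prop}
    (h0 : motive 0) (hpt : ∀ a x, motive (pt φ X a x))
    (hadd : ∀ s t, motive s → motive t → motive (s + t)) (t) : motive t :=
  TensorProduct.induction_on t h0 (fun a x => hpt a x) hadd

lemma smul_pt (X : ModuleCat.{u} R) (a' a : A) (x : X) :
    a' • pt φ X a x = pt φ X (a' * a) x := rfl

lemma gmap_add (X : ModuleCat.{u} R) (N : ModuleCat.{u} A) (n n' : N) (t) :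
    gmap φ X N (n + n') t = gmap φ X N n t + gmap φ X N n' t := by
  induction t using pt_induction φ X with
  | h0 => simp
  | hpt a x =>
    rw [gmap_pt, gmap_pt, gmap_pt, smul_add]
    exact TensorProduct.tmul_add _ _ _
  | hadd s t hs ht => rw [map_add, map_add, map_add, hs, ht]; abel

lemma gmap_zero (X : ModuleCat.{u} R) (N : ModuleCat.{u} A) (t) :
    gmap φ X N (0 : N) t = 0 := by
  induction t using pt_induction φ X with
  | h0 => simp
  | hpt a x =>
    rw [gmap_pt, smul_zero]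
    exact TensorProduct.tmul_zero _ _
  | hadd s t hs ht => rw [map_add, hs, ht, add_zero]

lemma gmap_smul (X : ModuleCat.{u} R) (N : ModuleCat.{u} A) (n : N) (a' : A) (t) :
    gmap φ X N n (a' • t) = gmap φ X N (a' • n) t := by
  induction t using pt_induction φ X with
  | h0 => simp
  | hpt a x =>
    rw [smul_pt, gmap_pt, gmap_pt, mul_comm, mul_smul]
  | hadd s t hs ht => rw [smul_add, map_add, map_add, hs, ht]

/-- the inverse of `θ` as an additive map -/
noncomputable def ψ (X : ModuleCat.{u} R) (N : ModuleCat.{u} A) :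
    ((extM φ).obj X ⊗ N : ModuleCat.{u} A) →+ (X ⊗ (DTen.resM φ).obj N : ModuleCat.{u} R) :=
  TensorProduct.liftAddHom
    { toFun := fun t =>
        { toFun := fun n => gmap φ X N n t
          map_zero' := gmap_zero φ X N t
          map_add' := fun n n' => gmap_add φ X N n n' t }
      map_zero' := by ext n; exact map_zero (gmap φ X N n)
      map_add' := fun s t => by ext n; exact map_add (gmap φ X N n) s t }
    (fun a' t n => gmap_smul φ X N n a' t)

lemma ψ_tmul (X : ModuleCat.{u} R) (N : ModuleCat.{u} A) (t) (n : N) :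
    ψ φ X N (t ⊗ₜ[A] n) = gmap φ X N n t := rfl

lemma ψ_θ (X : ModuleCat.{u} R) (N : ModuleCat.{u} A)
    (z : (X ⊗ (DTen.resM φ).obj N : ModuleCat.{u} R)) :
    ψ φ X N ((θ φ X N).hom z) = z := by
  induction z using TensorProduct.induction_on with
  | zero => rw [map_zero]; exact map_zero (ψ φ X N)
  | tmul x n =>
    erw [θ_tmul φ X N x n]
    erw [ψ_tmul, gmap_pt, one_smul]
  | add z w hz hw =>
    rw [map_add]
    erw [map_add (ψ φ X N), hz, hw]

lemma θ_surjective_aux (X : ModuleCat.{u} R) (N : ModuleCat.{u} A)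
    (w : ((extM φ).obj X ⊗ N : ModuleCat.{u} A)) :
    ∃ z, (θ φ X N).hom z = (show (DTen.resM φ).obj ((extM φ).obj X ⊗ N) from w) := by
  induction w using TensorProduct.induction_on with
  | zero => exact ⟨0, map_zero _⟩
  | tmul t n =>
    induction t using pt_induction φ X with
    | h0 => exact ⟨0, by rw [map_zero, TensorProduct.zero_tmul]⟩
    | hpt a x =>
      refine ⟨x ⊗ₜ[R] (show (DTen.resM φ).obj N from a • n), ?_⟩
      erw [θ_tmul φ X N x (a • n)]
      rw [← TensorProduct.smul_tmul, smul_pt, mul_one]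
    | hadd s t hs ht =>
      obtain ⟨z, hz⟩ := hs
      obtain ⟨w, hw⟩ := ht
      exact ⟨z + w, by rw [map_add, hz, hw, TensorProduct.add_tmul]⟩
  | add z w hz hw =>
    obtain ⟨z', hz⟩ := hz
    obtain ⟨w', hw⟩ := hw
    exact ⟨z' + w', by rw [map_add, hz, hw]⟩

instance isIso_θ (X : ModuleCat.{u} R) (N : ModuleCat.{u} A) : IsIso (θ φ X N) := by
  rw [ConcreteCategory.isIso_iff_bijective]
  refine ⟨fun z w h => ?_, fun w => θ_surjective_aux φ X N w⟩
  have := congrArg (ψ φ X N) h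
  erw [ψ_θ, ψ_θ] at this
  exact this

@[reassoc]
lemma θ_naturality_left {X X' : ModuleCat.{u} R} (f : X ⟶ X') (N : ModuleCat.{u} A) :
    (f ▷ (DTen.resM φ).obj N) ≫ θ φ X' N =
      θ φ X N ≫ (DTen.resM φ).map ((extM φ).map f ▷ N) :=
  ModuleCat.hom_ext (TensorProduct.ext' (fun _ _ => rfl))

lemma leftUnitor_inv_θ (N : ModuleCat.{u} A) :
    (λ_ ((DTen.resM φ).obj N)).inv ≫ θ φ (𝟙_ (ModuleCat.{u} R)) N =
      (DTen.resM φ).map ((λ_ N).inv ≫ (Functor.LaxMonoidal.ε (extM φ) ▷ N)) :=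
  ModuleCat.hom_ext (LinearMap.ext (fun _ => rfl))

end Module

section Chain

/-- the chain-level projection formula map `P ⊗_R Y|_R ⟶ ((P ⊗_R A) ⊗_A Y)|_R` -/
noncomputable def πhom (P : DRing.Cx R) (Y : DRing.Cx A) :
    P ⊗ (DTen.resCx φ).obj Y ⟶ (DTen.resCx φ).obj ((DTen.extCx φ).obj P ⊗ Y) :=
  ((DTen.unitCx φ).app P ▷ (DTen.resCx φ).obj Y) ≫ DTen.resTenCx φ ((DTen.extCx φ).obj P) Y

@[reassoc]
lemma ι_πhom (P : DRing.Cx R) (Y : DRing.Cx A) (p q n : ℤ) (h : p + q = n) :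
    HomologicalComplex.ιTensorObj P ((DTen.resCx φ).obj Y) p q n h ≫ (πhom φ P Y).f n =
      θ φ (P.X p) (Y.X q) ≫
        (DTen.resM φ).map (HomologicalComplex.ιTensorObj ((DTen.extCx φ).obj P) Y p q n h) := by
  have h1 := DTen.ι_resTenCx φ ((DTen.extCx φ).obj P) Y p q n h
  dsimp only [πhom]
  rw [HomologicalComplex.comp_f]
  change HomologicalComplex.ιMapBifunctor _ _ _ _ p q n h ≫
    (HomologicalComplex.mapBifunctorMap ((DTen.unitCx φ).app P) (𝟙 ((DTen.resCx φ).obj Y)) _ _).f n ≫ _ = _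
  rw [HomologicalComplex.ι_mapBifunctorMap_assoc]
  calc _ = ((adj0 φ).unit.app (P.X p) ▷ (DTen.resM φ).obj (Y.X q)) ≫
        (HomologicalComplex.ιTensorObj ((DTen.resCx φ).obj ((DTen.extCx φ).obj P))
          ((DTen.resCx φ).obj Y) p q n h ≫
        (DTen.resTenCx φ ((DTen.extCx φ).obj P) Y).f n) := by
          rw [HomologicalComplex.id_f, CategoryTheory.Functor.map_id, Category.id_comp]; rfl
    _ = _ := by rw [h1]; rfl

/-- the degreewise inverse of `πhom` -/
noncomputable def πinvX (P : DRing.Cx R) (Y : DRing.Cx A) (n : ℤ) :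
    ((DTen.resCx φ).obj ((DTen.extCx φ).obj P ⊗ Y)).X n ⟶ (P ⊗ (DTen.resCx φ).obj Y).X n :=
  (TotMap.mapTotalXIso (DTen.resM φ) (DTen.tenBicx ((DTen.extCx φ).obj P) Y) (ComplexShape.up ℤ) n).hom ≫
    HomologicalComplex₂.totalDesc _ (fun p q h =>
      inv (θ φ (P.X p) (Y.X q)) ≫ HomologicalComplex.ιTensorObj P ((DTen.resCx φ).obj Y) p q n h)

lemma πhom_πinvX (P : DRing.Cx R) (Y : DRing.Cx A) (n : ℤ) :
    (πhom φ P Y).f n ≫ πinvX φ P Y n = 𝟙 _ := by
  refine HomologicalComplex.mapBifunctor.hom_ext (fun p q h => ?_)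
  erw [Category.comp_id]
  erw [ι_πhom_assoc φ P Y p q n h]
  dsimp only [πinvX]
  erw [TotMap.map_ιTotal_mapTotalXIso_hom_assoc (DTen.resM φ) (DTen.tenBicx ((DTen.extCx φ).obj P) Y)
    (ComplexShape.up ℤ) p q n h]
  erw [HomologicalComplex₂.ι_totalDesc]
  rw [IsIso.hom_inv_id_assoc]

lemma πinvX_πhom (P : DRing.Cx R) (Y : DRing.Cx A) (n : ℤ) :
    πinvX φ P Y n ≫ (πhom φ P Y).f n = 𝟙 _ := by
  dsimp only [πinvX]
  rw [Category.assoc, ← cancel_epi (TotMap.mapTotalXIso (DTen.resM φ)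
    (DTen.tenBicx ((DTen.extCx φ).obj P) Y) (ComplexShape.up ℤ) n).inv, Iso.inv_hom_id_assoc]
  erw [Category.comp_id]
  refine TotMap.mapTotalXIso_inv_unique _ _ _ _ _ (fun p q h => ?_)
  erw [HomologicalComplex₂.ι_totalDesc_assoc]
  rw [Category.assoc]
  erw [ι_πhom φ P Y p q n h]
  rw [IsIso.inv_hom_id_assoc]

instance isIso_πhom_f (P : DRing.Cx R) (Y : DRing.Cx A) (n : ℤ) : IsIso ((πhom φ P Y).f n) :=
  ⟨⟨πinvX φ P Y n, πhom_πinvX φ P Y n, πinvX_πhom φ P Y n⟩⟩

instance isIso_πhom (P : DRing.Cx R) (Y : DRing.Cx A) : IsIso (πhom φ P Y) :=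
  HomologicalComplex.Hom.isIso_of_components _

@[reassoc]
lemma πhom_naturality {P P' : DRing.Cx R} {Y Y' : DRing.Cx A} (f : P ⟶ P') (g : Y ⟶ Y') :
    (f ⊗ₘ (DTen.resCx φ).map g) ≫ πhom φ P' Y' =
      πhom φ P Y ≫ (DTen.resCx φ).map ((DTen.extCx φ).map f ⊗ₘ g) := by
  have h1 := (DTen.unitCx φ).naturality f
  have h2 := DTen.resTenCx_naturality φ ((DTen.extCx φ).map f) g
  dsimp only [Functor.id_obj, Functor.id_map, Functor.comp_obj, Functor.comp_map] at h1
  dsimp only [πhom]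
  rw [Category.assoc, ← h2, ← MonoidalCategory.tensorHom_id, ← MonoidalCategory.tensorHom_id,
    MonoidalCategory.tensorHom_comp_tensorHom_assoc, MonoidalCategory.tensorHom_comp_tensorHom_assoc,
    Category.comp_id, Category.id_comp, h1]

end Chain

end Groth.Agent.Lib.Helper46.DTenRelProj
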