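import Groth.Agent.Lib.Helper94.KFlatSymmInst
import Groth.Agent.Lib.Helper94.KFlatBdd

/-!
# Bounded above termwise flat complexes on the left (helper46, on top of helper94's K-flat library)

`L` bounded above and termwise flat: `L ⊗ -` preserves acyclic complexes and quasi-isomorphisms.
-/

set_option autoImplicit false

universe u

open CategoryTheory CategoryTheory.Limits HomologicalComplex MonoidalCategory CochainComplex

namespace Groth.Agent.Lib.Helper46.KFlatLeft

open Groth.Agent.Lib.Helper94.KFlatBi Groth.Agent.Lib.Helper94.KFlatAbs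
  Groth.Agent.Lib.Helper94.KFlatTrunc Groth.Agent.Lib.Helper94.KFlatSymm
  Groth.Agent.Lib.Helper94.KFlatSymmInst Groth.Agent.Lib.Helper94.KFlatBdd

variable (R : Type u) [CommRing R]

lemma isFlatObj_flip_of_flat (M : ModuleCat.{u} R) [Module.Flat R M] :
    IsFlatObj (curriedTensor (ModuleCat.{u} R)).flip M := by
  intro S hS
  exact Module.Flat.lTensor_shortComplex_exact M S hS

/-- a bounded above termwise flat complex is K-flat in the first variable -/
theorem isKFlat₁_of_bounded_above (L : DRing.Cx R) (b : ℤ) (hb : DRing.VanishesAbove L b)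
    (hL : DRing.TermwiseFlat L) : IsKFlat₁ (curriedTensor (ModuleCat.{u} R)) L := by
  have : ∀ n, Module.Flat R (L.X n) := hL
  exact isKFlat₁_of_isKFlat₂_flip _ L
    (isKFlat₂_of_bounded_above (curriedTensor (ModuleCat.{u} R)).flip L b hb
      (fun n => isFlatObj_flip_of_flat R (L.X n)))

/-- tensoring a quasi-isomorphism on the left with a complex K-flat in the first variable -/
theorem quasiIso_mapBifunctorMap_of_isKFlat₁ (L : DRing.Cx R)
    (hL : IsKFlat₁ (curriedTensor (ModuleCat.{u} R)) L) {M Q : DRing.Cx R} (η : M ⟶ Q)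
    [hη : QuasiIso η] :
    QuasiIso (mapBifunctorMap (𝟙 L) η (curriedTensor (ModuleCat.{u} R)) (ComplexShape.up ℤ)) :=
  quasiIso_map_of_acyclic_cone (Ψ := Ψ₂ (curriedTensor (ModuleCat.{u} R)) L) η
    (preservesSplit_Ψ₂ _ L) (preservesHomotopy_Ψ₂ _ L)
    (hL _ ((quasiIso_iff_acyclic_mappingCone η).1 hη))

end Groth.Agent.Lib.Helper46.KFlatLeft
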