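import Groth.Agent.Lib.Helper46.TorAcyclic
import Groth.Agent.Lib.Helper46.DTenKFlatBase
import Groth.Agent.Lib.Helper46.DTenRelProj
import Groth.Agent.Lib.Helper46.KFlatLeft

/-!
# Termwise base change along `ρ : R → B` of restrictions from a Tor-independent `R`-algebra `A`
(helper46)

Namespace `Groth.Agent.Lib.Helper46.BaseCmpTorIndep`.

`φ : R → A`, `ρ : R → B` ring maps with `Tor_p^R(A, B) = 0` for `p ≥ 1`; `P` a K-flat complex of
`A`-modules.  Then derived base change along `ρ` of `P|_R` is computed termwise: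
* `quasiIso_ext_map`: for a K-projective resolution `q : Q' ⟶ P|_R`, `q ⊗_R B` is a quasi-isomorphism;
* `isIso_baseCmp_res`: `DTen.baseCmp ρ` is an isomorphism at `P|_R`.
-/

set_option autoImplicit false
universe u
open CategoryTheory CategoryTheory.Limits MonoidalCategory HomologicalComplex CochainComplex
attribute [local instance] HasDerivedCategory.standard

namespace Groth.Agent.Lib.Helper46.BaseCmpTorIndep

open Groth.Agent.Lib.Helper46.DTenKProj Groth.Agent.Lib.Helper46.DTenAssoc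
  Groth.Agent.Lib.Helper46.DTenRelProj Groth.Agent.Lib.Helper46.KFlatLeft
  Groth.Agent.Lib.Helper46.DTenKFlatBase
  Groth.Agent.Lib.Helper94.KFlatBi Groth.Agent.Lib.Helper94.KFlatAbs
  Groth.Agent.Lib.Helper94.KFlatSymm Groth.Agent.Lib.Helper94.KFlatSymmInst
  Groth.Agent.Lib.Helper94.KFlatRing

variable {R A B : Type u} [CommRing R] [CommRing A] [CommRing B] (φ : R →+* A) (ρ : R →+* B)

/-- the `R`-complex `B` (in degree `0`) -/
noncomputable abbrev U : DRing.Cx R := (DTen.resCx ρ).obj (𝟙_ (DRing.Cx B))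

/-- `X ⊗_R B ≅ (X ⊗_R B)|_R` as complexes of `R`-modules -/
noncomputable def tenU (X : DRing.Cx R) :
    X ⊗ U ρ ≅ (DTen.resCx ρ).obj ((DTen.extCx ρ).obj X) :=
  asIso (πhom ρ X (𝟙_ (DRing.Cx B))) ≪≫ (DTen.resCx ρ).mapIso (ρ_ _)

lemma tenU_naturality {X X' : DRing.Cx R} (f : X ⟶ X') :
    (f ▷ U ρ) ≫ (tenU ρ X').hom =
      (tenU ρ X).hom ≫ (DTen.resCx ρ).map ((DTen.extCx ρ).map f) := by
  have h1 := πhom_naturality ρ f (𝟙 (𝟙_ (DRing.Cx B)))
  rw [CategoryTheory.Functor.map_id, MonoidalCategory.tensorHom_id,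
    MonoidalCategory.tensorHom_id] at h1
  dsimp only [tenU, Iso.trans_hom, asIso_hom, Functor.mapIso_hom]
  rw [reassoc_of% h1, Category.assoc, ← Functor.map_comp, ← Functor.map_comp,
    MonoidalCategory.rightUnitor_naturality]

lemma isZero_U_X (n : ℤ) (hn : n ≠ 0) : IsZero ((U ρ).X n) :=
  (ModuleCat.restrictScalars ρ).map_isZero (isZero_single_obj_X _ _ _ _ hn)


section Main

/-- the `R`-module `A` -/
noncomputable abbrev MA : ModuleCat.{u} R := (ModuleCat.restrictScalars φ).obj (ModuleCat.of A A)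

/-- a bounded above projective resolution of `B` over `R` stays a resolution after `A ⊗_R -` -/
theorem quasiIso_ext_map_resolution
    (hT : ∀ (n : ℤ) (p : ℕ), IsZero (((Tor (ModuleCat.{u} R) (p + 1)).obj (MA φ)).obj ((U ρ).X n)))
    {F : DRing.Cx R} (π : F ⟶ U ρ) [QuasiIso π]
    (hFp : ∀ n, Module.Projective R (F.X n)) (hFb : ∀ n, 0 < n → IsZero (F.X n)) :
    QuasiIso ((DTen.extCx φ).map π) := by
  rw [quasiIso_iff_acyclic_mappingCone]
  refine acyclic_of_iso
    (mappingCone.mapHomologicalComplexIso π (ModuleCat.extendScalars.{u, u, u} φ)) ?_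
  have hac : (mappingCone π).Acyclic := (quasiIso_iff_acyclic_mappingCone π).1 inferInstance
  have hb : ∀ n, 0 < n → IsZero ((mappingCone π).X n) := by
    intro n hn
    rw [IsZero.iff_id_eq_zero, ← mappingCone.id_X π n (n + 1) rfl]
    have h1 : IsZero (F.X (n + 1)) := hFb _ (by omega)
    have h2 : IsZero ((U ρ).X n) := isZero_U_X ρ n (by omega)
    rw [h1.eq_of_tgt ((mappingCone.fst π).1.v n (n + 1) rfl) 0,
      h2.eq_of_tgt ((mappingCone.snd π).v n n (add_zero n)) 0, zero_comp, zero_comp, add_zero]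
  have hTC : ∀ (n : ℤ) (p : ℕ),
      IsZero (((Tor (ModuleCat.{u} R) (p + 1)).obj (MA φ)).obj ((mappingCone π).X n)) := by
    intro n p
    have hS := (mappingCone.triangleRotateShortComplexSplitting π n).shortExact
    have h1 : IsZero (((Tor (ModuleCat.{u} R) (p + 1)).obj (MA φ)).obj
        ((mappingCone.triangleRotateShortComplex π).map (eval _ _ n)).X₁) := hT n p
    have h3 : IsZero (((Tor (ModuleCat.{u} R) (p + 1)).obj (MA φ)).obj
        ((mappingCone.triangleRotateShortComplex π).map (eval _ _ n)).X₃) := by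
      haveI : Module.Projective R (F.X (n + 1)) := hFp _
      haveI : Projective (F.X (n + 1)) :=
        (IsProjective.iff_projective (R := R) (P := F.X (n + 1))).1 inferInstance
      exact isZero_Tor_succ_of_projective _ (MA φ) (F.X (n + 1)) p
    exact (TorLES2.exact₂₂ (MA φ) _ hS (p + 1)).isZero_X₂ (h1.eq_of_src _ _) (h3.eq_of_tgt _ _)
  intro p
  rw [HomologicalComplex.exactAt_iff' _ (p - 1) p (p + 1) (by simp) (by simp),
    ShortComplex.moduleCat_exact_iff]
  have h := TorAcyclic.exact_map_tensorLeft (MA φ) (mappingCone π) 0 hb hac hTC (p - 1) p (p + 1)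
    (by omega) rfl
  rw [ShortComplex.moduleCat_exact_iff] at h
  exact h


/-- for a K-projective resolution `q : Q' ⟶ P|_R` of the restriction of a K-flat complex of
`A`-modules, `q ⊗_R B` is a quasi-isomorphism (`A`, `B` Tor-independent over `R`) -/
theorem quasiIso_ext_map
    (hT : ∀ (n : ℤ) (p : ℕ), IsZero (((Tor (ModuleCat.{u} R) (p + 1)).obj (MA φ)).obj ((U ρ).X n)))
    (P : DRing.Cx A) (hP : KF A P) {Q' : DRing.Cx R} [Q'.IsKProjective]
    (q : Q' ⟶ (DTen.resCx φ).obj P) [QuasiIso q] : QuasiIso ((DTen.extCx ρ).map q) := by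
  have hU : ∀ n, 0 < n → IsZero ((U ρ).X n) := fun n hn => isZero_U_X ρ n (by omega)
  obtain ⟨F, π, hπ, hF, hFp, hFb⟩ :=
    Groth.Agent.Lib.Helper36.KP.exists_resolution_above (U ρ) 0 hU
  haveI := hπ
  haveI := hF
  haveI h1 : QuasiIso (Q' ◁ π) :=
    quasiIso_mapBifunctorMap_of_isKFlat₁ R Q' (isKFlat₁_of_isKProjective R Q') π
  haveI h2 : QuasiIso (q ▷ F) :=
    quasiIso_whiskerRight_of_kf R F ((kf_iff R F).2 (isKFlat₂_of_isKProjective R F)) q
  haveI hext : QuasiIso ((DTen.extCx φ).map π) := quasiIso_ext_map_resolution φ ρ hT π hFp hFb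
  haveI h3a : QuasiIso ((DTen.extCx φ).map π ▷ P) := quasiIso_whiskerRight_of_kf A P hP _
  haveI h3b : QuasiIso ((DTen.resCx φ).map ((DTen.extCx φ).map π ▷ P)) :=
    inferInstanceAs (QuasiIso (((ModuleCat.restrictScalars φ).mapHomologicalComplex _).map _))
  have e3 : (π ▷ (DTen.resCx φ).obj P) ≫ πhom φ (U ρ) P =
      πhom φ F P ≫ (DTen.resCx φ).map ((DTen.extCx φ).map π ▷ P) := by
    have h := πhom_naturality φ π (𝟙 P)
    rw [CategoryTheory.Functor.map_id, MonoidalCategory.tensorHom_id,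
      MonoidalCategory.tensorHom_id] at h
    exact h
  haveI h3c : QuasiIso (π ▷ (DTen.resCx φ).obj P) := by
    haveI : QuasiIso ((π ▷ (DTen.resCx φ).obj P) ≫ πhom φ (U ρ) P) := by
      rw [e3]
      infer_instance
    exact quasiIso_of_comp_right (π ▷ (DTen.resCx φ).obj P) (πhom φ (U ρ) P)
  haveI h3 : QuasiIso ((DTen.resCx φ).obj P ◁ π) := by
    have hb := DTen.braidCx_naturality (𝟙 ((DTen.resCx φ).obj P)) π
    rw [MonoidalCategory.id_tensorHom, MonoidalCategory.tensorHom_id] at hb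
    haveI : QuasiIso (((DTen.resCx φ).obj P ◁ π) ≫ (DTen.braidCx _ _).hom) := by
      rw [hb]
      infer_instance
    exact quasiIso_of_comp_right ((DTen.resCx φ).obj P ◁ π) (DTen.braidCx _ _).hom
  have hex : (Q' ◁ π) ≫ (q ▷ U ρ) = (q ▷ F) ≫ ((DTen.resCx φ).obj P ◁ π) :=
    MonoidalCategory.whisker_exchange q π
  haveI h4 : QuasiIso (q ▷ U ρ) := by
    haveI : QuasiIso ((Q' ◁ π) ≫ (q ▷ U ρ)) := by
      rw [hex]
      infer_instance
    exact quasiIso_of_comp_left (Q' ◁ π) (q ▷ U ρ)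
  haveI h5 : QuasiIso ((DTen.resCx ρ).map ((DTen.extCx ρ).map q)) := by
    have hn := tenU_naturality ρ q
    haveI : QuasiIso ((tenU ρ Q').hom ≫ (DTen.resCx ρ).map ((DTen.extCx ρ).map q)) := by
      rw [← hn]
      infer_instance
    exact quasiIso_of_comp_left (tenU ρ Q').hom _
  exact (HomologicalComplex.quasiIso_map_iff_of_preservesHomology ((DTen.extCx ρ).map q)
    (ModuleCat.restrictScalars ρ)).1 h5


/-- derived base change along `ρ` of `P|_R` is computed termwise, for `P` K-flat over `A` and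
`A`, `B` Tor-independent over `R` -/
theorem isIso_baseCmp_res [DTen.HasLBase ρ]
    (hT : ∀ (n : ℤ) (p : ℕ), IsZero (((Tor (ModuleCat.{u} R) (p + 1)).obj (MA φ)).obj ((U ρ).X n)))
    (P : DRing.Cx A) (hP : KF A P) :
    IsIso ((DTen.baseCmp ρ).app ((DTen.resCx φ).obj P)) := by
  obtain ⟨Q', q, hq, hQ', -⟩ :=
    Groth.Agent.Lib.Helper36.KP.exists_resolution ((DTen.resCx φ).obj P)
  haveI := hQ'
  haveI := hq
  have h1 : IsIso ((DTen.baseCmp ρ).app Q') := isIso_baseCmp_of_isKProjective ρ Q'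
  have h2 : QuasiIso ((DTen.extCx ρ).map q) := quasiIso_ext_map φ ρ hT P hP q
  have h3 : IsIso (DerivedCategory.Q.map ((DTen.extCx ρ).map q) :
      (DerivedCategory.Q.obj _ : Dual.D B) ⟶ _) :=
    (DerivedCategory.isIso_Q_map_iff_quasiIso (ModuleCat.{u} B) _).2 h2
  have h4 : IsIso (DerivedCategory.Q.map q : (DerivedCategory.Q.obj Q' : Dual.D R) ⟶ _) :=
    (DerivedCategory.isIso_Q_map_iff_quasiIso (ModuleCat.{u} R) q).2 hq
  have hn := (DTen.baseCmp ρ).naturality q
  have h5 : IsIso ((DerivedCategory.Q ⋙ DTen.LBase ρ).map q) := by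
    show IsIso ((DTen.LBase ρ).map (DerivedCategory.Q.map q))
    infer_instance
  have h7 : IsIso ((DTen.extCx ρ ⋙ DerivedCategory.Q).map q) := h3
  have h6 : (DTen.baseCmp ρ).app ((DTen.resCx φ).obj P) =
      inv ((DerivedCategory.Q ⋙ DTen.LBase ρ).map q) ≫
      (DTen.baseCmp ρ).app Q' ≫ (DTen.extCx ρ ⋙ DerivedCategory.Q).map q := by
    rw [← hn, IsIso.inv_hom_id_assoc]
  rw [h6]
  infer_instance

end Main

end Groth.Agent.Lib.Helper46.BaseCmpTorIndep
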