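import Groth.Agent.Lib.Helper46.LocGen
import Groth.Agent.Lib.Helper6.DerCompactGen
import Groth.Agent.Lib.Helper68.DerCoprod

/-!
# Coproducts, compact generators in `D(C)` for an arbitrary `HasDerivedCategory.{w}` instance (helper46)

Namespace `Groth.Agent.Lib.Helper46.DerCptStd`.

Ports of `Helper68.DerCoprod` (section `Derived`) and `Helper6.DerCompactGen` in which the universe of the
index types of coproducts is independent of the morphism universe `w` of the derived category
(needed for `HasDerivedCategory.standard`, where `w = max u v`):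

* `isColimitCofan'`, `hasCoproductsOfShape'`: `J`-indexed coproducts in `D(C)` (computed termwise);
* `isCpt_Q_sg`: `P[-m]` is compact (`LocGen.IsCpt`) for `P` projective with the finite factorization
  property;
* `generates_Q_sg'`: the `P[-m]` generate if `P` is a projective generator;
* `small_hom_of_isKProjective`: `Hom_{D(C)}(Q S, Y)` is `v`-small for `S` K-projective.
-/

set_option autoImplicit false
set_option linter.unusedSectionVars false

universe w' w v u

namespace Groth.Agent.Lib.Helper46.DerCptStd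

open CategoryTheory CategoryTheory.Limits Groth.Agent.Lib.Helper68.DerCoprod
  Groth.Agent.Lib.Helper6 Groth.Agent.Lib.Helper6.DerCompactGen Groth.Agent.Lib.Helper46.LocGen

section Derived

open DerivedCategory

variable {C : Type u} [Category.{v} C] [Abelian C] [HasDerivedCategory.{w} C]
  {J : Type w'} [HasColimitsOfShape (Discrete J) C] [HasExactColimitsOfShape (Discrete J) C]

lemma isIso_Q_map_mapC' {K L : J → CochainComplex C ℤ} (t : ∀ j, K j ⟶ L j)
    [∀ j, QuasiIso (t j)] : IsIso (Q.map (mapC t)) := by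
  have := quasiIso_mapC t
  rw [isIso_Q_map_iff_quasiIso]
  infer_instance

/-- Existence part of the universal property of `Q.obj (sigmaC K)`. -/
lemma exists_desc' (K : J → CochainComplex C ℤ) (T : DerivedCategory C)
    (f : ∀ j, Q.obj (K j) ⟶ T) :
    ∃ φ : Q.obj (sigmaC K) ⟶ T, ∀ j, Q.map (ιC K j) ≫ φ = f j := by
  obtain ⟨Y, ⟨e⟩⟩ : ∃ Y : CochainComplex C ℤ, Nonempty (Q.obj Y ≅ T) :=
    ⟨_, ⟨Q.objObjPreimageIso T⟩⟩
  have H : ∀ j, ∃ (X' : CochainComplex C ℤ) (s : X' ⟶ K j) (_ : IsIso (Q.map s)) (g : X' ⟶ Y),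
      f j ≫ e.inv = inv (Q.map s) ≫ Q.map g := fun j => right_fac (f j ≫ e.inv)
  choose K' s hs g hg using H
  have : ∀ j, QuasiIso (s j) := fun j => (isIso_Q_map_iff_quasiIso _ (s j)).1 (hs j)
  haveI := isIso_Q_map_mapC' s
  refine ⟨inv (Q.map (mapC s)) ≫ Q.map (descC g) ≫ e.hom, fun j => ?_⟩
  have h1 : Q.map (ιC K j) ≫ inv (Q.map (mapC s)) = inv (Q.map (s j)) ≫ Q.map (ιC K' j) := by
    rw [← cancel_epi (Q.map (s j)), ← cancel_mono (Q.map (mapC s))]
    simp only [Category.assoc, IsIso.inv_hom_id, Category.comp_id, IsIso.hom_inv_id_assoc]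
    rw [← Q.map_comp, ← Q.map_comp, ιC_mapC]
  rw [reassoc_of% h1, ← Q.map_comp_assoc, ιC_descC, ← reassoc_of% (hg j)]
  simp

/-- Uniqueness part of the universal property of `Q.obj (sigmaC K)`. -/
lemma hom_ext' (K : J → CochainComplex C ℤ) (T : DerivedCategory C)
    (φ ψ : Q.obj (sigmaC K) ⟶ T) (h : ∀ j, Q.map (ιC K j) ≫ φ = Q.map (ιC K j) ≫ ψ) :
    φ = ψ := by
  suffices H : ∀ χ : Q.obj (sigmaC K) ⟶ T, (∀ j, Q.map (ιC K j) ≫ χ = 0) → χ = 0 by
    rw [← sub_eq_zero]
    apply H
    intro j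
    rw [Preadditive.comp_sub, h j, sub_self]
  intro χ hχ
  obtain ⟨Y, ⟨e⟩⟩ : ∃ Y : CochainComplex C ℤ, Nonempty (Q.obj Y ≅ T) :=
    ⟨_, ⟨Q.objObjPreimageIso T⟩⟩
  obtain ⟨Y', g, s, hs, hg⟩ := left_fac (χ ≫ e.inv)
  have h0 : ∀ j, Q.map (ιC K j ≫ g) = 0 := by
    intro j
    rw [Q.map_comp, ← cancel_mono (inv (Q.map s)), Category.assoc, ← hg, reassoc_of% (hχ j)]
    simp
  have H : ∀ j, ∃ (X' : CochainComplex C ℤ) (t : X' ⟶ K j) (_ : QuasiIso t),
      Nonempty (Homotopy (t ≫ ιC K j ≫ g) 0) := fun j => exists_quasiIso_homotopy_zero _ (h0 j)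
  choose K' t ht hh using H
  have hG : Homotopy (mapC t ≫ g) 0 := homotopyC _ _ (fun j =>
    (Homotopy.ofEq (by simp)).trans ((hh j).some.trans (Homotopy.ofEq (by simp))))
  haveI := isIso_Q_map_mapC' t
  have h2 : Q.map (mapC t) ≫ Q.map g = 0 := by
    rw [← Q.map_comp, Q_map_eq_of_homotopy _ hG, Q.map_zero]
  have h3 : Q.map g = 0 := by
    rw [← cancel_epi (Q.map (mapC t)), h2, Limits.comp_zero]
  rw [h3, Limits.zero_comp] at hg
  rw [← cancel_mono e.inv, hg, Limits.zero_comp]

/-- `Q.obj (sigmaC K)` is a coproduct of the `Q.obj (K j)` in the derived category. -/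
noncomputable def isColimitCofan' (K : J → CochainComplex C ℤ) :
    IsColimit (Cofan.mk (Q.obj (sigmaC K)) (fun j => Q.map (ιC K j))) :=
  Cofan.IsColimit.mk _ (fun t => (exists_desc' K t.pt t.inj).choose)
    (fun t j => (exists_desc' K t.pt t.inj).choose_spec j)
    (fun t _ hm => hom_ext' K _ _ _ (fun j =>
      (hm j).trans ((exists_desc' K t.pt t.inj).choose_spec j).symm))

variable (C J) in
/-- The derived category has coproducts of shape `J` as soon as `C` has exact coproducts
of shape `J`. -/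
lemma hasCoproductsOfShape' : HasCoproductsOfShape J (DerivedCategory C) := by
  constructor
  intro F
  have hK : ∀ j, ∃ K : CochainComplex C ℤ, Nonempty (Q.obj K ≅ F.obj ⟨j⟩) :=
    fun j => ⟨_, ⟨Q.objObjPreimageIso _⟩⟩
  choose K e using hK
  have : HasColimit (Discrete.functor (fun j => Q.obj (K j))) := ⟨⟨⟨_, isColimitCofan' K⟩⟩⟩
  exact hasColimit_of_iso (F := Discrete.functor (fun j => Q.obj (K j)))
    (Discrete.natIso (fun ⟨j⟩ => (e j).some.symm))

end Derived

section lift

variable {C : Type u} [Category.{v} C] [Abelian C] [HasDerivedCategory.{w} C]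

lemma exists_Q_map_eq' {S L : CochainComplex C ℤ} [S.IsKProjective]
    (φ : DerivedCategory.Q.obj S ⟶ DerivedCategory.Q.obj L) :
    ∃ f : S ⟶ L, DerivedCategory.Q.map f = φ := by
  obtain ⟨g', hg'⟩ := (CochainComplex.IsKProjective.Qh_map_bijective S
    ((HomotopyCategory.quotient _ _).obj L)).2
    ((DerivedCategory.quotientCompQhIso C).hom.app S ≫ φ ≫
      (DerivedCategory.quotientCompQhIso C).inv.app L)
  obtain ⟨g, rfl⟩ := (HomotopyCategory.quotient _ _).map_surjective g'
  refine ⟨g, ?_⟩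
  have := DerivedCategory.quotientCompQhIso_hom_naturality (C := C) g
  rw [hg'] at this
  simp only [Category.assoc, Iso.inv_hom_id_app, Category.comp_id] at this
  exact ((cancel_epi _).1 this).symm

lemma homotopy_zero_of_Q_map_eq_zero' {S L : CochainComplex C ℤ} [S.IsKProjective]
    (f : S ⟶ L) (hf : DerivedCategory.Q.map f = 0) : Nonempty (Homotopy f 0) := by
  have h1 : DerivedCategory.Qh.map ((HomotopyCategory.quotient _ _).map f) =
      DerivedCategory.Qh.map (0 : (HomotopyCategory.quotient _ _).obj S ⟶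
        (HomotopyCategory.quotient _ _).obj L) := by
    rw [← cancel_mono ((DerivedCategory.quotientCompQhIso C).hom.app L),
      DerivedCategory.quotientCompQhIso_hom_naturality, hf]
    simp
  have h2 := (CochainComplex.IsKProjective.Qh_map_bijective S
    ((HomotopyCategory.quotient _ _).obj L)).1 h1
  rw [HomotopyCategory.quotient_map_eq_zero_iff] at h2
  exact h2

/-- morphisms in `D(C)` out of a K-projective complex form a `v`-small set -/
lemma small_hom_of_isKProjective (S : CochainComplex C ℤ) [S.IsKProjective]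
    (Y : DerivedCategory C) : Small.{v} (DerivedCategory.Q.obj S ⟶ Y) := by
  let Y' : CochainComplex C ℤ := DerivedCategory.Q.objPreimage Y
  let e : DerivedCategory.Q.obj Y' ≅ Y := DerivedCategory.Q.objObjPreimageIso Y
  have hsurj : Function.Surjective
      (fun f : S ⟶ Y' => DerivedCategory.Q.map f ≫ e.hom) := by
    intro φ
    obtain ⟨f, hf⟩ := exists_Q_map_eq' (φ ≫ e.inv)
    exact ⟨f, by simp [hf]⟩
  exact small_of_surjective hsurj

end lift

section main

variable {C : Type u} [Category.{v} C] [Abelian C] [HasDerivedCategory.{w} C]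
  [HasCoproducts.{w'} C] [∀ J : Type w', HasExactColimitsOfShape (Discrete J) C]

/-- `D(C)` has coproducts indexed by types in `Type w'` -/
lemma hasCoproducts_derivedCategory : HasCoproducts.{w'} (DerivedCategory C) :=
  fun J => hasCoproductsOfShape' C J

theorem isCpt_Q_sg [HasCoproducts.{w'} (DerivedCategory C)] (P : C) [Projective P]
    (hP : ∀ (J : Type w') (X : J → C) (g : P ⟶ ∐ X), ∃ (s : Finset J) (γ : ∀ j, P ⟶ X j),
      g = ∑ j ∈ s, γ j ≫ Sigma.ι X j) (m : ℤ) :
    IsCpt.{w'} (DerivedCategory.Q.obj (sg P m)) := by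
  classical
  intro κ X φ
  have hK : ∀ j, ∃ K : CochainComplex C ℤ, Nonempty (X j ≅ DerivedCategory.Q.obj K) :=
    fun j => ⟨_, ⟨(DerivedCategory.Q.objObjPreimageIso _).symm⟩⟩
  choose K e using hK
  let e' := fun j => (e j).some
  let c := Cofan.mk (DerivedCategory.Q.obj (sigmaC K))
    (fun j => (e' j).hom ≫ DerivedCategory.Q.map (ιC K j))
  have hc : IsColimit c := isColimitCofanOfIso e' _ (isColimitCofan' K)
  let iso : ∐ X ≅ DerivedCategory.Q.obj (sigmaC K) :=
    (coproductIsCoproduct X).coconePointUniqueUpToIso hc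
  have hiso : ∀ j, Sigma.ι X j ≫ iso.hom = (e' j).hom ≫ DerivedCategory.Q.map (ιC K j) :=
    fun j => (coproductIsCoproduct X).comp_coconePointUniqueUpToIso_hom hc ⟨j⟩
  obtain ⟨f, hf⟩ := exists_Q_map_eq' (φ ≫ iso.hom)
  let f₀ : P ⟶ ∐ (fun j => (K j).X m) :=
    (HomologicalComplex.singleObjXSelf (ComplexShape.up ℤ) m P).inv ≫ f.f m
  obtain ⟨s, γ, hγ⟩ := hP κ (fun j => (K j).X m) f₀
  have hγ' := eq_sum_π_of_eq_sum (fun j => (K j).X m) f₀ id Function.injective_id s γ hγ
  simp only [Finset.image_id] at hγ'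
  have hd0 : f₀ ≫ Limits.Sigma.map (fun j => (K j).d m (m + 1)) = 0 := by
    have h1 : f.f m ≫ (sigmaC K).d m (m + 1) = 0 := by
      rw [f.comm m (m + 1), HomologicalComplex.single_obj_d, zero_comp]
    have h2 : f.f m ≫ Limits.Sigma.map (fun j => (K j).d m (m + 1)) = 0 := h1
    exact (Category.assoc _ _ _).trans ((congrArg (fun t =>
      (HomologicalComplex.singleObjXSelf (ComplexShape.up ℤ) m P).inv ≫ t) h2).trans comp_zero)
  have hd : ∀ j, (f₀ ≫ Sigma.π (fun j => (K j).X m) j) ≫ (K j).d m (m + 1) = 0 := by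
    intro j
    rw [Category.assoc, ← sigma_π_naturality (fun j => (K j).d m (m + 1)) j,
      reassoc_of% hd0, zero_comp]
  let g : ∀ j, sg P m ⟶ K j := fun j =>
    HomologicalComplex.mkHomFromSingle (f₀ ≫ Sigma.π (fun j => (K j).X m) j) (by
      intro k hk
      obtain rfl : m + 1 = k := by simpa using hk
      exact hd j)
  have hfg : f = ∑ j ∈ s, g j ≫ ιC K j := by
    apply HomologicalComplex.from_single_hom_ext
    have hsum : (∑ j ∈ s, g j ≫ ιC K j).f m = ∑ j ∈ s, (g j ≫ ιC K j).f m :=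
      map_sum (HomologicalComplex.Hom.fAddMonoidHom (C₁ := sg P m) (C₂ := sigmaC K) m) _ s
    rw [hsum]
    have h3 : f.f m = (HomologicalComplex.singleObjXSelf (ComplexShape.up ℤ) m P).hom ≫ f₀ :=
      (Iso.hom_inv_id_assoc _ _).symm
    rw [h3]
    have h4 : (HomologicalComplex.singleObjXSelf (ComplexShape.up ℤ) m P).hom ≫ f₀ =
        ∑ j ∈ s, (HomologicalComplex.singleObjXSelf (ComplexShape.up ℤ) m P).hom ≫
          (f₀ ≫ Sigma.π (fun j => (K j).X m) j) ≫ Sigma.ι (fun j => (K j).X m) j := by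
      conv_lhs => rw [hγ']
      rw [Preadditive.comp_sum]
    refine h4.trans (Finset.sum_congr rfl (fun j _ => ?_))
    have h5 : (g j ≫ ιC K j).f m = (g j).f m ≫ Sigma.ι (fun j => (K j).X m) j := rfl
    rw [h5, HomologicalComplex.mkHomFromSingle_f]
    simp only [Category.assoc]
  refine ⟨s, fun j => DerivedCategory.Q.map (g j) ≫ (e' j).inv, ?_⟩
  rw [← cancel_mono iso.hom, ← hf, hfg, Functor.map_sum, Preadditive.sum_comp]
  refine Finset.sum_congr rfl (fun j _ => ?_)
  rw [Category.assoc, hiso, Category.assoc, Iso.inv_hom_id_assoc]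
  exact DerivedCategory.Q.map_comp _ _

end main

section generates

variable {C : Type u} [Category.{v} C] [Abelian C] [HasDerivedCategory.{w} C]

open ZeroObject in
lemma isZero_Q_obj_of_exactAt' (K : CochainComplex C ℤ) (hK : ∀ n, K.ExactAt n) :
    IsZero (DerivedCategory.Q.obj K) := by
  have h0 : IsZero (0 : CochainComplex C ℤ) := isZero_zero _
  have hq : QuasiIso (0 : K ⟶ 0) := by
    constructor
    intro n
    rw [quasiIsoAt_iff_exactAt' _ _ ((HomologicalComplex.acyclic_of_isZero _ h0) n)]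
    exact hK n
  have : IsIso (DerivedCategory.Q.map (0 : K ⟶ 0)) := by
    rw [DerivedCategory.isIso_Q_map_iff_quasiIso]
    exact hq
  exact IsZero.of_iso (DerivedCategory.Q.map_isZero h0) (asIso (DerivedCategory.Q.map (0 : K ⟶ 0)))

theorem generates_Q_sg' (P : C) [Projective P]
    (hgen : ∀ X : C, (∀ f : P ⟶ X, f = 0) → IsZero X) :
    CohDer.Generates (fun m : ULift.{w'} ℤ => DerivedCategory.Q.obj (sg P m.down)) := by
  intro K hK
  let K' := DerivedCategory.Q.objPreimage K
  let eK : DerivedCategory.Q.obj K' ≅ K := DerivedCategory.Q.objObjPreimageIso K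
  have h0 : ∀ (m : ℤ) (f : sg P m ⟶ K'), DerivedCategory.Q.map f = 0 := by
    intro m f
    have h1 := hK ⟨m⟩ 0 (DerivedCategory.Q.map f ≫
      (eK ≪≫ ((shiftFunctorZero _ ℤ).app K).symm).hom)
    exact zero_of_comp_mono _ h1
  apply IsZero.of_iso _ eK.symm
  apply isZero_Q_obj_of_exactAt'
  intro n
  rw [HomologicalComplex.exactAt_iff_isZero_homology]
  apply hgen
  intro f
  let f' : P ⟶ K'.cycles n := Projective.factorThru f (K'.homologyπ n)
  have hf' : f' ≫ K'.homologyπ n = f := Projective.factorThru_comp _ _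
  let x : P ⟶ K'.X n := f' ≫ K'.iCycles n
  have hx : x ≫ K'.d n (n + 1) = 0 := by
    dsimp only [x]
    rw [Category.assoc, HomologicalComplex.iCycles_d, comp_zero]
  let g : sg P n ⟶ K' := HomologicalComplex.mkHomFromSingle x (by
    intro k hk
    obtain rfl : n + 1 = k := by simpa using hk
    exact hx)
  obtain ⟨H⟩ := homotopy_zero_of_Q_map_eq_zero' g (h0 n g)
  have hcomm := H.comm n
  rw [dNext_eq H.hom (show (ComplexShape.up ℤ).Rel n (n + 1) by simp),
    prevD_eq H.hom (show (ComplexShape.up ℤ).Rel (n - 1) n by simp),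
    HomologicalComplex.single_obj_d, zero_comp, zero_add, HomologicalComplex.zero_f, add_zero,
    HomologicalComplex.mkHomFromSingle_f] at hcomm
  let y : P ⟶ K'.X (n - 1) :=
    (HomologicalComplex.singleObjXSelf (ComplexShape.up ℤ) n P).inv ≫ H.hom n (n - 1)
  have hy : y ≫ K'.d (n - 1) n = x := by
    dsimp only [y]
    rw [Category.assoc, ← hcomm, Iso.inv_hom_id_assoc]
  have hf'' : f' = y ≫ K'.toCycles (n - 1) n := by
    rw [← cancel_mono (K'.iCycles n), Category.assoc, HomologicalComplex.toCycles_i, hy]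
  rw [← hf', hf'', Category.assoc, HomologicalComplex.toCycles_comp_homologyπ, comp_zero]

end generates

end Groth.Agent.Lib.Helper46.DerCptStd
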