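import Groth.Agent.Lib.Helper46.DTenPerfect
import Groth.Agent.Lib.Helper46.DerCptStd

/-!
# `D(A)` (standard instance) is compactly generated; perfect complexes are compact (helper46)

Namespace `Groth.Agent.Lib.Helper46.DTenCompact`.

* `hasCoproducts_D`: `Type u`-indexed coproducts in `Dual.D A`;
* `gen A k = Q (A[k])`, `isCpt_gen`, `generates_gen`, `small_gen`: the shifts of the unit are compact
  generators with small Hom sets;
* `isCpt_of_isPerfect`: perfect complexes are compact;
* `prop_of_localizing`: induction principle (localizing subcategory containing the unit is everything).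
-/

set_option autoImplicit false
universe u
open CategoryTheory CategoryTheory.Limits MonoidalCategory HomologicalComplex
  CategoryTheory.Pretriangulated
attribute [local instance] HasDerivedCategory.standard

namespace Groth.Agent.Lib.Helper46.DTenCompact

open Groth.Agent.Lib.Helper46.DTenKProj Groth.Agent.Lib.Helper46.DTenUnitShift
  Groth.Agent.Lib.Helper46.LocGen Groth.Agent.Lib.Helper46.DerCptStd
  Groth.Agent.Lib.Helper12 Groth.Agent.Lib.Helper6.DerCompactGen DRing DerivedCategory

variable (A : Type u) [CommRing A]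

instance hasCoproducts_D : HasCoproducts.{u} (Dual.D A) :=
  hasCoproducts_derivedCategory

/-- maps from a finite module to a direct sum factor through a finite subsum -/
lemma exists_finset_of_finite (N : ModuleCat.{u} A) [Module.Finite A N] (J : Type u)
    (X : J → ModuleCat.{u} A) (g : N ⟶ ∐ X) :
    ∃ (s : Finset J) (γ : ∀ j, N ⟶ X j), g = ∑ j ∈ s, γ j ≫ Sigma.ι X j := by
  classical
  let iso := ModuleCat.coprodIsoDirectSum X
  let g' : N →ₗ[A] (DirectSum J (fun j => X j)) := (g ≫ iso.hom).hom
  obtain ⟨S, hS⟩ := (Module.Finite.fg_top : (⊤ : Submodule A N).FG)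
  let s : Finset J := S.biUnion (fun n => DFinsupp.support (g' n))
  let γ : ∀ j, N ⟶ X j := fun j =>
    ModuleCat.ofHom ((DirectSum.component A J (fun j => X j) j).comp g')
  refine ⟨s, γ, ?_⟩
  rw [← cancel_mono iso.hom, Preadditive.sum_comp]
  have h2 : ∀ j, (γ j ≫ Sigma.ι X j) ≫ iso.hom =
      ModuleCat.ofHom ((DirectSum.lof A J (fun j => X j) j).comp
        ((DirectSum.component A J (fun j => X j) j).comp g')) := by
    intro j
    rw [Category.assoc, ModuleCat.ι_coprodIsoDirectSum_hom]
    rfl
  simp only [h2]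
  apply ModuleCat.hom_ext
  rw [ModuleCat.hom_sum]
  refine LinearMap.ext_on hS ?_
  intro n hn
  rw [LinearMap.sum_apply]
  show g' n = ∑ j ∈ s, DirectSum.lof A J (fun j => X j) j ((g' n) j)
  conv_lhs => rw [← DirectSum.sum_support_of (g' n)]
  refine Finset.sum_subset (Finset.subset_biUnion_of_mem (fun n => DFinsupp.support (g' n)) hn) ?_
  intro j _ hj
  rw [DFinsupp.notMem_support_iff] at hj
  rw [hj]
  exact map_zero _

/-- the generating family: the shifts of the unit -/
noncomputable def gen (k : ULift.{u} ℤ) : Dual.D A := Q.obj (unitShift A k.down)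

/-- `A[k + m] ≅ A[k][m]` -/
noncomputable def genShiftIso (k m : ℤ) :
    gen A ⟨k + m⟩ ≅ (gen A ⟨k⟩)⟦m⟧ :=
  Q.mapIso ((shiftFunctorAdd' (DRing.Cx A) k m (k + m) rfl).app (𝟙_ (DRing.Cx A))) ≪≫
    (Q.commShiftIso m).app _

/-- `A[k]` is the module `A` placed in degree `a = -k` -/
noncomputable def genSingleIso (k a : ℤ) (h : k + a = 0) :
    gen A ⟨k⟩ ≅ Q.obj (singleCx a (ModuleCat.of A A)) :=
  Q.mapIso (((CochainComplex.singleFunctors (ModuleCat.{u} A)).shiftIso k a 0 h).app
    (ModuleCat.of A A))

lemma isCpt_single (N : ModuleCat.{u} A) [Module.Finite A N] [Module.Projective A N] (a : ℤ) :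
    IsCpt.{u} (Q.obj (singleCx a N) : Dual.D A) :=
  isCpt_Q_sg N (exists_finset_of_finite A N) a

lemma isCpt_gen (k : ULift.{u} ℤ) : IsCpt.{u} (gen A k) := by
  haveI : Module.Finite A (ModuleCat.of A A) := (inferInstance : Module.Finite A A)
  haveI : Module.Projective A (ModuleCat.of A A) := (inferInstance : Module.Projective A A)
  exact IsCpt.of_iso (genSingleIso A k.down (-k.down) (by omega)) (isCpt_single A _ _)

lemma isCpt_gen_shift (k : ULift.{u} ℤ) (m : ℤ) : IsCpt.{u} ((gen A k)⟦m⟧) :=
  (isCpt_gen A k).shift m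

lemma generates_gen : CohDer.Generates (gen A) := by
  intro K hK
  refine generates_Q_sg'.{u} (ModuleCat.of A A)
    (Groth.Agent.Lib.Helper6.DerCompactGen.isZero_of_forall_eq_zero A) K ?_
  intro i n f
  have h := hK ⟨-i.down⟩ n ((genSingleIso A (-i.down) i.down (by omega)).hom ≫ f)
  rw [← cancel_epi (genSingleIso A (-i.down) i.down (by omega)).hom, h, comp_zero]

lemma small_gen (k : ULift.{u} ℤ) (m : ℤ) (Y : Dual.D A) :
    Small.{u} ((gen A k)⟦m⟧ ⟶ Y) := by
  haveI : Small.{u} (gen A ⟨k.down + m⟩ ⟶ Y) :=
    small_hom_of_isKProjective (unitShift A (k.down + m)) Y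
  exact small_map (genShiftIso A k.down m).homFromEquiv.symm

lemma isCpt_of_isPerfect (M : Dual.D A) (hM : DRing.IsPerfect A M) : IsCpt.{u} M := by
  obtain ⟨E, a, b, hE, hproj, ⟨e⟩⟩ := hM
  have hC : IsCpt.{u} (toD E) :=
    bounded_induction (fun K => IsCpt.{u} K)
      (fun N => Module.Finite A N ∧ Module.Projective A N)
      (fun {N N'} i h => by
        haveI := h.1
        haveI := h.2
        exact ⟨Module.Finite.equiv i.toLinearEquiv, Module.Projective.of_equiv i.toLinearEquiv⟩)
      (fun {N} h => by
        haveI : Subsingleton N := ModuleCat.subsingleton_of_isZero h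
        exact ⟨inferInstance, inferInstance⟩)
      (fun K h => isCpt_of_isZero h)
      (fun N a h => by
        haveI := h.1
        haveI := h.2
        exact isCpt_single A N a)
      (fun T hT h1 h3 => IsCpt.ext₂ T hT h1 h3)
      E a b hE hproj
  exact IsCpt.of_iso e.symm hC

/-- **Induction principle**: a property of objects of `D(A)` which is invariant under isomorphisms,
closed under cones and `Type u`-indexed coproducts and holds for all shifts of the unit holds
for every object. -/
theorem prop_of_localizing (P : Dual.D A → Prop)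
    (hP_iso : ∀ {X Y : Dual.D A}, (X ≅ Y) → P X → P Y)
    (hP_ext : ∀ T ∈ distTriang (Dual.D A), P T.obj₁ → P T.obj₂ → P T.obj₃)
    (hP_coprod : ∀ (J : Type u) (X : J → Dual.D A), (∀ j, P (X j)) → P (∐ X))
    (hE : ∀ m : ℤ, P (Q.obj (unitShift A m))) (X : Dual.D A) : P X :=
  prop_of_generates.{u} (gen A) (isCpt_gen_shift A) (generates_gen A) (small_gen A) P hP_iso hP_ext
    hP_coprod (fun k m => hP_iso (genShiftIso A k.down m) (hE _)) X

end Groth.Agent.Lib.Helper46.DTenCompact
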