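import Groth.Agent.Lib.Helper46.LocGenThick
import Groth.Agent.Lib.Helper46.DTenCompact
import Groth.Agent.Lib.Helper12.DRingClosure
import Groth.Agent.Lib.Helper12.DRingPerfect
import Groth.Agent.Lib.Helper12.DRingSingle
import Groth.Agent.Lib.Helper12.DRingTower

/-!
# Perfect ⇔ compact in `D(A)` (helper46)

Namespace `Groth.Agent.Lib.Helper46.DRingPerfectCompact`.

* `perf A`: perfectness as an `ObjectProperty`, triangulated, closed under isomorphisms and retracts;
* `isPerfect_iff_isCpt`: `K` perfect iff `LocGen.IsCpt.{u} K`.
-/

set_option autoImplicit false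
universe u
open CategoryTheory CategoryTheory.Limits CategoryTheory.Pretriangulated ZeroObject
attribute [local instance] HasDerivedCategory.standard

namespace Groth.Agent.Lib.Helper46.DRingPerfectCompact

open Groth.Agent.Lib.Helper46.LocGen Groth.Agent.Lib.Helper46.LocGenThick
  Groth.Agent.Lib.Helper46.DTenCompact Groth.Agent.Lib.Helper12 DRing DerivedCategory

variable (A : Type u) [CommRing A]

/-- perfectness as an object property -/
def perf : ObjectProperty (Dual.D A) := fun K => DRing.IsPerfect A K

instance : (perf A).IsClosedUnderIsomorphisms where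
  of_iso e h := RepBounded.of_iso (finiteProjective A) e h

instance : (perf A).IsTriangulated where
  exists_zero := ⟨0, isZero_zero _, RepBounded.of_isZero (finiteProjective A) (isZero_zero _)⟩
  isStableUnderShiftBy n := ⟨fun _ hK => RepBounded.shift (finiteProjective A) hK n⟩
  ext₂' T hT h₁ h₃ := ObjectProperty.le_isoClosure _ _
    ((RepBounded.two_out_of_three (finiteProjective A) finiteProjective_projective T hT).2.1 h₁ h₃)

instance : (perf A).IsStableUnderRetracts where
  of_retract {X Y} r hY := by
    obtain ⟨Z, g, h, hT⟩ := distinguished_cocone_triangle r.i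
    have hmono : Mono (Triangle.mk r.i g h).mor₁ := by
      show Mono r.i
      infer_instance
    have h0 := Triangle.mor₃_eq_zero_of_mono₁ _ hT hmono
    obtain ⟨e, -, -⟩ := exists_iso_binaryBiproduct_of_distTriang _ hT h0
    have hXZ : DRing.IsPerfect A (X ⊞ Z) := RepBounded.of_iso (finiteProjective A) e hY
    exact isPerfect_of_biprod_left hXZ

lemma isPerfect_gen (k : ULift.{u} ℤ) : DRing.IsPerfect A (gen A k) := by
  refine RepBounded.of_iso (finiteProjective A) (genSingleIso A k.down (-k.down) (by omega)).symm
    ⟨singleCx (-k.down) (ModuleCat.of A A), _, _, vanishesOutside_singleCx _ _, fun i => ?_,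
      ⟨Iso.refl _⟩⟩
  by_cases hi : i = -k.down
  · subst hi
    let e := (HomologicalComplex.singleObjXSelf (ComplexShape.up ℤ) (-k.down)
      (ModuleCat.of A A)).symm.toLinearEquiv
    haveI : Module.Finite A (ModuleCat.of A A) := (inferInstance : Module.Finite A A)
    haveI : Module.Projective A (ModuleCat.of A A) := (inferInstance : Module.Projective A A)
    exact ⟨Module.Finite.equiv e, Module.Projective.of_equiv e⟩
  · exact (finiteProjective A).zero (isZero_singleCx_X _ _ i hi)

theorem isPerfect_iff_isCpt (K : Dual.D A) : DRing.IsPerfect A K ↔ IsCpt.{u} K :=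
  ⟨isCpt_of_isPerfect A K, fun h =>
    thick_of_isCpt.{u} (gen A) (isCpt_gen_shift A) (generates_gen A) (small_gen A) (perf A)
      (fun X hX => isCpt_of_isPerfect A X hX) (isPerfect_gen A) K h⟩

end Groth.Agent.Lib.Helper46.DRingPerfectCompact
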