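import Groth.Agent.Lib.Helper12.DerivedSingleHom
import Groth.Agent.Lib.Helper12.DRingFinite
import Mathlib.Algebra.Homology.DerivedCategory.SingleTriangle
import Mathlib.Algebra.Homology.DerivedCategory.FullyFaithful

/-!
# Maps in `D(R)` between modules placed in single degrees, via a two-term projective resolution

`T k M = M[-k]` (the module `M` in cohomological degree `k`).  For a short exact sequence
`0 → P₁ → P₀ → M → 0` with `P₁`, `P₀` projective we compute the maps `M[-k] ⟶ L[0]`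
(`= Ext^k(M, L)`): zero for `k ≠ 0, 1`, and for `k = 1` the cokernel of `Hom(P₀,L) → Hom(P₁,L)`.
-/

namespace Groth.Agent.Lib.Helper46.DSingleExt

open CategoryTheory CategoryTheory.Limits DRing CategoryTheory.Pretriangulated
open Groth.Agent.Lib.Helper12

attribute [local instance] HasDerivedCategory.standard

universe u

variable {R : Type u} [CommRing R]

/-- `M[-k]` in `D(R)`. -/
noncomputable abbrev T (k : ℤ) (M : ModuleCat.{u} R) : Dual.D R := toD (singleCx k M)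

/-- the map `M[-k] ⟶ M'[-k]` induced by `f : M ⟶ M'`. -/
noncomputable abbrev Tm (k : ℤ) {M M' : ModuleCat.{u} R} (f : M ⟶ M') : T k M ⟶ T k M' :=
  DerivedCategory.Q.map
    ((HomologicalComplex.single (ModuleCat.{u} R) (ComplexShape.up ℤ) k).map f)

lemma exists_Tm_eq (k : ℤ) {M M' : ModuleCat.{u} R} (g : T k M ⟶ T k M') :
    ∃ f : M ⟶ M', Tm k f = g := by
  obtain ⟨f, hf⟩ := (DerivedCategory.singleFunctor (ModuleCat.{u} R) k).map_surjective g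
  exact ⟨f, hf⟩

lemma Tm_injective (k : ℤ) {M M' : ModuleCat.{u} R} :
    Function.Injective (Tm k (M := M) (M' := M')) :=
  fun _ _ h => (DerivedCategory.singleFunctor (ModuleCat.{u} R) k).map_injective h

lemma Tm_comp (k : ℤ) {M M' M'' : ModuleCat.{u} R} (f : M ⟶ M') (g : M' ⟶ M'') :
    Tm k (f ≫ g) = Tm k f ≫ Tm k g := by
  dsimp only [Tm]
  rw [Functor.map_comp, Functor.map_comp]

lemma Tm_zero (k : ℤ) (M M' : ModuleCat.{u} R) : Tm k (0 : M ⟶ M') = 0 := by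
  dsimp only [Tm]
  rw [Functor.map_zero, Functor.map_zero]

lemma hom_eq_zero_of_ne {j k : ℤ} (hjk : j ≠ k) (M M' : ModuleCat.{u} R)
    [Module.Projective R M] (g : T j M ⟶ T k M') : g = 0 := by
  rw [← homClass_eq_zero_iff]
  exact (isZero_HF_toD_of_isZero_X _ j (isZero_singleCx_X k M' j hjk)).eq_of_tgt _ _

/-- `M[-k][1] ≅ M[-k']` for `1 + k' = k`. -/
noncomputable def σ (k k' : ℤ) (h : 1 + k' = k) (M : ModuleCat.{u} R) :
    (T k M)⟦(1 : ℤ)⟧ ≅ T k' M :=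
  ((DerivedCategory.singleFunctors (ModuleCat.{u} R)).shiftIso 1 k' k h).app M

lemma σ_naturality (k k' : ℤ) (h : 1 + k' = k) {M M' : ModuleCat.{u} R} (f : M ⟶ M') :
    (Tm k f)⟦(1 : ℤ)⟧' ≫ (σ k k' h M').hom = (σ k k' h M).hom ≫ Tm k' f :=
  ((DerivedCategory.singleFunctors (ModuleCat.{u} R)).shiftIso 1 k' k h).hom.naturality f

section SES

variable {S S' : ShortComplex (ModuleCat.{u} R)} (hS : S.ShortExact) (hS' : S'.ShortExact)

/-- the triangle `X₁[-k] → X₂[-k] → X₃[-k] → X₁[-k][1]` of a short exact sequence. -/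
noncomputable def tri (k : ℤ) : Triangle (Dual.D R) :=
  DerivedCategory.triangleOfSES (hS.map_of_exact
    (HomologicalComplex.single (ModuleCat.{u} R) (ComplexShape.up ℤ) k))

lemma tri_distinguished (k : ℤ) : tri hS k ∈ distTriang (Dual.D R) :=
  DerivedCategory.triangleOfSES_distinguished _

/-- the connecting map. -/
noncomputable def δ (k : ℤ) : T k S.X₃ ⟶ (T k S.X₁)⟦(1 : ℤ)⟧ := (tri hS k).mor₃

lemma δ_naturality (k : ℤ) (f : S ⟶ S') :
    Tm k f.τ₃ ≫ δ hS' k = δ hS k ≫ (Tm k f.τ₁)⟦(1 : ℤ)⟧' :=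
  (DerivedCategory.triangleOfSESδ_naturality (hS.map_of_exact _) (hS'.map_of_exact _)
    ((HomologicalComplex.single (ModuleCat.{u} R) (.up ℤ) k).mapShortComplex.map f)).symm

include hS in
lemma exists_of_g_comp_eq_zero (k : ℤ) {Y : Dual.D R} (x : T k S.X₃ ⟶ Y)
    (hx : Tm k S.g ≫ x = 0) : ∃ y : (T k S.X₁)⟦(1 : ℤ)⟧ ⟶ Y, x = δ hS k ≫ y :=
  Triangle.yoneda_exact₃ _ (tri_distinguished hS k) x hx

include hS in
lemma exists_of_δ_comp_eq_zero (k : ℤ) {Y : Dual.D R} (u : (T k S.X₁)⟦(1 : ℤ)⟧ ⟶ Y)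
    (hu : δ hS k ≫ u = 0) :
    ∃ g : (T k S.X₂)⟦(1 : ℤ)⟧ ⟶ Y, u = (-((Tm k S.f)⟦(1 : ℤ)⟧')) ≫ g :=
  Triangle.yoneda_exact₃ _ (rot_of_distTriang _ (tri_distinguished hS k)) u hu

end SES

section Ext

variable {S : ShortComplex (ModuleCat.{u} R)} (hS : S.ShortExact)
  [Module.Projective R S.X₁] [Module.Projective R S.X₂] (L : ModuleCat.{u} R)

include hS in
/-- `Ext^k(M, L) = 0` for `k ≠ 0, 1` when `M` has a two-term projective resolution. -/
lemma hom_eq_zero (k : ℤ) (h0 : k ≠ 0) (h1 : k ≠ 1) (x : T k S.X₃ ⟶ T 0 L) : x = 0 := by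
  obtain ⟨y, rfl⟩ := exists_of_g_comp_eq_zero hS k x (hom_eq_zero_of_ne h0 S.X₂ L _)
  have hy : (σ k (k - 1) (by omega) S.X₁).inv ≫ y = 0 :=
    hom_eq_zero_of_ne (by omega) S.X₁ L _
  have : y = 0 := by rw [← cancel_epi (σ k (k - 1) (by omega) S.X₁).inv, hy, comp_zero]
  rw [this, comp_zero]

/-- every class in `Ext^1(M, L)` comes from a map `P₁ ⟶ L`. -/
lemma exists_eq_δ_comp (x : T 1 S.X₃ ⟶ T 0 L) :
    ∃ ψ : S.X₁ ⟶ L, x = δ hS 1 ≫ (σ 1 0 rfl S.X₁).hom ≫ Tm 0 ψ := by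
  obtain ⟨y, rfl⟩ := exists_of_g_comp_eq_zero hS 1 x (hom_eq_zero_of_ne (by omega) S.X₂ L _)
  obtain ⟨ψ, hψ⟩ := exists_Tm_eq 0 ((σ 1 0 rfl S.X₁).inv ≫ y)
  refine ⟨ψ, ?_⟩
  rw [hψ, Iso.hom_inv_id_assoc]

/-- a map `P₁ ⟶ L` giving the zero class in `Ext^1(M, L)` extends to `P₀`. -/
lemma exists_factor_of_δ_comp_eq_zero (ψ : S.X₁ ⟶ L)
    (h : δ hS 1 ≫ (σ 1 0 rfl S.X₁).hom ≫ Tm 0 ψ = 0) :
    ∃ m : S.X₂ ⟶ L, ψ = S.f ≫ m := by
  obtain ⟨g, hg⟩ := exists_of_δ_comp_eq_zero hS 1 _ h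
  obtain ⟨m', hm'⟩ := exists_Tm_eq 0 ((σ 1 0 rfl S.X₂).inv ≫ g)
  have hg' : g = (σ 1 0 rfl S.X₂).hom ≫ Tm 0 m' := by rw [hm', Iso.hom_inv_id_assoc]
  rw [hg', Preadditive.neg_comp, ← Category.assoc, σ_naturality, Category.assoc, ← Tm_comp,
    ← Preadditive.comp_neg, cancel_epi] at hg
  refine ⟨-m', Tm_injective 0 ?_⟩
  rw [hg, Preadditive.comp_neg]
  dsimp only [Tm]
  rw [Functor.map_neg, Functor.map_neg]

end Ext

end Groth.Agent.Lib.Helper46.DSingleExt
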