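import Groth.Agent.Lib.Helper46.DTenKProj
import Groth.Agent.Lib.Helper46.KFlatLeft
import Groth.Prelude.Def_DTen2

/-!
# Associativity of the derived tensor product of `Def_DTen2` (helper46)

Namespace `Groth.Agent.Lib.Helper46.DTenAssoc`.

* `isKFlat₂_of_isKProjective`, `isKFlat₁_of_isKProjective`: K-projective complexes of modules are K-flat
  (homotopy retract of a K-flat resolution).
* `isIso_ε_left`, `isIso_ε_right`: the counit of `LTen₂` is an isomorphism as soon as ONE of the two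
  complexes is K-projective.
* `isIso_ε₃_of_isKProjective`, `isIso_assoc_app` (S13577).
-/

set_option autoImplicit false
universe u
open CategoryTheory CategoryTheory.Limits MonoidalCategory HomologicalComplex
attribute [local instance] HasDerivedCategory.standard

namespace Groth.Agent.Lib.Helper46.DTenAssoc

open Groth.Agent.Lib.Helper46.DTenKProj Groth.Agent.Lib.Helper46.KFlatLeft
  Groth.Agent.Lib.Helper94.KFlatBi Groth.Agent.Lib.Helper94.KFlatAbs
  Groth.Agent.Lib.Helper94.KFlatSymm Groth.Agent.Lib.Helper94.KFlatSymmInst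
  Groth.Agent.Lib.Helper94.KFlatRing Groth.Agent.Lib.Helper94.KFlatResInst
  Groth.Agent.Lib.Helper12

variable (A : Type u) [CommRing A]

section KFlat

/-- a complex which is a homotopy retract of an object killed by `Ψ` on homology is killed -/
lemma acyclic_of_retract {B : Type*} [Category B] [Abelian B]
    (Ψ : DRing.Cx A ⥤ CochainComplex B ℤ) (hΨ : PreservesHomotopy Ψ)
    {P F : DRing.Cx A} (s : P ⟶ F) (r : F ⟶ P) (H : Homotopy (s ≫ r) (𝟙 P))
    (hF : (Ψ.obj F).Acyclic) : (Ψ.obj P).Acyclic := by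
  intro n
  have hFn := hF n
  rw [exactAt_iff_isZero_homology] at hFn ⊢
  obtain ⟨H'⟩ := hΨ (s ≫ r) (𝟙 P) H
  have e := H'.homologyMap_eq n
  rw [IsZero.iff_id_eq_zero]
  have h1 : 𝟙 ((Ψ.obj P).homology n) = homologyMap (Ψ.map s) n ≫ homologyMap (Ψ.map r) n := by
    rw [← homologyMap_comp, ← Functor.map_comp, e, CategoryTheory.Functor.map_id, homologyMap_id]
  rw [h1, hFn.eq_of_tgt (homologyMap (Ψ.map s) n) 0, zero_comp]

/-- a K-projective complex admits a homotopy section of any quasi-isomorphism onto it -/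
lemma exists_homotopy_section {P F : DRing.Cx A} [P.IsKProjective] (r : F ⟶ P) (hr : QuasiIso r) :
    ∃ s : P ⟶ F, Nonempty (Homotopy (s ≫ r) (𝟙 P)) := by
  have : IsIso (DerivedCategory.Q.map r : (DerivedCategory.Q.obj F : Dual.D A) ⟶ _) :=
    (DerivedCategory.isIso_Q_map_iff_quasiIso (ModuleCat.{u} A) r).2 hr
  obtain ⟨s, hs⟩ := exists_Q_map_eq (inv (DerivedCategory.Q.map r))
  refine ⟨s, nonempty_homotopy_of_Q_map_eq _ _ ?_⟩
  rw [Functor.map_comp, hs, IsIso.inv_hom_id, CategoryTheory.Functor.map_id]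

theorem isKFlat₂_of_isKProjective (P : DRing.Cx A) [P.IsKProjective] :
    IsKFlat₂ (curriedTensor (ModuleCat.{u} A)) P := by
  obtain ⟨F, r, hF, -, hr, -⟩ := exists_kf_resolution A P
  have hF' : IsKFlat₂ (curriedTensor (ModuleCat.{u} A)) F := (kf_iff A F).1 hF
  obtain ⟨s, ⟨H⟩⟩ := exists_homotopy_section A r hr
  intro M hM
  exact acyclic_of_retract A (Ψ₂ (curriedTensor (ModuleCat.{u} A)) M)
    (preservesHomotopy_Ψ₂ _ M) s r H (hF' M hM)

theorem isKFlat₁_of_isKProjective (P : DRing.Cx A) [P.IsKProjective] :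
    IsKFlat₁ (curriedTensor (ModuleCat.{u} A)) P := by
  obtain ⟨F, r, hr, hF⟩ := hres_ring A P
  obtain ⟨s, ⟨H⟩⟩ := exists_homotopy_section A r hr
  intro M hM
  exact acyclic_of_retract A (Ψ₁ (curriedTensor (ModuleCat.{u} A)) M)
    (preservesHomotopy_Ψ₁ _ M) s r H (hF M hM)

end KFlat

section Counit

lemma nonempty_homotopy_tensorT_map {K K' L L' : DRing.Cx A} (f f' : K ⟶ K') (g g' : L ⟶ L')
    (hf : Nonempty (Homotopy f f')) (hg : Nonempty (Homotopy g g')) :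
    Nonempty (Homotopy ((DTen.tensorT A).map (Prod.mkHom f g))
      ((DTen.tensorT A).map (Prod.mkHom f' g'))) := by
  obtain ⟨hf⟩ := hf
  obtain ⟨hg⟩ := hg
  have H : Homotopy (f ⊗ₘ g) (f' ⊗ₘ g') :=
    (HomologicalComplex.mapBifunctorMapHomotopy₁ hf g (curriedTensor (ModuleCat.{u} A))
      (ComplexShape.up ℤ)).trans
      (HomologicalComplex.mapBifunctorMapHomotopy₂ f' hg (curriedTensor (ModuleCat.{u} A))
        (ComplexShape.up ℤ))
  have e : ∀ (a : K ⟶ K') (b : L ⟶ L'), (DTen.tensorT A).map (Prod.mkHom a b) = a ⊗ₘ b :=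
    fun a b => (MonoidalCategory.tensorHom_def a b).symm
  rw [e, e]
  exact ⟨H⟩

variable [DTen.HasLTen A]

/-- the counit of `LTen₂` at `(X, Y)` is an isomorphism if `X` is K-projective -/
theorem isIso_ε_left (X Y : DRing.Cx A) [X.IsKProjective] : IsIso ((DTen.ε A).app (X, Y)) := by
  obtain ⟨Y', q, hq, hY', -⟩ := Groth.Agent.Lib.Helper36.KP.exists_resolution Y
  have hX := isKFlat₁_of_isKProjective A X
  have h1 : IsIso ((DTen.ε A).app (X, Y')) := isIso_ε_of_isKProjective A X Y'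
  have hqis : QuasiIso (X ◁ q) := quasiIso_mapBifunctorMap_of_isKFlat₁ A X hX q
  have h2 : IsIso (DerivedCategory.Q.map (X ◁ q) : (DerivedCategory.Q.obj _ : Dual.D A) ⟶ _) :=
    (DerivedCategory.isIso_Q_map_iff_quasiIso (ModuleCat.{u} A) _).2 hqis
  let m : (X, Y') ⟶ (X, Y) := Prod.mkHom (𝟙 X) q
  have hn := (DTen.ε A).naturality m
  have h3 : IsIso ((DTen.QQ A ⋙ DTen.LTen₂ A).map m) := by
    have hq' : IsIso (DerivedCategory.Q.map q : (DerivedCategory.Q.obj Y' : Dual.D A) ⟶ _) :=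
      (DerivedCategory.isIso_Q_map_iff_quasiIso (ModuleCat.{u} A) q).2 hq
    have hid : IsIso (DerivedCategory.Q.map (𝟙 X) : (DerivedCategory.Q.obj X : Dual.D A) ⟶ _) :=
      inferInstance
    have : IsIso ((DTen.QQ A).map m) := (isIso_prod_iff _ _).2 ⟨hid, hq'⟩
    show IsIso ((DTen.LTen₂ A).map ((DTen.QQ A).map m))
    infer_instance
  have h4 : IsIso ((DTen.tensor₂ A).map m) := by
    have : (DTen.tensorT A).map m = X ◁ q := by
      show 𝟙 X ▷ Y' ≫ X ◁ q = X ◁ q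
      rw [MonoidalCategory.id_whiskerRight, Category.id_comp]
    show IsIso (DerivedCategory.Q.map ((DTen.tensorT A).map m))
    rw [this]
    exact h2
  have h5 : (DTen.ε A).app (X, Y) =
      inv ((DTen.QQ A ⋙ DTen.LTen₂ A).map m) ≫ (DTen.ε A).app (X, Y') ≫ (DTen.tensor₂ A).map m := by
    rw [← hn, IsIso.inv_hom_id_assoc]
  rw [h5]
  infer_instance

/-- the counit of `LTen₂` at `(X, Y)` is an isomorphism if `Y` is K-projective -/
theorem isIso_ε_right (X Y : DRing.Cx A) [Y.IsKProjective] : IsIso ((DTen.ε A).app (X, Y)) := by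
  obtain ⟨X', q, hq, hX', -⟩ := Groth.Agent.Lib.Helper36.KP.exists_resolution X
  have hY := isKFlat₂_of_isKProjective A Y
  have h1 : IsIso ((DTen.ε A).app (X', Y)) := isIso_ε_of_isKProjective A X' Y
  have hqis : QuasiIso (q ▷ Y) :=
    quasiIso_mapBifunctorMap_left (curriedTensor (ModuleCat.{u} A)) Y hY q
  have h2 : IsIso (DerivedCategory.Q.map (q ▷ Y) : (DerivedCategory.Q.obj _ : Dual.D A) ⟶ _) :=
    (DerivedCategory.isIso_Q_map_iff_quasiIso (ModuleCat.{u} A) _).2 hqis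
  let m : (X', Y) ⟶ (X, Y) := Prod.mkHom q (𝟙 Y)
  have hn := (DTen.ε A).naturality m
  have h3 : IsIso ((DTen.QQ A ⋙ DTen.LTen₂ A).map m) := by
    have hq' : IsIso (DerivedCategory.Q.map q : (DerivedCategory.Q.obj X' : Dual.D A) ⟶ _) :=
      (DerivedCategory.isIso_Q_map_iff_quasiIso (ModuleCat.{u} A) q).2 hq
    have hid : IsIso (DerivedCategory.Q.map (𝟙 Y) : (DerivedCategory.Q.obj Y : Dual.D A) ⟶ _) :=
      inferInstance
    have : IsIso ((DTen.QQ A).map m) := (isIso_prod_iff _ _).2 ⟨hq', hid⟩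
    show IsIso ((DTen.LTen₂ A).map ((DTen.QQ A).map m))
    infer_instance
  have h4 : IsIso ((DTen.tensor₂ A).map m) := by
    have : (DTen.tensorT A).map m = q ▷ Y := by
      show q ▷ Y ≫ X ◁ 𝟙 Y = q ▷ Y
      rw [MonoidalCategory.whiskerLeft_id, Category.comp_id]
    show IsIso (DerivedCategory.Q.map ((DTen.tensorT A).map m))
    rw [this]
    exact h2
  have h5 : (DTen.ε A).app (X, Y) =
      inv ((DTen.QQ A ⋙ DTen.LTen₂ A).map m) ≫ (DTen.ε A).app (X', Y) ≫ (DTen.tensor₂ A).map m := by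
    rw [← hn, IsIso.inv_hom_id_assoc]
  rw [h5]
  infer_instance

/-- the counit of `LTen₃` is an isomorphism at a triple of K-projective complexes -/
theorem isIso_ε₃_of_isKProjective [DTen.HasLTen₃ A] (P₁ P₂ P₃ : DRing.Cx A)
    [P₁.IsKProjective] [P₂.IsKProjective] [P₃.IsKProjective] :
    IsIso ((DTen.ε₃ A).app (P₁, (P₂, P₃))) := by
  haveI : ∀ Y : Dual.D A × (Dual.D A × Dual.D A),
      Small.{u} ((DTen.QQQ A).obj (P₁, (P₂, P₃)) ⟶ Y) := fun Y =>
    inferInstanceAs (Small.{u} (((DerivedCategory.Q.obj P₁ : Dual.D A) ⟶ Y.1) ×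
      (((DerivedCategory.Q.obj P₂ : Dual.D A) ⟶ Y.2.1) ×
        ((DerivedCategory.Q.obj P₃ : Dual.D A) ⟶ Y.2.2))))
  refine isIso_counit_app (DTen.QQQ A) (DTen.qis₃ A) (DTen.tensor₃ A) (DTen.LTen₃ A) (DTen.ε₃ A)
    (P₁, (P₂, P₃)) ?_ ?_
  · rintro ⟨X₁, X₂, X₃⟩ ⟨t₁, t₂, t₃⟩
    obtain ⟨s₁, h₁⟩ := exists_Q_map_eq t₁
    obtain ⟨s₂, h₂⟩ := exists_Q_map_eq t₂
    obtain ⟨s₃, h₃⟩ := exists_Q_map_eq t₃
    exact ⟨(s₁, (s₂, s₃)), Prod.ext h₁ (Prod.ext h₂ h₃)⟩
  · rintro ⟨X₁, X₂, X₃⟩ ⟨s₁, s₂, s₃⟩ ⟨s₁', s₂', s₃'⟩ h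
    have h₁ : (DerivedCategory.Q.map s₁ : (DerivedCategory.Q.obj P₁ : Dual.D A) ⟶ _) =
        DerivedCategory.Q.map s₁' := congrArg Prod.fst h
    have h₂ : (DerivedCategory.Q.map s₂ : (DerivedCategory.Q.obj P₂ : Dual.D A) ⟶ _) =
        DerivedCategory.Q.map s₂' := congrArg (fun z => z.2.1) h
    have h₃ : (DerivedCategory.Q.map s₃ : (DerivedCategory.Q.obj P₃ : Dual.D A) ⟶ _) =
        DerivedCategory.Q.map s₃' := congrArg (fun z => z.2.2) h
    exact tensor₂_map_eq s₁ s₁' _ _ (nonempty_homotopy_of_Q_map_eq _ _ h₁)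
      (nonempty_homotopy_tensorT_map A s₂ s₂' s₃ s₃' (nonempty_homotopy_of_Q_map_eq _ _ h₂)
        (nonempty_homotopy_of_Q_map_eq _ _ h₃))

/-- **S13577** -/
theorem isIso_assoc_app [DTen.HasLTen₃ A] (a b c : Dual.D A) :
    IsIso ((DTen.assocL A).app (a, (b, c))) ∧ IsIso ((DTen.assocR A).app (a, (b, c))) := by
  obtain ⟨K, hK, ⟨i₁⟩⟩ := exists_kproj_iso a
  obtain ⟨L, hL, ⟨i₂⟩⟩ := exists_kproj_iso b
  obtain ⟨M, hM, ⟨i₃⟩⟩ := exists_kproj_iso c
  have h3 : IsIso ((DTen.ε₃ A).app (K, (L, M))) := isIso_ε₃_of_isKProjective A K L M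
  have hR : IsIso ((DTen.βR A).app (K, (L, M))) := by
    have e1 : IsIso ((DTen.ε A).app (L, M)) := isIso_ε_of_isKProjective A L M
    have e2 : IsIso ((DTen.ε A).app (K, L ⊗ M)) := isIso_ε_left A K (L ⊗ M)
    have : IsIso (Prod.mkHom (𝟙 (DerivedCategory.Q.obj K : Dual.D A)) ((DTen.ε A).app (L, M))) :=
      (isIso_prod_iff _ _).2 ⟨inferInstance, e1⟩
    show IsIso ((DTen.LTen₂ A).map (Prod.mkHom (𝟙 (DerivedCategory.Q.obj K))
      ((DTen.ε A).app (L, M))) ≫ (DTen.ε A).app (K, L ⊗ M))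
    infer_instance
  have hL' : IsIso ((DTen.βL A).app (K, (L, M))) := by
    have e1 : IsIso ((DTen.ε A).app (K, L)) := isIso_ε_of_isKProjective A K L
    have e2 : IsIso ((DTen.ε A).app (K ⊗ L, M)) := isIso_ε_right A (K ⊗ L) M
    have : IsIso (Prod.mkHom ((DTen.ε A).app (K, L)) (𝟙 (DerivedCategory.Q.obj M : Dual.D A))) :=
      (isIso_prod_iff _ _).2 ⟨e1, inferInstance⟩
    show IsIso ((DTen.LTen₂ A).map (Prod.mkHom ((DTen.ε A).app (K, L))
      (𝟙 (DerivedCategory.Q.obj M))) ≫ (DTen.ε A).app (K ⊗ L, M) ≫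
        DerivedCategory.Q.map (α_ K L M).hom)
    infer_instance
  have hRapp : IsIso ((DTen.assocR A).app
      (DerivedCategory.Q.obj K, (DerivedCategory.Q.obj L, DerivedCategory.Q.obj M))) := by
    have hfac := DTen.assocR_fac A (K, (L, M))
    have : (DTen.assocR A).app ((DTen.QQQ A).obj (K, (L, M))) =
        (DTen.βR A).app (K, (L, M)) ≫ inv ((DTen.ε₃ A).app (K, (L, M))) :=
      (IsIso.eq_comp_inv _).2 hfac
    show IsIso ((DTen.assocR A).app ((DTen.QQQ A).obj (K, (L, M))))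
    rw [this]
    infer_instance
  have hLapp : IsIso ((DTen.assocL A).app
      (DerivedCategory.Q.obj K, (DerivedCategory.Q.obj L, DerivedCategory.Q.obj M))) := by
    have hfac := DTen.assocL_fac A (K, (L, M))
    have : (DTen.assocL A).app ((DTen.QQQ A).obj (K, (L, M))) =
        (DTen.βL A).app (K, (L, M)) ≫ inv ((DTen.ε₃ A).app (K, (L, M))) :=
      (IsIso.eq_comp_inv _).2 hfac
    show IsIso ((DTen.assocL A).app ((DTen.QQQ A).obj (K, (L, M))))
    rw [this]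
    infer_instance
  exact ⟨isIso_app_of_iso (DTen.assocL A) (Iso.prod i₁ (Iso.prod i₂ i₃)),
    isIso_app_of_iso (DTen.assocR A) (Iso.prod i₁ (Iso.prod i₂ i₃))⟩

end Counit

end Groth.Agent.Lib.Helper46.DTenAssoc
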