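import Groth.Agent.Lib.Helper46.DTenCompact

/-!
# `evalTen K L M` is an isomorphism for compact (e.g. perfect) `M` (helper46)

Namespace `Groth.Agent.Lib.Helper46.DTenCptEval`.

For `M` compact, `RHom(M, -)` preserves coproducts (`isIso_sigmaComparison_RHomR`); hence the class of
`K` for which `evalTen (K⟦n⟧) L M` is an isomorphism for all `n` is closed under coproducts, cones and
contains the shifts of the unit, so it is everything (`DTenCompact.prop_of_localizing`).
-/

set_option autoImplicit false
universe u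
open CategoryTheory CategoryTheory.Limits MonoidalCategory HomologicalComplex
  CategoryTheory.Pretriangulated
attribute [local instance] HasDerivedCategory.standard

namespace Groth.Agent.Lib.Helper46.DTenCptEval

open Groth.Agent.Lib.Helper46.DTenKProj Groth.Agent.Lib.Helper46.DTenUnitShift
  Groth.Agent.Lib.Helper46.LocGen Groth.Agent.Lib.Helper46.DTenCompact
  Groth.Agent.Lib.Helper46.DTenMid Groth.Agent.Lib.Helper46.DTenPerfect
  Groth.Agent.Lib.Helper6 DRing DerivedCategory

section General

/-- a natural transformation between functors preserving a coproduct is an isomorphism at the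
coproduct if it is one at the summands -/
lemma isIso_app_sigma {C D : Type*} [Category C] [Category D] {F G : C ⥤ D} (α : F ⟶ G)
    {J : Type*} (X : J → C) [HasCoproduct X] [PreservesColimit (Discrete.functor X) F]
    [PreservesColimit (Discrete.functor X) G] (h : ∀ j, IsIso (α.app (X j))) :
    IsIso (α.app (∐ X)) := by
  let cF := isColimitOfPreserves F (coproductIsCoproduct X)
  let cG := isColimitOfPreserves G (coproductIsCoproduct X)
  let e : Discrete.functor X ⋙ F ≅ Discrete.functor X ⋙ G :=
    Discrete.natIso (fun j => asIso (α.app (X j.as)))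
  have : α.app (∐ X) = (IsColimit.coconePointsIsoOfNatIso cF cG e).hom := by
    apply cF.hom_ext
    rintro ⟨j⟩
    rw [IsColimit.comp_coconePointsIsoOfNatIso_hom]
    simp [e]
  rw [this]
  infer_instance

end General

section Adjunction

universe w v u'

variable {D : Type u'} [Category.{v} D] [Preadditive D] [HasZeroObject D] [HasShift D ℤ]
  [∀ n : ℤ, (shiftFunctor D n).Additive] [Pretriangulated D] [HasCoproducts.{w} D]

/-- a right adjoint whose left adjoint sends the shifts of a generating family of compact objects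
to compact objects commutes with coproducts -/
theorem isIso_sigmaComparison_of_adjunction {T R : D ⥤ D} (adj : T ⊣ R) [T.Additive] [R.Additive]
    {ι : Type*} (E : ι → D) (hg : CohDer.Generates E)
    (hE : ∀ (i : ι) (m : ℤ), IsCpt.{w} ((shiftFunctor D m).obj (E i)))
    (hTE : ∀ (i : ι) (m : ℤ), IsCpt.{w} (T.obj ((shiftFunctor D m).obj (E i))))
    (J : Type w) (Y : J → D) : IsIso (sigmaComparison R Y) := by
  classical
  apply isIso_of_generates hg
  · intro k m χ
    obtain ⟨s, ψ, hψ⟩ := hTE k m J Y ((adj.homEquiv _ _).symm χ)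
    refine ⟨∑ j ∈ s, adj.homEquiv _ _ (ψ j) ≫ Sigma.ι (fun j => R.obj (Y j)) j, ?_⟩
    have h1 : χ = adj.homEquiv _ _ ((adj.homEquiv _ _).symm χ) :=
      (Equiv.apply_symm_apply _ _).symm
    rw [Preadditive.sum_comp, h1, hψ, Adjunction.homEquiv_unit, Functor.map_sum,
      Preadditive.comp_sum]
    refine Finset.sum_congr rfl fun j _ => ?_
    rw [Category.assoc, ι_comp_sigmaComparison, Adjunction.homEquiv_unit, Functor.map_comp,
      Category.assoc]
  · intro k m χ hχ
    obtain ⟨t, ht⟩ := (hE k m).eq_sum_π (fun j => R.obj (Y j)) χ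
    suffices h : ∀ j ∈ t, χ ≫ Sigma.π (fun j => R.obj (Y j)) j = 0 by
      rw [ht]
      exact Finset.sum_eq_zero fun j hj => by rw [h j hj, zero_comp]
    intro j₀ hj₀
    have h1 : ∑ j ∈ t, (χ ≫ Sigma.π (fun j => R.obj (Y j)) j) ≫ R.map (Sigma.ι Y j) = 0 := by
      rw [← hχ]
      conv_rhs => rw [ht]
      rw [Preadditive.sum_comp]
      refine Finset.sum_congr rfl fun j _ => ?_
      simp only [Category.assoc, ι_comp_sigmaComparison]
    have h2 : ∑ j ∈ t, (adj.homEquiv _ _).symm (χ ≫ Sigma.π (fun j => R.obj (Y j)) j) ≫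
        Sigma.ι Y j = 0 := by
      calc _ = ∑ j ∈ t, (adj.homEquiv _ _).symm
              ((χ ≫ Sigma.π (fun j => R.obj (Y j)) j) ≫ R.map (Sigma.ι Y j)) :=
            Finset.sum_congr rfl (fun j _ => (adj.homEquiv_naturality_right_symm _ _).symm)
        _ = (adj.homEquiv _ _).symm
              (∑ j ∈ t, (χ ≫ Sigma.π (fun j => R.obj (Y j)) j) ≫ R.map (Sigma.ι Y j)) := by
            simp only [Adjunction.homEquiv_counit, Functor.map_sum, Preadditive.sum_comp]
        _ = 0 := by
            rw [h1, Adjunction.homEquiv_counit, Functor.map_zero, zero_comp]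
    have h3 := congrArg (· ≫ Sigma.π Y j₀) h2
    simp only [Preadditive.sum_comp, Category.assoc, zero_comp] at h3
    rw [Finset.sum_eq_single j₀] at h3
    · rw [Sigma.ι_π_eq_id, Category.comp_id] at h3
      exact (adj.homEquiv _ _).symm.injective (h3.trans (by
        rw [Adjunction.homEquiv_counit, Functor.map_zero, zero_comp]))
    · intro j _ hj
      rw [Sigma.ι_π_of_ne Y hj, comp_zero]
    · intro h
      exact absurd hj₀ h

end Adjunction

variable (A : Type u) [CommRing A] [DTen.HasLTen A] [DTen.HasRHom A]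

lemma isCpt_tensor_gen (M : Dual.D A) (hM : ∀ n : ℤ, IsCpt.{u} (M⟦n⟧)) (k : ULift.{u} ℤ) (m : ℤ) :
    IsCpt.{u} ((DTen.tensorRightD A M).obj ((gen A k)⟦m⟧)) := by
  have e1 : (DTen.tensorRightD A M).obj ((gen A k)⟦m⟧) ≅
      (DTen.tensorRightD A M).obj (gen A ⟨k.down + m⟩) :=
    (DTen.tensorRightD A M).mapIso (genShiftIso A k.down m).symm
  have e2 : (DTen.tensorRightD A M).obj (gen A ⟨k.down + m⟩) ≅ M⟦k.down + m⟧ :=
    (tensorUnitShiftIso A (k.down + m)).app M
  exact IsCpt.of_iso (e1 ≪≫ e2) (hM _)

/-- `RHom(M, -)` commutes with coproducts for `M` compact -/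
theorem isIso_sigmaComparison_RHomR (M : Dual.D A) (hM : ∀ n : ℤ, IsCpt.{u} (M⟦n⟧)) (J : Type u)
    (Y : J → Dual.D A) : IsIso (sigmaComparison (DTen.RHomR A M) Y) :=
  isIso_sigmaComparison_of_adjunction.{u} (DTen.rhomAdj A M) (gen A) (generates_gen A)
    (isCpt_gen_shift A) (isCpt_tensor_gen A M hM) J Y

/-- `RHom(M, -)` preserves coproducts for `M` compact -/
lemma preservesColimitsOfShape_RHomR (M : Dual.D A) (hM : ∀ n : ℤ, IsCpt.{u} (M⟦n⟧)) (J : Type u) :
    PreservesColimitsOfShape (Discrete J) (DTen.RHomR A M) := by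
  haveI : ∀ (f : J → Dual.D A), PreservesColimit (Discrete.functor f) (DTen.RHomR A M) := fun f => by
    haveI := isIso_sigmaComparison_RHomR A M hM J f
    exact PreservesCoproduct.of_iso_comparison _ _
  exact preservesColimitsOfShape_of_discrete _

variable [DTen.HasLTen₃ A] [DTen.IsSymMonoidal A] (L M : Dual.D A)

lemma pr_shift {K : Dual.D A} (h : Pr A L M K) (a : ℤ) : Pr A L M (K⟦a⟧) := fun n => by
  haveI := h (a + n)
  exact isIso_app_of_iso _ ((shiftFunctorAdd' (Dual.D A) a n (a + n) rfl).app K)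

lemma pr_sigma (hM : ∀ n : ℤ, IsCpt.{u} (M⟦n⟧)) (J : Type u) (X : J → Dual.D A)
    (h : ∀ j, Pr A L M (X j)) : Pr A L M (∐ X) := by
  intro n
  haveI := preservesColimitsOfShape_RHomR A M hM J
  exact isIso_app_sigma (Functor.whiskerLeft (shiftFunctor (Dual.D A) n) (evalTenNat A L M)) X
    (fun j => h j n)

theorem isIso_evalTen_of_isCpt (hM : ∀ n : ℤ, IsCpt.{u} (M⟦n⟧)) (K : Dual.D A) :
    IsIso (DTen.evalTen K L M) := by
  have hPr : Pr A L M K :=
    prop_of_localizing A (Pr A L M) (fun e h => Pr.of_iso e h)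
      (fun T hT h1 h2 => by
        have hT' := rot_of_distTriang T hT
        exact pr_ext A L M T.rotate hT' h2 (pr_shift A L M h1 1))
      (pr_sigma A L M hM) (pr_unitShift A L M) K
  haveI := hPr 0
  exact isIso_app_of_iso (evalTenNat A L M) ((shiftFunctorZero (Dual.D A) ℤ).app K)

theorem isIso_evalTen_of_isPerfect' (hM : DRing.IsPerfect A M) (K : Dual.D A) :
    IsIso (DTen.evalTen K L M) :=
  isIso_evalTen_of_isCpt A L M (fun n => (isCpt_of_isPerfect A M hM).shift n) K

end Groth.Agent.Lib.Helper46.DTenCptEval
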