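import Groth.Agent.Lib.Helper46.DTenRelTau
import Groth.Agent.Lib.Helper46.DerCptStd
import Groth.Agent.Lib.Helper36.HomCxAdj2

/-!
# `K ↦ K ⊗^L_R ω` commutes with coproducts (helper46)

Namespace `Groth.Agent.Lib.Helper46.DTenRelCoprod`.
-/

set_option autoImplicit false
set_option backward.isDefEq.respectTransparency false
universe u
open CategoryTheory CategoryTheory.Limits MonoidalCategory
attribute [local instance] HasDerivedCategory.standard

namespace Groth.Agent.Lib.Helper46.DTenRelCoprod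

open Groth.Agent.Lib.Helper46.DTenKProj Groth.Agent.Lib.Helper46.DTenRelProj
  Groth.Agent.Lib.Helper46.DTenRelTau Groth.Agent.Lib.Helper68.DerCoprod
  Groth.Agent.Lib.Helper36.HCA DerivedCategory

variable {R A : Type u} [CommRing R] [CommRing A] (φ : R →+* A)

section Chain

variable {J : Type u}

lemma sigmaC_hom_ext {B : Type u} [CommRing B] {K : J → DRing.Cx B} {Z : DRing.Cx B}
    (f f' : sigmaC K ⟶ Z) (h : ∀ j, ιC K j ≫ f = ιC K j ≫ f') : f = f' := by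
  refine HomologicalComplex.hom_ext _ _ (fun i => ?_)
  apply colimit.hom_ext
  rintro ⟨j⟩
  have := HomologicalComplex.congr_hom (h j) i
  simpa [ιC] using this

instance isKProjective_sigmaC {B : Type u} [CommRing B] (K : J → DRing.Cx B)
    [∀ j, (K j).IsKProjective] : CochainComplex.IsKProjective (sigmaC K) where
  nonempty_homotopy_zero {L} f hL :=
    ⟨homotopyC f 0 (fun j =>
      (CochainComplex.IsKProjective.homotopyZero (ιC K j ≫ f) hL).trans
        (Homotopy.ofEq (by simp)))⟩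

variable (Y' : DRing.Cx A)

/-- the functor `P ↦ (P ⊗_R A) ⊗_A Y'` on objects -/
noncomputable abbrev Ψ (P : DRing.Cx R) : DRing.Cx A := (DTen.extCx φ).obj P ⊗ Y'

/-- the functor `P ↦ (P ⊗_R A) ⊗_A Y'` on maps -/
noncomputable abbrev Ψm {P P' : DRing.Cx R} (a : P ⟶ P') : Ψ φ Y' P ⟶ Ψ φ Y' P' :=
  (DTen.extCx φ).map a ▷ Y'

/-- transposition `((P ⊗_R A) ⊗_A Y' ⟶ Z) → (P ⟶ Hom(Y', Z)|_R)` -/
noncomputable def T {P : DRing.Cx R} {Z : DRing.Cx A} (f : Ψ φ Y' P ⟶ Z) :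
    P ⟶ (DTen.resCx φ).obj (DRing.homCx Y' Z) :=
  (DTen.unitCx φ).app P ≫ (DTen.resCx φ).map (curry f)

/-- the inverse transposition -/
noncomputable def U {P : DRing.Cx R} {Z : DRing.Cx A}
    (g : P ⟶ (DTen.resCx φ).obj (DRing.homCx Y' Z)) : Ψ φ Y' P ⟶ Z :=
  uncurry ((DTen.extCx φ).map g ≫ counitCx φ (DRing.homCx Y' Z))

lemma U_T {P : DRing.Cx R} {Z : DRing.Cx A} (f : Ψ φ Y' P ⟶ Z) : U φ Y' (T φ Y' f) = f := by
  dsimp only [U, T]
  rw [transpose_eq, uncurry_curry]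

lemma T_comp {P P' : DRing.Cx R} {Z : DRing.Cx A} (a : P' ⟶ P) (f : Ψ φ Y' P ⟶ Z) :
    T φ Y' (Ψm φ Y' a ≫ f) = a ≫ T φ Y' f := by
  have h := (DTen.unitCx φ).naturality a
  dsimp only [Functor.id_obj, Functor.id_map, Functor.comp_obj, Functor.comp_map] at h
  dsimp only [T, Ψm]
  rw [curry_whiskerRight_comp, Functor.map_comp, ← Category.assoc, ← h, Category.assoc]

lemma U_comp {P P' : DRing.Cx R} {Z : DRing.Cx A} (a : P' ⟶ P)
    (g : P ⟶ (DTen.resCx φ).obj (DRing.homCx Y' Z)) :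
    U φ Y' (a ≫ g) = Ψm φ Y' a ≫ U φ Y' g := by
  dsimp only [U, Ψm]
  rw [Functor.map_comp, Category.assoc, uncurry_comp]

variable (P : J → DRing.Cx R)

/-- the comparison `∐ Ψ(P_j) ⟶ Ψ(∐ P_j)` -/
noncomputable def ζ : sigmaC (fun j => Ψ φ Y' (P j)) ⟶ Ψ φ Y' (sigmaC P) :=
  descC (fun j => Ψm φ Y' (ιC P j))

/-- its inverse -/
noncomputable def ξ : Ψ φ Y' (sigmaC P) ⟶ sigmaC (fun j => Ψ φ Y' (P j)) :=
  U φ Y' (descC (fun j => T φ Y' (ιC (fun j => Ψ φ Y' (P j)) j)))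

lemma Ψm_ι_ξ (j : J) : Ψm φ Y' (ιC P j) ≫ ξ φ Y' P = ιC (fun j => Ψ φ Y' (P j)) j := by
  dsimp only [ξ]
  rw [← U_comp, ιC_descC, U_T]

lemma Ψ_hom_ext {Z : DRing.Cx A} (f f' : Ψ φ Y' (sigmaC P) ⟶ Z)
    (h : ∀ j, Ψm φ Y' (ιC P j) ≫ f = Ψm φ Y' (ιC P j) ≫ f') : f = f' := by
  rw [← U_T φ Y' f, ← U_T φ Y' f']
  congr 1
  exact sigmaC_hom_ext _ _ (fun j => by rw [← T_comp, ← T_comp, h j])

lemma ζ_ξ : ζ φ Y' P ≫ ξ φ Y' P = 𝟙 _ :=
  sigmaC_hom_ext _ _ (fun j => by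
    dsimp only [ζ]
    rw [ιC_descC_assoc, Ψm_ι_ξ, Category.comp_id])

lemma ξ_ζ : ξ φ Y' P ≫ ζ φ Y' P = 𝟙 _ :=
  Ψ_hom_ext φ Y' P _ _ (fun j => by
    rw [← Category.assoc, Ψm_ι_ξ, Category.comp_id]
    dsimp only [ζ]
    rw [ιC_descC])

/-- `∐ Ψ(P_j) ≅ Ψ(∐ P_j)` -/
noncomputable def ζIso : sigmaC (fun j => Ψ φ Y' (P j)) ≅ Ψ φ Y' (sigmaC P) where
  hom := ζ φ Y' P
  inv := ξ φ Y' P
  hom_inv_id := ζ_ξ φ Y' P
  inv_hom_id := ξ_ζ φ Y' P

lemma ι_ζIso_hom (j : J) :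
    ιC (fun j => Ψ φ Y' (P j)) j ≫ (ζIso φ Y' P).hom = Ψm φ Y' (ιC P j) := by
  dsimp only [ζIso, ζ]
  rw [ιC_descC]

end Chain

section Derived

open Groth.Agent.Lib.Helper46.DerCptStd

variable {φ} [DTen.HasRHomRel φ] [DTen.HasLTenMix φ] (D : Data φ) {J : Type u}
  (P : J → DRing.Cx R) [∀ j, (P j).IsKProjective]

/-- `F₂` preserves the coproduct of the `Q P_j` -/
noncomputable def isColimitMapCocone :
    IsColimit ((F₂ φ).mapCocone (Cofan.mk (Q.obj (sigmaC P) : Dual.D R) (fun j => Q.map (ιC P j)))) where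
  desc s := cP D (sigmaC P) ≫ Q.map (ζIso φ D.Y' P).inv ≫
    Cofan.IsColimit.desc (isColimitCofan' (fun j => Ψ φ D.Y' (P j)))
      (fun j => inv (cP D (P j)) ≫ s.ι.app ⟨j⟩)
  fac s := by
    rintro ⟨j⟩
    have h1 := cP_naturality D (ιC P j)
    have h2 := ι_ζIso_hom φ D.Y' P j
    dsimp only [Ψm] at h2
    have h3 : Q.map ((DTen.extCx φ).map (ιC P j) ▷ D.Y') ≫ Q.map (ζIso φ D.Y' P).inv =
        (Q.map (ιC (fun j => Ψ φ D.Y' (P j)) j) : (Q.obj _ : Dual.D A) ⟶ _) := by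
      rw [← Functor.map_comp, ← h2, Category.assoc, Iso.hom_inv_id, Category.comp_id]
    have h4 := Cofan.IsColimit.fac (isColimitCofan' (fun j => Ψ φ D.Y' (P j)))
      (fun j => inv (cP D (P j)) ≫ s.ι.app ⟨j⟩) j
    dsimp only [Functor.mapCocone_ι_app, Cofan.mk_ι_app] at h4 ⊢
    rw [reassoc_of% h1, reassoc_of% h3]
    erw [h4]
    rw [IsIso.hom_inv_id_assoc]
  uniq s m hm := by
    have hm' : ∀ j, Q.map (ιC (fun j => Ψ φ D.Y' (P j)) j) ≫
        (Q.map (ζIso φ D.Y' P).hom ≫ inv (cP D (sigmaC P)) ≫ m) =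
        inv (cP D (P j)) ≫ s.ι.app ⟨j⟩ := by
      intro j
      have h1 := cP_naturality D (ιC P j)
      have h2 := ι_ζIso_hom φ D.Y' P j
      dsimp only [Ψm] at h2
      have h5 := hm ⟨j⟩
      dsimp only [Functor.mapCocone_ι_app, Cofan.mk_ι_app] at h5
      rw [← Functor.map_comp_assoc, h2, ← h5, IsIso.eq_inv_comp, ← reassoc_of% h1,
        IsIso.hom_inv_id_assoc]
    have h6 : Q.map (ζIso φ D.Y' P).hom ≫ inv (cP D (sigmaC P)) ≫ m =
        Cofan.IsColimit.desc (isColimitCofan' (fun j => Ψ φ D.Y' (P j)))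
          (fun j => inv (cP D (P j)) ≫ s.ι.app ⟨j⟩) :=
      Cofan.IsColimit.hom_ext (isColimitCofan' (fun j => Ψ φ D.Y' (P j))) _ _ (fun j => by
        rw [Cofan.IsColimit.fac]
        exact hm' j)
    rw [← h6, ← Functor.map_comp_assoc, Iso.inv_hom_id, CategoryTheory.Functor.map_id,
      Category.id_comp, IsIso.hom_inv_id_assoc]

include D in
lemma preservesColimit_F₂ (X : J → Dual.D R) :
    PreservesColimit (Discrete.functor X) (F₂ φ) := by
  haveI : PreservesColimit (Discrete.functor (fun j => (Q.obj (PK (X j)) : Dual.D R))) (F₂ φ) :=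
    preservesColimit_of_preserves_colimit_cocone (isColimitCofan' (fun j => PK (X j)))
      (isColimitMapCocone D (fun j => PK (X j)))
  exact preservesColimit_of_iso_diagram (F₂ φ)
    (Discrete.natIso (F := Discrete.functor (fun j => (Q.obj (PK (X j)) : Dual.D R)))
      (G := Discrete.functor X) (fun j => iK (X j.as)))

include D in
lemma preservesColimitsOfShape_F₂ (J : Type u) :
    PreservesColimitsOfShape (Discrete J) (F₂ φ) := by
  haveI : ∀ (f : J → Dual.D R), PreservesColimit (Discrete.functor f) (F₂ φ) :=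
    fun f => preservesColimit_F₂ D f
  exact preservesColimitsOfShape_of_discrete _

end Derived

end Groth.Agent.Lib.Helper46.DTenRelCoprod
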