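import Groth.Agent.Lib.Helper46.DTenRelBase
import Groth.Agent.Lib.Helper46.DTenRelCoprod
import Groth.Agent.Lib.Helper46.DTenCptEval
import Groth.Agent.Lib.Helper36.EvalHomMid

/-!
# `RHom_R(A, -) ≅ - ⊗^L_R RHom_R(A, R)` for `A` perfect over `R` (helper46)

Namespace `Groth.Agent.Lib.Helper46.DTenRelIso`.
-/

set_option autoImplicit false
set_option backward.isDefEq.respectTransparency false
universe u
open CategoryTheory CategoryTheory.Limits MonoidalCategory CategoryTheory.Pretriangulated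
attribute [local instance] HasDerivedCategory.standard

namespace Groth.Agent.Lib.Helper46.DTenRelIso

open Groth.Agent.Lib.Helper46.DTenKProj Groth.Agent.Lib.Helper46.DTenRelProj
  Groth.Agent.Lib.Helper46.DTenRelTau Groth.Agent.Lib.Helper46.DTenRelBase
  Groth.Agent.Lib.Helper46.DTenUnitShift Groth.Agent.Lib.Helper46.DTenCompact
  Groth.Agent.Lib.Helper46.DTenCptEval Groth.Agent.Lib.Helper46.LocGen
  Groth.Agent.Lib.Helper46.TriFive Groth.Agent.Lib.Helper6
  Groth.Agent.Lib.Helper46.DTenAssoc DerivedCategory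

section Adjunction

universe w v₁ v₂ u₁ u₂

variable {D₁ : Type u₁} [Category.{v₁} D₁] [Preadditive D₁] [HasZeroObject D₁] [HasShift D₁ ℤ]
  [∀ n : ℤ, (shiftFunctor D₁ n).Additive] [Pretriangulated D₁] [HasCoproducts.{w} D₁]
  {D₂ : Type u₂} [Category.{v₂} D₂] [Preadditive D₂] [HasCoproducts.{w} D₂]

/-- a right adjoint whose left adjoint sends the shifts of a generating family of compact objects
to compact objects commutes with coproducts (two categories) -/
theorem isIso_sigmaComparison_of_adjunction' {T : D₁ ⥤ D₂} {G : D₂ ⥤ D₁} (adj : T ⊣ G)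
    [T.Additive] [G.Additive]
    {ι : Type*} (E : ι → D₁) (hg : CohDer.Generates E)
    (hE : ∀ (i : ι) (m : ℤ), IsCpt.{w} ((shiftFunctor D₁ m).obj (E i)))
    (hTE : ∀ (i : ι) (m : ℤ), IsCpt.{w} (T.obj ((shiftFunctor D₁ m).obj (E i))))
    (J : Type w) (Y : J → D₂) : IsIso (sigmaComparison G Y) := by
  classical
  apply isIso_of_generates hg
  · intro k m χ
    obtain ⟨s, ψ, hψ⟩ := hTE k m J Y ((adj.homEquiv _ _).symm χ)
    refine ⟨∑ j ∈ s, adj.homEquiv _ _ (ψ j) ≫ Sigma.ι (fun j => G.obj (Y j)) j, ?_⟩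
    have h1 : χ = adj.homEquiv _ _ ((adj.homEquiv _ _).symm χ) :=
      (Equiv.apply_symm_apply _ _).symm
    rw [Preadditive.sum_comp, h1, hψ, Adjunction.homEquiv_unit, Functor.map_sum,
      Preadditive.comp_sum]
    refine Finset.sum_congr rfl fun j _ => ?_
    rw [Category.assoc, ι_comp_sigmaComparison, Adjunction.homEquiv_unit, Functor.map_comp,
      Category.assoc]
  · intro k m χ hχ
    obtain ⟨t, ht⟩ := (hE k m).eq_sum_π (fun j => G.obj (Y j)) χ
    suffices h : ∀ j ∈ t, χ ≫ Sigma.π (fun j => G.obj (Y j)) j = 0 by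
      rw [ht]
      exact Finset.sum_eq_zero fun j hj => by rw [h j hj, zero_comp]
    intro j₀ hj₀
    have h1 : ∑ j ∈ t, (χ ≫ Sigma.π (fun j => G.obj (Y j)) j) ≫ G.map (Sigma.ι Y j) = 0 := by
      rw [← hχ]
      conv_rhs => rw [ht]
      rw [Preadditive.sum_comp]
      refine Finset.sum_congr rfl fun j _ => ?_
      simp only [Category.assoc, ι_comp_sigmaComparison]
    have h2 : ∑ j ∈ t, (adj.homEquiv _ _).symm (χ ≫ Sigma.π (fun j => G.obj (Y j)) j) ≫
        Sigma.ι Y j = 0 := by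
      calc _ = ∑ j ∈ t, (adj.homEquiv _ _).symm
              ((χ ≫ Sigma.π (fun j => G.obj (Y j)) j) ≫ G.map (Sigma.ι Y j)) :=
            Finset.sum_congr rfl (fun j _ => (adj.homEquiv_naturality_right_symm _ _).symm)
        _ = (adj.homEquiv _ _).symm
              (∑ j ∈ t, (χ ≫ Sigma.π (fun j => G.obj (Y j)) j) ≫ G.map (Sigma.ι Y j)) := by
            simp only [Adjunction.homEquiv_counit, Functor.map_sum, Preadditive.sum_comp]
        _ = 0 := by
            rw [h1, Adjunction.homEquiv_counit, Functor.map_zero, zero_comp]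
    have h3 := congrArg (· ≫ Sigma.π Y j₀) h2
    simp only [Preadditive.sum_comp, Category.assoc, zero_comp] at h3
    rw [Finset.sum_eq_single j₀] at h3
    · rw [Sigma.ι_π_eq_id, Category.comp_id] at h3
      exact (adj.homEquiv _ _).symm.injective (h3.trans (by
        rw [Adjunction.homEquiv_counit, Functor.map_zero, zero_comp]))
    · intro j _ hj
      rw [Sigma.ι_π_of_ne Y hj, comp_zero]
    · intro h
      exact absurd hj₀ h

end Adjunction

variable {R A : Type u} [CommRing R] [CommRing A] (φ : R →+* A) [DTen.HasRHomRel φ]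

section F₁

instance additive_RHomRel : (DTen.RHomRel φ).Additive := (DTen.relAdj φ).right_adjoint_additive

lemma isCpt_res_gen_shift (hA : DRing.IsPerfect R ((DRing.restrictD φ).obj (DTen.unit A)))
    (k : ULift.{u} ℤ) (m : ℤ) :
    IsCpt.{u} ((DRing.restrictD φ).obj ((gen A k)⟦m⟧)) := by
  have e1 : (DRing.restrictD φ).obj ((gen A k)⟦m⟧) ≅ ((DRing.restrictD φ).obj (gen A k))⟦m⟧ :=
    ((DRing.restrictD φ).commShiftIso m).app _
  have e2 : gen A k ≅ (DTen.unit A)⟦k.down⟧ := (Q.commShiftIso k.down).app (𝟙_ (DRing.Cx A))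
  have e3 : (DRing.restrictD φ).obj (gen A k) ≅
      ((DRing.restrictD φ).obj (DTen.unit A))⟦k.down⟧ :=
    (DRing.restrictD φ).mapIso e2 ≪≫ ((DRing.restrictD φ).commShiftIso k.down).app _
  exact IsCpt.of_iso (e1 ≪≫ (shiftFunctor _ m).mapIso e3)
    (((isCpt_of_isPerfect R _ hA).shift k.down).shift m)

theorem isIso_sigmaComparison_RHomRel
    (hA : DRing.IsPerfect R ((DRing.restrictD φ).obj (DTen.unit A))) (J : Type u)
    (Y : J → Dual.D R) : IsIso (sigmaComparison (DTen.RHomRel φ) Y) :=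
  isIso_sigmaComparison_of_adjunction'.{u} (DTen.relAdj φ) (gen A) (generates_gen A)
    (isCpt_gen_shift A) (isCpt_res_gen_shift φ hA) J Y

lemma preservesColimitsOfShape_RHomRel
    (hA : DRing.IsPerfect R ((DRing.restrictD φ).obj (DTen.unit A))) (J : Type u) :
    PreservesColimitsOfShape (Discrete J) (DTen.RHomRel φ) := by
  haveI : ∀ (f : J → Dual.D R), PreservesColimit (Discrete.functor f) (DTen.RHomRel φ) :=
    fun f => by
      haveI := isIso_sigmaComparison_RHomRel φ hA J f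
      exact PreservesCoproduct.of_iso_comparison _ _
  exact preservesColimitsOfShape_of_discrete _

end F₁

section Reduce

/-- copy of helper36's `midAt_of_exact_cone` without the spurious `HasLTen` hypothesis -/
theorem midAt_of_exact_cone' (A : Type u) [CommRing A] {D' : Type*} [Category D'] [Preadditive D']
    (Φ : Dual.D A ⥤ D')
    (h : ∀ {P₁ P₂ : DRing.Cx A} [P₁.IsKProjective] [P₂.IsKProjective] (g : P₁ ⟶ P₂) (W : D')
      (x : W ⟶ Φ.obj (Q.obj (CochainComplex.mappingCone.triangle g).obj₃)),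
      x ≫ Φ.map (Q.map (CochainComplex.mappingCone.triangle g).mor₃) = 0 →
      ∃ y : W ⟶ Φ.obj (Q.obj (CochainComplex.mappingCone.triangle g).obj₂),
        y ≫ Φ.map (Q.map (CochainComplex.mappingCone.triangle g).mor₂) = x)
    (T : Triangle (Dual.D A)) (hT : T ∈ distTriang (Dual.D A)) : MidAt Φ T := by
  have hI := inv_rot_of_distTriang T hT
  obtain ⟨X, X', f, ⟨e⟩⟩ := (DerivedCategory.mem_distTriang_iff _).1 hI
  obtain ⟨P₁, p₁, hp₁, hP₁, -⟩ := Groth.Agent.Lib.Helper36.KP.exists_resolution X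
  obtain ⟨P₂, p₂, hp₂, hP₂, -⟩ := Groth.Agent.Lib.Helper36.KP.exists_resolution X'
  have := hP₁
  have := hP₂
  have : IsIso (Q.map p₁ : (Q.obj P₁ : Dual.D A) ⟶ _) :=
    (DerivedCategory.isIso_Q_map_iff_quasiIso (ModuleCat.{u} A) p₁).2 hp₁
  have : IsIso (Q.map p₂ : (Q.obj P₂ : Dual.D A) ⟶ _) :=
    (DerivedCategory.isIso_Q_map_iff_quasiIso (ModuleCat.{u} A) p₂).2 hp₂
  obtain ⟨g, hg⟩ := exists_Q_map_eq (S := P₁) (L := P₂) (Q.map p₁ ≫ Q.map f ≫ inv (Q.map p₂))
  have hTg : Q.mapTriangle.obj (CochainComplex.mappingCone.triangle g) ∈ distTriang (Dual.D A) :=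
    (DerivedCategory.mem_distTriang_iff _).2 ⟨_, _, g, ⟨Iso.refl _⟩⟩
  have hTf : Q.mapTriangle.obj (CochainComplex.mappingCone.triangle f) ∈ distTriang (Dual.D A) :=
    (DerivedCategory.mem_distTriang_iff _).2 ⟨_, _, f, ⟨Iso.refl _⟩⟩
  let i₁ : (Q.obj P₁ : Dual.D A) ≅ Q.obj X := asIso (Q.map p₁)
  let i₂ : (Q.obj P₂ : Dual.D A) ≅ Q.obj X' := asIso (Q.map p₂)
  let e' : Q.mapTriangle.obj (CochainComplex.mappingCone.triangle g) ≅
      Q.mapTriangle.obj (CochainComplex.mappingCone.triangle f) :=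
    isoTriangleOfIso₁₂ _ _ hTg hTf i₁ i₂ (by
      show Q.map g ≫ Q.map p₂ = Q.map p₁ ≫ Q.map f
      rw [hg]
      simp)
  let e₀ : T ≅ (Q.mapTriangle.obj (CochainComplex.mappingCone.triangle g)).rotate :=
    ((triangleRotation (Dual.D A)).counitIso.app T).symm ≪≫
      (rotate (Dual.D A)).mapIso (e ≪≫ e'.symm)
  refine MidAt.of_iso e₀ ?_
  intro W x hx
  have hx2 : x ≫ Φ.map (Q.map (CochainComplex.mappingCone.triangle g).mor₃) ≫
      Φ.map ((Q.commShiftIso (1 : ℤ)).hom.app P₁) = 0 := by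
    rw [← Functor.map_comp]
    exact hx
  have hx3 : x ≫ Φ.map (Q.map (CochainComplex.mappingCone.triangle g).mor₃) = 0 := by
    have h' := hx2
    rw [← Category.assoc] at h'
    exact (cancel_mono (Φ.map ((Q.commShiftIso (1 : ℤ)).hom.app P₁))).1 (h'.trans zero_comp.symm)
  exact h g W x hx3

end Reduce

section Mid

open Groth.Agent.Lib.Helper94.KFlatBi Groth.Agent.Lib.Helper94.KFlatAbs

theorem midAt_RHomRel (T : Triangle (Dual.D R)) (hT : T ∈ distTriang (Dual.D R)) :
    MidAt (DTen.RHomRel φ) T := by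
  intro W x hx
  have h1 : ((DTen.relAdj φ).homEquiv W _).symm x ≫ T.mor₂ = 0 := by
    rw [← Adjunction.homEquiv_naturality_right_symm, hx, Adjunction.homEquiv_counit,
      Functor.map_zero, zero_comp]
  obtain ⟨y, hy⟩ := Triangle.coyoneda_exact₂ T hT _ h1
  refine ⟨(DTen.relAdj φ).homEquiv _ _ y, ?_⟩
  rw [← Adjunction.homEquiv_naturality_right, ← hy, Equiv.apply_symm_apply]

lemma preservesSplit_ext_comp {B : Type*} [Category B] [Abelian B]
    (Ψ : DRing.Cx A ⥤ CochainComplex B ℤ) [Ψ.Additive] (hΨ : PreservesSplit Ψ) :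
    PreservesSplit (DTen.extCx φ ⋙ Ψ) := by
  intro S hS
  exact hΨ (S.map (DTen.extCx φ)) (fun n => ⟨(hS n).some.map (extM φ)⟩)

variable [DTen.HasLTenMix φ]
variable {φ} (D : Data φ)

include D in
theorem exact_cone_F₂ {P₁ P₂ : DRing.Cx R} [P₁.IsKProjective] [P₂.IsKProjective] (g : P₁ ⟶ P₂)
    (W : Dual.D A)
    (x : W ⟶ (F₂ φ).obj (Q.obj (CochainComplex.mappingCone.triangle g).obj₃))
    (hx : x ≫ (F₂ φ).map (Q.map (CochainComplex.mappingCone.triangle g).mor₃) = 0) :
    ∃ y : W ⟶ (F₂ φ).obj (Q.obj (CochainComplex.mappingCone.triangle g).obj₂),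
      y ≫ (F₂ φ).map (Q.map (CochainComplex.mappingCone.triangle g).mor₂) = x := by
  have k3 : (CochainComplex.mappingCone.triangle g).obj₃.IsKProjective :=
    Groth.Agent.Lib.Helper46.DTenMid.isKProjective_mappingCone R g
  have k2 : (CochainComplex.mappingCone.triangle g).obj₂.IsKProjective := ‹P₂.IsKProjective›
  have hS : ((CochainComplex.mappingCone.triangleRotateShortComplex g).map
      (DTen.extCx φ ⋙ Ψ₁ (curriedTensor (ModuleCat.{u} A)) D.Y')).ShortExact :=
    shortExact_map_cone g (preservesSplit_ext_comp φ _ (preservesSplit_Ψ₁ _ D.Y'))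
  have hdist := DerivedCategory.triangleOfSES_distinguished hS
  have n3 := cP_naturality D (CochainComplex.mappingCone.triangle g).mor₃
  have n2 := cP_naturality D (CochainComplex.mappingCone.triangle g).mor₂
  have hx' : (x ≫ cP D (CochainComplex.mappingCone.triangle g).obj₃) ≫
      Q.map ((DTen.extCx φ).map (CochainComplex.mappingCone.triangle g).mor₃ ▷ D.Y') = 0 := by
    rw [Category.assoc, ← n3, ← Category.assoc, hx, zero_comp]
  obtain ⟨y', hy'⟩ : ∃ y' : W ⟶ Q.obj ((DTen.extCx φ).obj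
      (CochainComplex.mappingCone.triangle g).obj₂ ⊗ D.Y'),
      x ≫ cP D (CochainComplex.mappingCone.triangle g).obj₃ =
      y' ≫ Q.map ((DTen.extCx φ).map (CochainComplex.mappingCone.triangle g).mor₂ ▷ D.Y') :=
    Triangle.coyoneda_exact₂ _ hdist (x ≫ cP D (CochainComplex.mappingCone.triangle g).obj₃) hx'
  have i2 : IsIso (cP D (CochainComplex.mappingCone.triangle g).obj₂) := isIso_cP D _
  have i3 : IsIso (cP D (CochainComplex.mappingCone.triangle g).obj₃) := isIso_cP D _
  refine ⟨y' ≫ inv (cP D (CochainComplex.mappingCone.triangle g).obj₂), ?_⟩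
  rw [← cancel_mono (cP D (CochainComplex.mappingCone.triangle g).obj₃), Category.assoc,
    Category.assoc, n2, IsIso.inv_hom_id_assoc]
  exact hy'.symm

include D in
theorem midAt_F₂ (T : Triangle (Dual.D R)) (hT : T ∈ distTriang (Dual.D R)) :
    MidAt (F₂ φ) T :=
  midAt_of_exact_cone' R (F₂ φ)
    (fun g W x hx => exact_cone_F₂ D g W x hx) T hT

end Mid

section Main

open Groth.Agent.Lib.Helper46.DTenRelCoprod

variable [DTen.HasLTenMix φ]
variable {φ} (D : Data φ)

include D in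
lemma preservesZeroMorphisms_F₂ : (F₂ φ).PreservesZeroMorphisms := by
  haveI := preservesColimitsOfShape_F₂ D PEmpty.{u + 1}
  haveI : PreservesColimitsOfShape (Discrete PEmpty.{1}) (F₂ φ) :=
    preservesColimitsOfShape_of_equiv
      (equivalenceOfIsEmpty (C := Discrete PEmpty.{u + 1}) (D := Discrete PEmpty.{1})) (F₂ φ)
  infer_instance

/-- `τ` is an isomorphism at all shifts of `K` -/
def Pr (K : Dual.D R) : Prop := ∀ n : ℤ, IsIso ((τ D).app (K⟦n⟧))

variable {D} in
lemma Pr.of_iso {K K' : Dual.D R} (e : K ≅ K') (h : Pr D K) : Pr D K' := fun n =>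
  haveI := h n
  isIso_app_of_iso (τ D) ((shiftFunctor (Dual.D R) n).mapIso e)

lemma pr_shift {K : Dual.D R} (h : Pr D K) (a : ℤ) : Pr D (K⟦a⟧) := fun n => by
  haveI := h (a + n)
  exact isIso_app_of_iso _ ((shiftFunctorAdd' (Dual.D R) a n (a + n) rfl).app K)

lemma pr_ext (T : Triangle (Dual.D R)) (hT : T ∈ distTriang (Dual.D R))
    (h₁ : Pr D T.obj₁) (h₃ : Pr D T.obj₃) : Pr D T.obj₂ := by
  intro n
  haveI := preservesZeroMorphisms_F₂ D
  have hTn := Triangle.shift_distinguished T hT n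
  refine isIso_app_obj₂ (τ D) (fun T hT => midAt_F₂ D T hT)
    (fun T hT => midAt_RHomRel φ T hT)
    ((CategoryTheory.shiftFunctor (Triangle (Dual.D R)) n).obj T) hTn ?_ (h₁ n) (h₃ n) ?_
  · haveI := h₃ (n + (-1))
    exact isIso_app_of_iso _ ((shiftFunctorAdd' (Dual.D R) n (-1) (n + (-1)) rfl).app T.obj₃)
  · haveI := h₁ (n + 1)
    exact isIso_app_of_iso _ ((shiftFunctorAdd' (Dual.D R) n 1 (n + 1) rfl).app T.obj₁)

lemma pr_unitShift (m : ℤ) : Pr D (Q.obj (unitShift R m)) := by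
  intro n
  have e : (Q.obj (unitShift R (m + n)) : Dual.D R) ≅ (Q.obj (unitShift R m))⟦n⟧ :=
    Q.mapIso ((shiftFunctorAdd' (DRing.Cx R) m n (m + n) rfl).app (𝟙_ (DRing.Cx R))) ≪≫
      (Q.commShiftIso n).app _
  haveI := isIso_τ_app_unitShift D (m + n)
  exact isIso_app_of_iso _ e

lemma pr_sigma (hA : DRing.IsPerfect R ((DRing.restrictD φ).obj (DTen.unit A))) (J : Type u)
    (X : J → Dual.D R) (h : ∀ j, Pr D (X j)) : Pr D (∐ X) := by
  intro n
  haveI := preservesColimitsOfShape_RHomRel φ hA J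
  haveI := preservesColimitsOfShape_F₂ D J
  exact isIso_app_sigma (Functor.whiskerLeft (shiftFunctor (Dual.D R) n) (τ D)) X
    (fun j => h j n)

theorem isIso_τ (hA : DRing.IsPerfect R ((DRing.restrictD φ).obj (DTen.unit A))) : IsIso (τ D) := by
  haveI : ∀ K, IsIso ((τ D).app K) := fun K => by
    have hPr : Pr D K :=
      prop_of_localizing R (Pr D) (fun e h => Pr.of_iso e h)
        (fun T hT h1 h2 => by
          have hT' := rot_of_distTriang T hT
          exact pr_ext D T.rotate hT' h2 (pr_shift D h1 1))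
        (pr_sigma D hA) (pr_unitShift D) K
    haveI := hPr 0
    exact isIso_app_of_iso (τ D) ((shiftFunctorZero (Dual.D R) ℤ).app K)
  exact NatIso.isIso_of_isIso_app _

end Main

/-- **Main theorem**: `RHom_R(A, -) ≅ - ⊗^L_R RHom_R(A, R)` when `A` is perfect over `R`. -/
theorem nonempty_iso [DTen.HasLTenMix φ]
    (hA : DRing.IsPerfect R ((DRing.restrictD φ).obj (DTen.unit A))) :
    Nonempty (DTen.RHomRel φ ≅
      (Functor.curry.obj (DTen.LTenMix φ)).flip.obj ((DTen.RHomRel φ).obj (DTen.unit R))) := by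
  obtain ⟨D⟩ := nonempty_data φ
  haveI := isIso_τ D hA
  exact ⟨(asIso (τ D)).symm⟩

end Groth.Agent.Lib.Helper46.DTenRelIso
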