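import Groth.Agent.Lib.Helper46.DTenRHomBC
import Groth.Agent.Lib.Helper46.DTenRelIso
import Groth.Agent.Lib.Helper46.DTenPerfect
import Groth.Agent.Lib.Helper36.EvalHomNat
import Groth.Agent.S13576
import Groth.Agent.Lib.Helper12.DRingTrunc

/-!
# Base change for derived Hom: `bcRHom φ K M` is an isomorphism for perfect `K` (helper46)

Namespace `Groth.Agent.Lib.Helper46.DTenBcRHom`.

* `symmIso`, `additive_LTen_obj`, `isEquivalence_tensorRightD_unitShift`: consequences of the symmetry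
  (`S13576`) that need no `IsSymMonoidal` binder.
* `β φ K M` = `DTen.bcRHom φ K M` with the instance hypothesis discharged (`isIso_rhomBC`);
  `μ_βflat` (characterisation of its adjunct), `β_naturality` (naturality in `K`).
* `rhom_split_exact`: `RHom(-, M)` on degreewise split short exact sequences of K-projectives.
* `Φ₁`, `Φ₂ : D(R) ⥤ D(R')ᵒᵖ`, `η : Φ₂ ⟶ Φ₁` (components `β.op`), `midAt_Φ₁`, `midAt_Φ₂`.
* `μsharp` (monoidal structure map of `LBase`, an isomorphism), `isIso_β_of_isEquivalence`.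
* `isIso_β_of_isPerfect`.
-/

set_option autoImplicit false
set_option backward.isDefEq.respectTransparency false
universe u
open CategoryTheory CategoryTheory.Limits MonoidalCategory CategoryTheory.Pretriangulated Opposite
attribute [local instance] HasDerivedCategory.standard

namespace Groth.Agent.Lib.Helper46.DTenBcRHom

open Groth.Agent.Lib.Helper46.DTenKProj Groth.Agent.Lib.Helper46.DTenRHomBC
  Groth.Agent.Lib.Helper46.DTenUnitShift Groth.Agent.Lib.Helper46.TriFive
  Groth.Agent.Lib.Helper46.DTenAssoc DerivedCategory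

section Sym

variable (A : Type u) [CommRing A] [DTen.HasLTen A]

/-- the symmetry as a natural isomorphism `- ⊗^L X ≅ X ⊗^L -` (no binder needed) -/
noncomputable def symmIso (X : Dual.D A) : DTen.tensorRightD A X ≅ (DTen.LTen A).obj X :=
  NatIso.ofComponents (fun Y =>
    haveI := Groth.Agent.S13576.result A X Y
    asIso ((DTen.symm A).app (X, Y)))
    (fun {Y Y'} y => (DTen.symm A).naturality
      (Prod.mkHom (𝟙 X) y : ((X, Y) : Dual.D A × Dual.D A) ⟶ (X, Y')))

instance isEquivalence_tensorRightD_unitShift (m : ℤ) :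
    (DTen.tensorRightD A (Q.obj (unitShift A m))).IsEquivalence :=
  Functor.isEquivalence_of_iso (symmIso A (Q.obj (unitShift A m))).symm

variable [DTen.HasRHom A]

instance additive_LTen_obj (X : Dual.D A) : ((DTen.LTen A).obj X).Additive :=
  Functor.additive_of_iso (symmIso A X)

end Sym


section Key

variable {R R' : Type u} [CommRing R] [CommRing R'] (φ : R →+* R')
  [DTen.HasLTen R] [DTen.HasLTen R'] [DTen.HasRHom R] [DTen.HasRHom R'] [DTen.HasLBase φ]
  [DTen.HasResTen φ] [DTen.ResLegIso φ]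

/-- `bcRHom` with its instance hypothesis discharged by `isIso_rhomBC` -/
noncomputable def β (K M : Dual.D R) :
    (DTen.LBase φ).obj ((DTen.RHomR R K).obj M) ⟶
      (DTen.RHomR R' ((DTen.LBase φ).obj K)).obj ((DTen.LBase φ).obj M) :=
  haveI := isIso_rhomBC φ K ((DTen.LBase φ).obj M)
  DTen.bcRHom φ K M

lemma β_eq (K M : Dual.D R) [IsIso (DTen.rhomBC φ K ((DTen.LBase φ).obj M))] :
    β φ K M = DTen.bcRHom φ K M := rfl

/-- the adjunct of `β` -/
noncomputable def βflat (K M : Dual.D R) :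
    (DTen.LTen₂ R').obj ((DTen.LBase φ).obj ((DTen.RHomR R K).obj M), (DTen.LBase φ).obj K) ⟶
      (DTen.LBase φ).obj M :=
  ((DTen.rhomAdj R' ((DTen.LBase φ).obj K)).homEquiv _ _).symm (β φ K M)

/-- the characterisation of `β`: its adjunct is "`LBase(ev)` modulo the monoidal structure" -/
theorem μ_βflat (K M : Dual.D R) :
    μ φ ((DTen.RHomR R K).obj M) K ≫ (DRing.restrictD φ).map (βflat φ K M) =
      DTen.ev K M ≫ (DTen.baseAdj φ).unit.app M := by
  haveI := isIso_rhomBC φ K ((DTen.LBase φ).obj M)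
  have h := rhomBC_adjunct φ K ((DTen.LBase φ).obj M) ((DTen.RHomR R K).obj M) (β φ K M)
  have h1 : (DTen.baseAdj φ).homEquiv _ _ (β φ K M) ≫ DTen.rhomBC φ K ((DTen.LBase φ).obj M) =
      (DTen.RHomR R K).map ((DTen.baseAdj φ).unit.app M) := by
    rw [Adjunction.homEquiv_unit]
    have := DTen.bcRHom_fac φ K M
    rw [β_eq, this, Category.assoc, IsIso.inv_hom_id, Category.comp_id]
  rw [h1, Adjunction.homEquiv_counit] at h
  dsimp only [βflat]
  rw [← h]
  exact (DTen.rhomAdj R K).counit.naturality ((DTen.baseAdj φ).unit.app M)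

theorem β_naturality {K K' : Dual.D R} (f : K ⟶ K') (M : Dual.D R) :
    β φ K' M ≫ DTen.RHomMap ((DTen.LBase φ).map f) ((DTen.LBase φ).obj M) =
      (DTen.LBase φ).map (DTen.RHomMap f M) ≫ β φ K M := by
  apply (DTen.rhomHomEquiv _ _ _).symm.injective
  rw [Groth.Agent.Lib.Helper36.EHN.homEquiv_symm_comp_RHomMap]
  erw [(DTen.rhomAdj R' ((DTen.LBase φ).obj K)).homEquiv_naturality_left_symm]
  apply (bijective_μ_comp_res φ ((DTen.RHomR R K').obj M) K ((DTen.LBase φ).obj M)).1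
  dsimp only
  have n1 := μ_naturality φ (𝟙 ((DTen.RHomR R K').obj M)) f
  have n2 := μ_naturality φ (DTen.RHomMap f M) (𝟙 K)
  rw [CategoryTheory.Functor.map_id] at n1 n2
  have k1 := μ_βflat φ K' M
  have k2 := μ_βflat φ K M
  have e := DTen.RHom_map_ev f M
  calc _ = μ φ ((DTen.RHomR R K').obj M) K ≫ (DRing.restrictD φ).map
        ((DTen.LTen₂ R').map (Prod.mkHom (𝟙 _) ((DTen.LBase φ).map f))) ≫
          (DRing.restrictD φ).map (βflat φ K' M) := by
        rw [← Functor.map_comp]; rfl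
    _ = (DTen.LTen₂ R).map (Prod.mkHom (𝟙 _) f) ≫ DTen.ev K' M ≫ (DTen.baseAdj φ).unit.app M := by
        rw [← reassoc_of% n1, k1]
    _ = (DTen.LTen₂ R).map (Prod.mkHom (DTen.RHomMap f M) (𝟙 K)) ≫ DTen.ev K M ≫
          (DTen.baseAdj φ).unit.app M := by
        rw [← reassoc_of% e]
    _ = μ φ ((DTen.RHomR R K').obj M) K ≫ (DRing.restrictD φ).map
        ((DTen.LTen₂ R').map (Prod.mkHom ((DTen.LBase φ).map (DTen.RHomMap f M)) (𝟙 _))) ≫
          (DRing.restrictD φ).map (βflat φ K M) := by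
        rw [← reassoc_of% n2, k2]
    _ = _ := by
        rw [← Functor.map_comp]; rfl

end Key


section Exact

variable (A : Type u) [CommRing A] [DTen.HasLTen A] [DTen.HasRHom A]

open Groth.Agent.Lib.Helper36.HCA Groth.Agent.Lib.Helper36.RHM

/-- the chain model of `RHom(Q P, M)` with a general target -/
noncomputable def cmpL (P M₀ : DRing.Cx A) {M : Dual.D A} (eM : Q.obj M₀ ≅ M) :
    (Q.obj (DRing.homCx P M₀) : Dual.D A) ⟶ (DTen.RHomR A (Q.obj P)).obj M :=
  cmp A P M₀ ≫ (DTen.RHomR A (Q.obj P)).map eM.hom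

lemma isIso_cmpL (P M₀ : DRing.Cx A) [P.IsKProjective] {M : Dual.D A} (eM : Q.obj M₀ ≅ M) :
    IsIso (cmpL A P M₀ eM) := by
  have := isIso_cmp A P M₀
  dsimp only [cmpL]
  infer_instance

lemma cmpL_naturality {P P' : DRing.Cx A} (g : P' ⟶ P) (M₀ : DRing.Cx A) {M : Dual.D A}
    (eM : Q.obj M₀ ≅ M) :
    cmpL A P M₀ eM ≫ DTen.RHomMap (Q.map g) M = Q.map (homCxPre g M₀) ≫ cmpL A P' M₀ eM := by
  have h : (DTen.RHomR A (Q.obj P)).map eM.hom ≫ DTen.RHomMap (Q.map g) M =
      DTen.RHomMap (Q.map g) (Q.obj M₀) ≫ (DTen.RHomR A (Q.obj P')).map eM.hom :=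
    ((DTen.RHom A).map (Q.map g).op).naturality eM.hom
  dsimp only [cmpL]
  rw [Category.assoc, h, ← Category.assoc, cmp_naturality, Category.assoc]

/-- `RHom(-, M)` turns a degreewise split short exact sequence of K-projective complexes into
an "exact" sequence (in the sense of `Hom(-, V)`) -/
theorem rhom_split_exact (S : ShortComplex (DRing.Cx A))
    (σ : ∀ n : ℤ, (S.map (HomologicalComplex.eval (ModuleCat.{u} A) (ComplexShape.up ℤ) n)).Splitting)
    [S.X₁.IsKProjective] [S.X₂.IsKProjective] (M V : Dual.D A)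
    (x : (DTen.RHomR A (Q.obj S.X₂)).obj M ⟶ V)
    (hx : DTen.RHomMap (Q.map S.g) M ≫ x = 0) :
    ∃ y : (DTen.RHomR A (Q.obj S.X₁)).obj M ⟶ V, DTen.RHomMap (Q.map S.f) M ≫ y = x := by
  let M₀ : DRing.Cx A := Q.objPreimage M
  let eM : Q.obj M₀ ≅ M := Q.objObjPreimageIso M
  have hS := shortExact_homCxPre S σ M₀
  have hdist := DerivedCategory.triangleOfSES_distinguished hS
  have i1 : IsIso (cmpL A S.X₁ M₀ eM) := isIso_cmpL A S.X₁ M₀ eM
  have i2 : IsIso (cmpL A S.X₂ M₀ eM) := isIso_cmpL A S.X₂ M₀ eM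
  have n3 := cmpL_naturality A S.g M₀ eM
  have n2 := cmpL_naturality A S.f M₀ eM
  have hx' : (DerivedCategory.triangleOfSES hS).mor₁ ≫ (cmpL A S.X₂ M₀ eM ≫ x) = 0 := by
    show Q.map (homCxPre S.g M₀) ≫ cmpL A S.X₂ M₀ eM ≫ x = 0
    rw [← Category.assoc, ← n3, Category.assoc, hx, comp_zero]
  obtain ⟨y', hy'⟩ := Triangle.yoneda_exact₂ _ hdist _ hx'
  have hy'' : cmpL A S.X₂ M₀ eM ≫ x = Q.map (homCxPre S.f M₀) ≫ y' := hy'
  refine ⟨inv (cmpL A S.X₁ M₀ eM) ≫ y', ?_⟩
  have e2 : DTen.RHomMap (Q.map S.f) M ≫ inv (cmpL A S.X₁ M₀ eM) =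
      inv (cmpL A S.X₂ M₀ eM) ≫ Q.map (homCxPre S.f M₀) := by
    rw [IsIso.comp_inv_eq, Category.assoc, ← n2, IsIso.inv_hom_id_assoc]
  rw [← Category.assoc, e2, Category.assoc, ← hy'', IsIso.inv_hom_id_assoc]

end Exact


section Additive

variable (A : Type u) [CommRing A] [DTen.HasLTen A] [DTen.HasRHom A]

lemma homEquiv_symm_RHomMap {K K' : Dual.D A} (f : K ⟶ K') (L : Dual.D A) :
    (DTen.rhomHomEquiv _ _ _).symm (DTen.RHomMap f L) =
      ((DTen.LTen A).obj ((DTen.RHomR A K').obj L)).map f ≫ DTen.ev K' L := by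
  have e1 : (DTen.rhomHomEquiv _ _ _).symm (DTen.RHomMap f L) =
      (DTen.LTen₂ A).map (Prod.mkHom (DTen.RHomMap f L) (𝟙 K)) ≫ DTen.ev K L :=
    (DTen.rhomAdj A K).homEquiv_counit _ _ _
  rw [e1, DTen.RHom_map_ev]
  rfl

lemma homEquiv_symm_add {W N M : Dual.D A} (u u' : W ⟶ (DTen.RHomR A N).obj M) :
    (DTen.rhomHomEquiv W N M).symm (u + u') =
      (DTen.rhomHomEquiv W N M).symm u + (DTen.rhomHomEquiv W N M).symm u' := by
  have e : ∀ v : W ⟶ (DTen.RHomR A N).obj M, (DTen.rhomHomEquiv W N M).symm v =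
      (DTen.tensorRightD A N).map v ≫ DTen.ev N M :=
    fun v => (DTen.rhomAdj A N).homEquiv_counit _ _ _
  rw [e, e, e, Functor.map_add, Preadditive.add_comp]

lemma RHomMap_add {K K' : Dual.D A} (f f' : K ⟶ K') (L : Dual.D A) :
    DTen.RHomMap (f + f') L = DTen.RHomMap f L + DTen.RHomMap f' L := by
  apply (DTen.rhomHomEquiv _ _ _).symm.injective
  rw [homEquiv_symm_add, homEquiv_symm_RHomMap, homEquiv_symm_RHomMap, homEquiv_symm_RHomMap,
    Functor.map_add, Preadditive.add_comp]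

instance additive_RHom_flip_obj (L : Dual.D A) : ((DTen.RHom A).flip.obj L).Additive where
  map_add {X Y} {f f'} := by
    show DTen.RHomMap (f + f').unop L = DTen.RHomMap f.unop L + DTen.RHomMap f'.unop L
    rw [unop_add, RHomMap_add]

lemma RHomMap_comp {K K' K'' : Dual.D A} (a : K ⟶ K') (b : K' ⟶ K'') (L : Dual.D A) :
    DTen.RHomMap (a ≫ b) L = DTen.RHomMap b L ≫ DTen.RHomMap a L := by
  show ((DTen.RHom A).map (a ≫ b).op).app L = _
  rw [op_comp, Functor.map_comp]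
  rfl

instance isIso_RHomMap {K K' : Dual.D A} (a : K ⟶ K') [IsIso a] (L : Dual.D A) :
    IsIso (DTen.RHomMap a L) := by
  dsimp only [DTen.RHomMap]
  infer_instance

end Additive

section Functors

variable {R R' : Type u} [CommRing R] [CommRing R'] (φ : R →+* R')
  [DTen.HasLTen R] [DTen.HasLTen R'] [DTen.HasRHom R] [DTen.HasRHom R'] [DTen.HasLBase φ]

instance additive_LBase : (DTen.LBase φ).Additive := (DTen.baseAdj φ).left_adjoint_additive

/-- `K ↦ LBase (RHom(K, M))`, as a functor to the opposite category -/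
noncomputable def Φ₁ (M : Dual.D R) : Dual.D R ⥤ (Dual.D R')ᵒᵖ :=
  ((DTen.RHom R).flip.obj M ⋙ DTen.LBase φ).rightOp

/-- `K ↦ RHom(LBase K, LBase M)`, as a functor to the opposite category -/
noncomputable def Φ₂ (M : Dual.D R) : Dual.D R ⥤ (Dual.D R')ᵒᵖ :=
  ((DTen.LBase φ).op ⋙ (DTen.RHom R').flip.obj ((DTen.LBase φ).obj M)).rightOp

instance (M : Dual.D R) : (Φ₁ φ M).Additive := by
  dsimp only [Φ₁]
  infer_instance

instance (M : Dual.D R) : (Φ₂ φ M).Additive := by
  dsimp only [Φ₂]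
  infer_instance

lemma Φ₁_map (M : Dual.D R) {K K' : Dual.D R} (f : K ⟶ K') :
    (Φ₁ φ M).map f = ((DTen.LBase φ).map (DTen.RHomMap f M)).op := rfl

lemma Φ₂_map (M : Dual.D R) {K K' : Dual.D R} (f : K ⟶ K') :
    (Φ₂ φ M).map f = (DTen.RHomMap ((DTen.LBase φ).map f) ((DTen.LBase φ).obj M)).op := rfl

theorem exact_cone_Φ₁ (M : Dual.D R) {P₁ P₂ : DRing.Cx R} [P₁.IsKProjective] [P₂.IsKProjective]
    (g : P₁ ⟶ P₂) (W : (Dual.D R')ᵒᵖ)
    (x : W ⟶ (Φ₁ φ M).obj (Q.obj (CochainComplex.mappingCone.triangle g).obj₃))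
    (hx : x ≫ (Φ₁ φ M).map (Q.map (CochainComplex.mappingCone.triangle g).mor₃) = 0) :
    ∃ y : W ⟶ (Φ₁ φ M).obj (Q.obj (CochainComplex.mappingCone.triangle g).obj₂),
      y ≫ (Φ₁ φ M).map (Q.map (CochainComplex.mappingCone.triangle g).mor₂) = x := by
  let S := CochainComplex.mappingCone.triangleRotateShortComplex g
  have k2 : S.X₂.IsKProjective := Groth.Agent.Lib.Helper46.DTenMid.isKProjective_mappingCone R g
  have k1 : S.X₁.IsKProjective := ‹P₂.IsKProjective›
  let adj := DTen.baseAdj φ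
  let x₀ : (DTen.LBase φ).obj ((DTen.RHomR R (Q.obj S.X₂)).obj M) ⟶ W.unop := x.unop
  have hx₀ : (DTen.LBase φ).map (DTen.RHomMap (Q.map S.g) M) ≫ x₀ = 0 :=
    congrArg Quiver.Hom.unop hx
  have h1 : DTen.RHomMap (Q.map S.g) M ≫ adj.homEquiv _ _ x₀ = 0 := by
    rw [← Adjunction.homEquiv_naturality_left, hx₀, Adjunction.homEquiv_unit, Functor.map_zero,
      comp_zero]
  obtain ⟨y, hy⟩ := rhom_split_exact R S
    (fun n => CochainComplex.mappingCone.triangleRotateShortComplexSplitting g n) M _ _ h1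
  refine ⟨((adj.homEquiv _ _).symm y).op, ?_⟩
  apply Quiver.Hom.unop_inj
  show (DTen.LBase φ).map (DTen.RHomMap (Q.map S.f) M) ≫ (adj.homEquiv _ _).symm y = x₀
  rw [← Adjunction.homEquiv_naturality_left_symm, hy, Equiv.symm_apply_apply]

theorem exact_cone_Φ₂ (M : Dual.D R) {P₁ P₂ : DRing.Cx R} [P₁.IsKProjective] [P₂.IsKProjective]
    (g : P₁ ⟶ P₂) (W : (Dual.D R')ᵒᵖ)
    (x : W ⟶ (Φ₂ φ M).obj (Q.obj (CochainComplex.mappingCone.triangle g).obj₃))
    (hx : x ≫ (Φ₂ φ M).map (Q.map (CochainComplex.mappingCone.triangle g).mor₃) = 0) :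
    ∃ y : W ⟶ (Φ₂ φ M).obj (Q.obj (CochainComplex.mappingCone.triangle g).obj₂),
      y ≫ (Φ₂ φ M).map (Q.map (CochainComplex.mappingCone.triangle g).mor₂) = x := by
  let S := CochainComplex.mappingCone.triangleRotateShortComplex g
  let N := (DTen.LBase φ).obj M
  have k2 : S.X₂.IsKProjective := Groth.Agent.Lib.Helper46.DTenMid.isKProjective_mappingCone R g
  have k1 : S.X₁.IsKProjective := ‹P₂.IsKProjective›
  have k3 : S.X₃.IsKProjective := inferInstanceAs (P₁⟦(1 : ℤ)⟧).IsKProjective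
  let S' := S.map (DTen.extCx φ)
  have k1' : S'.X₁.IsKProjective := Groth.Agent.Lib.Helper36.BCKP.isKProjective_extendScalars φ S.X₁
  have k2' : S'.X₂.IsKProjective := Groth.Agent.Lib.Helper36.BCKP.isKProjective_extendScalars φ S.X₂
  have i1 : IsIso ((DTen.baseCmp φ).app S.X₁) := isIso_baseCmp_of_isKProjective φ S.X₁
  have i2 : IsIso ((DTen.baseCmp φ).app S.X₂) := isIso_baseCmp_of_isKProjective φ S.X₂
  have ng : (DTen.LBase φ).map (Q.map S.g) ≫ (DTen.baseCmp φ).app S.X₃ =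
      (DTen.baseCmp φ).app S.X₂ ≫ Q.map S'.g := (DTen.baseCmp φ).naturality S.g
  have nf : (DTen.LBase φ).map (Q.map S.f) ≫ (DTen.baseCmp φ).app S.X₂ =
      (DTen.baseCmp φ).app S.X₁ ≫ Q.map S'.f := (DTen.baseCmp φ).naturality S.f
  let x₀ : (DTen.RHomR R' ((DTen.LBase φ).obj (Q.obj S.X₂))).obj N ⟶ W.unop := x.unop
  have hx₀ : DTen.RHomMap ((DTen.LBase φ).map (Q.map S.g)) N ≫ x₀ = 0 :=
    congrArg Quiver.Hom.unop hx
  have h1 : DTen.RHomMap (Q.map S'.g) N ≫ (DTen.RHomMap ((DTen.baseCmp φ).app S.X₂) N ≫ x₀) = 0 := by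
    rw [← Category.assoc, ← RHomMap_comp, ← ng, RHomMap_comp, Category.assoc, hx₀, comp_zero]
  obtain ⟨y, hy⟩ := rhom_split_exact R' S'
    (fun n => (CochainComplex.mappingCone.triangleRotateShortComplexSplitting g n).map (DTen.extM φ))
    N _ _ h1
  refine ⟨(inv (DTen.RHomMap ((DTen.baseCmp φ).app S.X₁) N) ≫ y).op, ?_⟩
  apply Quiver.Hom.unop_inj
  show DTen.RHomMap ((DTen.LBase φ).map (Q.map S.f)) N ≫
    inv (DTen.RHomMap ((DTen.baseCmp φ).app S.X₁) N) ≫ y = x₀
  have e2 : DTen.RHomMap ((DTen.LBase φ).map (Q.map S.f)) N ≫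
      inv (DTen.RHomMap ((DTen.baseCmp φ).app S.X₁) N) =
      inv (DTen.RHomMap ((DTen.baseCmp φ).app S.X₂) N) ≫ DTen.RHomMap (Q.map S'.f) N := by
    rw [IsIso.comp_inv_eq, Category.assoc, ← RHomMap_comp, ← nf, RHomMap_comp,
      IsIso.inv_hom_id_assoc]
  rw [← Category.assoc, e2, Category.assoc, hy, IsIso.inv_hom_id_assoc]

theorem midAt_Φ₁ (M : Dual.D R) (T : Triangle (Dual.D R)) (hT : T ∈ distTriang (Dual.D R)) :
    MidAt (Φ₁ φ M) T :=
  Groth.Agent.Lib.Helper46.DTenRelIso.midAt_of_exact_cone' R (Φ₁ φ M)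
    (fun g W x hx => exact_cone_Φ₁ φ M g W x hx) T hT

theorem midAt_Φ₂ (M : Dual.D R) (T : Triangle (Dual.D R)) (hT : T ∈ distTriang (Dual.D R)) :
    MidAt (Φ₂ φ M) T :=
  Groth.Agent.Lib.Helper46.DTenRelIso.midAt_of_exact_cone' R (Φ₂ φ M)
    (fun g W x hx => exact_cone_Φ₂ φ M g W x hx) T hT

variable [DTen.HasResTen φ] [DTen.ResLegIso φ]

/-- `bcRHom` as a natural transformation in `K` (in the opposite category) -/
noncomputable def η (M : Dual.D R) : Φ₂ φ M ⟶ Φ₁ φ M where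
  app K := (β φ K M).op
  naturality K K' f := by
    rw [Φ₁_map, Φ₂_map, ← op_comp, ← op_comp, β_naturality]

lemma isIso_η_app_iff (M K : Dual.D R) : IsIso ((η φ M).app K) ↔ IsIso (β φ K M) :=
  isIso_op_iff _

end Functors


section Base

variable {R R' : Type u} [CommRing R] [CommRing R'] (φ : R →+* R')

/-- extension of scalars of the unit complex -/
noncomputable def extUnitIso : (DTen.extCx φ).obj (𝟙_ (DRing.Cx R)) ≅ 𝟙_ (DRing.Cx R') :=
  (HomologicalComplex.singleMapHomologicalComplex (DTen.extM φ) (ComplexShape.up ℤ) 0).app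
      (𝟙_ (ModuleCat.{u} R)) ≪≫
    (HomologicalComplex.single (ModuleCat.{u} R') (ComplexShape.up ℤ) 0).mapIso
      (Functor.Monoidal.εIso (DTen.extM φ)).symm

/-- extension of scalars of the shifted unit complex -/
noncomputable def extUnitShiftIso (m : ℤ) :
    (DTen.extCx φ).obj (unitShift R m) ≅ unitShift R' m :=
  ((DTen.extCx φ).commShiftIso m).app _ ≪≫ (shiftFunctor (DRing.Cx R') m).mapIso (extUnitIso φ)

variable [DTen.HasLTen R] [DTen.HasLTen R'] [DTen.HasRHom R] [DTen.HasRHom R'] [DTen.HasLBase φ]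

/-- `LBase (R[m]) ≅ R'[m]` -/
noncomputable def LBaseUnitShiftIso (m : ℤ) :
    (DTen.LBase φ).obj (Q.obj (unitShift R m)) ≅ Q.obj (unitShift R' m) :=
  haveI := isIso_baseCmp_of_isKProjective φ (unitShift R m)
  asIso ((DTen.baseCmp φ).app (unitShift R m)) ≪≫ Q.mapIso (extUnitShiftIso φ m)

instance isEquivalence_tensorRightD_LBase_unitShift (m : ℤ) :
    (DTen.tensorRightD R' ((DTen.LBase φ).obj (Q.obj (unitShift R m)))).IsEquivalence :=
  Functor.isEquivalence_of_iso ((DTen.LTen R').flip.mapIso (LBaseUnitShiftIso φ m)).symm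

variable [DTen.HasResTen φ] [DTen.ResLegIso φ]

/-- the monoidal structure map of `LBase` -/
noncomputable def μsharp (W K : Dual.D R) :
    (DTen.LBase φ).obj ((DTen.LTen₂ R).obj (W, K)) ⟶
      (DTen.LTen₂ R').obj ((DTen.LBase φ).obj W, (DTen.LBase φ).obj K) :=
  ((DTen.baseAdj φ).homEquiv _ _).symm (μ φ W K)

instance isIso_μsharp (W K : Dual.D R) : IsIso (μsharp φ W K) := by
  apply isIso_of_coyoneda_map_bijective
  intro T
  have hb := bijective_μ_comp_res φ W K T
  have e : (fun y : (DTen.LTen₂ R').obj ((DTen.LBase φ).obj W, (DTen.LBase φ).obj K) ⟶ T =>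
      μsharp φ W K ≫ y) =
      fun y => ((DTen.baseAdj φ).homEquiv _ _).symm (μ φ W K ≫ (DRing.restrictD φ).map y) := by
    funext y
    exact ((DTen.baseAdj φ).homEquiv_naturality_right_symm _ _).symm
  rw [e]
  exact ((DTen.baseAdj φ).homEquiv _ _).symm.bijective.comp hb

lemma μsharp_βflat (K M : Dual.D R) :
    μsharp φ ((DTen.RHomR R K).obj M) K ≫ βflat φ K M = (DTen.LBase φ).map (DTen.ev K M) := by
  apply ((DTen.baseAdj φ).homEquiv _ _).injective
  rw [Adjunction.homEquiv_naturality_right]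
  dsimp only [μsharp]
  rw [Equiv.apply_symm_apply, μ_βflat, Adjunction.homEquiv_unit]
  exact (DTen.baseAdj φ).unit.naturality (DTen.ev K M)

theorem isIso_β_of_isEquivalence (K M : Dual.D R) [(DTen.tensorRightD R K).IsEquivalence]
    [(DTen.tensorRightD R' ((DTen.LBase φ).obj K)).IsEquivalence] : IsIso (β φ K M) := by
  have h1 : IsIso (DTen.ev K M) := by
    have := (DTen.rhomAdj R K).isEquivalence_right_of_isEquivalence_left
    exact inferInstanceAs (IsIso ((DTen.rhomAdj R K).counit.app M))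
  have h2 : IsIso (βflat φ K M) := by
    have e := μsharp_βflat φ K M
    have e' : βflat φ K M =
        inv (μsharp φ ((DTen.RHomR R K).obj M) K) ≫ (DTen.LBase φ).map (DTen.ev K M) := by
      rw [← e, IsIso.inv_hom_id_assoc]
    rw [e']
    infer_instance
  have h3 : β φ K M =
      (DTen.rhomAdj R' ((DTen.LBase φ).obj K)).homEquiv _ _ (βflat φ K M) :=
    (Equiv.apply_symm_apply _ _).symm
  rw [h3, Adjunction.homEquiv_unit]
  infer_instance

end Base

section Devissage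

open Groth.Agent.Lib.Helper12 DRing

variable {R R' : Type u} [CommRing R] [CommRing R'] (φ : R →+* R')
  [DTen.HasLTen R] [DTen.HasLTen R'] [DTen.HasRHom R] [DTen.HasRHom R'] [DTen.HasLBase φ]
  [DTen.HasResTen φ] [DTen.ResLegIso φ] (M : Dual.D R)

/-- `bcRHom` is an isomorphism at all shifts of `K` -/
def Pr (K : Dual.D R) : Prop := ∀ n : ℤ, IsIso ((η φ M).app (K⟦n⟧))

variable {φ M} in
lemma Pr.of_iso {K K' : Dual.D R} (e : K ≅ K') (h : Pr φ M K) : Pr φ M K' := fun n =>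
  have := h n
  isIso_app_of_iso (η φ M) ((shiftFunctor (Dual.D R) n).mapIso e)

lemma pr_of_isZero {K : Dual.D R} (h : IsZero K) : Pr φ M K := fun n => by
  have h1 : IsZero (K⟦n⟧) := (shiftFunctor (Dual.D R) n).map_isZero h
  have h2 := (Φ₂ φ M).map_isZero h1
  have h3 := (Φ₁ φ M).map_isZero h1
  exact ⟨0, h2.eq_of_src _ _, h3.eq_of_src _ _⟩

lemma pr_ext (T : Triangle (Dual.D R)) (hT : T ∈ distTriang (Dual.D R))
    (h₁ : Pr φ M T.obj₁) (h₃ : Pr φ M T.obj₃) : Pr φ M T.obj₂ := by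
  intro n
  have hTn := Triangle.shift_distinguished T hT n
  refine isIso_app_obj₂ (η φ M) (fun T hT => midAt_Φ₂ φ M T hT)
    (fun T hT => midAt_Φ₁ φ M T hT)
    ((CategoryTheory.shiftFunctor (Triangle (Dual.D R)) n).obj T) hTn ?_ (h₁ n) (h₃ n) ?_
  · have := h₃ (n + (-1))
    exact isIso_app_of_iso _ ((shiftFunctorAdd' (Dual.D R) n (-1) (n + (-1)) rfl).app T.obj₃)
  · have := h₁ (n + 1)
    exact isIso_app_of_iso _ ((shiftFunctorAdd' (Dual.D R) n 1 (n + 1) rfl).app T.obj₁)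

lemma pr_unitShift (m : ℤ) : Pr φ M (Q.obj (unitShift R m)) := by
  intro n
  have e : (Q.obj (unitShift R (m + n)) : Dual.D R) ≅ (Q.obj (unitShift R m))⟦n⟧ :=
    Q.mapIso ((shiftFunctorAdd' (DRing.Cx R) m n (m + n) rfl).app (𝟙_ (DRing.Cx R))) ≪≫
      (Q.commShiftIso n).app _
  have : IsIso ((η φ M).app (Q.obj (unitShift R (m + n)))) := by
    rw [isIso_η_app_iff]
    exact isIso_β_of_isEquivalence φ _ M
  exact isIso_app_of_iso _ e

lemma pr_single (a : ℤ) (N : ModuleCat.{u} R) [Module.Finite R N] [Module.Projective R N] :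
    Pr φ M (toD (singleCx a N)) := by
  intro n
  let S : ModuleCat.{u} R ⥤ Dual.D R :=
    HomologicalComplex.single (ModuleCat.{u} R) (ComplexShape.up ℤ) a ⋙ Q ⋙
      shiftFunctor (Dual.D R) n
  refine isIso_app_of_finite_projective (Functor.whiskerLeft S (η φ M)) ?_ N
  show IsIso ((η φ M).app ((Q.obj (singleCx a (ModuleCat.of R R)))⟦n⟧))
  have e : (Q.obj (unitShift R (-a)) : Dual.D R) ≅ Q.obj (singleCx a (ModuleCat.of R R)) :=
    Q.mapIso (((CochainComplex.singleFunctors (ModuleCat.{u} R)).shiftIso (-a) a 0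
      (by omega)).app (ModuleCat.of R R))
  exact (Pr.of_iso e (pr_unitShift φ M (-a))) n

theorem isIso_β_of_isPerfect (K : Dual.D R) (hK : DRing.IsPerfect R K) : IsIso (β φ K M) := by
  obtain ⟨E, a, b, hE, hproj, ⟨e⟩⟩ := hK
  have hPr : Pr φ M (toD E) :=
    bounded_induction (Pr φ M) (fun N => Module.Finite R N ∧ Module.Projective R N)
      (fun {N N'} i h => by
        have := h.1
        have := h.2
        exact ⟨Module.Finite.equiv i.toLinearEquiv, Module.Projective.of_equiv i.toLinearEquiv⟩)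
      (fun {N} h => by
        have : Subsingleton N := ModuleCat.subsingleton_of_isZero h
        exact ⟨inferInstance, inferInstance⟩)
      (fun K h => pr_of_isZero φ M h)
      (fun N a h => by
        have := h.1
        have := h.2
        exact pr_single φ M a N)
      (fun T hT h1 h3 => pr_ext φ M T hT h1 h3)
      E a b hE hproj
  have := (Pr.of_iso e hPr) 0
  have : IsIso ((η φ M).app K) :=
    isIso_app_of_iso (η φ M) ((shiftFunctorZero (Dual.D R) ℤ).app K)
  exact (isIso_η_app_iff φ M K).1 this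

end Devissage

end Groth.Agent.Lib.Helper46.DTenBcRHom
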