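import Groth.Agent.Lib.Helper46.DTenBcRHomProd
import Groth.Agent.Lib.Helper12.DRingFFDescent
import Groth.Agent.Lib.Helper12.DRingPCAbove
import Groth.Agent.Lib.Helper12.FlatAdj

/-!
# `bcRHom φ K M` is an isomorphism for `K` pseudo-coherent and `M` bounded below (helper46)

Namespace `Groth.Agent.Lib.Helper46.DTenBcRHomPC`.

* t-structure estimates: `isGE_restrictD`, `isLE_LBase`, `isLE_gen`, `isZero_HF_of_forall_hom_gen`
  (`H^n(Z) = 0` if there is no nonzero map `A[-n] ⟶ Z`), `isGE_RHom`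
  (`RHom(D^{≤ c}, D^{≥ n}) ⊆ D^{≥ n - c}`), `LBaseIsoExtScD`, `isGE_LBase_of_flat`.
* exactness: `CoMidAt.of_iso'`, `coMidAt_of_exact_cone'`, `coMidAt_of_adjunction`,
  `shortExact_map_extCx`, `midAt_LBase` (derived base change is middle exact), `coMidAt_Φ₁`,
  `coMidAt_Φ₂` (exactness of `Hom(W, -)` applied to `LBase RHom(-, M)`, `RHom(LBase -, LBase M)`).
* `bijective_of_coMidAt`, `exists_perfect_approx`, `isIso_β_of_isPseudoCoherent`.
-/

set_option autoImplicit false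
set_option backward.isDefEq.respectTransparency false
universe u
open CategoryTheory CategoryTheory.Limits MonoidalCategory CategoryTheory.Pretriangulated Opposite
attribute [local instance] HasDerivedCategory.standard

namespace Groth.Agent.Lib.Helper46.DTenBcRHomPC

open Groth.Agent.Lib.Helper46.DTenKProj Groth.Agent.Lib.Helper46.DTenRHomBC
  Groth.Agent.Lib.Helper46.DTenUnitShift Groth.Agent.Lib.Helper46.TriFive
  Groth.Agent.Lib.Helper46.DTenAssoc Groth.Agent.Lib.Helper46.DTenBcRHom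
  Groth.Agent.Lib.Helper46.DTenPerfProd Groth.Agent.Lib.Helper46.DTenBcRHomProd
  Groth.Agent.Lib.Helper46.DTenCompact DerivedCategory

section TStr

variable {R R' : Type u} [CommRing R] [CommRing R'] (φ : R →+* R')

lemma isGE_restrictD (Y : Dual.D R') (n : ℤ) (hY : Y.IsGE n) :
    ((DRing.restrictD φ).obj Y).IsGE n := by
  rw [DerivedCategory.isGE_iff]
  intro i hi
  rw [Groth.Agent.Lib.Helper12.isZero_HF_restrictD_iff]
  exact DerivedCategory.isZero_of_isGE Y n i hi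

lemma isLE_LBase [DTen.HasLBase φ] (C : Dual.D R) (c : ℤ) (hC : C.IsLE c) :
    ((DTen.LBase φ).obj C).IsLE c := by
  refine (TStructure.t.isLE_iff_orthogonal c (c + 1) rfl _).2 ?_
  intro Y f hY
  apply ((DTen.baseAdj φ).homEquiv _ _).injective
  have := isGE_restrictD φ Y (c + 1) hY
  rw [TStructure.t.zero ((DTen.baseAdj φ).homEquiv _ _ f) c (c + 1) (by omega)]
  exact (TStructure.t.zero _ c (c + 1) (by omega)).symm

end TStr

section Gen

variable (A : Type u) [CommRing A]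

lemma isLE_gen (m : ℤ) : (Q.obj (unitShift A m) : Dual.D A).IsLE (-m) := by
  have e : (Q.obj (unitShift A m) : Dual.D A) ≅ (Q.obj (𝟙_ (DRing.Cx A)))⟦m⟧ :=
    (Q.commShiftIso m).app _
  have h0 : (Q.obj (𝟙_ (DRing.Cx A)) : Dual.D A).IsLE 0 :=
    TStructure.t.isLE_of_iso
      ((DerivedCategory.singleFunctorIsoCompQ (ModuleCat.{u} A) 0).app (ModuleCat.of A A)) 0
  have h1 := TStructure.t.isLE_shift (Q.obj (𝟙_ (DRing.Cx A)) : Dual.D A) 0 m (-m) (by omega)
  exact TStructure.t.isLE_of_iso e.symm _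

/-- if there is no nonzero map `A[-n] ⟶ Z` then `H^n(Z) = 0` -/
lemma isZero_HF_of_forall_hom_gen (Z : Dual.D A) (n : ℤ)
    (h : ∀ f : (Q.obj (unitShift A (-n)) : Dual.D A) ⟶ Z, f = 0) :
    IsZero ((DerivedCategory.homologyFunctor (ModuleCat.{u} A) n).obj Z) := by
  let K' := Q.objPreimage Z
  let eK : Q.obj K' ≅ Z := Q.objObjPreimageIso Z
  let P : ModuleCat.{u} A := ModuleCat.of A A
  have h0 : ∀ f : Groth.Agent.Lib.Helper6.DerCompactGen.sg P n ⟶ K', Q.map f = 0 := by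
    intro f
    have h1 := h ((genSingleIso A (-n) n (by omega)).hom ≫ Q.map f ≫ eK.hom)
    rw [← cancel_epi (genSingleIso A (-n) n (by omega)).hom, ← cancel_mono eK.hom]
    simpa using h1
  refine IsZero.of_iso ?_ ((DerivedCategory.homologyFunctor (ModuleCat.{u} A) n).mapIso eK.symm ≪≫
    (DerivedCategory.homologyFunctorFactors (ModuleCat.{u} A) n).app K')
  apply Groth.Agent.Lib.Helper6.DerCompactGen.isZero_of_forall_eq_zero A
  intro f
  let f' : P ⟶ K'.cycles n := Projective.factorThru f (K'.homologyπ n)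
  have hf' : f' ≫ K'.homologyπ n = f := Projective.factorThru_comp _ _
  let x : P ⟶ K'.X n := f' ≫ K'.iCycles n
  have hx : x ≫ K'.d n (n + 1) = 0 := by
    dsimp only [x]
    rw [Category.assoc, HomologicalComplex.iCycles_d, comp_zero]
  let g : Groth.Agent.Lib.Helper6.DerCompactGen.sg P n ⟶ K' :=
    HomologicalComplex.mkHomFromSingle x (by
      intro k hk
      obtain rfl : n + 1 = k := by simpa using hk
      exact hx)
  obtain ⟨H⟩ := Groth.Agent.Lib.Helper46.DerCptStd.homotopy_zero_of_Q_map_eq_zero' g (h0 g)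
  have hcomm := H.comm n
  rw [dNext_eq H.hom (show (ComplexShape.up ℤ).Rel n (n + 1) by simp),
    prevD_eq H.hom (show (ComplexShape.up ℤ).Rel (n - 1) n by simp),
    HomologicalComplex.single_obj_d, zero_comp, zero_add, HomologicalComplex.zero_f, add_zero,
    HomologicalComplex.mkHomFromSingle_f] at hcomm
  let y : P ⟶ K'.X (n - 1) :=
    (HomologicalComplex.singleObjXSelf (ComplexShape.up ℤ) n P).inv ≫ H.hom n (n - 1)
  have hy : y ≫ K'.d (n - 1) n = x := by
    dsimp only [y]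
    rw [Category.assoc, ← hcomm, Iso.inv_hom_id_assoc]
  have hf'' : f' = y ≫ K'.toCycles (n - 1) n := by
    rw [← cancel_mono (K'.iCycles n), Category.assoc, HomologicalComplex.toCycles_i, hy]
  rw [← hf', hf'', Category.assoc, HomologicalComplex.toCycles_comp_homologyπ, comp_zero]

variable [DTen.HasLTen A] [DTen.HasRHom A]

/-- `RHom(C, M) ∈ D^{≥ n - c}` for `C ∈ D^{≤ c}`, `M ∈ D^{≥ n}` -/
theorem isGE_RHom (C M : Dual.D A) (c n : ℤ) (hC : C.IsLE c) (hM : M.IsGE n) :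
    ((DTen.RHomR A C).obj M).IsGE (n - c) := by
  rw [DerivedCategory.isGE_iff]
  intro i hi
  apply isZero_HF_of_forall_hom_gen
  intro f
  apply (DTen.rhomHomEquiv _ _ _).symm.injective
  have e : ((DTen.LTen A).obj (Q.obj (unitShift A (-i)))).obj C ≅ C⟦-i⟧ :=
    (tensorUnitShiftIso A (-i)).app C
  have h1 := TStructure.t.isLE_shift C c (-i) (c + i) (by omega)
  have h2 : (((DTen.LTen A).obj (Q.obj (unitShift A (-i)))).obj C).IsLE (c + i) :=
    TStructure.t.isLE_of_iso e.symm _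
  have h3 : ∀ g : ((DTen.LTen A).obj (Q.obj (unitShift A (-i)))).obj C ⟶ M, g = 0 :=
    fun g => TStructure.t.zero g (c + i) n (by omega)
  rw [h3 ((DTen.rhomHomEquiv _ _ _).symm f)]
  exact (h3 _).symm

end Gen

section Flat

variable (R R' : Type u) [CommRing R] [CommRing R'] [Algebra R R'] [Module.Flat R R']
  [DTen.HasLBase (algebraMap R R')]

/-- for flat `R → R'`, derived base change is induced by the exact functor `R' ⊗_R -` -/
noncomputable def LBaseIsoExtScD :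
    DTen.LBase (algebraMap R R') ≅ Groth.Agent.Lib.Helper12.extScD R R' :=
  (DTen.baseAdj (algebraMap R R')).leftAdjointUniq Groth.Agent.Lib.Helper12.FlatAdj.extScDAdj

theorem isGE_LBase_of_flat (X : Dual.D R) (n : ℤ) (hX : X.IsGE n) :
    ((DTen.LBase (algebraMap R R')).obj X).IsGE n := by
  rw [DerivedCategory.isGE_iff]
  intro i hi
  have h1 : IsZero ((DerivedCategory.homologyFunctor (ModuleCat.{u} R) i).obj X) :=
    DerivedCategory.isZero_of_isGE X n i hi
  have e1 := (DerivedCategory.homologyFunctor (ModuleCat.{u} R') i).mapIso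
    ((LBaseIsoExtScD R R').app X)
  have e2 := (Groth.Agent.Lib.Helper12.HFExtIso (A := R) (B := R') i).app X
  exact IsZero.of_iso ((Groth.Agent.Lib.Helper12.extSc R R').map_isZero h1) (e1 ≪≫ e2)

end Flat

section CoMid

open Groth.Agent.Lib.Helper36.EHN

/-- `CoMidAt` is invariant under isomorphisms of triangles -/
lemma CoMidAt.of_iso' {C : Type*} [Category C] [HasZeroObject C] [HasShift C ℤ] [Preadditive C]
    [∀ n : ℤ, (CategoryTheory.shiftFunctor C n).Additive] [Pretriangulated C]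
    {D : Type*} [Category D] [Preadditive D] {F : C ⥤ D} {T T' : Triangle C} (e : T ≅ T')
    (h : CoMidAt F T') : CoMidAt F T := by
  intro M x hx
  have h1 : F.map T'.mor₁ ≫ (F.map e.inv.hom₂ ≫ x) = 0 := by
    rw [← Category.assoc, ← F.map_comp, e.inv.comm₁, F.map_comp, Category.assoc, hx, comp_zero]
  obtain ⟨y', hy'⟩ := h M _ h1
  refine ⟨F.map e.hom.hom₃ ≫ y', ?_⟩
  rw [← Category.assoc, ← F.map_comp, e.hom.comm₂, F.map_comp, Category.assoc, hy',
    ← Category.assoc, ← F.map_comp, e.hom_inv_id_triangle_hom₂, F.map_id, Category.id_comp]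

/-- reduction of `CoMidAt` to the standard triangles of morphisms of K-projective complexes -/
theorem coMidAt_of_exact_cone' (A : Type u) [CommRing A] {D' : Type*} [Category D']
    [Preadditive D'] (Φ : Dual.D A ⥤ D')
    (h : ∀ {P₁ P₂ : DRing.Cx A} [P₁.IsKProjective] [P₂.IsKProjective] (g : P₁ ⟶ P₂) (W : D')
      (x : Φ.obj (Q.obj (CochainComplex.mappingCone.triangle g).obj₃) ⟶ W),
      Φ.map (Q.map (CochainComplex.mappingCone.triangle g).mor₂) ≫ x = 0 →
      ∃ y : Φ.obj (Q.obj ((CochainComplex.mappingCone.triangle g).obj₁⟦(1 : ℤ)⟧)) ⟶ W,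
        Φ.map (Q.map (CochainComplex.mappingCone.triangle g).mor₃) ≫ y = x)
    (T : Triangle (Dual.D A)) (hT : T ∈ distTriang (Dual.D A)) : CoMidAt Φ T := by
  have hI := inv_rot_of_distTriang T hT
  obtain ⟨X, X', f, ⟨e⟩⟩ := (DerivedCategory.mem_distTriang_iff _).1 hI
  obtain ⟨P₁, p₁, hp₁, hP₁, -⟩ := Groth.Agent.Lib.Helper36.KP.exists_resolution X
  obtain ⟨P₂, p₂, hp₂, hP₂, -⟩ := Groth.Agent.Lib.Helper36.KP.exists_resolution X'
  have := hP₁
  have := hP₂
  have : IsIso (Q.map p₁ : (Q.obj P₁ : Dual.D A) ⟶ _) :=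
    (DerivedCategory.isIso_Q_map_iff_quasiIso (ModuleCat.{u} A) p₁).2 hp₁
  have : IsIso (Q.map p₂ : (Q.obj P₂ : Dual.D A) ⟶ _) :=
    (DerivedCategory.isIso_Q_map_iff_quasiIso (ModuleCat.{u} A) p₂).2 hp₂
  obtain ⟨g, hg⟩ := exists_Q_map_eq (S := P₁) (L := P₂) (Q.map p₁ ≫ Q.map f ≫ inv (Q.map p₂))
  have hTg : Q.mapTriangle.obj (CochainComplex.mappingCone.triangle g) ∈ distTriang (Dual.D A) :=
    (DerivedCategory.mem_distTriang_iff _).2 ⟨_, _, g, ⟨Iso.refl _⟩⟩
  have hTf : Q.mapTriangle.obj (CochainComplex.mappingCone.triangle f) ∈ distTriang (Dual.D A) :=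
    (DerivedCategory.mem_distTriang_iff _).2 ⟨_, _, f, ⟨Iso.refl _⟩⟩
  let i₁ : (Q.obj P₁ : Dual.D A) ≅ Q.obj X := asIso (Q.map p₁)
  let i₂ : (Q.obj P₂ : Dual.D A) ≅ Q.obj X' := asIso (Q.map p₂)
  let e' : Q.mapTriangle.obj (CochainComplex.mappingCone.triangle g) ≅
      Q.mapTriangle.obj (CochainComplex.mappingCone.triangle f) :=
    isoTriangleOfIso₁₂ _ _ hTg hTf i₁ i₂ (by
      show Q.map g ≫ Q.map p₂ = Q.map p₁ ≫ Q.map f
      rw [hg]
      simp)
  let e₀ : T ≅ (Q.mapTriangle.obj (CochainComplex.mappingCone.triangle g)).rotate :=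
    ((triangleRotation (Dual.D A)).counitIso.app T).symm ≪≫
      (rotate (Dual.D A)).mapIso (e ≪≫ e'.symm)
  refine CoMidAt.of_iso' e₀ ?_
  intro W x hx
  obtain ⟨y, hy⟩ := h g W x hx
  refine ⟨Φ.map ((Q.commShiftIso (1 : ℤ)).inv.app P₁) ≫ y, ?_⟩
  show Φ.map (Q.map (CochainComplex.mappingCone.triangle g).mor₃ ≫
    (Q.commShiftIso (1 : ℤ)).hom.app P₁) ≫ Φ.map ((Q.commShiftIso (1 : ℤ)).inv.app P₁) ≫ y = x
  have e1 : (Q.map (CochainComplex.mappingCone.triangle g).mor₃ ≫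
      (Q.commShiftIso (1 : ℤ)).hom.app P₁) ≫ (Q.commShiftIso (1 : ℤ)).inv.app P₁ =
      Q.map (CochainComplex.mappingCone.triangle g).mor₃ := by
    rw [Category.assoc, Iso.hom_inv_id_app]
    exact Category.comp_id _
  rw [← Category.assoc, ← Φ.map_comp, e1, hy]

/-- a left adjoint on a pretriangulated category is `CoMidAt` at distinguished triangles -/
theorem coMidAt_of_adjunction {C : Type*} [Category C] [HasZeroObject C] [HasShift C ℤ]
    [Preadditive C] [∀ n : ℤ, (CategoryTheory.shiftFunctor C n).Additive] [Pretriangulated C]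
    {D : Type*} [Category D] [Preadditive D] {F : C ⥤ D} {G : D ⥤ C} (adj : F ⊣ G) [F.Additive]
    (T : Triangle C) (hT : T ∈ distTriang C) : CoMidAt F T := by
  have := adj.right_adjoint_additive
  intro M x hx
  have h1 : T.mor₁ ≫ adj.homEquiv _ _ x = 0 := by
    rw [← Adjunction.homEquiv_naturality_left, hx, Adjunction.homEquiv_unit, Functor.map_zero,
      comp_zero]
  obtain ⟨g, hg⟩ := Triangle.yoneda_exact₂ T hT _ h1
  refine ⟨(adj.homEquiv _ _).symm g, ?_⟩
  rw [← Adjunction.homEquiv_naturality_left_symm, ← hg, Equiv.symm_apply_apply]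

end CoMid

section Exact

open Groth.Agent.Lib.Helper36.EHN Groth.Agent.Lib.Helper36.HCA Groth.Agent.Lib.Helper36.RHM

variable {R R' : Type u} [CommRing R] [CommRing R'] (φ : R →+* R')

lemma shortExact_map_extCx (S : ShortComplex (DRing.Cx R))
    (σ : ∀ n : ℤ, (S.map (HomologicalComplex.eval (ModuleCat.{u} R) (ComplexShape.up ℤ) n)).Splitting) :
    (S.map (DTen.extCx φ)).ShortExact :=
  HomologicalComplex.shortExact_of_degreewise_shortExact _
    (fun n => ((σ n).map (DTen.extM φ)).shortExact)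

variable [DTen.HasLBase φ]

theorem exact_cone_LBase {P₁ P₂ : DRing.Cx R} [P₁.IsKProjective] [P₂.IsKProjective]
    (g : P₁ ⟶ P₂) (W : Dual.D R')
    (x : W ⟶ (DTen.LBase φ).obj (Q.obj (CochainComplex.mappingCone.triangle g).obj₃))
    (hx : x ≫ (DTen.LBase φ).map (Q.map (CochainComplex.mappingCone.triangle g).mor₃) = 0) :
    ∃ y : W ⟶ (DTen.LBase φ).obj (Q.obj (CochainComplex.mappingCone.triangle g).obj₂),
      y ≫ (DTen.LBase φ).map (Q.map (CochainComplex.mappingCone.triangle g).mor₂) = x := by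
  let S := CochainComplex.mappingCone.triangleRotateShortComplex g
  have k2 : S.X₂.IsKProjective := Groth.Agent.Lib.Helper46.DTenMid.isKProjective_mappingCone R g
  have k1 : S.X₁.IsKProjective := ‹P₂.IsKProjective›
  let S' := S.map (DTen.extCx φ)
  have hS' : S'.ShortExact := shortExact_map_extCx φ S
    (fun n => CochainComplex.mappingCone.triangleRotateShortComplexSplitting g n)
  have hdist := DerivedCategory.triangleOfSES_distinguished hS'
  have i1 : IsIso ((DTen.baseCmp φ).app S.X₁) := isIso_baseCmp_of_isKProjective φ S.X₁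
  have i2 : IsIso ((DTen.baseCmp φ).app S.X₂) := isIso_baseCmp_of_isKProjective φ S.X₂
  have ng : (DTen.LBase φ).map (Q.map S.g) ≫ (DTen.baseCmp φ).app S.X₃ =
      (DTen.baseCmp φ).app S.X₂ ≫ Q.map S'.g := (DTen.baseCmp φ).naturality S.g
  have nf : (DTen.LBase φ).map (Q.map S.f) ≫ (DTen.baseCmp φ).app S.X₂ =
      (DTen.baseCmp φ).app S.X₁ ≫ Q.map S'.f := (DTen.baseCmp φ).naturality S.f
  have hx₀ : x ≫ (DTen.LBase φ).map (Q.map S.g) = 0 := hx
  have hx' : (x ≫ (DTen.baseCmp φ).app S.X₂) ≫ (DerivedCategory.triangleOfSES hS').mor₂ = 0 := by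
    show (x ≫ (DTen.baseCmp φ).app S.X₂) ≫ Q.map S'.g = 0
    rw [Category.assoc, ← ng, ← Category.assoc, hx₀, zero_comp]
  obtain ⟨y', hy'⟩ := Triangle.coyoneda_exact₂ _ hdist _ hx'
  have hy'' : x ≫ (DTen.baseCmp φ).app S.X₂ = y' ≫ Q.map S'.f := hy'
  refine ⟨y' ≫ inv ((DTen.baseCmp φ).app S.X₁), ?_⟩
  show (y' ≫ inv ((DTen.baseCmp φ).app S.X₁)) ≫ (DTen.LBase φ).map (Q.map S.f) = x
  have e2 : inv ((DTen.baseCmp φ).app S.X₁) ≫ (DTen.LBase φ).map (Q.map S.f) =
      Q.map S'.f ≫ inv ((DTen.baseCmp φ).app S.X₂) := by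
    rw [IsIso.inv_comp_eq, ← Category.assoc, ← nf, Category.assoc, IsIso.hom_inv_id,
      Category.comp_id]
  rw [Category.assoc, e2, ← Category.assoc, ← hy'', Category.assoc, IsIso.hom_inv_id,
    Category.comp_id]

/-- derived base change is middle exact at distinguished triangles -/
theorem midAt_LBase (T : Triangle (Dual.D R)) (hT : T ∈ distTriang (Dual.D R)) :
    MidAt (DTen.LBase φ) T :=
  Groth.Agent.Lib.Helper46.DTenRelIso.midAt_of_exact_cone' R (DTen.LBase φ)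
    (fun g W x hx => exact_cone_LBase φ g W x hx) T hT

variable [DTen.HasLTen R] [DTen.HasLTen R'] [DTen.HasRHom R] [DTen.HasRHom R']

theorem coMidAt_Φ₂ (M : Dual.D R) (T : Triangle (Dual.D R)) (hT : T ∈ distTriang (Dual.D R)) :
    CoMidAt (Φ₂ φ M) T := by
  intro W x hx
  let N := (DTen.LBase φ).obj M
  let G : Dual.D R' := W.unop
  let F : Dual.D R ⥤ Dual.D R' := DTen.LBase φ ⋙ (DTen.LTen R').obj G
  let adjF : F ⊣ DTen.RHomR R' G ⋙ DRing.restrictD φ :=
    (DTen.baseAdj φ).comp ((DTen.rhomAdj R' G).ofNatIsoLeft (symmIso R' G))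
  have hF := coMidAt_of_adjunction adjF T hT
  let x₀ : G ⟶ (DTen.RHomR R' ((DTen.LBase φ).obj T.obj₂)).obj N := x.unop
  have hx₀ : x₀ ≫ DTen.RHomMap ((DTen.LBase φ).map T.mor₁) N = 0 :=
    congrArg Quiver.Hom.unop hx
  have hz : (DTen.rhomHomEquiv G ((DTen.LBase φ).obj T.obj₁) N).symm 0 = 0 := by
    erw [(DTen.rhomAdj R' _).homEquiv_counit]
    rw [Functor.map_zero, zero_comp]
  have h1 : F.map T.mor₁ ≫ (DTen.rhomHomEquiv _ _ _).symm x₀ = 0 := by
    have := homEquiv_symm_comp_RHomMap R' ((DTen.LBase φ).map T.mor₁) x₀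
    rw [hx₀] at this
    exact this.symm.trans hz
  obtain ⟨y, hy⟩ := hF N _ h1
  refine ⟨(DTen.rhomHomEquiv G ((DTen.LBase φ).obj T.obj₃) N y).op, ?_⟩
  apply Quiver.Hom.unop_inj
  show DTen.rhomHomEquiv _ _ _ y ≫ DTen.RHomMap ((DTen.LBase φ).map T.mor₂) N = x₀
  apply (DTen.rhomHomEquiv _ _ _).symm.injective
  rw [homEquiv_symm_comp_RHomMap, Equiv.symm_apply_apply]
  exact hy

theorem exact_cone_Φ₁' (M : Dual.D R) {P₁ P₂ : DRing.Cx R} [P₁.IsKProjective] [P₂.IsKProjective]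
    (g : P₁ ⟶ P₂) (W : (Dual.D R')ᵒᵖ)
    (x : (Φ₁ φ M).obj (Q.obj (CochainComplex.mappingCone.triangle g).obj₃) ⟶ W)
    (hx : (Φ₁ φ M).map (Q.map (CochainComplex.mappingCone.triangle g).mor₂) ≫ x = 0) :
    ∃ y : (Φ₁ φ M).obj (Q.obj ((CochainComplex.mappingCone.triangle g).obj₁⟦(1 : ℤ)⟧)) ⟶ W,
      (Φ₁ φ M).map (Q.map (CochainComplex.mappingCone.triangle g).mor₃) ≫ y = x := by
  let S := CochainComplex.mappingCone.triangleRotateShortComplex g
  have k2 : S.X₂.IsKProjective := Groth.Agent.Lib.Helper46.DTenMid.isKProjective_mappingCone R g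
  have k1 : S.X₁.IsKProjective := ‹P₂.IsKProjective›
  have k3 : S.X₃.IsKProjective := inferInstanceAs (P₁⟦(1 : ℤ)⟧).IsKProjective
  let M₀ : DRing.Cx R := Q.objPreimage M
  let eM : Q.obj M₀ ≅ M := Q.objObjPreimageIso M
  have hS := shortExact_homCxPre S
    (fun n => CochainComplex.mappingCone.triangleRotateShortComplexSplitting g n) M₀
  have hdist := DerivedCategory.triangleOfSES_distinguished hS
  have hmid := midAt_LBase φ _ hdist
  have i1 : IsIso (DTenBcRHom.cmpL R S.X₁ M₀ eM) := DTenBcRHom.isIso_cmpL R S.X₁ M₀ eM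
  have i2 : IsIso (DTenBcRHom.cmpL R S.X₂ M₀ eM) := DTenBcRHom.isIso_cmpL R S.X₂ M₀ eM
  have i3 : IsIso (DTenBcRHom.cmpL R S.X₃ M₀ eM) := DTenBcRHom.isIso_cmpL R S.X₃ M₀ eM
  have ng := DTenBcRHom.cmpL_naturality R S.g M₀ eM
  have nf := DTenBcRHom.cmpL_naturality R S.f M₀ eM
  let G : Dual.D R' := W.unop
  let x₀ : G ⟶ (DTen.LBase φ).obj ((DTen.RHomR R (Q.obj S.X₂)).obj M) := x.unop
  have hx₀ : x₀ ≫ (DTen.LBase φ).map (DTen.RHomMap (Q.map S.f) M) = 0 :=
    congrArg Quiver.Hom.unop hx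
  have e1 : inv (DTenBcRHom.cmpL R S.X₂ M₀ eM) ≫ Q.map (homCxPre S.f M₀) =
      DTen.RHomMap (Q.map S.f) M ≫ inv (DTenBcRHom.cmpL R S.X₁ M₀ eM) := by
    rw [IsIso.inv_comp_eq, ← Category.assoc, nf, Category.assoc, IsIso.hom_inv_id,
      Category.comp_id]
  have hx' : (x₀ ≫ (DTen.LBase φ).map (inv (DTenBcRHom.cmpL R S.X₂ M₀ eM))) ≫
      (DTen.LBase φ).map (DerivedCategory.triangleOfSES hS).mor₂ = 0 := by
    show (x₀ ≫ (DTen.LBase φ).map (inv (DTenBcRHom.cmpL R S.X₂ M₀ eM))) ≫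
      (DTen.LBase φ).map (Q.map (homCxPre S.f M₀)) = 0
    rw [Category.assoc, ← Functor.map_comp, e1, Functor.map_comp, ← Category.assoc, hx₀,
      zero_comp]
  obtain ⟨y', hy'⟩ := hmid G _ hx'
  have hy'' : y' ≫ (DTen.LBase φ).map (Q.map (homCxPre S.g M₀)) =
      x₀ ≫ (DTen.LBase φ).map (inv (DTenBcRHom.cmpL R S.X₂ M₀ eM)) := hy'
  refine ⟨(y' ≫ (DTen.LBase φ).map (DTenBcRHom.cmpL R S.X₃ M₀ eM)).op, ?_⟩
  apply Quiver.Hom.unop_inj
  show (y' ≫ (DTen.LBase φ).map (DTenBcRHom.cmpL R S.X₃ M₀ eM)) ≫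
    (DTen.LBase φ).map (DTen.RHomMap (Q.map S.g) M) = x₀
  rw [Category.assoc, ← Functor.map_comp, ng, Functor.map_comp, ← Category.assoc, hy'',
    Category.assoc, ← Functor.map_comp, IsIso.inv_hom_id, CategoryTheory.Functor.map_id,
    Category.comp_id]

theorem coMidAt_Φ₁ (M : Dual.D R) (T : Triangle (Dual.D R)) (hT : T ∈ distTriang (Dual.D R)) :
    CoMidAt (Φ₁ φ M) T :=
  coMidAt_of_exact_cone' R (Φ₁ φ M) (fun g W x hx => exact_cone_Φ₁' φ M g W x hx) T hT

end Exact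

section Main

open Groth.Agent.Lib.Helper36.EHN Groth.Agent.Lib.Helper12 DRing

/-- vanishing at the cone (and its shift) makes `Hom(Φ T.mor₁, W)` bijective -/
lemma bijective_of_coMidAt {C : Type*} [Category C] [HasZeroObject C] [HasShift C ℤ]
    [Preadditive C] [∀ n : ℤ, (CategoryTheory.shiftFunctor C n).Additive] [Pretriangulated C]
    {D : Type*} [Category D] [Preadditive D] (Φ : C ⥤ D)
    (hΦ : ∀ T ∈ distTriang C, CoMidAt Φ T) (T : Triangle C) (hT : T ∈ distTriang C) (W : D)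
    (h3 : ∀ y : Φ.obj T.obj₃ ⟶ W, y = 0)
    (h3' : ∀ y : Φ.obj (T.obj₃⟦(-1 : ℤ)⟧) ⟶ W, y = 0) :
    Function.Bijective (fun x : Φ.obj T.obj₂ ⟶ W => Φ.map T.mor₁ ≫ x) := by
  constructor
  · intro x x' hxx
    dsimp only at hxx
    have h1 : Φ.map T.mor₁ ≫ (x - x') = 0 := by
      rw [Preadditive.comp_sub, hxx, sub_self]
    obtain ⟨y, hy⟩ := hΦ T hT W _ h1
    rw [h3 y, comp_zero] at hy
    exact sub_eq_zero.1 hy.symm
  · intro z
    have hI := inv_rot_of_distTriang T hT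
    obtain ⟨y, hy⟩ := hΦ T.invRotate hI W z (h3' _)
    exact ⟨y, hy⟩

variable {R R' : Type u} [CommRing R] [CommRing R']

lemma bijective_unop {Φ : Dual.D R ⥤ (Dual.D R')ᵒᵖ}
    (hΦ : ∀ T ∈ distTriang (Dual.D R), CoMidAt Φ T) (T : Triangle (Dual.D R))
    (hT : T ∈ distTriang (Dual.D R)) (G : Dual.D R')
    (h3 : ∀ y : G ⟶ (Φ.obj T.obj₃).unop, y = 0)
    (h3' : ∀ y : G ⟶ (Φ.obj (T.obj₃⟦(-1 : ℤ)⟧)).unop, y = 0) :
    Function.Bijective (fun χ : G ⟶ (Φ.obj T.obj₂).unop => χ ≫ (Φ.map T.mor₁).unop) := by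
  have hb := bijective_of_coMidAt Φ hΦ T hT (op G)
    (fun y => Quiver.Hom.unop_inj (h3 y.unop)) (fun y => Quiver.Hom.unop_inj (h3' y.unop))
  constructor
  · intro χ χ' h
    dsimp only at h
    have h' : Φ.map T.mor₁ ≫ χ.op = Φ.map T.mor₁ ≫ χ'.op := congrArg Quiver.Hom.op h
    exact Quiver.Hom.op_inj (hb.1 h')
  · intro z
    obtain ⟨x, hx⟩ := hb.2 z.op
    exact ⟨x.unop, congrArg Quiver.Hom.unop hx⟩

/-- perfect approximation of a pseudo-coherent object with cone in `D^{≤ m - 1}` -/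
lemma exists_perfect_approx (K : Dual.D R) (hK : DRing.IsPseudoCoherent' R K) (m : ℤ) :
    ∃ (P C : Dual.D R) (α : P ⟶ K) (b : K ⟶ C) (d : C ⟶ P⟦(1 : ℤ)⟧),
      Triangle.mk α b d ∈ distTriang (Dual.D R) ∧ DRing.IsPerfect R P ∧ C.IsLE (m - 1) := by
  obtain ⟨E, a, b, α, hE, hff, hconn⟩ := isPseudoCoherent_of_isPseudoCoherent' hK m
  obtain ⟨C, c, d, hT⟩ := distinguished_cocone_triangle α
  refine ⟨toD E, C, α, c, d, hT, ⟨E, a, b, hE, fun i => ?_, ⟨Iso.refl _⟩⟩, ?_⟩
  · have := (hff i).1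
    have := (hff i).2
    exact ⟨inferInstance, inferInstance⟩
  · rw [DerivedCategory.isLE_iff]
    intro i hi
    exact IsConn.cone _ hT hconn i (by omega)

variable (φ : R →+* R') [DTen.HasLTen R] [DTen.HasLTen R'] [DTen.HasRHom R] [DTen.HasRHom R']
  [DTen.HasLBase φ] [DTen.HasResTen φ] [DTen.ResLegIso φ]

/-- **`bcRHom φ K M` is an isomorphism for `K` pseudo-coherent, `M` bounded below, when derived
base change has bounded (left) cohomological amplitude.** -/
theorem isIso_β_of_isPseudoCoherent (d : ℤ)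
    (hL : ∀ (X : Dual.D R) (n : ℤ), X.IsGE n → ((DTen.LBase φ).obj X).IsGE (n - d))
    (K M : Dual.D R) (hK : DRing.IsPseudoCoherent' R K) (n : ℤ) (hM : M.IsGE n) :
    IsIso (β φ K M) := by
  let N := (DTen.LBase φ).obj M
  have hN : N.IsGE (n - d) := hL M n hM
  have key : ∀ (k : ULift.{u} ℤ) (m : ℤ), ∃ (P : Dual.D R) (α : P ⟶ K), IsIso (β φ P M) ∧
      Function.Bijective (fun χ : (gen R' k)⟦m⟧ ⟶ (DTen.LBase φ).obj ((DTen.RHomR R K).obj M) =>
        χ ≫ (DTen.LBase φ).map (DTen.RHomMap α M)) ∧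
      Function.Bijective (fun χ : (gen R' k)⟦m⟧ ⟶ (DTen.RHomR R' ((DTen.LBase φ).obj K)).obj N =>
        χ ≫ DTen.RHomMap ((DTen.LBase φ).map α) N) := by
    intro k m
    let t : ℤ := -(k.down + m)
    have hG : ((gen R' k)⟦m⟧).IsLE t := by
      have h0 : (gen R' ⟨k.down + m⟩).IsLE t := isLE_gen R' (k.down + m)
      exact TStructure.t.isLE_of_iso (genShiftIso R' k.down m) _
    let c : ℤ := n - d - t - 2
    obtain ⟨P, C, α, b, δ, hT, hP, hC⟩ := exists_perfect_approx K hK (c + 1)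
    have hC0 : C.IsLE c := by
      have e : c + 1 - 1 = c := by omega
      rw [e] at hC
      exact hC
    have hC1 : (C⟦(-1 : ℤ)⟧).IsLE (c + 1) := TStructure.t.isLE_shift C c (-1) (c + 1) (by omega)
    refine ⟨P, α, isIso_β_of_isPerfect φ M P hP, ?_, ?_⟩
    · refine bijective_unop (Φ := Φ₁ φ M) (fun T hT => coMidAt_Φ₁ φ M T hT) _ hT _ ?_ ?_
      · intro y
        have h1 := isGE_RHom R C M c n hC0 hM
        have h2 := hL _ _ h1
        exact TStructure.t.zero_of_isLE_of_isGE y t (n - c - d) (by omega) hG h2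
      · intro y
        have h1 := isGE_RHom R (C⟦(-1 : ℤ)⟧) M (c + 1) n hC1 hM
        have h2 := hL _ _ h1
        exact TStructure.t.zero_of_isLE_of_isGE y t (n - (c + 1) - d) (by omega) hG h2
    · refine bijective_unop (Φ := Φ₂ φ M) (fun T hT => coMidAt_Φ₂ φ M T hT) _ hT _ ?_ ?_
      · intro y
        have h1 := isLE_LBase φ C c hC0
        have h2 := isGE_RHom R' _ N c (n - d) h1 hN
        exact TStructure.t.zero_of_isLE_of_isGE y t (n - d - c) (by omega) hG h2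
      · intro y
        have h1 := isLE_LBase φ _ (c + 1) hC1
        have h2 := isGE_RHom R' _ N (c + 1) (n - d) h1 hN
        exact TStructure.t.zero_of_isLE_of_isGE y t (n - d - (c + 1)) (by omega) hG h2
  apply Groth.Agent.Lib.Helper6.isIso_of_generates (generates_gen R') (β φ K M)
  · intro k m χ
    obtain ⟨P, α, hP, hb1, hb2⟩ := key k m
    have hnat := β_naturality φ α M
    obtain ⟨χ', hχ'⟩ := hb1.2 (χ ≫ DTen.RHomMap ((DTen.LBase φ).map α) N ≫ inv (β φ P M))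
    refine ⟨χ', hb2.1 ?_⟩
    dsimp only at hχ' ⊢
    rw [Category.assoc, hnat, ← Category.assoc, hχ', Category.assoc, Category.assoc,
      IsIso.inv_hom_id, Category.comp_id]
  · intro k m χ hχ
    obtain ⟨P, α, hP, hb1, hb2⟩ := key k m
    have hnat := β_naturality φ α M
    apply hb1.1
    dsimp only
    rw [zero_comp, ← cancel_mono (β φ P M), Category.assoc, ← hnat, ← Category.assoc, hχ,
      zero_comp, zero_comp]

end Main

end Groth.Agent.Lib.Helper46.DTenBcRHomPC
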