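import Groth.Agent.Lib.Helper46.DTenPerfProd

/-!
# `bcRHom φ K M` is an isomorphism for all `K`, `M` when `R'` is a perfect `R`-module (helper46)

Namespace `Groth.Agent.Lib.Helper46.DTenBcRHomProd`.

* `ν`, `ν_naturality`, `ν_comp_res`, `isIso_ν_Q`, `isIso_ν_unit`: the derived projection formula
  `K ⊗^L res Y ≅ res (LBase K ⊗^L Y)` (proved for `Y` the image of a complex, `K` arbitrary... at
  the unit).
* `isIso_unitR_app`, `Ψ : - ⊗^L (R'[0]|_R) ≅ LBase ⋙ restrictD` (`isIso_Ψ`).
* `resUnitIso`, `isPerfect_res_unit`: `IsPerfectModule R R'` gives `IsPerfect (R'[0]|_R)`.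
* `preservesLimit_LBase`: derived base change along `R → R'` perfect preserves products.
* `isLimitRHomFan`: `RHom(-, M)` turns coproducts into products.
* `isColimitMapCoconeOfIsLimitFan`, `preservesColimitsOfShape_Φ₁/Φ₂`, `pr_sigma`,
  `isIso_β_of_isPerfect_res`.
-/

set_option autoImplicit false
set_option backward.isDefEq.respectTransparency false
universe u
open CategoryTheory CategoryTheory.Limits MonoidalCategory CategoryTheory.Pretriangulated Opposite
attribute [local instance] HasDerivedCategory.standard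

namespace Groth.Agent.Lib.Helper46.DTenBcRHomProd

open Groth.Agent.Lib.Helper46.DTenKProj Groth.Agent.Lib.Helper46.DTenRHomBC
  Groth.Agent.Lib.Helper46.DTenUnitShift Groth.Agent.Lib.Helper46.TriFive
  Groth.Agent.Lib.Helper46.DTenAssoc Groth.Agent.Lib.Helper46.DTenBcRHom
  Groth.Agent.Lib.Helper46.DTenPerfProd Groth.Agent.Lib.Helper46.DTenRelProj DerivedCategory

section Proj

variable {R R' : Type u} [CommRing R] [CommRing R'] (φ : R →+* R')
  [DTen.HasLTen R] [DTen.HasLTen R'] [DTen.HasLBase φ] [DTen.HasResTen φ] [DTen.ResLegIso φ]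

/-- the derived projection formula map `K ⊗^L res Y ⟶ res (LBase K ⊗^L Y)` -/
noncomputable def ν (K : Dual.D R) (Y : Dual.D R') :
    (DTen.LTen₂ R).obj (K, (DRing.restrictD φ).obj Y) ⟶
      (DRing.restrictD φ).obj ((DTen.LTen₂ R').obj ((DTen.LBase φ).obj K, Y)) :=
  (DTen.LTen₂ R).map (Prod.mkHom ((DTen.baseAdj φ).unit.app K) (𝟙 ((DRing.restrictD φ).obj Y))) ≫
    (DTen.resPF φ).app ((DTen.LBase φ).obj K, Y)

lemma ν_naturality {K K' : Dual.D R} (f : K ⟶ K') (Y : Dual.D R') :
    (DTen.LTen₂ R).map (Prod.mkHom f (𝟙 ((DRing.restrictD φ).obj Y))) ≫ ν φ K' Y =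
      ν φ K Y ≫ (DRing.restrictD φ).map ((DTen.LTen₂ R').map
        (Prod.mkHom ((DTen.LBase φ).map f) (𝟙 Y))) := by
  have e1 := (DTen.baseAdj φ).unit.naturality f
  have e3 := (DTen.resPF φ).naturality (Prod.mkHom ((DTen.LBase φ).map f) (𝟙 Y))
  dsimp at e1 e3
  dsimp only [ν]
  rw [Category.assoc, ← e3, ← Category.assoc, ← Category.assoc, ← Functor.map_comp, ← Functor.map_comp]
  congr 2
  refine Prod.ext e1 ?_
  simp

theorem ν_comp_res (P : DRing.Cx R) (Y₀ : DRing.Cx R') :
    ν φ (Q.obj P) (Q.obj Y₀) ≫ (DRing.restrictD φ).map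
      ((DTen.LTen₂ R').map (Prod.mkHom ((DTen.baseCmp φ).app P) (𝟙 (Q.obj Y₀))) ≫
        (DTen.ε R').app ((DTen.extCx φ).obj P, Y₀)) ≫
      (DTen.resFactors φ).hom.app ((DTen.extCx φ).obj P ⊗ Y₀) =
    (DTen.LTen₂ R).map (Prod.mkHom (𝟙 (Q.obj P)) ((DTen.resFactors φ).hom.app Y₀)) ≫
      (DTen.ε R).app (P, (DTen.resCx φ).obj Y₀) ≫ Q.map (πhom φ P Y₀) := by
  have e1 := (DTen.resPF φ).naturality
    (Prod.mkHom ((DTen.baseCmp φ).app P) (𝟙 (Q.obj Y₀)))
  have e2 := DTen.baseCmp_fac φ P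
  have e3 := DTen.resPF_fac φ ((DTen.extCx φ).obj P, Y₀)
  have e5 := (DTen.ε R).naturality (Prod.mkHom ((DTen.unitCx φ).app P) (𝟙 ((DTen.resCx φ).obj Y₀)))
  dsimp [DTen.resβA, DTen.resβB] at e1 e3 e5
  simp only [MonoidalCategory.whiskerLeft_id, Category.comp_id] at e5
  have hγ : ∀ X : DRing.Cx R, (DTen.baseγ φ).app X ≫
      (DTen.resFactors φ).hom.app ((DTen.extCx φ).obj X) = Q.map ((DTen.unitCx φ).app X) := by
    intro X
    dsimp [DTen.baseγ]
    rw [Category.assoc, Iso.inv_hom_id_app]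
    exact Category.comp_id _
  simp only [ν, Functor.map_comp, Category.assoc]
  rw [← reassoc_of% e1, e3]
  have hprod : Prod.mkHom ((DTen.baseAdj φ).unit.app (Q.obj P)) (𝟙 ((DRing.restrictD φ).obj (Q.obj Y₀))) ≫
      Prod.mkHom ((DRing.restrictD φ).map ((DTen.baseCmp φ).app P))
        ((DRing.restrictD φ).map (𝟙 (Q.obj Y₀))) ≫
      Prod.mkHom ((DTen.resFactors φ).hom.app ((DTen.extCx φ).obj P))
        ((DTen.resFactors φ).hom.app Y₀) =
      Prod.mkHom (𝟙 (Q.obj P)) ((DTen.resFactors φ).hom.app Y₀) ≫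
        Prod.mkHom (Q.map ((DTen.unitCx φ).app P)) (Q.map (𝟙 ((DTen.resCx φ).obj Y₀))) := by
    refine Prod.ext ?_ ?_
    · dsimp
      rw [← Category.assoc, e2, hγ, Category.id_comp]
    · dsimp
      simp
  rw [← Functor.map_comp_assoc, ← Functor.map_comp_assoc, Category.assoc, hprod,
    Functor.map_comp_assoc, reassoc_of% e5, ← Functor.map_comp]
  rfl

theorem isIso_ν_Q (P : DRing.Cx R) [P.IsKProjective] (Y₀ : DRing.Cx R') :
    IsIso (ν φ (Q.obj P) (Q.obj Y₀)) := by
  have : ((DTen.extCx φ).obj P).IsKProjective :=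
    Groth.Agent.Lib.Helper36.BCKP.isKProjective_extendScalars φ P
  have h1 : IsIso ((DTen.baseCmp φ).app P) := isIso_baseCmp_of_isKProjective φ P
  have h3 : IsIso ((DTen.ε R').app ((DTen.extCx φ).obj P, Y₀)) := isIso_ε_left R' _ _
  have h4 : IsIso ((DTen.ε R).app (P, (DTen.resCx φ).obj Y₀)) := isIso_ε_left R _ _
  have h6 : IsIso (Prod.mkHom ((DTen.baseCmp φ).app P) (𝟙 (Q.obj Y₀ : Dual.D R'))) :=
    (isIso_prod_iff _ _).2 ⟨h1, inferInstance⟩
  have h7 : IsIso (Prod.mkHom (𝟙 (Q.obj P : Dual.D R)) ((DTen.resFactors φ).hom.app Y₀)) :=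
    (isIso_prod_iff _ _).2 ⟨inferInstance, inferInstance⟩
  have key := ν_comp_res φ P Y₀
  generalize ha' : ((DRing.restrictD φ).map
      ((DTen.LTen₂ R').map (Prod.mkHom ((DTen.baseCmp φ).app P) (𝟙 (Q.obj Y₀))) ≫
        (DTen.ε R').app ((DTen.extCx φ).obj P, Y₀)) ≫
      (DTen.resFactors φ).hom.app ((DTen.extCx φ).obj P ⊗ Y₀)) = a at key
  have ha : IsIso a := by
    rw [← ha']
    infer_instance
  have hb : IsIso (ν φ (Q.obj P) (Q.obj Y₀) ≫ a) := by
    rw [key]
    infer_instance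
  exact IsIso.of_isIso_comp_right _ a

theorem isIso_ν_unit (K : Dual.D R) : IsIso (ν φ K (DTen.unit R')) := by
  obtain ⟨P, hP, ⟨i⟩⟩ := exists_kproj_iso K
  have h0 : IsIso (ν φ (Q.obj P) (DTen.unit R')) := isIso_ν_Q φ P (𝟙_ (DRing.Cx R'))
  have hn := ν_naturality φ i.hom (DTen.unit R')
  have h1 : IsIso (Prod.mkHom i.hom (𝟙 ((DRing.restrictD φ).obj (DTen.unit R')))) :=
    (isIso_prod_iff _ _).2 ⟨inferInstance, inferInstance⟩
  have h2 : IsIso (Prod.mkHom ((DTen.LBase φ).map i.hom) (𝟙 (DTen.unit R'))) :=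
    (isIso_prod_iff _ _).2 ⟨inferInstance, inferInstance⟩
  have h3 : IsIso ((DTen.LTen₂ R).map (Prod.mkHom i.hom (𝟙 ((DRing.restrictD φ).obj (DTen.unit R')))) ≫
      ν φ K (DTen.unit R')) := by
    rw [hn]
    infer_instance
  exact IsIso.of_isIso_comp_left ((DTen.LTen₂ R).map
    (Prod.mkHom i.hom (𝟙 ((DRing.restrictD φ).obj (DTen.unit R'))))) _

omit [DTen.HasLTen R] [DTen.HasLBase φ] [DTen.HasResTen φ] [DTen.ResLegIso φ] in
lemma isIso_unitR_app (X : Dual.D R') : IsIso ((DTen.unitR R').app X) := by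
  have h : IsIso ((DTen.unitR R').app (Q.obj (Q.objPreimage X))) := by
    rw [DTen.unitR_app]
    have := isIso_ε_right R' (Q.objPreimage X) (𝟙_ (DRing.Cx R'))
    infer_instance
  exact isIso_app_of_iso (DTen.unitR R') (Q.objObjPreimageIso X)

/-- `K ⊗^L_R R' ≅ (LBase K)|_R`, naturally in `K` -/
noncomputable def Ψ : DTen.tensorRightD R ((DRing.restrictD φ).obj (DTen.unit R')) ⟶
    DTen.LBase φ ⋙ DRing.restrictD φ where
  app K := ν φ K (DTen.unit R') ≫
    (DRing.restrictD φ).map ((DTen.unitR R').app ((DTen.LBase φ).obj K))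
  naturality K K' f := by
    have h1 := ν_naturality φ f (DTen.unit R')
    have h2 := (DTen.unitR R').naturality ((DTen.LBase φ).map f)
    show (DTen.LTen₂ R).map (Prod.mkHom f (𝟙 _)) ≫ ν φ K' _ ≫ (DRing.restrictD φ).map _ =
      (ν φ K _ ≫ (DRing.restrictD φ).map _) ≫ (DRing.restrictD φ).map ((DTen.LBase φ).map f)
    rw [reassoc_of% h1, Category.assoc, ← Functor.map_comp, ← Functor.map_comp]
    congr 2

instance isIso_Ψ : IsIso (Ψ φ) := by
  have : ∀ K, IsIso ((Ψ φ).app K) := fun K => by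
    have := isIso_ν_unit φ K
    have := isIso_unitR_app ((DTen.LBase φ).obj K)
    dsimp only [Ψ]
    infer_instance
  exact NatIso.isIso_of_isIso_app _

end Proj

section PerfMod

variable (R R' : Type u) [CommRing R] [CommRing R'] [Algebra R R']

/-- `R'[0]|_R ≅ R'[0]` in `D(R)` -/
noncomputable def resUnitIso :
    (DRing.restrictD (algebraMap R R')).obj (DTen.unit R') ≅ Dual.inD R R' :=
  let X₂ : ModuleCat.{u} R :=
    (ModuleCat.restrictScalars (algebraMap R R')).obj (ModuleCat.of R' R')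
  let i₂ : R' ≃ₗ[R] X₂ :=
    { toFun := fun x => x
      invFun := fun x => x
      map_add' := fun _ _ => rfl
      map_smul' := fun r x => (Algebra.smul_def r (show R' from x))
      left_inv := fun _ => rfl
      right_inv := fun _ => rfl }
  (DTen.resFactors (algebraMap R R')).app (𝟙_ (DRing.Cx R')) ≪≫
    Q.mapIso ((HomologicalComplex.singleMapHomologicalComplex
      (ModuleCat.restrictScalars (algebraMap R R')) (ComplexShape.up ℤ) 0).app
        (ModuleCat.of R' R') ≪≫
      (HomologicalComplex.single (ModuleCat.{u} R) (ComplexShape.up ℤ) 0).mapIso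
        i₂.toModuleIso.symm) ≪≫
    ((DerivedCategory.singleFunctorIsoCompQ (ModuleCat.{u} R) 0).app (ModuleCat.of R R')).symm

lemma isPerfect_res_unit (h : DRing.IsPerfectModule R R') :
    DRing.IsPerfect R ((DRing.restrictD (algebraMap R R')).obj (DTen.unit R')) := by
  obtain ⟨E, a, b, hE, hproj, ⟨e⟩⟩ := h
  exact ⟨E, a, b, hE, hproj, ⟨e ≪≫ (resUnitIso R R').symm⟩⟩

end PerfMod

section LBaseProd

variable {R R' : Type u} [CommRing R] [CommRing R'] (φ : R →+* R')
  [DTen.HasLTen R] [DTen.HasLTen R'] [DTen.HasRHom R] [DTen.HasLBase φ] [DTen.HasResTen φ]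
  [DTen.ResLegIso φ]

theorem preservesLimit_LBase
    (hE : DRing.IsPerfect R ((DRing.restrictD φ).obj (DTen.unit R'))) {J : Type u}
    (Y : J → Dual.D R) : PreservesLimit (Discrete.functor Y) (DTen.LBase φ) := by
  have h1 : PreservesLimit (Discrete.functor Y)
      (DTen.tensorRightD R ((DRing.restrictD φ).obj (DTen.unit R'))) :=
    preservesLimit_tensorRightD_of_isPerfect Y _ hE
  have h2 : PreservesLimit (Discrete.functor Y) (DTen.LBase φ ⋙ DRing.restrictD φ) :=
    preservesLimit_of_natIso _ (asIso (Ψ φ))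
  have h3 : PreservesLimitsOfSize.{u, u} (DRing.restrictD φ) :=
    (DTen.baseAdj φ).rightAdjoint_preservesLimits
  have h4 : ReflectsLimit (Discrete.functor Y ⋙ DTen.LBase φ) (DRing.restrictD φ) :=
    reflectsLimit_of_reflectsIsomorphisms _ _
  exact preservesLimit_of_reflects_of_preserves (DTen.LBase φ) (DRing.restrictD φ)

end LBaseProd

section RHomFan

variable {A : Type u} [CommRing A] [DTen.HasLTen A] [DTen.HasRHom A]

/-- `RHom(-, M)` turns coproducts into products -/
noncomputable def isLimitRHomFan {J : Type*} {X : J → Dual.D A} {P : Dual.D A}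
    (g : ∀ j, X j ⟶ P) (hc : IsColimit (Cofan.mk P g)) (M : Dual.D A) :
    IsLimit (Fan.mk ((DTen.RHomR A P).obj M) (fun j => DTen.RHomMap (g j) M)) := by
  have hW : ∀ W : Dual.D A, PreservesColimit (Discrete.functor X) ((DTen.LTen A).obj W) :=
    fun W => by
      have : (DTen.tensorRightD A W).IsLeftAdjoint := ⟨_, ⟨DTen.rhomAdj A W⟩⟩
      exact preservesColimit_of_natIso _ (symmIso A W)
  let hcW : ∀ W : Dual.D A, IsColimit (Cofan.mk (((DTen.LTen A).obj W).obj P)
      (fun j => ((DTen.LTen A).obj W).map (g j))) := fun W =>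
    haveI := hW W
    isColimitCofanMkObjOfIsColimit ((DTen.LTen A).obj W) X g hc
  refine Fan.IsLimit.mk _
    (fun s => DTen.rhomHomEquiv s.pt P M (Cofan.IsColimit.desc (hcW s.pt)
      (fun j => (DTen.rhomHomEquiv s.pt (X j) M).symm (s.proj j)))) ?_ ?_
  · intro s j
    apply (DTen.rhomHomEquiv _ _ _).symm.injective
    erw [Groth.Agent.Lib.Helper36.EHN.homEquiv_symm_comp_RHomMap]
    rw [Equiv.symm_apply_apply]
    exact Cofan.IsColimit.fac (hcW s.pt) _ j
  · intro s m hm
    apply (DTen.rhomHomEquiv _ _ _).symm.injective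
    rw [Equiv.symm_apply_apply]
    apply Cofan.IsColimit.hom_ext (hcW s.pt)
    intro j
    rw [Cofan.IsColimit.fac]
    have := Groth.Agent.Lib.Helper36.EHN.homEquiv_symm_comp_RHomMap A (g j) m
    erw [← this]
    exact congrArg _ (hm j)

end RHomFan

section OpColimit

/-- a cocone is sent to a colimit cocone in `Dᵒᵖ` if the corresponding fan in `D` is a limit -/
noncomputable def isColimitMapCoconeOfIsLimitFan {C D : Type*} [Category C] [Category D] {J : Type*}
    (X : J → C) (t : Cocone (Discrete.functor X)) (F : C ⥤ Dᵒᵖ)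
    (hl : IsLimit (Fan.mk (F.obj t.pt).unop (fun j => (F.map (t.ι.app ⟨j⟩)).unop))) :
    IsColimit (F.mapCocone t) where
  desc s := (Fan.IsLimit.lift hl (fun j => (s.ι.app ⟨j⟩).unop)).op
  fac s := by
    rintro ⟨j⟩
    apply Quiver.Hom.unop_inj
    exact Fan.IsLimit.fac hl _ j
  uniq s m hm := by
    apply Quiver.Hom.unop_inj
    apply Fan.IsLimit.hom_ext hl
    intro j
    rw [Quiver.Hom.unop_op, Fan.IsLimit.fac]
    exact congrArg Quiver.Hom.unop (hm ⟨j⟩)

end OpColimit

section Main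

open Groth.Agent.Lib.Helper46.DTenCompact Groth.Agent.Lib.Helper46.DTenCptEval

variable {R R' : Type u} [CommRing R] [CommRing R'] (φ : R →+* R')
  [DTen.HasLTen R] [DTen.HasLTen R'] [DTen.HasRHom R] [DTen.HasRHom R'] [DTen.HasLBase φ]
  [DTen.HasResTen φ] [DTen.ResLegIso φ] (M : Dual.D R)

lemma preservesColimitsOfShape_Φ₂ (J : Type u) :
    PreservesColimitsOfShape (Discrete J) (Φ₂ φ M) := by
  have : ∀ X : J → Dual.D R, PreservesColimit (Discrete.functor X) (Φ₂ φ M) := fun X => by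
    refine preservesColimit_of_preserves_colimit_cocone (coproductIsCoproduct X) ?_
    apply isColimitMapCoconeOfIsLimitFan
    have : PreservesColimitsOfSize.{u, u} (DTen.LBase φ) :=
      (DTen.baseAdj φ).leftAdjoint_preservesColimits
    have hc : IsColimit (Cofan.mk ((DTen.LBase φ).obj (∐ X))
        (fun j => (DTen.LBase φ).map (Sigma.ι X j))) :=
      isColimitCofanMkObjOfIsColimit (DTen.LBase φ) X _ (coproductIsCoproduct X)
    exact isLimitRHomFan _ hc ((DTen.LBase φ).obj M)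
  exact preservesColimitsOfShape_of_discrete _

lemma preservesColimitsOfShape_Φ₁
    (hE : DRing.IsPerfect R ((DRing.restrictD φ).obj (DTen.unit R'))) (J : Type u) :
    PreservesColimitsOfShape (Discrete J) (Φ₁ φ M) := by
  have : ∀ X : J → Dual.D R, PreservesColimit (Discrete.functor X) (Φ₁ φ M) := fun X => by
    refine preservesColimit_of_preserves_colimit_cocone (coproductIsCoproduct X) ?_
    apply isColimitMapCoconeOfIsLimitFan
    have hl := isLimitRHomFan (Sigma.ι X) (coproductIsCoproduct X) M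
    have := preservesLimit_LBase φ hE (fun j => (DTen.RHomR R (X j)).obj M)
    exact isLimitFanMkObjOfIsLimit (DTen.LBase φ) (fun j => (DTen.RHomR R (X j)).obj M)
      (fun j => DTen.RHomMap (Sigma.ι X j) M) hl
  exact preservesColimitsOfShape_of_discrete _

variable {φ M} in
lemma pr_shift {K : Dual.D R} (h : Pr φ M K) (a : ℤ) : Pr φ M (K⟦a⟧) := fun n => by
  have := h (a + n)
  exact isIso_app_of_iso _ ((shiftFunctorAdd' (Dual.D R) a n (a + n) rfl).app K)

lemma pr_sigma (hE : DRing.IsPerfect R ((DRing.restrictD φ).obj (DTen.unit R'))) (J : Type u)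
    (X : J → Dual.D R) (h : ∀ j, Pr φ M (X j)) : Pr φ M (∐ X) := by
  intro n
  have := preservesColimitsOfShape_Φ₁ φ M hE J
  have := preservesColimitsOfShape_Φ₂ φ M J
  exact isIso_app_sigma (Functor.whiskerLeft (shiftFunctor (Dual.D R) n) (η φ M)) X
    (fun j => h j n)

/-- **`bcRHom φ K M` is an isomorphism for all `K`, `M` when `R'` is perfect over `R`.** -/
theorem isIso_β_of_isPerfect_res
    (hE : DRing.IsPerfect R ((DRing.restrictD φ).obj (DTen.unit R'))) (K : Dual.D R) :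
    IsIso (β φ K M) := by
  have hPr : Pr φ M K :=
    prop_of_localizing R (Pr φ M) (fun e h => Pr.of_iso e h)
      (fun T hT h1 h2 => by
        have hT' := rot_of_distTriang T hT
        exact pr_ext φ M T.rotate hT' h2 (pr_shift h1 1))
      (pr_sigma φ M hE) (pr_unitShift φ M) K
  have := hPr 0
  have : IsIso ((η φ M).app K) :=
    isIso_app_of_iso (η φ M) ((shiftFunctorZero (Dual.D R) ℤ).app K)
  exact (isIso_η_app_iff φ M K).1 this

end Main

end Groth.Agent.Lib.Helper46.DTenBcRHomProd
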