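import Groth.Agent.Lib.Helper46.DTenBcRHomPC
import Groth.Agent.Lib.Helper94.KFlatBdd
import Groth.Agent.Lib.Helper36.TensorTerms
import Groth.Agent.S6946

/-!
# `bcRHom φ K M` is an isomorphism when `R'` has finite tor dimension over `R` (helper46)

Namespace `Groth.Agent.Lib.Helper46.DTenBcRHomTorDim`.

* `isGE_LTen₂_of_flat_bounded`: `X ⊗^L E ∈ D^{≥ n + a}` for `X ∈ D^{≥ n}`, `E` a complex of flat
  modules concentrated in `[a, b]`.
* `isGE_of_isGE_restrictD`, `isGE_LBase_of_hasTorDimLE`: derived base change along a ring map of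
  tor dimension `≤ d` sends `D^{≥ n}` into `D^{≥ n - d}` (uses `S6946`).
-/

set_option autoImplicit false
set_option backward.isDefEq.respectTransparency false
universe u
open CategoryTheory CategoryTheory.Limits MonoidalCategory CategoryTheory.Pretriangulated Opposite
attribute [local instance] HasDerivedCategory.standard

namespace Groth.Agent.Lib.Helper46.DTenBcRHomTorDim

open Groth.Agent.Lib.Helper46.DTenKProj Groth.Agent.Lib.Helper46.DTenRHomBC
  Groth.Agent.Lib.Helper46.DTenAssoc Groth.Agent.Lib.Helper46.DTenBcRHom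
  Groth.Agent.Lib.Helper46.DTenPerfProd Groth.Agent.Lib.Helper46.DTenBcRHomProd
  Groth.Agent.Lib.Helper46.DTenBcRHomPC
  Groth.Agent.Lib.Helper94.KFlatBi Groth.Agent.Lib.Helper94.KFlatRing
  Groth.Agent.Lib.Helper94.KFlatBdd DerivedCategory

section Amp

variable (R : Type u) [CommRing R] [DTen.HasLTen R]

/-- `X ⊗^L E ∈ D^{≥ n + a}` for `X ∈ D^{≥ n}` and `E` a complex of flat modules in `[a, b]` -/
theorem isGE_LTen₂_of_flat_bounded (E : DRing.Cx R) (a b : ℤ) (hE : DRing.VanishesOutside E a b)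
    (hfl : DRing.TermwiseFlat E) (X : Dual.D R) (n : ℤ) (hX : X.IsGE n) :
    ((DTen.LTen₂ R).obj (X, DRing.toD E)).IsGE (n + a) := by
  obtain ⟨Z, hZ, ⟨e⟩⟩ := DerivedCategory.exists_iso_Q_obj_of_isGE X n
  obtain ⟨P, p, hp, hP, -⟩ := Groth.Agent.Lib.Helper36.KP.exists_resolution Z
  have hE2 : IsKFlat₂ (curriedTensor (ModuleCat.{u} R)) E :=
    (kf_iff R E).1 (kf_of_bounded_above R E b (fun i hi => hE i (Or.inr hi)) hfl)
  have hq : QuasiIso (p ▷ E) := quasiIso_mapBifunctorMap_left (curriedTensor (ModuleCat.{u} R)) E hE2 p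
  have i2 : IsIso (Q.map (p ▷ E) : (Q.obj _ : Dual.D R) ⟶ _) :=
    (DerivedCategory.isIso_Q_map_iff_quasiIso (ModuleCat.{u} R) _).2 hq
  have i0 : IsIso (Q.map p : (Q.obj P : Dual.D R) ⟶ _) :=
    (DerivedCategory.isIso_Q_map_iff_quasiIso (ModuleCat.{u} R) p).2 hp
  have i1 : IsIso ((DTen.ε R).app (P, E)) := isIso_ε_left R P E
  let iso : (DTen.LTen₂ R).obj (X, DRing.toD E) ≅ Q.obj (Z ⊗ E) :=
    (DTen.LTen₂ R).mapIso ((e ≪≫ (asIso (Q.map p)).symm).prod (Iso.refl (DRing.toD E))) ≪≫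
      asIso ((DTen.ε R).app (P, E)) ≪≫ asIso (Q.map (p ▷ E))
  have hZE : (Z ⊗ E).IsStrictlyGE (n + a) := by
    rw [CochainComplex.isStrictlyGE_iff]
    intro k hk
    apply Groth.Agent.Lib.Helper36.TT.isZero_tensor_X
    intro p' q hpq
    by_cases hp' : p' < n
    · exact Or.inl (Z.isZero_of_isStrictlyGE n p' hp')
    · exact Or.inr (hE q (Or.inl (by omega)))
  have : (Q.obj (Z ⊗ E) : Dual.D R).IsGE (n + a) := inferInstance
  exact TStructure.t.isGE_of_iso iso.symm _

end Amp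

section TorDim

variable (R R' : Type u) [CommRing R] [CommRing R'] [Algebra R R']
  [DTen.HasLTen R] [DTen.HasLTen R'] [DTen.HasLBase (algebraMap R R')]
  [DTen.HasResTen (algebraMap R R')] [DTen.ResLegIso (algebraMap R R')]

lemma isGE_of_isGE_restrictD {A B : Type u} [CommRing A] [CommRing B] (φ : A →+* B)
    (Y : Dual.D B) (n : ℤ) (h : ((DRing.restrictD φ).obj Y).IsGE n) : Y.IsGE n := by
  rw [DerivedCategory.isGE_iff]
  intro i hi
  rw [← Groth.Agent.Lib.Helper12.isZero_HF_restrictD_iff φ]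
  exact DerivedCategory.isZero_of_isGE _ n i hi

/-- derived base change along a map of finite tor dimension has bounded amplitude -/
theorem isGE_LBase_of_hasTorDimLE (d : ℕ) (hd : DRing.HasTorDimLE R d R') (X : Dual.D R) (n : ℤ)
    (hX : X.IsGE n) : ((DTen.LBase (algebraMap R R')).obj X).IsGE (n - d) := by
  obtain ⟨E, hE, hfl, ⟨e⟩⟩ := ((Groth.Agent.S6946.result R R' d).1).1 hd
  have h1 := isGE_LTen₂_of_flat_bounded R E (-(d : ℤ)) 0 hE hfl X n hX
  let i1 : (DTen.LTen₂ R).obj (X, DRing.toD E) ≅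
      (DTen.LTen₂ R).obj (X, (DRing.restrictD (algebraMap R R')).obj (DTen.unit R')) :=
    (DTen.LTen₂ R).mapIso ((Iso.refl X).prod (e ≪≫ (resUnitIso R R').symm))
  let i2 : (DTen.LTen₂ R).obj (X, (DRing.restrictD (algebraMap R R')).obj (DTen.unit R')) ≅
      (DRing.restrictD (algebraMap R R')).obj ((DTen.LBase (algebraMap R R')).obj X) :=
    (asIso (Ψ (algebraMap R R'))).app X
  apply isGE_of_isGE_restrictD (algebraMap R R')
  have h2 := TStructure.t.isGE_of_iso (i1 ≪≫ i2) (n + -(d : ℤ))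
  have e' : n + -(d : ℤ) = n - d := by ring
  rw [e'] at h2
  exact h2

end TorDim

end Groth.Agent.Lib.Helper46.DTenBcRHomTorDim
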