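import Groth.Agent.Lib.Helper46.DTenKFlatBase
import Groth.Prelude.Def_DTen6

/-!
# The two legs of the iterated mixed derived tensor product are isomorphisms (helper46)

Namespace `Groth.Agent.Lib.Helper46.DTenMix3`.

* `isKFlat_tensor`: the tensor product of K-flat complexes is K-flat.
* `isIso_εMix_of_isKFlat_of_isKProjective`, `isIso_εMix_left`: the counit of `LTenMix` is an isomorphism
  at `(X, P'')` with `X` K-flat and `P''` K-projective, and at `(P, Y)` with `P` K-projective.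
* `isIso_εMix₃_of_isKProjective`, `isIso_leg₃` (S14268).
-/

set_option autoImplicit false
universe u
open CategoryTheory CategoryTheory.Limits MonoidalCategory HomologicalComplex
attribute [local instance] HasDerivedCategory.standard

namespace Groth.Agent.Lib.Helper46.DTenMix3

open Groth.Agent.Lib.Helper46.DTenKProj Groth.Agent.Lib.Helper46.DTenAssoc
  Groth.Agent.Lib.Helper46.DTenKFlatBase Groth.Agent.Lib.Helper46.KFlatLeft
  Groth.Agent.Lib.Helper94.KFlatBi Groth.Agent.Lib.Helper94.KFlatAbs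
  Groth.Agent.Lib.Helper94.KFlatSymm Groth.Agent.Lib.Helper94.KFlatSymmInst
  Groth.Agent.Lib.Helper94.KFlatRing Groth.Agent.Lib.Helper12

lemma isKFlat_tensor {R : Type u} [CommRing R] (X₁ X₂ : DRing.Cx R) (h₁ : DRing.IsKFlat R X₁)
    (h₂ : DRing.IsKFlat R X₂) : DRing.IsKFlat R (X₁ ⊗ X₂) := by
  intro M hM i
  have h3 := h₂ (M ⊗ X₁) (h₁ M hM)
  exact (h3 i).of_iso ((HomologicalComplex.homologyFunctor _ _ i).mapIso (α_ M X₁ X₂).symm)

lemma isKFlat_of_isKProjective {R : Type u} [CommRing R] (P : DRing.Cx R) [P.IsKProjective] :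
    DRing.IsKFlat R P := (kf_iff R P).2 (isKFlat₂_of_isKProjective R P)

section Pair

variable {B C : Type u} [CommRing B] [CommRing C] (ψ : B →+* C) [DTen.HasLTenMix ψ]

theorem isIso_εMix_of_isKFlat_of_isKProjective (X : DRing.Cx B) (hX : DRing.IsKFlat B X)
    (P'' : DRing.Cx C) [P''.IsKProjective] : IsIso ((DTen.εMix ψ).app (X, P'')) := by
  obtain ⟨X', q, hq, hX', -⟩ := Groth.Agent.Lib.Helper36.KP.exists_resolution X
  haveI := hX'
  haveI := hq
  have h1 : IsIso ((DTen.εMix ψ).app (X', P'')) := isIso_εMix_of_isKProjective ψ X' P''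
  have hq1 : QuasiIso ((DTen.extCx ψ).map q) :=
    quasiIso_extCx_map ψ q (isKFlat_of_isKProjective X') hX
  have hqis : QuasiIso ((DTen.extCx ψ).map q ▷ P'') :=
    quasiIso_mapBifunctorMap_left (curriedTensor (ModuleCat.{u} C)) P''
      (isKFlat₂_of_isKProjective C P'') ((DTen.extCx ψ).map q)
  have h2 : IsIso (DerivedCategory.Q.map ((DTen.extCx ψ).map q ▷ P'') :
      (DerivedCategory.Q.obj _ : Dual.D C) ⟶ _) :=
    (DerivedCategory.isIso_Q_map_iff_quasiIso (ModuleCat.{u} C) _).2 hqis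
  let m : (X', P'') ⟶ (X, P'') := Prod.mkHom q (𝟙 P'')
  have hn := (DTen.εMix ψ).naturality m
  have h3 : IsIso ((DTen.QMix B C ⋙ DTen.LTenMix ψ).map m) := by
    have hq' : IsIso (DerivedCategory.Q.map q : (DerivedCategory.Q.obj X' : Dual.D B) ⟶ _) :=
      (DerivedCategory.isIso_Q_map_iff_quasiIso (ModuleCat.{u} B) q).2 hq
    have hid : IsIso (DerivedCategory.Q.map (𝟙 P'') : (DerivedCategory.Q.obj P'' : Dual.D C) ⟶ _) :=
      inferInstance
    have : IsIso ((DTen.QMix B C).map m) := (isIso_prod_iff _ _).2 ⟨hq', hid⟩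
    show IsIso ((DTen.LTenMix ψ).map ((DTen.QMix B C).map m))
    infer_instance
  have h4 : IsIso ((DTen.mix₂ ψ).map m) := by
    have : (DTen.mixT ψ).map m = (DTen.extCx ψ).map q ▷ P'' := by
      show (DTen.extCx ψ).map q ▷ P'' ≫ (DTen.extCx ψ).obj X ◁ 𝟙 P'' = (DTen.extCx ψ).map q ▷ P''
      rw [MonoidalCategory.whiskerLeft_id, Category.comp_id]
    show IsIso (DerivedCategory.Q.map ((DTen.mixT ψ).map m))
    rw [this]
    exact h2
  have h5 : (DTen.εMix ψ).app (X, P'') =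
      inv ((DTen.QMix B C ⋙ DTen.LTenMix ψ).map m) ≫ (DTen.εMix ψ).app (X', P'') ≫
        (DTen.mix₂ ψ).map m := by
    rw [← hn, IsIso.inv_hom_id_assoc]
  rw [h5]
  infer_instance

theorem isIso_εMix_left (P : DRing.Cx B) [P.IsKProjective] (Y : DRing.Cx C) :
    IsIso ((DTen.εMix ψ).app (P, Y)) := by
  obtain ⟨Y', q, hq, hY', -⟩ := Groth.Agent.Lib.Helper36.KP.exists_resolution Y
  haveI := hY'
  haveI := hq
  haveI : ((DTen.extCx ψ).obj P).IsKProjective :=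
    Groth.Agent.Lib.Helper36.BCKP.isKProjective_extendScalars ψ P
  have hX := isKFlat₁_of_isKProjective C ((DTen.extCx ψ).obj P)
  have h1 : IsIso ((DTen.εMix ψ).app (P, Y')) := isIso_εMix_of_isKProjective ψ P Y'
  have hqis : QuasiIso ((DTen.extCx ψ).obj P ◁ q) :=
    quasiIso_mapBifunctorMap_of_isKFlat₁ C _ hX q
  have h2 : IsIso (DerivedCategory.Q.map ((DTen.extCx ψ).obj P ◁ q) :
      (DerivedCategory.Q.obj _ : Dual.D C) ⟶ _) :=
    (DerivedCategory.isIso_Q_map_iff_quasiIso (ModuleCat.{u} C) _).2 hqis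
  let m : (P, Y') ⟶ (P, Y) := Prod.mkHom (𝟙 P) q
  have hn := (DTen.εMix ψ).naturality m
  have h3 : IsIso ((DTen.QMix B C ⋙ DTen.LTenMix ψ).map m) := by
    have hq' : IsIso (DerivedCategory.Q.map q : (DerivedCategory.Q.obj Y' : Dual.D C) ⟶ _) :=
      (DerivedCategory.isIso_Q_map_iff_quasiIso (ModuleCat.{u} C) q).2 hq
    have hid : IsIso (DerivedCategory.Q.map (𝟙 P) : (DerivedCategory.Q.obj P : Dual.D B) ⟶ _) :=
      inferInstance
    have : IsIso ((DTen.QMix B C).map m) := (isIso_prod_iff _ _).2 ⟨hid, hq'⟩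
    show IsIso ((DTen.LTenMix ψ).map ((DTen.QMix B C).map m))
    infer_instance
  have h4 : IsIso ((DTen.mix₂ ψ).map m) := by
    have : (DTen.mixT ψ).map m = (DTen.extCx ψ).obj P ◁ q := by
      show (DTen.extCx ψ).map (𝟙 P) ▷ Y' ≫ (DTen.extCx ψ).obj P ◁ q = (DTen.extCx ψ).obj P ◁ q
      rw [CategoryTheory.Functor.map_id, MonoidalCategory.id_whiskerRight, Category.id_comp]
    show IsIso (DerivedCategory.Q.map ((DTen.mixT ψ).map m))
    rw [this]
    exact h2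
  have h5 : (DTen.εMix ψ).app (P, Y) =
      inv ((DTen.QMix B C ⋙ DTen.LTenMix ψ).map m) ≫ (DTen.εMix ψ).app (P, Y') ≫
        (DTen.mix₂ ψ).map m := by
    rw [← hn, IsIso.inv_hom_id_assoc]
  rw [h5]
  infer_instance

end Pair

section Triple

variable {A B C : Type u} [CommRing A] [CommRing B] [CommRing C] (φ : A →+* B) (ψ : B →+* C)

theorem isIso_εMix₃_of_isKProjective [DTen.HasLTenMix₃ φ ψ] (P : DRing.Cx A) (P' : DRing.Cx B)
    (P'' : DRing.Cx C) [P.IsKProjective] [P'.IsKProjective] [P''.IsKProjective] :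
    IsIso ((DTen.εMix₃ φ ψ).app (P, (P', P''))) := by
  haveI : ∀ Y : Dual.D A × (Dual.D B × Dual.D C),
      Small.{u} ((DTen.QMix₃ A B C).obj (P, (P', P'')) ⟶ Y) := fun Y =>
    inferInstanceAs (Small.{u} (((DerivedCategory.Q.obj P : Dual.D A) ⟶ Y.1) ×
      (((DerivedCategory.Q.obj P' : Dual.D B) ⟶ Y.2.1) ×
        ((DerivedCategory.Q.obj P'' : Dual.D C) ⟶ Y.2.2))))
  refine isIso_counit_app (DTen.QMix₃ A B C) (DTen.qisMix₃ A B C) (DTen.mix₃ φ ψ)
    (DTen.LTenMix₃ φ ψ) (DTen.εMix₃ φ ψ) (P, (P', P'')) ?_ ?_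
  · rintro ⟨X₁, X₂, X₃⟩ ⟨t₁, t₂, t₃⟩
    obtain ⟨s₁, h₁⟩ := exists_Q_map_eq t₁
    obtain ⟨s₂, h₂⟩ := exists_Q_map_eq t₂
    obtain ⟨s₃, h₃⟩ := exists_Q_map_eq t₃
    exact ⟨(s₁, (s₂, s₃)), Prod.ext h₁ (Prod.ext h₂ h₃)⟩
  · rintro ⟨X₁, X₂, X₃⟩ ⟨s₁, s₂, s₃⟩ ⟨s₁', s₂', s₃'⟩ h
    have h₁ : (DerivedCategory.Q.map s₁ : (DerivedCategory.Q.obj P : Dual.D A) ⟶ _) =
        DerivedCategory.Q.map s₁' := congrArg Prod.fst h
    have h₂ : (DerivedCategory.Q.map s₂ : (DerivedCategory.Q.obj P' : Dual.D B) ⟶ _) =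
        DerivedCategory.Q.map s₂' := congrArg (fun z => z.2.1) h
    have h₃ : (DerivedCategory.Q.map s₃ : (DerivedCategory.Q.obj P'' : Dual.D C) ⟶ _) =
        DerivedCategory.Q.map s₃' := congrArg (fun z => z.2.2) h
    obtain ⟨H₁⟩ := nonempty_homotopy_of_Q_map_eq _ _ h₁
    obtain ⟨Hu⟩ := nonempty_homotopy_tensorT_map B ((DTen.extCx φ).map s₁) ((DTen.extCx φ).map s₁')
      s₂ s₂' ⟨(ModuleCat.extendScalars.{u, u, u} φ).mapHomotopy H₁⟩
      (nonempty_homotopy_of_Q_map_eq _ _ h₂)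
    exact tensor₂_map_eq
      ((DTen.extCx ψ).map ((DTen.tensorT B).map (Prod.mkHom ((DTen.extCx φ).map s₁) s₂)))
      ((DTen.extCx ψ).map ((DTen.tensorT B).map (Prod.mkHom ((DTen.extCx φ).map s₁') s₂')))
      s₃ s₃' ⟨(ModuleCat.extendScalars.{u, u, u} ψ).mapHomotopy Hu⟩
      (nonempty_homotopy_of_Q_map_eq _ _ h₃)

/-- **S14268** -/
theorem isIso_leg₃ [DTen.HasLTenMix φ] [DTen.HasLTenMix ψ] [DTen.HasLTenMix (ψ.comp φ)]
    [DTen.HasLTenMix₃ φ ψ] (E : Dual.D A) (F : Dual.D B) (G : Dual.D C) :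
    IsIso ((DTen.leg₃L φ ψ).app (E, (F, G))) ∧ IsIso ((DTen.leg₃R φ ψ).app (E, (F, G))) := by
  obtain ⟨P, hP, ⟨i₁⟩⟩ := exists_kproj_iso E
  obtain ⟨P', hP', ⟨i₂⟩⟩ := exists_kproj_iso F
  obtain ⟨P'', hP'', ⟨i₃⟩⟩ := exists_kproj_iso G
  have h3 : IsIso ((DTen.εMix₃ φ ψ).app (P, (P', P''))) := isIso_εMix₃_of_isKProjective φ ψ P P' P''
  have hL : IsIso ((DTen.β₃L φ ψ).app (P, (P', P''))) := by
    have e1 : IsIso ((DTen.εMix φ).app (P, P')) := isIso_εMix_of_isKProjective φ P P'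
    haveI : ((DTen.extCx φ).obj P).IsKProjective :=
      Groth.Agent.Lib.Helper36.BCKP.isKProjective_extendScalars φ P
    have hXf : DRing.IsKFlat B ((DTen.mixT φ).obj (P, P')) :=
      isKFlat_tensor _ _ (isKFlat_of_isKProjective ((DTen.extCx φ).obj P))
        (isKFlat_of_isKProjective P')
    have e2 : IsIso ((DTen.εMix ψ).app ((DTen.mixT φ).obj (P, P'), P'')) :=
      isIso_εMix_of_isKFlat_of_isKProjective ψ _ hXf P''
    have : IsIso (Prod.mkHom ((DTen.εMix φ).app (P, P'))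
        (𝟙 (DerivedCategory.Q.obj P'' : Dual.D C))) :=
      (isIso_prod_iff _ _).2 ⟨e1, inferInstance⟩
    show IsIso ((DTen.LTenMix ψ).map (Prod.mkHom ((DTen.εMix φ).app (P, P'))
      (𝟙 (DerivedCategory.Q.obj P''))) ≫ (DTen.εMix ψ).app ((DTen.mixT φ).obj (P, P'), P''))
    infer_instance
  have hR : IsIso ((DTen.β₃R φ ψ).app (P, (P', P''))) := by
    have e1 : IsIso ((DTen.εMix ψ).app (P', P'')) := isIso_εMix_of_isKProjective ψ P' P''
    have e2 : IsIso ((DTen.εMix (ψ.comp φ)).app (P, (DTen.mixT ψ).obj (P', P''))) :=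
      isIso_εMix_left (ψ.comp φ) P _
    have : IsIso (Prod.mkHom (𝟙 (DerivedCategory.Q.obj P : Dual.D A))
        ((DTen.εMix ψ).app (P', P''))) :=
      (isIso_prod_iff _ _).2 ⟨inferInstance, e1⟩
    show IsIso ((DTen.LTenMix (ψ.comp φ)).map (Prod.mkHom (𝟙 (DerivedCategory.Q.obj P))
      ((DTen.εMix ψ).app (P', P''))) ≫
        (DTen.εMix (ψ.comp φ)).app (P, (DTen.mixT ψ).obj (P', P'')) ≫
          DerivedCategory.Q.map ((DTen.θ₃ φ ψ).inv.app (P, (P', P''))))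
    infer_instance
  have hLapp : IsIso ((DTen.leg₃L φ ψ).app
      (DerivedCategory.Q.obj P, (DerivedCategory.Q.obj P', DerivedCategory.Q.obj P''))) := by
    have hfac := DTen.leg₃L_fac φ ψ (P, (P', P''))
    have : (DTen.leg₃L φ ψ).app ((DTen.QMix₃ A B C).obj (P, (P', P''))) =
        (DTen.β₃L φ ψ).app (P, (P', P'')) ≫ inv ((DTen.εMix₃ φ ψ).app (P, (P', P''))) :=
      (IsIso.eq_comp_inv _).2 hfac
    show IsIso ((DTen.leg₃L φ ψ).app ((DTen.QMix₃ A B C).obj (P, (P', P''))))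
    rw [this]
    infer_instance
  have hRapp : IsIso ((DTen.leg₃R φ ψ).app
      (DerivedCategory.Q.obj P, (DerivedCategory.Q.obj P', DerivedCategory.Q.obj P''))) := by
    have hfac := DTen.leg₃R_fac φ ψ (P, (P', P''))
    have : (DTen.leg₃R φ ψ).app ((DTen.QMix₃ A B C).obj (P, (P', P''))) =
        (DTen.β₃R φ ψ).app (P, (P', P'')) ≫ inv ((DTen.εMix₃ φ ψ).app (P, (P', P''))) :=
      (IsIso.eq_comp_inv _).2 hfac
    show IsIso ((DTen.leg₃R φ ψ).app ((DTen.QMix₃ A B C).obj (P, (P', P''))))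
    rw [this]
    infer_instance
  exact ⟨isIso_app_of_iso (DTen.leg₃L φ ψ) (Iso.prod i₁ (Iso.prod i₂ i₃)),
    isIso_app_of_iso (DTen.leg₃R φ ψ) (Iso.prod i₁ (Iso.prod i₂ i₃))⟩

end Triple

end Groth.Agent.Lib.Helper46.DTenMix3
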