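import Groth.Agent.Lib.Helper46.DTenBcRHom
import Groth.Agent.Lib.Helper46.DTenCptEval
import Groth.Agent.Lib.Helper46.DTenRelProj
import Groth.Agent.Lib.Helper68.DerProdGroth
import Groth.Agent.Lib.Helper12.DRingRestrict
import Groth.Agent.Lib.Helper36.EvalHomMid

/-!
# Products in `D(A)`; tensoring with a perfect complex preserves products (helper46)

Namespace `Groth.Agent.Lib.Helper46.DTenPerfProd`.

* `hasProducts_D`: `D(A)` (standard instance) has `Type u`-indexed products (from helper68/helper99).
* `reflectsIsomorphisms_restrictD`: restriction of scalars `D(R') ⥤ D(R)` is conservative.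
* `isIso_app_of_isPerfect`: generic dévissage — a natural transformation between additive
  middle-exact functors on `D(R)` which is an isomorphism at the shifts of the unit is an
  isomorphism at every perfect object.
* `piT`, `κ`, `preservesLimit_tensorRightD_of_isPerfect`: `- ⊗^L E` preserves `Type u`-indexed
  products for `E` perfect.
-/

set_option autoImplicit false
set_option backward.isDefEq.respectTransparency false
universe u
open CategoryTheory CategoryTheory.Limits MonoidalCategory CategoryTheory.Pretriangulated Opposite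
attribute [local instance] HasDerivedCategory.standard

namespace Groth.Agent.Lib.Helper46.DTenPerfProd

open Groth.Agent.Lib.Helper46.DTenKProj Groth.Agent.Lib.Helper46.DTenRHomBC
  Groth.Agent.Lib.Helper46.DTenUnitShift Groth.Agent.Lib.Helper46.TriFive
  Groth.Agent.Lib.Helper46.DTenAssoc Groth.Agent.Lib.Helper46.DTenBcRHom DerivedCategory

section Prod

variable (A : Type u) [CommRing A]

/-- `D(A)` (standard instance) has `Type u`-indexed products -/
instance hasProducts_D : HasProducts.{u} (Dual.D A) := fun J =>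
  ⟨fun F => by
    have : HasProduct (F.obj ∘ Discrete.mk) := Groth.Agent.Lib.Helper68.DerProd.hasProduct _
    exact hasLimit_of_iso (Discrete.natIsoFunctor (F := F)).symm⟩

end Prod

section Conservative

variable {R R' : Type u} [CommRing R] [CommRing R'] (φ : R →+* R')

instance reflectsIsomorphisms_restrictD : (DRing.restrictD φ).ReflectsIsomorphisms :=
  ⟨fun {K L} α h => by
    rw [DerivedCategory.isIso_iff]
    intro i
    rw [← Groth.Agent.Lib.Helper12.isIso_HF_restrictD_map_iff φ α i]
    infer_instance⟩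

end Conservative

section GenDev

open Groth.Agent.Lib.Helper12 DRing

variable {R : Type u} [CommRing R] {C : Type*} [Category C] [Preadditive C]
  {F G : Dual.D R ⥤ C} [F.Additive] [G.Additive] (η : F ⟶ G)

/-- `η` is an isomorphism at all shifts of `K` -/
def PrG (K : Dual.D R) : Prop := ∀ n : ℤ, IsIso (η.app (K⟦n⟧))

variable {η} in
lemma PrG.of_iso {K K' : Dual.D R} (e : K ≅ K') (h : PrG η K) : PrG η K' := fun n =>
  have := h n
  isIso_app_of_iso η ((shiftFunctor (Dual.D R) n).mapIso e)

lemma prG_of_isZero {K : Dual.D R} (h : IsZero K) : PrG η K := fun n => by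
  have h1 : IsZero (K⟦n⟧) := (shiftFunctor (Dual.D R) n).map_isZero h
  have h2 := F.map_isZero h1
  have h3 := G.map_isZero h1
  exact ⟨0, h2.eq_of_src _ _, h3.eq_of_src _ _⟩

variable (hF : ∀ T ∈ distTriang (Dual.D R), MidAt F T) (hG : ∀ T ∈ distTriang (Dual.D R), MidAt G T)

include hF hG in
lemma prG_ext (T : Triangle (Dual.D R)) (hT : T ∈ distTriang (Dual.D R))
    (h₁ : PrG η T.obj₁) (h₃ : PrG η T.obj₃) : PrG η T.obj₂ := by
  intro n
  have hTn := Triangle.shift_distinguished T hT n
  refine isIso_app_obj₂ η hF hG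
    ((CategoryTheory.shiftFunctor (Triangle (Dual.D R)) n).obj T) hTn ?_ (h₁ n) (h₃ n) ?_
  · have := h₃ (n + (-1))
    exact isIso_app_of_iso _ ((shiftFunctorAdd' (Dual.D R) n (-1) (n + (-1)) rfl).app T.obj₃)
  · have := h₁ (n + 1)
    exact isIso_app_of_iso _ ((shiftFunctorAdd' (Dual.D R) n 1 (n + 1) rfl).app T.obj₁)

variable (hu : ∀ m : ℤ, IsIso (η.app (Q.obj (unitShift R m))))

include hu in
lemma prG_unitShift (m : ℤ) : PrG η (Q.obj (unitShift R m)) := by
  intro n
  have e : (Q.obj (unitShift R (m + n)) : Dual.D R) ≅ (Q.obj (unitShift R m))⟦n⟧ :=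
    Q.mapIso ((shiftFunctorAdd' (DRing.Cx R) m n (m + n) rfl).app (𝟙_ (DRing.Cx R))) ≪≫
      (Q.commShiftIso n).app _
  have := hu (m + n)
  exact isIso_app_of_iso _ e

include hu in
lemma prG_single (a : ℤ) (N : ModuleCat.{u} R) [Module.Finite R N] [Module.Projective R N] :
    PrG η (toD (singleCx a N)) := by
  intro n
  let S : ModuleCat.{u} R ⥤ Dual.D R :=
    HomologicalComplex.single (ModuleCat.{u} R) (ComplexShape.up ℤ) a ⋙ Q ⋙
      shiftFunctor (Dual.D R) n
  refine isIso_app_of_finite_projective (Functor.whiskerLeft S η) ?_ N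
  show IsIso (η.app ((Q.obj (singleCx a (ModuleCat.of R R)))⟦n⟧))
  have e : (Q.obj (unitShift R (-a)) : Dual.D R) ≅ Q.obj (singleCx a (ModuleCat.of R R)) :=
    Q.mapIso (((CochainComplex.singleFunctors (ModuleCat.{u} R)).shiftIso (-a) a 0
      (by omega)).app (ModuleCat.of R R))
  exact (PrG.of_iso e (prG_unitShift η hu (-a))) n

include hF hG hu in
/-- **generic dévissage**: a natural transformation between additive middle-exact functors on
`D(R)` which is an isomorphism at the shifts of the unit is an isomorphism at perfect objects -/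
theorem isIso_app_of_isPerfect (K : Dual.D R) (hK : DRing.IsPerfect R K) : IsIso (η.app K) := by
  obtain ⟨E, a, b, hE, hproj, ⟨e⟩⟩ := hK
  have hPr : PrG η (toD E) :=
    bounded_induction (PrG η) (fun N => Module.Finite R N ∧ Module.Projective R N)
      (fun {N N'} i h => by
        have := h.1
        have := h.2
        exact ⟨Module.Finite.equiv i.toLinearEquiv, Module.Projective.of_equiv i.toLinearEquiv⟩)
      (fun {N} h => by
        have : Subsingleton N := ModuleCat.subsingleton_of_isZero h
        exact ⟨inferInstance, inferInstance⟩)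
      (fun K h => prG_of_isZero η h)
      (fun N a h => by
        have := h.1
        have := h.2
        exact prG_single η hu a N)
      (fun T hT h1 h3 => prG_ext η hF hG T hT h1 h3)
      E a b hE hproj
  have := (PrG.of_iso e hPr) 0
  exact isIso_app_of_iso η ((shiftFunctorZero (Dual.D R) ℤ).app K)

end GenDev

section TensorProd

variable (R : Type u) [CommRing R] [DTen.HasLTen R] [DTen.HasRHom R]

theorem midAt_LTen_obj (Z : Dual.D R) (T : Triangle (Dual.D R))
    (hT : T ∈ distTriang (Dual.D R)) : MidAt ((DTen.LTen R).obj Z) T :=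
  Groth.Agent.Lib.Helper36.EHN.MidAt.of_natIso (symmIso R Z)
    (Groth.Agent.Lib.Helper46.DTenMid.midAt_tensorRightD R Z T hT)

variable {R} {J : Type u} (Y : J → Dual.D R)

/-- `E ↦ ∏ⱼ (Yⱼ ⊗^L E)` -/
noncomputable def piT : Dual.D R ⥤ Dual.D R where
  obj E := ∏ᶜ fun j => ((DTen.LTen R).obj (Y j)).obj E
  map f := Limits.Pi.map fun j => ((DTen.LTen R).obj (Y j)).map f
  map_id E := by
    apply Pi.hom_ext
    intro j
    simp
  map_comp f g := by
    apply Pi.hom_ext
    intro j
    simp

instance : (piT Y).Additive where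
  map_add {E E'} {f g} := by
    apply Pi.hom_ext
    intro j
    show Limits.Pi.map (fun j => ((DTen.LTen R).obj (Y j)).map (f + g)) ≫ Pi.π _ j =
      (Limits.Pi.map (fun j => ((DTen.LTen R).obj (Y j)).map f) +
        Limits.Pi.map (fun j => ((DTen.LTen R).obj (Y j)).map g)) ≫ Pi.π _ j
    rw [Preadditive.add_comp, Pi.map_π, Pi.map_π, Pi.map_π, Functor.map_add, Preadditive.comp_add]

theorem midAt_piT (T : Triangle (Dual.D R)) (hT : T ∈ distTriang (Dual.D R)) :
    MidAt (piT Y) T := by
  intro W x hx
  let x' : W ⟶ ∏ᶜ fun j => ((DTen.LTen R).obj (Y j)).obj T.obj₂ := x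
  have hx' : x' ≫ Limits.Pi.map (fun j => ((DTen.LTen R).obj (Y j)).map T.mor₂) = 0 := hx
  have h : ∀ j, ∃ y : W ⟶ ((DTen.LTen R).obj (Y j)).obj T.obj₁,
      y ≫ ((DTen.LTen R).obj (Y j)).map T.mor₁ = x' ≫ Pi.π _ j := by
    intro j
    apply midAt_LTen_obj R (Y j) T hT W
    rw [Category.assoc, ← Pi.map_π (fun j => ((DTen.LTen R).obj (Y j)).map T.mor₂) j,
      ← Category.assoc, hx', zero_comp]
  choose y hy using h
  refine ⟨Pi.lift y, ?_⟩
  show Pi.lift y ≫ Limits.Pi.map (fun j => ((DTen.LTen R).obj (Y j)).map T.mor₁) = x'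
  apply Pi.hom_ext
  intro j
  rw [Category.assoc, Pi.map_π, ← Category.assoc, Pi.lift_π, hy]

/-- the comparison `(∏ Y) ⊗^L E ⟶ ∏ⱼ (Yⱼ ⊗^L E)` -/
noncomputable def κ : (DTen.LTen R).obj (∏ᶜ Y) ⟶ piT Y where
  app E := Pi.lift fun j => ((DTen.LTen R).map (Pi.π Y j)).app E
  naturality E E' f := by
    apply Pi.hom_ext
    intro j
    simp [piT]

lemma κ_app (E : Dual.D R) : (κ Y).app E = piComparison (DTen.tensorRightD R E) Y := rfl

theorem preservesLimit_tensorRightD_of_isPerfect (E : Dual.D R) (hE : DRing.IsPerfect R E) :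
    PreservesLimit (Discrete.functor Y) (DTen.tensorRightD R E) := by
  have h : IsIso ((κ Y).app E) := by
    refine isIso_app_of_isPerfect (κ Y) (fun T hT => midAt_LTen_obj R _ T hT)
      (fun T hT => midAt_piT Y T hT) (fun m => ?_) E hE
    rw [κ_app]
    infer_instance
  rw [κ_app] at h
  exact PreservesProduct.of_iso_comparison _ _

end TensorProd

end Groth.Agent.Lib.Helper46.DTenPerfProd
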