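import Groth.Prelude.Def_DTen5
import Groth.Prelude.Def_DTen6
import Groth.Agent.Lib.Helper46.DTenKProj
import Groth.Agent.Lib.Helper46.DTenKFlatBase
import Groth.Agent.Lib.Helper46.DTenMix3

/-!
# Base change for derived Hom: `rhomBC` is an isomorphism (helper46)

Namespace `Groth.Agent.Lib.Helper46.DTenRHomBC`.
-/

set_option autoImplicit false
set_option backward.isDefEq.respectTransparency false
universe u
open CategoryTheory CategoryTheory.Limits MonoidalCategory
attribute [local instance] HasDerivedCategory.standard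

namespace Groth.Agent.Lib.Helper46.DTenRHomBC

open Groth.Agent.Lib.Helper46.DTenKProj

variable {R R' : Type u} [CommRing R] [CommRing R'] (φ : R →+* R')

section Chain

lemma unit_tensor (X Y : ModuleCat.{u} R) :
    ((adj0 φ).unit.app X ⊗ₘ (adj0 φ).unit.app Y) ≫
      DTen.resTen₀app φ ((DTen.extM φ).obj X) ((DTen.extM φ).obj Y) =
    (adj0 φ).unit.app (X ⊗ Y) ≫ (DTen.resM φ).map (Functor.OplaxMonoidal.δ (DTen.extM φ) X Y) := by
  rw [DTen.resTen₀app_eq_μ]
  exact ((adj0 φ).unit_app_tensor_comp_map_δ X Y).symm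

lemma unitCx_tensor (P P' : DRing.Cx R) :
    ((DTen.unitCx φ).app P ⊗ₘ (DTen.unitCx φ).app P') ≫
      DTen.resTenCx φ ((DTen.extCx φ).obj P) ((DTen.extCx φ).obj P') =
    (DTen.unitCx φ).app (P ⊗ P') ≫ (DTen.resCx φ).map (DTen.extTenCxIso φ P P').hom := by
  change HomologicalComplex.mapBifunctorMap ((DTen.unitCx φ).app P) ((DTen.unitCx φ).app P') _ _ ≫ _ = _
  refine HomologicalComplex.hom_ext _ _ (fun n => HomologicalComplex.mapBifunctor.hom_ext (fun p q h => ?_))
  rw [HomologicalComplex.comp_f, HomologicalComplex.comp_f]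
  rw [HomologicalComplex.ι_mapBifunctorMap_assoc]
  have h1 := DTen.ι_resTenCx φ ((DTen.extCx φ).obj P) ((DTen.extCx φ).obj P') p q n h
  have h2 := DTen.map_ι_extTenCxIso_hom φ P P' p q n h
  have h3 := (adj0 φ).unit.naturality (HomologicalComplex.ιTensorObj P P' p q n h)
  have h4 := unit_tensor φ (P.X p) (P'.X q)
  calc _ = ((adj0 φ).unit.app (P.X p) ⊗ₘ (adj0 φ).unit.app (P'.X q)) ≫
        (HomologicalComplex.ιTensorObj ((DTen.resCx φ).obj ((DTen.extCx φ).obj P))
          ((DTen.resCx φ).obj ((DTen.extCx φ).obj P')) p q n h ≫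
        (DTen.resTenCx φ ((DTen.extCx φ).obj P) ((DTen.extCx φ).obj P')).f n) := by
          rw [MonoidalCategory.tensorHom_def, Category.assoc]; rfl
    _ = ((adj0 φ).unit.app (P.X p) ⊗ₘ (adj0 φ).unit.app (P'.X q)) ≫
        DTen.resTen₀app φ (((DTen.extCx φ).obj P).X p) (((DTen.extCx φ).obj P').X q) ≫
        (DTen.resM φ).map (HomologicalComplex.ιTensorObj ((DTen.extCx φ).obj P)
          ((DTen.extCx φ).obj P') p q n h) := by rw [h1]
    _ = (adj0 φ).unit.app (P.X p ⊗ P'.X q) ≫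
        (DTen.resM φ).map (Functor.OplaxMonoidal.δ (DTen.extM φ) (P.X p) (P'.X q) ≫
          HomologicalComplex.ιTensorObj ((DTen.extCx φ).obj P) ((DTen.extCx φ).obj P') p q n h) := by
          rw [Functor.map_comp, ← Category.assoc, ← Category.assoc]
          congr 1
    _ = (adj0 φ).unit.app (P.X p ⊗ P'.X q) ≫
        (DTen.resM φ).map ((DTen.extM φ).map (HomologicalComplex.ιTensorObj P P' p q n h) ≫
          (DTen.extTenCxIso φ P P').hom.f n) := by rw [h2]
    _ = (HomologicalComplex.ιTensorObj P P' p q n h ≫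
          (adj0 φ).unit.app ((HomologicalComplex.tensorObj P P').X n)) ≫
        (DTen.resM φ).map ((DTen.extTenCxIso φ P P').hom.f n) := by
          rw [Functor.map_comp, ← Category.assoc]
          congr 1
    _ = _ := by rw [Category.assoc]; rfl

end Chain

section Derived

open DerivedCategory

variable [DTen.HasLTen R] [DTen.HasLTen R'] [DTen.HasLBase φ] [DTen.HasResTen φ] [DTen.ResLegIso φ]

/-- the lax monoidal structure of the unit of derived base change -/
noncomputable def μ (W K : Dual.D R) :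
    (DTen.LTen₂ R).obj (W, K) ⟶ (DRing.restrictD φ).obj
      ((DTen.LTen₂ R').obj ((DTen.LBase φ).obj W, (DTen.LBase φ).obj K)) :=
  (DTen.LTen₂ R).map (Prod.mkHom ((DTen.baseAdj φ).unit.app W) ((DTen.baseAdj φ).unit.app K)) ≫
    (DTen.resPF φ).app ((DTen.LBase φ).obj W, (DTen.LBase φ).obj K)

lemma μ_naturality {W W' K K' : Dual.D R} (f : W ⟶ W') (g : K ⟶ K') :
    (DTen.LTen₂ R).map (Prod.mkHom f g) ≫ μ φ W' K' =
      μ φ W K ≫ (DRing.restrictD φ).map ((DTen.LTen₂ R').map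
        (Prod.mkHom ((DTen.LBase φ).map f) ((DTen.LBase φ).map g))) := by
  have e1 := (DTen.baseAdj φ).unit.naturality f
  have e2 := (DTen.baseAdj φ).unit.naturality g
  have e3 := (DTen.resPF φ).naturality (Prod.mkHom ((DTen.LBase φ).map f) ((DTen.LBase φ).map g))
  dsimp at e1 e2 e3
  dsimp only [μ]
  rw [Category.assoc, ← e3, ← Category.assoc, ← Category.assoc, ← Functor.map_comp, ← Functor.map_comp]
  congr 2
  exact Prod.ext e1 e2

theorem μ_comp_res (P P' : DRing.Cx R) :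
    μ φ (Q.obj P) (Q.obj P') ≫ (DRing.restrictD φ).map
      ((DTen.LTen₂ R').map (Prod.mkHom ((DTen.baseCmp φ).app P) ((DTen.baseCmp φ).app P')) ≫
        (DTen.ε R').app ((DTen.extCx φ).obj P, (DTen.extCx φ).obj P') ≫
        Q.map (DTen.extTenCxIso φ P P').inv) =
    (DTen.ε R).app (P, P') ≫ (DTen.baseγ φ).app (P ⊗ P') := by
  have e1 := (DTen.resPF φ).naturality
    (Prod.mkHom ((DTen.baseCmp φ).app P) ((DTen.baseCmp φ).app P'))
  have e2 := DTen.baseCmp_fac φ P
  have e2' := DTen.baseCmp_fac φ P'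
  have e3 := DTen.resPF_fac φ ((DTen.extCx φ).obj P, (DTen.extCx φ).obj P')
  have e4 := (DTen.resFactors φ).hom.naturality (DTen.extTenCxIso φ P P').inv
  have e5 := (DTen.ε R).naturality (Prod.mkHom ((DTen.unitCx φ).app P) ((DTen.unitCx φ).app P'))
  have e6 := unitCx_tensor φ P P'
  dsimp [DTen.resβA, DTen.resβB] at e1 e3 e4 e5
  have hγ : ∀ X : DRing.Cx R, (DTen.baseγ φ).app X ≫
      (DTen.resFactors φ).hom.app ((DTen.extCx φ).obj X) = Q.map ((DTen.unitCx φ).app X) := by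
    intro X
    dsimp [DTen.baseγ]
    rw [Category.assoc, Iso.inv_hom_id_app]
    exact Category.comp_id _
  rw [← cancel_mono ((DTen.resFactors φ).hom.app ((DTen.extCx φ).obj (P ⊗ P')))]
  simp only [μ, Functor.map_comp, Category.assoc]
  rw [e4, ← reassoc_of% e1, reassoc_of% e3, hγ]
  have hprod : Prod.mkHom ((DTen.baseAdj φ).unit.app (Q.obj P)) ((DTen.baseAdj φ).unit.app (Q.obj P')) ≫
      Prod.mkHom ((DRing.restrictD φ).map ((DTen.baseCmp φ).app P))
        ((DRing.restrictD φ).map ((DTen.baseCmp φ).app P')) ≫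
      Prod.mkHom ((DTen.resFactors φ).hom.app ((DTen.extCx φ).obj P))
        ((DTen.resFactors φ).hom.app ((DTen.extCx φ).obj P')) =
      Prod.mkHom (Q.map ((DTen.unitCx φ).app P)) (Q.map ((DTen.unitCx φ).app P')) := by
    refine Prod.ext ?_ ?_
    · dsimp
      rw [← Category.assoc, e2, hγ]
    · dsimp
      rw [← Category.assoc, e2', hγ]
  rw [← Functor.map_comp_assoc, ← Functor.map_comp_assoc, Category.assoc, hprod, reassoc_of% e5,
    ← Functor.map_comp, ← Functor.map_comp, ← MonoidalCategory.tensorHom_def, reassoc_of% e6,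
    ← Functor.map_comp, Iso.hom_inv_id, CategoryTheory.Functor.map_id, Category.comp_id]

theorem bijective_μ_comp_res_Q (P P' : DRing.Cx R) [P.IsKProjective] [P'.IsKProjective]
    (M : Dual.D R') :
    Function.Bijective (fun y : (DTen.LTen₂ R').obj ((DTen.LBase φ).obj (Q.obj P),
        (DTen.LBase φ).obj (Q.obj P')) ⟶ M => μ φ (Q.obj P) (Q.obj P') ≫ (DRing.restrictD φ).map y) := by
  have : ((DTen.extCx φ).obj P).IsKProjective :=
    Groth.Agent.Lib.Helper36.BCKP.isKProjective_extendScalars φ P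
  have : ((DTen.extCx φ).obj P').IsKProjective :=
    Groth.Agent.Lib.Helper36.BCKP.isKProjective_extendScalars φ P'
  have h1 : IsIso ((DTen.baseCmp φ).app P) := isIso_baseCmp_of_isKProjective φ P
  have h2 : IsIso ((DTen.baseCmp φ).app P') := isIso_baseCmp_of_isKProjective φ P'
  have h3 : IsIso ((DTen.ε R').app ((DTen.extCx φ).obj P, (DTen.extCx φ).obj P')) :=
    isIso_ε_of_isKProjective R' _ _
  have h4 : IsIso ((DTen.ε R).app (P, P')) := isIso_ε_of_isKProjective R P P'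
  have h5 : IsIso ((DTen.baseCmp φ).app (P ⊗ P')) :=
    Groth.Agent.Lib.Helper46.DTenKFlatBase.isIso_baseCmp_app_of_isKFlat φ (P ⊗ P')
      (Groth.Agent.Lib.Helper46.DTenMix3.isKFlat_tensor P P'
        (Groth.Agent.Lib.Helper46.DTenMix3.isKFlat_of_isKProjective P)
        (Groth.Agent.Lib.Helper46.DTenMix3.isKFlat_of_isKProjective P'))
  have h6 : IsIso (Prod.mkHom ((DTen.baseCmp φ).app P) ((DTen.baseCmp φ).app P')) :=
    (isIso_prod_iff _ _).2 ⟨h1, h2⟩
  have key := μ_comp_res φ P P'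
  generalize ha' : ((DTen.LTen₂ R').map (Prod.mkHom ((DTen.baseCmp φ).app P) ((DTen.baseCmp φ).app P')) ≫
        (DTen.ε R').app ((DTen.extCx φ).obj P, (DTen.extCx φ).obj P') ≫
        Q.map (DTen.extTenCxIso φ P P').inv) = a at key
  have ha : IsIso a := by
    rw [← ha']
    infer_instance
  have hΨ : ∀ y : (DTen.LTen₂ R').obj ((DTen.LBase φ).obj (Q.obj P),
        (DTen.LBase φ).obj (Q.obj P')) ⟶ M, μ φ (Q.obj P) (Q.obj P') ≫ (DRing.restrictD φ).map y =
      (DTen.ε R).app (P, P') ≫ (DTen.baseAdj φ).homEquiv (Q.obj (P ⊗ P')) M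
        ((DTen.baseCmp φ).app (P ⊗ P') ≫ inv a ≫ y) := by
    intro y
    rw [Adjunction.homEquiv_unit, Functor.map_comp,
      ← Category.assoc ((DTen.baseAdj φ).unit.app _), DTen.baseCmp_fac, ← Category.assoc, ← key,
      Category.assoc, ← Functor.map_comp, IsIso.hom_inv_id_assoc]
  constructor
  · intro y y' hyy
    dsimp only at hyy
    rw [hΨ, hΨ, cancel_epi] at hyy
    have h7 := ((DTen.baseAdj φ).homEquiv (Q.obj (P ⊗ P')) M).injective hyy
    rwa [cancel_epi, cancel_epi] at h7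
  · intro z
    refine ⟨a ≫ inv ((DTen.baseCmp φ).app (P ⊗ P')) ≫
      ((DTen.baseAdj φ).homEquiv (Q.obj (P ⊗ P')) M).symm (inv ((DTen.ε R).app (P, P')) ≫ z), ?_⟩
    dsimp only
    rw [hΨ, IsIso.inv_hom_id_assoc, IsIso.hom_inv_id_assoc, Equiv.apply_symm_apply,
      IsIso.hom_inv_id_assoc]

theorem bijective_μ_comp_res (W K : Dual.D R) (M : Dual.D R') :
    Function.Bijective (fun y : (DTen.LTen₂ R').obj ((DTen.LBase φ).obj W,
        (DTen.LBase φ).obj K) ⟶ M => μ φ W K ≫ (DRing.restrictD φ).map y) := by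
  obtain ⟨P, hP, ⟨i₁⟩⟩ := exists_kproj_iso W
  obtain ⟨P', hP', ⟨i₂⟩⟩ := exists_kproj_iso K
  have hb := bijective_μ_comp_res_Q φ P P' M
  have hn := μ_naturality φ i₁.hom i₂.hom
  let s : (DTen.LTen₂ R).obj (Q.obj P, Q.obj P') ≅ (DTen.LTen₂ R).obj (W, K) :=
    (DTen.LTen₂ R).mapIso (i₁.prod i₂)
  let t : (DTen.LTen₂ R').obj ((DTen.LBase φ).obj (Q.obj P), (DTen.LBase φ).obj (Q.obj P')) ≅
      (DTen.LTen₂ R').obj ((DTen.LBase φ).obj W, (DTen.LBase φ).obj K) :=
    (DTen.LTen₂ R').mapIso (((DTen.LBase φ).mapIso i₁).prod ((DTen.LBase φ).mapIso i₂))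
  have hn' : s.hom ≫ μ φ W K = μ φ (Q.obj P) (Q.obj P') ≫ (DRing.restrictD φ).map t.hom := hn
  have hΨ : ∀ y : (DTen.LTen₂ R').obj ((DTen.LBase φ).obj W, (DTen.LBase φ).obj K) ⟶ M,
      μ φ W K ≫ (DRing.restrictD φ).map y =
        s.inv ≫ (μ φ (Q.obj P) (Q.obj P') ≫ (DRing.restrictD φ).map (t.hom ≫ y)) := by
    intro y
    rw [Functor.map_comp, ← Category.assoc (μ φ (Q.obj P) (Q.obj P')), ← hn', Category.assoc,
      Iso.inv_hom_id_assoc]
  constructor
  · intro y y' h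
    dsimp only at h
    rw [hΨ, hΨ, cancel_epi] at h
    have h' := hb.1 h
    rwa [cancel_epi] at h'
  · intro z
    obtain ⟨y, hy⟩ := hb.2 (s.hom ≫ z)
    refine ⟨t.inv ≫ y, ?_⟩
    dsimp only at hy ⊢
    rw [hΨ, Iso.hom_inv_id_assoc, hy, Iso.inv_hom_id_assoc]

variable [DTen.HasRHom R] [DTen.HasRHom R']

theorem rhomBC_adjunct (K : Dual.D R) (M : Dual.D R') (W : Dual.D R)
    (x : (DTen.LBase φ).obj W ⟶ (DTen.RHomR R' ((DTen.LBase φ).obj K)).obj M) :
    ((DTen.rhomAdj R K).homEquiv W _).symm ((DTen.baseAdj φ).homEquiv _ _ x ≫ DTen.rhomBC φ K M) =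
      μ φ W K ≫ (DRing.restrictD φ).map
        (((DTen.rhomAdj R' ((DTen.LBase φ).obj K)).homEquiv _ _).symm x) := by
  rw [Adjunction.homEquiv_naturality_left_symm]
  have h1 : ((DTen.rhomAdj R K).homEquiv _ _).symm (DTen.rhomBC φ K M) = DTen.rhomBCCore φ K M :=
    Equiv.symm_apply_apply _ _
  rw [h1, Adjunction.homEquiv_unit, Adjunction.homEquiv_counit]
  have e := (DTen.resPF φ).naturality (Prod.mkHom x (𝟙 ((DTen.LBase φ).obj K)))
  dsimp at e
  show (DTen.LTen₂ R).map (Prod.mkHom ((DTen.baseAdj φ).unit.app W ≫ (DRing.restrictD φ).map x)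
      (𝟙 K)) ≫ DTen.rhomBCCore φ K M =
    μ φ W K ≫ (DRing.restrictD φ).map ((DTen.LTen₂ R').map (Prod.mkHom x (𝟙 _)) ≫ DTen.ev _ M)
  dsimp only [DTen.rhomBCCore, μ]
  rw [Functor.map_comp, Category.assoc, ← reassoc_of% e, ← Functor.map_comp_assoc,
    ← Functor.map_comp_assoc]
  congr 2
  refine Prod.ext ?_ ?_ <;> simp

/-- **S14263**: `rhomBC φ K M` is an isomorphism. -/
theorem isIso_rhomBC (K : Dual.D R) (M : Dual.D R') : IsIso (DTen.rhomBC φ K M) := by
  rw [isIso_iff_yoneda_map_bijective]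
  intro W
  have hb := bijective_μ_comp_res φ W K M
  have hx : ∀ x : W ⟶ (DRing.restrictD φ).obj ((DTen.RHomR R' ((DTen.LBase φ).obj K)).obj M),
      x ≫ DTen.rhomBC φ K M = (DTen.rhomAdj R K).homEquiv W _ (μ φ W K ≫ (DRing.restrictD φ).map
        (((DTen.rhomAdj R' ((DTen.LBase φ).obj K)).homEquiv _ _).symm
          (((DTen.baseAdj φ).homEquiv _ _).symm x))) := by
    intro x
    rw [← rhomBC_adjunct, Equiv.apply_symm_apply, Equiv.apply_symm_apply]
  constructor
  · intro x x' h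
    dsimp only at h
    rw [hx, hx] at h
    have h2 := hb.1 (((DTen.rhomAdj R K).homEquiv W _).injective h)
    exact ((DTen.baseAdj φ).homEquiv _ _).symm.injective
      (((DTen.rhomAdj R' ((DTen.LBase φ).obj K)).homEquiv _ _).symm.injective h2)
  · intro z
    obtain ⟨y, hy⟩ := hb.2 (((DTen.rhomAdj R K).homEquiv W _).symm z)
    refine ⟨(DTen.baseAdj φ).homEquiv _ _
      ((DTen.rhomAdj R' ((DTen.LBase φ).obj K)).homEquiv _ _ y), ?_⟩
    dsimp only at hy ⊢
    rw [hx, Equiv.symm_apply_apply, Equiv.symm_apply_apply, hy, Equiv.apply_symm_apply]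

end Derived

end Groth.Agent.Lib.Helper46.DTenRHomBC
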