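import Groth.Agent.Lib.Helper46.DTenAssoc
import Groth.Agent.Lib.Helper12.DerivedSingleHom
import Mathlib.Algebra.Homology.BifunctorShift

/-!
# Tensoring with the shifted unit complex is the shift (helper46)

Namespace `Groth.Agent.Lib.Helper46.DTenUnitShift`.
-/

set_option autoImplicit false
universe u
open CategoryTheory CategoryTheory.Limits MonoidalCategory HomologicalComplex
attribute [local instance] HasDerivedCategory.standard

namespace Groth.Agent.Lib.Helper46.DTenUnitShift

open Groth.Agent.Lib.Helper46.DTenKProj Groth.Agent.Lib.Helper46.DTenAssoc Groth.Agent.Lib.Helper12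

section ChainLevel

variable {C₁ C₂ D : Type*} [Category C₁] [Category C₂] [Category D]
  [Preadditive C₁] [Preadditive C₂] [Preadditive D]
  (K₁ : CochainComplex C₁ ℤ) {K₂ L₂ : CochainComplex C₂ ℤ} (f₂ : K₂ ⟶ L₂)
  (F : C₁ ⥤ C₂ ⥤ D) [F.Additive] [∀ (X₁ : C₁), (F.obj X₁).Additive] (x : ℤ)
  [HasMapBifunctor K₁ K₂ F (ComplexShape.up ℤ)] [HasMapBifunctor K₁ L₂ F (ComplexShape.up ℤ)]

set_option backward.defeqAttrib.useBackward true in
set_option backward.isDefEq.respectTransparency false in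
lemma mapBifunctorShift₁Iso_hom_naturality₂ :
    mapBifunctorMap (𝟙 (K₁⟦x⟧)) f₂ F (.up ℤ) ≫ (CochainComplex.mapBifunctorShift₁Iso K₁ L₂ F x).hom =
      (CochainComplex.mapBifunctorShift₁Iso K₁ K₂ F x).hom ≫
        (mapBifunctorMap (𝟙 K₁) f₂ F (.up ℤ))⟦x⟧' := by
  ext n p q h
  simp [CochainComplex.ι_mapBifunctorShift₁Iso_hom_f _ _ _ _ _ _ _ _ (p + x) (n + x) rfl rfl,
    CochainComplex.ι_mapBifunctorShift₁Iso_hom_f_assoc _ _ _ _ _ _ _ _ (p + x) (n + x) rfl rfl]

end ChainLevel

variable (A : Type u) [CommRing A] (m : ℤ)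

/-- the unit complex shifted by `m` -/
noncomputable abbrev unitShift : DRing.Cx A := (𝟙_ (DRing.Cx A))⟦m⟧

instance isKProjective_unit : (𝟙_ (DRing.Cx A)).IsKProjective := by
  have : Module.Projective A (ModuleCat.of A A) := (inferInstance : Module.Projective A A)
  exact isKProjective_singleCx_of_projective 0 (ModuleCat.of A A)

/-- `A[m] ⊗ P ≅ P[m]` -/
noncomputable def σ (P : DRing.Cx A) : unitShift A m ⊗ P ≅ P⟦m⟧ :=
  CochainComplex.mapBifunctorShift₁Iso (𝟙_ (DRing.Cx A)) P (curriedTensor (ModuleCat.{u} A)) m ≪≫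
    (shiftFunctor (DRing.Cx A) m).mapIso (λ_ P)

lemma σ_naturality {P P' : DRing.Cx A} (p : P ⟶ P') :
    unitShift A m ◁ p ≫ (σ A m P').hom = (σ A m P).hom ≫ p⟦m⟧' := by
  have h := mapBifunctorShift₁Iso_hom_naturality₂ (𝟙_ (DRing.Cx A)) p
    (curriedTensor (ModuleCat.{u} A)) m
  dsimp only [σ, Iso.trans_hom, Functor.mapIso_hom]
  rw [← Category.assoc]
  erw [h]
  rw [Category.assoc, Category.assoc]
  congr 1
  rw [← Functor.map_comp, ← Functor.map_comp]
  congr 1
  exact MonoidalCategory.leftUnitor_naturality p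


section Derived

variable [DTen.HasLTen A]

lemma ε_nat_right (X : DRing.Cx A) {P P' : DRing.Cx A} (p : P ⟶ P') :
    (DTen.LTen₂ A).map (Prod.mkHom (𝟙 (DerivedCategory.Q.obj X)) (DerivedCategory.Q.map p)) ≫
        (DTen.ε A).app (X, P') =
      (DTen.ε A).app (X, P) ≫ DerivedCategory.Q.map (X ◁ p) := by
  have e := (DTen.ε A).naturality (Prod.mkHom (𝟙 X) p)
  dsimp at e
  simp only [MonoidalCategory.id_whiskerRight, Category.id_comp, CategoryTheory.Functor.map_id] at e
  exact e

lemma ε_nat_left {P P' : DRing.Cx A} (p : P ⟶ P') (Y : DRing.Cx A) :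
    (DTen.LTen₂ A).map (Prod.mkHom (DerivedCategory.Q.map p) (𝟙 (DerivedCategory.Q.obj Y))) ≫
        (DTen.ε A).app (P', Y) =
      (DTen.ε A).app (P, Y) ≫ DerivedCategory.Q.map (p ▷ Y) := by
  have e := (DTen.ε A).naturality (Prod.mkHom p (𝟙 Y))
  dsimp at e
  simp only [MonoidalCategory.whiskerLeft_id, Category.comp_id, CategoryTheory.Functor.map_id] at e
  exact e

/-- `Q(A[m]) ⊗^L Q P ≅ (Q P)[m]`, naturally in the complex `P` -/
noncomputable def τ₀ :
    DerivedCategory.Q ⋙ (DTen.LTen A).obj (DerivedCategory.Q.obj (unitShift A m)) ≅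
      DerivedCategory.Q ⋙ shiftFunctor (Dual.D A) m :=
  NatIso.ofComponents (fun P =>
    haveI := isIso_ε_left A (unitShift A m) P
    asIso ((DTen.ε A).app (unitShift A m, P)) ≪≫ DerivedCategory.Q.mapIso (σ A m P) ≪≫
      (DerivedCategory.Q.commShiftIso m).app P)
    (by
      intro P P' p
      have h1 := ε_nat_right A (unitShift A m) p
      have h2 := σ_naturality A m p
      have h3 := (DerivedCategory.Q.commShiftIso m).hom.naturality p
      dsimp at h3 ⊢
      rw [reassoc_of% h1, ← Functor.map_comp_assoc, h2, Functor.map_comp_assoc, h3]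
      simp only [Category.assoc])

/-- `Q(A[m]) ⊗^L - ≅ [m]` on `D(A)` -/
noncomputable def tensorUnitShiftIso :
    (DTen.LTen A).obj (DerivedCategory.Q.obj (unitShift A m)) ≅ shiftFunctor (Dual.D A) m :=
  Localization.liftNatIso DerivedCategory.Q (DTen.qis A)
    (DerivedCategory.Q ⋙ (DTen.LTen A).obj (DerivedCategory.Q.obj (unitShift A m)))
    (DerivedCategory.Q ⋙ shiftFunctor (Dual.D A) m) _ _ (τ₀ A m)

instance isEquivalence_tensorUnitShift :
    ((DTen.LTen A).obj (DerivedCategory.Q.obj (unitShift A m))).IsEquivalence :=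
  Functor.isEquivalence_of_iso (tensorUnitShiftIso A m).symm

end Derived

end Groth.Agent.Lib.Helper46.DTenUnitShift
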