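import Groth.Agent.Lib.Helper46.DTenRelTau
import Groth.Agent.Lib.Helper46.DTenUnitShift

/-!
# The comparison `K ⊗^L_R RHom_R(A, R) ⟶ RHom_R(A, K)` at the shifts of the unit (helper46)

Namespace `Groth.Agent.Lib.Helper46.DTenRelBase`.
-/

set_option autoImplicit false
set_option backward.isDefEq.respectTransparency false
universe u
open CategoryTheory CategoryTheory.Limits MonoidalCategory
attribute [local instance] HasDerivedCategory.standard

namespace Groth.Agent.Lib.Helper46.DTenRelBase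

open Groth.Agent.Lib.Helper46.DTenKProj Groth.Agent.Lib.Helper46.DTenRelProj
  Groth.Agent.Lib.Helper46.DTenRelTau Groth.Agent.Lib.Helper46.DTenUnitShift
  Groth.Agent.Lib.Helper46.DTenAssoc DerivedCategory

variable {R A : Type u} [CommRing R] [CommRing A] (φ : R →+* A)

section Chain

/-- `(P[x] ⊗_R A) ⊗_A Y ≅ ((P ⊗_R A) ⊗_A Y)[x]` -/
noncomputable def sShift (P : DRing.Cx R) (Y : DRing.Cx A) (x : ℤ) :
    (DTen.extCx φ).obj (P⟦x⟧) ⊗ Y ≅ ((DTen.extCx φ).obj P ⊗ Y)⟦x⟧ :=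
  MonoidalCategory.whiskerRightIso (((DTen.extCx φ).commShiftIso x).app P) Y ≪≫
    CochainComplex.mapBifunctorShift₁Iso ((DTen.extCx φ).obj P) Y
      (curriedTensor (ModuleCat.{u} A)) x

lemma ι_sShift_hom (P : DRing.Cx R) (Y : DRing.Cx A) (x p q n : ℤ) (h : p + q = n) :
    HomologicalComplex.ιTensorObj ((DTen.extCx φ).obj (P⟦x⟧)) Y p q n h ≫
        (sShift φ P Y x).hom.f n =
      HomologicalComplex.ιTensorObj ((DTen.extCx φ).obj P) Y (p + x) q (n + x) (by omega) := by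
  have h4 := CochainComplex.ι_mapBifunctorShift₁Iso_hom_f ((DTen.extCx φ).obj P) Y
    (curriedTensor (ModuleCat.{u} A)) x p q n h (p + x) (n + x) rfl rfl
  simp only [HomologicalComplex.XIsoOfEq_rfl, CochainComplex.shiftFunctorObjXIso, Iso.refl_hom,
    Iso.refl_inv, Category.comp_id] at h4
  dsimp only [sShift, Iso.trans_hom, MonoidalCategory.whiskerRightIso_hom]
  rw [HomologicalComplex.comp_f]
  change HomologicalComplex.ιMapBifunctor _ _ _ _ p q n h ≫
    (HomologicalComplex.mapBifunctorMap (((DTen.extCx φ).commShiftIso x).hom.app P) (𝟙 Y) _ _).f n ≫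
      _ = _
  rw [HomologicalComplex.ι_mapBifunctorMap_assoc]
  erw [h4]
  have e1 : (((DTen.extCx φ).commShiftIso x).hom.app P).f p = 𝟙 _ := rfl
  rw [e1]
  erw [CategoryTheory.Functor.map_id, CategoryTheory.Functor.map_id]
  erw [NatTrans.id_app, Category.id_comp, Category.id_comp]
  exact Category.id_comp _

lemma πhom_shift (P : DRing.Cx R) (Y : DRing.Cx A) (x : ℤ) :
    πhom φ (P⟦x⟧) Y ≫ (DTen.resCx φ).map (sShift φ P Y x).hom ≫
        ((DTen.resCx φ).commShiftIso x).hom.app _ =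
      (CochainComplex.mapBifunctorShift₁Iso P ((DTen.resCx φ).obj Y)
        (curriedTensor (ModuleCat.{u} R)) x).hom ≫ (πhom φ P Y)⟦x⟧' := by
  refine HomologicalComplex.hom_ext _ _ (fun n =>
    HomologicalComplex.mapBifunctor.hom_ext (fun p q h => ?_))
  have h' : p + q = n := h
  have h1 := ι_πhom φ (P⟦x⟧) Y p q n h'
  have h2 := ι_πhom φ P Y (p + x) q (n + x) (by omega)
  have h3 := CochainComplex.ι_mapBifunctorShift₁Iso_hom_f P ((DTen.resCx φ).obj Y)
    (curriedTensor (ModuleCat.{u} R)) x p q n h (p + x) (n + x) rfl rfl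
  have h5 := ι_sShift_hom φ P Y x p q n h'
  simp only [HomologicalComplex.XIsoOfEq_rfl, CochainComplex.shiftFunctorObjXIso, Iso.refl_hom,
    Iso.refl_inv, Category.comp_id] at h3
  calc _ = (HomologicalComplex.ιTensorObj (P⟦x⟧) ((DTen.resCx φ).obj Y) p q n h' ≫
        (πhom φ (P⟦x⟧) Y).f n) ≫ (DTen.resM φ).map ((sShift φ P Y x).hom.f n) := by
          rw [HomologicalComplex.comp_f, HomologicalComplex.comp_f]
          erw [Functor.mapHomologicalComplex_commShiftIso_hom_app_f, Category.comp_id]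
          rw [← Category.assoc]
          rfl
    _ = θ φ (P.X (p + x)) (Y.X q) ≫ (DTen.resM φ).map
        (HomologicalComplex.ιTensorObj ((DTen.extCx φ).obj P) Y (p + x) q (n + x) (by omega)) := by
          rw [h1, Category.assoc, ← Functor.map_comp, h5]
          rfl
    _ = HomologicalComplex.ιTensorObj P ((DTen.resCx φ).obj Y) (p + x) q (n + x) (by omega) ≫
        (πhom φ P Y).f (n + x) := h2.symm
    _ = _ := by
          rw [HomologicalComplex.comp_f, ← Category.assoc]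
          erw [h3]
          erw [CategoryTheory.Functor.map_id, NatTrans.id_app, Category.id_comp]
          rfl

/-- `R ⊗_R A ≅ A` as complexes -/
noncomputable def extUnitIso : (DTen.extCx φ).obj (𝟙_ (DRing.Cx R)) ≅ 𝟙_ (DRing.Cx A) :=
  (HomologicalComplex.singleMapHomologicalComplex (extM φ) (ComplexShape.up ℤ) 0).app
      (𝟙_ (ModuleCat.{u} R)) ≪≫
    (HomologicalComplex.single _ _ 0).mapIso (Functor.Monoidal.εIso (extM φ)).symm

lemma extUnitIso_inv_f_zero :
    (extUnitIso φ).inv.f 0 =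
      (HomologicalComplex.singleObjXSelf (ComplexShape.up ℤ) 0 (𝟙_ (ModuleCat.{u} A))).hom ≫
        Functor.LaxMonoidal.ε (extM φ) ≫ (extM φ).map
          (HomologicalComplex.singleObjXSelf (ComplexShape.up ℤ) 0 (𝟙_ (ModuleCat.{u} R))).inv := by
  dsimp only [extUnitIso, Iso.trans_inv, Iso.app_inv, Functor.mapIso_inv, Iso.symm_inv]
  rw [HomologicalComplex.comp_f, HomologicalComplex.singleMapHomologicalComplex_inv_app_self,
    HomologicalComplex.single_map_f_self]
  simp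

/-- `(R ⊗_R A) ⊗_A Y ≅ Y` -/
noncomputable def sUnit (Y : DRing.Cx A) : (DTen.extCx φ).obj (𝟙_ (DRing.Cx R)) ⊗ Y ≅ Y :=
  MonoidalCategory.whiskerRightIso (extUnitIso φ) Y ≪≫ λ_ Y

lemma leftUnitor_inv_f {B : Type u} [CommRing B] (K : DRing.Cx B) (n : ℤ) :
    (λ_ K).inv.f n = (λ_ (K.X n)).inv ≫
      ((HomologicalComplex.singleObjXSelf (ComplexShape.up ℤ) 0 (𝟙_ (ModuleCat.{u} B))).inv ▷ K.X n) ≫
        HomologicalComplex.ιTensorObj (𝟙_ (DRing.Cx B)) K 0 n n (zero_add n) :=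
  HomologicalComplex.leftUnitor'_inv K n

lemma leftUnitor_inv_πhom (Y : DRing.Cx A) :
    (λ_ ((DTen.resCx φ).obj Y)).inv ≫ πhom φ (𝟙_ (DRing.Cx R)) Y =
      (DTen.resCx φ).map (sUnit φ Y).inv := by
  refine HomologicalComplex.hom_ext _ _ (fun n => ?_)
  have h1 := ι_πhom φ (𝟙_ (DRing.Cx R)) Y 0 n n (zero_add n)
  have h2 : HomologicalComplex.ιTensorObj (𝟙_ (DRing.Cx A)) Y 0 n n (zero_add n) ≫
      ((extUnitIso φ).inv ▷ Y).f n = ((extUnitIso φ).inv.f 0 ▷ Y.X n) ≫
        HomologicalComplex.ιTensorObj ((DTen.extCx φ).obj (𝟙_ (DRing.Cx R))) Y 0 n n (zero_add n) := by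
    change HomologicalComplex.ιMapBifunctor _ _ _ _ 0 n n _ ≫
      (HomologicalComplex.mapBifunctorMap (extUnitIso φ).inv (𝟙 Y) _ _).f n = _
    rw [HomologicalComplex.ι_mapBifunctorMap, HomologicalComplex.id_f,
      CategoryTheory.Functor.map_id, Category.id_comp]
    rfl
  have h3 := θ_naturality_left φ
    (HomologicalComplex.singleObjXSelf (ComplexShape.up ℤ) 0 (𝟙_ (ModuleCat.{u} R))).inv (Y.X n)
  have h4 := leftUnitor_inv_θ φ (Y.X n)
  have h5 := extUnitIso_inv_f_zero φ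
  calc _ = (λ_ ((DTen.resM φ).obj (Y.X n))).inv ≫
        ((HomologicalComplex.singleObjXSelf (ComplexShape.up ℤ) 0 (𝟙_ (ModuleCat.{u} R))).inv ▷
          (DTen.resM φ).obj (Y.X n)) ≫
        (HomologicalComplex.ιTensorObj (𝟙_ (DRing.Cx R)) ((DTen.resCx φ).obj Y) 0 n n (zero_add n) ≫
          (πhom φ (𝟙_ (DRing.Cx R)) Y).f n) := by
          rw [HomologicalComplex.comp_f, leftUnitor_inv_f, Category.assoc, Category.assoc]
          rfl
    _ = (DTen.resM φ).map ((λ_ (Y.X n)).inv ≫ (Functor.LaxMonoidal.ε (extM φ) ▷ Y.X n)) ≫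
        (DTen.resM φ).map ((extM φ).map
          (HomologicalComplex.singleObjXSelf (ComplexShape.up ℤ) 0 (𝟙_ (ModuleCat.{u} R))).inv ▷ Y.X n) ≫
        (DTen.resM φ).map (HomologicalComplex.ιTensorObj ((DTen.extCx φ).obj (𝟙_ (DRing.Cx R))) Y
          0 n n (zero_add n)) := by
          rw [h1, ← h4, Category.assoc]
          erw [reassoc_of% h3]
    _ = (DTen.resM φ).map ((λ_ (Y.X n)).inv ≫
        ((HomologicalComplex.singleObjXSelf (ComplexShape.up ℤ) 0 (𝟙_ (ModuleCat.{u} A))).inv ▷ Y.X n) ≫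
        HomologicalComplex.ιTensorObj (𝟙_ (DRing.Cx A)) Y 0 n n (zero_add n) ≫
          ((extUnitIso φ).inv ▷ Y).f n) := by
          rw [h2, h5, ← Functor.map_comp, ← Functor.map_comp]
          congr 1
    _ = _ := by
          rw [Functor.mapHomologicalComplex_map_f]
          dsimp only [sUnit, Iso.trans_inv, MonoidalCategory.whiskerRightIso_inv]
          rw [HomologicalComplex.comp_f, leftUnitor_inv_f, Category.assoc, Category.assoc]
          rfl

end Chain

section Derived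

variable {φ} [DTen.HasRHomRel φ] [DTen.HasLTenMix φ] (D : Data φ)

/-- the evaluation map `((P ⊗_R A) ⊗_A Y')|_R ⟶ P` -/
noncomputable def EP (P : DRing.Cx R) [P.IsKProjective] :
    (DRing.restrictD φ).obj (Q.obj ((DTen.extCx φ).obj P ⊗ D.Y')) ⟶ (Q.obj P : Dual.D R) :=
  inv (aP D P) ≫ bP D P

lemma univ_tP_of_univ_EP (P : DRing.Cx R) [P.IsKProjective] (h : Univ (EP D P)) :
    Univ (tP D P) :=
  h.res_comp (cP D P)

lemma EP_unit : EP D (𝟙_ (DRing.Cx R)) =
    (DRing.restrictD φ).map (Q.map (sUnit φ D.Y').hom ≫ D.j.hom) ≫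
      (DTen.relAdj φ).counit.app (DTen.unit R) := by
  dsimp only [EP]
  rw [IsIso.inv_comp_eq]
  have h1 := leftUnitor_inv_πhom φ D.Y'
  have h2 := (DTen.resFactors φ).inv.naturality (sUnit φ D.Y').inv
  have h3 := D.hc
  dsimp only [Functor.comp_map] at h2
  have ea : aP D (𝟙_ (DRing.Cx R)) = Q.map (λ_ D.V).hom ≫ Q.map D.v ≫
      (DTen.resFactors φ).inv.app D.Y' ≫ (DRing.restrictD φ).map (Q.map (sUnit φ D.Y').inv) := by
    dsimp only [aP]
    rw [MonoidalCategory.id_whiskerLeft, Category.assoc, Category.assoc, h1, Functor.map_comp,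
      Functor.map_comp, Category.assoc, Category.assoc, h2]
  have eb : bP D (𝟙_ (DRing.Cx R)) = Q.map (λ_ D.V).hom ≫ Q.map D.c := by
    dsimp only [bP]
    rw [MonoidalCategory.id_whiskerLeft, Category.assoc, Category.assoc,
      ← MonoidalCategory.unitors_equal, Iso.inv_hom_id, Category.comp_id, Functor.map_comp]
  rw [ea, eb, h3]
  have e3 : (DRing.restrictD φ).map (Q.map (sUnit φ D.Y').inv) ≫
      (DRing.restrictD φ).map (Q.map (sUnit φ D.Y').hom ≫ D.j.hom) =
      (DRing.restrictD φ).map D.j.hom := by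
    rw [← Functor.map_comp, ← Functor.map_comp_assoc, Iso.inv_hom_id,
      CategoryTheory.Functor.map_id, Category.id_comp]
  simp only [Category.assoc]
  rw [reassoc_of% e3]

lemma univ_EP_unit : Univ (EP D (𝟙_ (DRing.Cx R))) := by
  rw [EP_unit]
  exact (univ_counit (φ := φ) (DTen.unit R)).res_comp _

/-- automorphism of `P⟦x⟧` comparing the right unitors -/
noncomputable def β₀ (P : DRing.Cx R) (x : ℤ) : P⟦x⟧ ⟶ P⟦x⟧ :=
  (ρ_ P).inv⟦x⟧' ≫ (CochainComplex.mapBifunctorShift₁Iso P (𝟙_ (DRing.Cx R))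
    (curriedTensor (ModuleCat.{u} R)) x).inv ≫ (ρ_ (P⟦x⟧)).hom

instance (P : DRing.Cx R) (x : ℤ) : IsIso (β₀ P x) := by
  dsimp only [β₀]
  infer_instance

lemma chain_a (P : DRing.Cx R) (x : ℤ) :
    ((P⟦x⟧ ◁ D.v) ≫ πhom φ (P⟦x⟧) D.Y') ≫ (DTen.resCx φ).map (sShift φ P D.Y' x).hom ≫
        ((DTen.resCx φ).commShiftIso x).hom.app _ =
      (CochainComplex.mapBifunctorShift₁Iso P D.V (curriedTensor (ModuleCat.{u} R)) x).hom ≫
        ((P ◁ D.v) ≫ πhom φ P D.Y')⟦x⟧' := by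
  have h1 := πhom_shift φ P D.Y' x
  have h2 := mapBifunctorShift₁Iso_hom_naturality₂ P D.v (curriedTensor (ModuleCat.{u} R)) x
  rw [Category.assoc, h1, Functor.map_comp, ← Category.assoc, ← Category.assoc]
  congr 1

lemma chain_b (P : DRing.Cx R) (x : ℤ) :
    (P⟦x⟧ ◁ D.c) ≫ (ρ_ (P⟦x⟧)).hom =
      (CochainComplex.mapBifunctorShift₁Iso P D.V (curriedTensor (ModuleCat.{u} R)) x).hom ≫
        ((P ◁ D.c) ≫ (ρ_ P).hom)⟦x⟧' ≫ β₀ P x := by
  have h2 : (P⟦x⟧ ◁ D.c) ≫ (CochainComplex.mapBifunctorShift₁Iso P (𝟙_ (DRing.Cx R))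
      (curriedTensor (ModuleCat.{u} R)) x).hom =
      (CochainComplex.mapBifunctorShift₁Iso P D.V (curriedTensor (ModuleCat.{u} R)) x).hom ≫
        (P ◁ D.c)⟦x⟧' :=
    mapBifunctorShift₁Iso_hom_naturality₂ P D.c (curriedTensor (ModuleCat.{u} R)) x
  have e : ((P ◁ D.c) ≫ (ρ_ P).hom)⟦x⟧' ≫ (ρ_ P).inv⟦x⟧' = (P ◁ D.c)⟦x⟧' := by
    rw [← Functor.map_comp, Category.assoc, Iso.hom_inv_id, Category.comp_id]
  dsimp only [β₀]
  erw [reassoc_of% e, ← reassoc_of% h2, Iso.hom_inv_id_assoc]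

lemma resFactors_inv_shift (Z : DRing.Cx A) (x : ℤ) :
    (DTen.resFactors φ).inv.app (Z⟦x⟧) ≫
        (DRing.restrictD φ).map ((Q.commShiftIso x).hom.app Z) ≫
        ((DRing.restrictD φ).commShiftIso x).hom.app (Q.obj Z) =
      Q.map (((DTen.resCx φ).commShiftIso x).hom.app Z) ≫
        (Q.commShiftIso x).hom.app ((DTen.resCx φ).obj Z) ≫
        ((DTen.resFactors φ).inv.app Z)⟦x⟧' := by
  have h := NatTrans.shift_app_comm (DTen.resFactors φ).hom x Z
  rw [Functor.commShiftIso_comp_hom_app, Functor.commShiftIso_comp_hom_app] at h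
  dsimp only [Functor.comp_obj] at h
  have e1 : ((DTen.resFactors φ).hom.app Z)⟦x⟧' ≫ ((DTen.resFactors φ).inv.app Z)⟦x⟧' = 𝟙 _ := by
    rw [← Functor.map_comp, Iso.hom_inv_id_app, CategoryTheory.Functor.map_id]
  have h' := congrArg (fun t => (DTen.resFactors φ).inv.app (Z⟦x⟧) ≫ t ≫
    ((DTen.resFactors φ).inv.app Z)⟦x⟧') h
  simp only [Category.assoc] at h'
  rw [e1] at h'
  erw [Category.comp_id] at h'
  rw [Iso.inv_hom_id_app_assoc] at h'
  exact h'

lemma aP_shift (P : DRing.Cx R) (x : ℤ) :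
    aP D (P⟦x⟧) ≫ (DRing.restrictD φ).map (Q.map (sShift φ P D.Y' x).hom ≫
        (Q.commShiftIso x).hom.app ((DTen.extCx φ).obj P ⊗ D.Y')) ≫
        ((DRing.restrictD φ).commShiftIso x).hom.app (Q.obj ((DTen.extCx φ).obj P ⊗ D.Y')) =
      Q.map (CochainComplex.mapBifunctorShift₁Iso P D.V (curriedTensor (ModuleCat.{u} R)) x).hom ≫
        (Q.commShiftIso x).hom.app (P ⊗ D.V) ≫ (aP D P)⟦x⟧' := by
  have h1 := (DTen.resFactors φ).inv.naturality (sShift φ P D.Y' x).hom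
  have h2 := resFactors_inv_shift (φ := φ) ((DTen.extCx φ).obj P ⊗ D.Y') x
  have h3 := chain_a D P x
  have h4 := (Q.commShiftIso x).hom.naturality ((P ◁ D.v) ≫ πhom φ P D.Y')
  have h3' := congrArg (fun t => (Q.map t : (Q.obj _ : Dual.D R) ⟶ _)) h3
  dsimp only [Functor.comp_map] at h1 h4 h3'
  dsimp only [aP]
  simp only [Functor.map_comp, Category.assoc] at h3' h4 ⊢
  rw [← reassoc_of% h1, h2, reassoc_of% h3', reassoc_of% h4]

lemma bP_shift (P : DRing.Cx R) (x : ℤ) :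
    bP D (P⟦x⟧) =
      Q.map (CochainComplex.mapBifunctorShift₁Iso P D.V (curriedTensor (ModuleCat.{u} R)) x).hom ≫
        (Q.commShiftIso x).hom.app (P ⊗ D.V) ≫ (bP D P)⟦x⟧' ≫ (Q.commShiftIso x).inv.app P ≫
        Q.map (β₀ P x) := by
  have h3 := chain_b D P x
  have h4 := (Q.commShiftIso x).hom.naturality ((P ◁ D.c) ≫ (ρ_ P).hom)
  have h3' := congrArg (fun t => (Q.map t : (Q.obj _ : Dual.D R) ⟶ _)) h3
  dsimp only [Functor.comp_map] at h4 h3'
  dsimp only [bP]
  rw [h3', Functor.map_comp, Functor.map_comp, ← reassoc_of% h4, Iso.hom_inv_id_app_assoc]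

theorem univ_EP_shift (P : DRing.Cx R) [P.IsKProjective] (x : ℤ) (h : Univ (EP D P)) :
    Univ (EP D (P⟦x⟧)) := by
  have h1 := aP_shift D P x
  have h2 := bP_shift D P x
  have e : EP D (P⟦x⟧) = ((DRing.restrictD φ).map (Q.map (sShift φ P D.Y' x).hom ≫
        (Q.commShiftIso x).hom.app ((DTen.extCx φ).obj P ⊗ D.Y')) ≫
        ((DRing.restrictD φ).commShiftIso x).hom.app (Q.obj ((DTen.extCx φ).obj P ⊗ D.Y')) ≫
        (EP D P)⟦x⟧') ≫ ((Q.commShiftIso x).inv.app P ≫ Q.map (β₀ P x)) := by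
    dsimp only [EP]
    rw [IsIso.inv_comp_eq, h2]
    simp only [Category.assoc]
    rw [reassoc_of% h1, ← Functor.map_comp_assoc, IsIso.hom_inv_id_assoc]
  rw [e]
  exact ((h.shift x).res_comp _).comp_iso _

/-- **Base case**: the comparison map is an isomorphism at the shifts of the unit. -/
theorem isIso_τ_app_unitShift (m : ℤ) : IsIso ((τ D).app (Q.obj (unitShift R m))) := by
  apply isIso_τ_app_of_univ
  rw [τflat_Q]
  exact univ_tP_of_univ_EP D _ (univ_EP_shift D _ m (univ_EP_unit D))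

end Derived

end Groth.Agent.Lib.Helper46.DTenRelBase
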