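import Mathlib

/-!
# Algebra for a surjection `R → A` with invertible kernel `𝔞`

* `ses`  : `0 → 𝔞 → R → A|_R → 0`
* `ses'` : `0 → R → Hom_R(𝔞, R) → Hom_R(𝔞, A)|_R → 0`
* `nEquiv` : an inverse `N` of `A ⊗_R 𝔞` is `Hom_R(𝔞, A)`.
-/

namespace Groth.Agent.Lib.Helper46.InvKerAlg

open CategoryTheory CategoryTheory.Limits
open scoped TensorProduct

universe u

variable (R A : Type u) [CommRing R] [CommRing A] [Algebra R A]

/-- the kernel ideal -/
abbrev ker : Ideal R := RingHom.ker (algebraMap R A)

/-- `A` as an `R`-module by restriction -/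
noncomputable abbrev AR : ModuleCat.{u} R :=
  (ModuleCat.restrictScalars (algebraMap R A)).obj (ModuleCat.of A A)

/-- `N₀ = Hom_R(𝔞, A)` as an `A`-module -/
noncomputable abbrev N₀ : ModuleCat.{u} A := ModuleCat.of A (ker R A →ₗ[R] A)

/-- the quotient map `R → A|_R` -/
noncomputable def π : ModuleCat.of R R ⟶ AR R A :=
  ModuleCat.ofHom (Y := AR R A)
    { toFun := fun r => algebraMap R A r
      map_add' := fun x y => map_add _ x y
      map_smul' := fun r x => by
        change algebraMap R A (r * x) = algebraMap R A r * algebraMap R A x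
        exact map_mul _ r x }

lemma π_apply (r : R) : (π R A).hom r = algebraMap R A r := rfl

/-- `0 → 𝔞 → R → A → 0` -/
noncomputable abbrev ses : ShortComplex (ModuleCat.{u} R) where
  X₁ := ModuleCat.of R (ker R A)
  X₂ := ModuleCat.of R R
  X₃ := AR R A
  f := ModuleCat.ofHom (Submodule.subtype (ker R A))
  g := π R A
  zero := by
    ext x
    exact x.2

variable {R A} in
lemma ses_shortExact (hφ : Function.Surjective (algebraMap R A)) : (ses R A).ShortExact where
  exact := by
    rw [ShortComplex.moduleCat_exact_iff]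
    intro x hx
    exact ⟨⟨x, hx⟩, rfl⟩
  mono_f := by
    rw [ModuleCat.mono_iff_injective]
    exact Subtype.val_injective
  epi_g := by
    rw [ModuleCat.epi_iff_surjective]
    exact hφ

/-- `Hom_R(𝔞, A)` as an `R`-module by restriction -/
noncomputable abbrev NR : ModuleCat.{u} R :=
  (ModuleCat.restrictScalars (algebraMap R A)).obj (N₀ R A)

/-- post-composition with `R → A` : `Hom_R(𝔞, R) → Hom_R(𝔞, A)|_R` -/
noncomputable def post : ModuleCat.of R (ker R A →ₗ[R] R) ⟶ NR R A :=
  ModuleCat.ofHom (Y := NR R A)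
    { toFun := fun ψ => (Algebra.linearMap R A).comp ψ
      map_add' := fun x y => LinearMap.comp_add _ _ _
      map_smul' := fun r x => by
        change (Algebra.linearMap R A).comp (r • x) =
          (algebraMap R A r) • ((Algebra.linearMap R A).comp x)
        ext a
        simp [Algebra.smul_def] }

lemma post_apply (ψ : ker R A →ₗ[R] R) : (post R A).hom ψ = (Algebra.linearMap R A).comp ψ := rfl

/-- `0 → R → Hom_R(𝔞, R) → Hom_R(𝔞, A) → 0` -/
noncomputable abbrev ses' : ShortComplex (ModuleCat.{u} R) where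
  X₁ := ModuleCat.of R R
  X₂ := ModuleCat.of R (ker R A →ₗ[R] R)
  X₃ := NR R A
  f := ModuleCat.ofHom (LinearMap.toSpanSingleton R _ (Submodule.subtype (ker R A)))
  g := post R A
  zero := by
    refine ModuleCat.hom_ext (LinearMap.ext fun r => ?_)
    change (Algebra.linearMap R A).comp ((r : R) • Submodule.subtype (ker R A)) = 0
    ext a
    simp [RingHom.mem_ker.1 a.2]

variable {R A} in
lemma ses'_shortExact [Module.Invertible R (ker R A)]
    (hφ : Function.Surjective (algebraMap R A)) : (ses' R A).ShortExact where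
  exact := by
    rw [ShortComplex.moduleCat_exact_iff]
    intro ψ hψ
    change ker R A →ₗ[R] R at ψ
    have hψ' : (Algebra.linearMap R A).comp ψ = 0 := hψ
    have hmem : ∀ a, ψ a ∈ ker R A := fun a => by
      have := LinearMap.congr_fun hψ' a
      simpa using this
    obtain ⟨r, hr⟩ := (Module.Invertible.toModuleEnd_bijective R (ker R A)).2
      (ψ.codRestrict (ker R A) hmem)
    refine ⟨r, ?_⟩
    change r • Submodule.subtype (ker R A) = ψ
    ext a
    have := congr(($hr a : R))
    simpa using this
  mono_f := by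
    rw [ModuleCat.mono_iff_injective]
    intro r r' h
    change R at r r'
    change r • Submodule.subtype (ker R A) = r' • Submodule.subtype (ker R A) at h
    refine eq_of_smul_eq_smul (M := R) (α := ker R A) (fun a => ?_)
    ext
    have := LinearMap.congr_fun h a
    simpa using this
  epi_g := by
    rw [ModuleCat.epi_iff_surjective]
    intro n
    change ker R A →ₗ[R] A at n
    obtain ⟨ψ, hψ⟩ := Module.projective_lifting_property (Algebra.linearMap R A) n hφ
    exact ⟨ψ, hψ⟩

/-- there is no nonzero `R`-linear map `A → R`. -/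
lemma hom_AR_eq_zero [Module.Invertible R (ker R A)] (f : AR R A ⟶ ModuleCat.of R R) : f = 0 := by
  ext x
  change f.hom x = 0
  refine eq_of_smul_eq_smul (α := ker R A) (fun a => ?_)
  ext
  change f.hom x * a = 0 * a
  have h1 : (a : R) • f.hom x = f.hom ((a : R) • x) := (f.hom.map_smul (a : R) x).symm
  have h2 : ((a : R) • x : AR R A) = 0 := by
    change algebraMap R A (a : R) • (x : A) = 0
    rw [a.2, zero_smul]
  rw [h2, map_zero] at h1
  rw [zero_mul, mul_comm]
  exact h1

/-- the morphism of short exact sequences attached to `ψ : 𝔞 → R`. -/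
noncomputable def sesHom (ψ : ker R A →ₗ[R] R) (h₀ : ModuleCat.of A A ⟶ N₀ R A)
    (h : h₀.hom (1 : A) = (Algebra.linearMap R A).comp ψ) : ses R A ⟶ ses' R A where
  τ₁ := ModuleCat.ofHom ψ
  τ₂ := ModuleCat.ofHom (LinearMap.toSpanSingleton R _ ψ)
  τ₃ := (ModuleCat.restrictScalars (algebraMap R A)).map h₀
  comm₁₂ := by
    refine ModuleCat.hom_ext (LinearMap.ext fun a => ?_)
    change ker R A at a
    change (ψ a • Submodule.subtype (ker R A)) = ((a : R) • ψ)
    symm
    ext b
    simp only [LinearMap.smul_apply, Submodule.subtype_apply, smul_eq_mul]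
    rw [← smul_eq_mul, ← map_smul, ← smul_eq_mul (a := ψ a), smul_eq_mul, mul_comm (ψ a),
      ← smul_eq_mul, ← map_smul]
    congr 1
    ext
    simp [mul_comm]
  comm₂₃ := by
    refine ModuleCat.hom_ext (LinearMap.ext fun r => ?_)
    change R at r
    change ((Algebra.linearMap R A).comp (r • ψ)) = h₀.hom (algebraMap R A r)
    symm
    have : algebraMap R A r = algebraMap R A r • (1 : A) := by simp
    rw [this, map_smul, h]
    ext b
    simp [Algebra.smul_def]

variable {R A} in
/-- an inverse of `A ⊗_R 𝔞` is `Hom_R(𝔞, A)`. -/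
noncomputable def nEquiv (N : Type u) [AddCommGroup N] [Module A N]
    (e : (A ⊗[R] (ker R A)) ⊗[A] N ≃ₗ[A] A) : N ≃ₗ[A] (ker R A →ₗ[R] A) :=
  Module.Invertible.linearEquivDual (TensorProduct.comm A N (A ⊗[R] (ker R A)) ≪≫ₗ e) ≪≫ₗ
    (LinearMap.liftBaseChangeEquiv A).symm

end Groth.Agent.Lib.Helper46.InvKerAlg
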