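import Groth.Agent.Lib.Helper46.DSingleExt
import Groth.Agent.Lib.Helper46.InvKerAlg
import Groth.Agent.Lib.Helper46.DTenRelIso
import Groth.Agent.Lib.Helper46.DRingPerfectCompact
import Groth.Agent.Lib.Helper36.EvalHomPC

/-!
# `RHom_R(A, R) ≅ N[-1]` for a surjection `R → A` with invertible kernel

-/

namespace Groth.Agent.Lib.Helper46.DTenRelInv

open CategoryTheory CategoryTheory.Limits DRing CategoryTheory.Pretriangulated MonoidalCategory
open Groth.Agent.Lib.Helper12 Groth.Agent.Lib.Helper46.DSingleExt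
open Groth.Agent.Lib.Helper46.InvKerAlg

attribute [local instance] HasDerivedCategory.standard

universe u

section Res

variable {R A : Type u} [CommRing R] [CommRing A] (φ : R →+* A)

/-- restriction of a module placed in one degree -/
noncomputable def ρ (k : ℤ) (M : ModuleCat.{u} A) :
    (DRing.restrictD φ).obj (T k M) ≅ T k ((ModuleCat.restrictScalars φ).obj M) :=
  (DTen.resFactors φ).app (singleCx k M) ≪≫
    DerivedCategory.Q.mapIso ((HomologicalComplex.singleMapHomologicalComplex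
      (ModuleCat.restrictScalars.{u} φ) (ComplexShape.up ℤ) k).app M)

lemma ρ_naturality (k : ℤ) {M M' : ModuleCat.{u} A} (f : M ⟶ M') :
    (DRing.restrictD φ).map (Tm k f) ≫ (ρ φ k M').hom =
      (ρ φ k M).hom ≫ Tm k ((ModuleCat.restrictScalars φ).map f) := by
  dsimp only [ρ, Iso.trans_hom, Iso.app_hom, Functor.mapIso_hom]
  have h1 := (DTen.resFactors φ).hom.naturality
    ((HomologicalComplex.single (ModuleCat.{u} A) (ComplexShape.up ℤ) k).map f)
  have h2 := (HomologicalComplex.singleMapHomologicalComplex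
      (ModuleCat.restrictScalars.{u} φ) (ComplexShape.up ℤ) k).hom.naturality f
  dsimp only [Functor.comp_map] at h1 h2
  rw [← Category.assoc, h1, Category.assoc, ← Functor.map_comp, h2, Functor.map_comp,
    Category.assoc]

end Res

section Main

variable (R A : Type u) [CommRing R] [CommRing A] [Algebra R A]
  (hφ : Function.Surjective (algebraMap R A)) [Module.Invertible R (ker R A)]

instance : Module.Projective R ↑(ses R A).X₁ :=
  (inferInstance : Module.Projective R (ker R A))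

instance : Module.Projective R ↑(ses R A).X₂ :=
  (inferInstance : Module.Projective R R)

instance : Module.Finite R ↑(ses R A).X₁ :=
  (inferInstance : Module.Finite R (ker R A))

instance : Module.Finite R ↑(ses R A).X₂ :=
  (inferInstance : Module.Finite R R)

include hφ in
/-- **`A` is perfect over `R`.** -/
theorem isPerfect_res_unit :
    DRing.IsPerfect R ((DRing.restrictD (algebraMap R A)).obj (DTen.unit A)) := by
  have h1 : DRing.IsPerfect R (T 0 (ses R A).X₁) :=
    (DRingPerfectCompact.isPerfect_iff_isCpt R _).2 (DTenCompact.isCpt_single R _ 0)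
  have h2 : DRing.IsPerfect R (T 0 (ses R A).X₂) :=
    (DRingPerfectCompact.isPerfect_iff_isCpt R _).2 (DTenCompact.isCpt_single R _ 0)
  have h3 : DRing.IsPerfect R (T 0 (ses R A).X₃) :=
    RepBounded.cone (finiteProjective R) finiteProjective_projective
      (tri (ses_shortExact hφ) 0) (tri_distinguished (ses_shortExact hφ) 0) h1 h2
  exact RepBounded.of_iso (finiteProjective R)
    (ρ (algebraMap R A) 0 (ModuleCat.of A A)).symm h3

/-- the extension class `Hom_R(𝔞, A)[-1] ⟶ R[0]` in `D(R)`. -/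
noncomputable def e₀ :
    (DRing.restrictD (algebraMap R A)).obj (T 1 (N₀ R A)) ⟶ T 0 (ModuleCat.of R R) :=
  (ρ (algebraMap R A) 1 (N₀ R A)).hom ≫ δ (ses'_shortExact hφ) 1 ≫
    (σ 1 0 rfl (ModuleCat.of R R)).hom

lemma key (ψ : ker R A →ₗ[R] R) (h₀ : ModuleCat.of A A ⟶ N₀ R A)
    (h : h₀.hom (1 : A) = (Algebra.linearMap R A).comp ψ) :
    (DRing.restrictD (algebraMap R A)).map (Tm 1 h₀) ≫ e₀ R A hφ =
      (ρ (algebraMap R A) 1 (ModuleCat.of A A)).hom ≫ δ (ses_shortExact hφ) 1 ≫
        (σ 1 0 rfl (ses R A).X₁).hom ≫ Tm 0 (ModuleCat.ofHom ψ : (ses R A).X₁ ⟶ ModuleCat.of R R) := by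
  dsimp only [e₀]
  rw [← Category.assoc, ρ_naturality, Category.assoc]
  have h1 := δ_naturality (ses_shortExact hφ) (ses'_shortExact hφ) 1 (sesHom R A ψ h₀ h)
  have h2 := σ_naturality 1 0 rfl (sesHom R A ψ h₀ h).τ₁
  dsimp only [sesHom] at h1 h2
  rw [← Category.assoc (Tm 1 _), h1, Category.assoc, h2]

include hφ in
/-- maps `A|_R[-k] ⟶ R[0]` vanish for `k ≠ 1`. -/
lemma hom_res_eq_zero (k : ℤ) (hk : k ≠ 1)
    (x : (DRing.restrictD (algebraMap R A)).obj (T k (ModuleCat.of A A)) ⟶
      T 0 (ModuleCat.of R R)) : x = 0 := by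
  have hx : (ρ (algebraMap R A) k (ModuleCat.of A A)).inv ≫ x = 0 := by
    by_cases h0 : k = 0
    · subst h0
      obtain ⟨f, hf⟩ := exists_Tm_eq 0 ((ρ (algebraMap R A) 0 (ModuleCat.of A A)).inv ≫ x)
      rw [← hf, hom_AR_eq_zero R A f, Tm_zero]
    · exact hom_eq_zero (ses_shortExact hφ) (ModuleCat.of R R) k h0 hk _
  rw [← cancel_epi (ρ (algebraMap R A) k (ModuleCat.of A A)).inv, hx, comp_zero]

instance : Module.Projective A ↑(ModuleCat.of A A) := (inferInstance : Module.Projective A A)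

/-- **Key bijectivity**: the class `e₀` exhibits `Hom_R(𝔞, A)[-1]` as `RHom_R(A, R)` on the
generators `A[-k]`. -/
theorem bijective_e₀ (k : ℤ) :
    Function.Bijective (fun h : T k (ModuleCat.of A A) ⟶ T 1 (N₀ R A) =>
      (DRing.restrictD (algebraMap R A)).map h ≫ e₀ R A hφ) := by
  by_cases hk : k = 1
  · subst hk
    constructor
    · intro h₁ h₂ h12
      dsimp only at h12
      rw [← sub_eq_zero]
      have hz : (DRing.restrictD (algebraMap R A)).map (h₁ - h₂) ≫ e₀ R A hφ = 0 := by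
        rw [Functor.map_sub, Preadditive.sub_comp, h12, sub_self]
      obtain ⟨h₀, hh₀⟩ := exists_Tm_eq 1 (h₁ - h₂)
      rw [← hh₀] at hz ⊢
      obtain ⟨ψ, hψ⟩ := Module.projective_lifting_property (Algebra.linearMap R A)
        (h₀.hom (1 : A)) hφ
      rw [key R A hφ ψ h₀ hψ.symm, ← cancel_epi (ρ (algebraMap R A) 1 (ModuleCat.of A A)).inv,
        Iso.inv_hom_id_assoc, comp_zero] at hz
      obtain ⟨m, hm⟩ := exists_factor_of_δ_comp_eq_zero (ses_shortExact hφ) (ModuleCat.of R R)
        _ hz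
      have h1 : h₀.hom (1 : A) = 0 := by
        rw [← hψ]
        ext a
        have h2 := congr($hm a)
        change ψ a = m.hom (a : R) at h2
        change algebraMap R A (ψ a) = 0
        rw [h2]
        have h3 : m.hom (a : R) = (a : R) * m.hom (1 : R) := by
          have := m.hom.map_smul (a : R) (1 : R)
          simpa using this
        rw [h3, map_mul, RingHom.mem_ker.1 a.2, zero_mul]
      have h4 : h₀ = 0 := by
        refine ModuleCat.hom_ext (LinearMap.ext_ring ?_)
        simpa using h1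
      rw [h4, Tm_zero]
    · intro x
      obtain ⟨ψ, hψ⟩ := exists_eq_δ_comp (ses_shortExact hφ) (ModuleCat.of R R)
        ((ρ (algebraMap R A) 1 (ModuleCat.of A A)).inv ≫ x)
      let h₀ : ModuleCat.of A A ⟶ N₀ R A :=
        ModuleCat.ofHom (LinearMap.toSpanSingleton A (ker R A →ₗ[R] A)
          ((Algebra.linearMap R A).comp ψ.hom))
      have hh : h₀.hom (1 : A) = (Algebra.linearMap R A).comp ψ.hom := by
        exact LinearMap.toSpanSingleton_apply_one _ _ _
      refine ⟨Tm 1 h₀, ?_⟩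
      dsimp only
      rw [key R A hφ ψ.hom h₀ hh]
      have : (ModuleCat.ofHom ψ.hom : (ses R A).X₁ ⟶ ModuleCat.of R R) = ψ := rfl
      rw [this, ← hψ, Iso.hom_inv_id_assoc]
  · constructor
    · intro h₁ h₂ _
      rw [hom_eq_zero_of_ne hk _ _ h₁, hom_eq_zero_of_ne hk _ _ h₂]
    · intro x
      refine ⟨0, ?_⟩
      dsimp only
      rw [hom_res_eq_zero R A hφ k hk x, Functor.map_zero, zero_comp]

include hφ in
/-- **`RHom_R(A, R) ≅ Hom_R(𝔞, A)[-1]`.** -/
theorem nonempty_iso_ω [DTen.HasRHomRel (algebraMap R A)] :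
    Nonempty ((DTen.RHomRel (algebraMap R A)).obj (DTen.unit R) ≅ T 1 (N₀ R A)) := by
  let θ : T 0 (ModuleCat.of R R) ≅ DTen.unit R := Iso.refl _
  let e : (DRing.restrictD (algebraMap R A)).obj (T 1 (N₀ R A)) ⟶ DTen.unit R :=
    e₀ R A hφ ≫ θ.hom
  let g : T 1 (N₀ R A) ⟶ (DTen.RHomRel (algebraMap R A)).obj (DTen.unit R) :=
    (DTen.relAdj (algebraMap R A)).homEquiv _ _ e
  haveI : IsIso g := by
    apply Groth.Agent.Lib.Helper36.EHPC.isIso_of_bijective_comp
    intro k
    have h1 : (fun h : toD (singleCx k (ModuleCat.of A A)) ⟶ T 1 (N₀ R A) => h ≫ g) =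
        (DTen.relAdj (algebraMap R A)).homEquiv _ _ ∘ (fun y => y ≫ θ.hom) ∘
          (fun h : T k (ModuleCat.of A A) ⟶ T 1 (N₀ R A) =>
            (DRing.restrictD (algebraMap R A)).map h ≫ e₀ R A hφ) := by
      funext h
      dsimp only [Function.comp_apply, g, e]
      rw [Category.assoc]
      exact ((DTen.relAdj (algebraMap R A)).homEquiv_naturality_left h _).symm
    rw [h1]
    refine (Equiv.bijective _).comp (Function.Bijective.comp ?_ (bijective_e₀ R A hφ k))
    exact ⟨fun a b hab => (cancel_mono θ.hom).1 hab, fun y => ⟨y ≫ θ.inv, by simp⟩⟩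
  exact ⟨(asIso g).symm⟩

include hφ in
/-- **Main theorem**: for a surjection `R → A` with invertible kernel `𝔞` and `N` an inverse of
`A ⊗_R 𝔞`, `RHom_R(A, -) ≅ - ⊗^L_R N[-1]`. -/
theorem nonempty_iso (N : Type u) [AddCommGroup N] [Module A N]
    (e : TensorProduct A (TensorProduct R A (ker R A)) N ≃ₗ[A] A)
    [DTen.HasRHomRel (algebraMap R A)] [DTen.HasLTenMix (algebraMap R A)] :
    Nonempty (DTen.RHomRel (algebraMap R A) ≅
      (Functor.curry.obj (DTen.LTenMix (algebraMap R A))).flip.obj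
        ((Dual.inD A N)⟦(-1 : ℤ)⟧)) := by
  obtain ⟨i₁⟩ := DTenRelIso.nonempty_iso (algebraMap R A) (isPerfect_res_unit R A hφ)
  obtain ⟨i₂⟩ := nonempty_iso_ω R A hφ
  let i₃ : T 1 (N₀ R A) ≅ T 1 (ModuleCat.of A N) :=
    DerivedCategory.Q.mapIso ((HomologicalComplex.single (ModuleCat.{u} A)
      (ComplexShape.up ℤ) 1).mapIso (nEquiv N e).toModuleIso.symm)
  let i₄ : T 1 (ModuleCat.of A N) ≅ (Dual.inD A N)⟦(-1 : ℤ)⟧ :=
    (((DerivedCategory.singleFunctors (ModuleCat.{u} A)).shiftIso (-1) 1 0 (by omega)).app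
      (ModuleCat.of A N)).symm
  exact ⟨i₁ ≪≫ (Functor.curry.obj (DTen.LTenMix (algebraMap R A))).flip.mapIso
    (i₂ ≪≫ i₃ ≪≫ i₄)⟩

end Main

end Groth.Agent.Lib.Helper46.DTenRelInv
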