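import Groth.Prelude.Def_DTen4
import Groth.Agent.Lib.Helper46.DTenRelProj
import Groth.Agent.Lib.Helper46.DTenAssoc

/-!
# The comparison `K ⊗^L_R RHom_R(A, R) ⟶ RHom_R(A, K)` (helper46)

Namespace `Groth.Agent.Lib.Helper46.DTenRelTau`.
-/

set_option autoImplicit false
set_option backward.isDefEq.respectTransparency false
universe u
open CategoryTheory CategoryTheory.Limits MonoidalCategory
attribute [local instance] HasDerivedCategory.standard

namespace Groth.Agent.Lib.Helper46.DTenRelTau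

open Groth.Agent.Lib.Helper46.DTenKProj Groth.Agent.Lib.Helper46.DTenRelProj
  Groth.Agent.Lib.Helper46.DTenAssoc Groth.Agent.Lib.Helper46.KFlatLeft DerivedCategory

variable {R A : Type u} [CommRing R] [CommRing A] (φ : R →+* A)
  [DTen.HasRHomRel φ] [DTen.HasLTenMix φ]

/-- the relative dualizing object `RHom_R(A, R)` -/
noncomputable abbrev ω : Dual.D A := (DTen.RHomRel φ).obj (DTen.unit R)

/-- the functor `K ↦ K ⊗^L_R ω` -/
noncomputable abbrev F₂ : Dual.D R ⥤ Dual.D A :=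
  (Functor.curry.obj (DTen.LTenMix φ)).flip.obj (ω φ)

/-- the choices needed to write down the comparison map -/
structure Data where
  Y' : DRing.Cx A
  hY' : Y'.IsKProjective
  j : (Q.obj Y' : Dual.D A) ≅ ω φ
  V : DRing.Cx R
  hV : V.IsKProjective
  v : V ⟶ (DTen.resCx φ).obj Y'
  hv : QuasiIso v
  c : V ⟶ 𝟙_ (DRing.Cx R)
  hc : (Q.map c : (Q.obj V : Dual.D R) ⟶ _) = Q.map v ≫ (DTen.resFactors φ).inv.app Y' ≫
    (DRing.restrictD φ).map j.hom ≫ (DTen.relAdj φ).counit.app (DTen.unit R)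

attribute [instance] Data.hY' Data.hV Data.hv

lemma nonempty_data : Nonempty (Data φ) := by
  obtain ⟨Y', hY', ⟨j⟩⟩ := exists_kproj_iso (ω φ)
  obtain ⟨V, v, hv, hV, -⟩ := Groth.Agent.Lib.Helper36.KP.exists_resolution ((DTen.resCx φ).obj Y')
  obtain ⟨c, hc⟩ := exists_Q_map_eq (S := V) (L := 𝟙_ (DRing.Cx R))
    (Q.map v ≫ (DTen.resFactors φ).inv.app Y' ≫
      (DRing.restrictD φ).map j.hom ≫ (DTen.relAdj φ).counit.app (DTen.unit R))
  exact ⟨⟨Y', hY', j, V, hV, v, hv, c, hc⟩⟩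

variable {φ} (D : Data φ)

section KProj

/-- `P ⊗^L_R ω` is computed by `(P ⊗_R A) ⊗_A Y'` -/
noncomputable def cP (P : DRing.Cx R) :
    (F₂ φ).obj (Q.obj P) ⟶ (Q.obj ((DTen.extCx φ).obj P ⊗ D.Y') : Dual.D A) :=
  (DTen.LTenMix φ).map (Prod.mkHom (𝟙 (Q.obj P)) D.j.inv) ≫ (DTen.εMix φ).app (P, D.Y')

instance isIso_cP (P : DRing.Cx R) [P.IsKProjective] : IsIso (cP D P) := by
  have := isIso_εMix_of_isKProjective φ P D.Y'
  have : IsIso (Prod.mkHom (𝟙 (Q.obj P : Dual.D R)) D.j.inv) :=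
    (isIso_prod_iff _ _).2 ⟨inferInstance, inferInstance⟩
  dsimp only [cP]
  infer_instance

/-- `Q (P ⊗_R V) ≅ ((P ⊗_R A) ⊗_A Y')|_R` -/
noncomputable def aP (P : DRing.Cx R) :
    (Q.obj (P ⊗ D.V) : Dual.D R) ⟶
      (DRing.restrictD φ).obj (Q.obj ((DTen.extCx φ).obj P ⊗ D.Y')) :=
  Q.map ((P ◁ D.v) ≫ πhom φ P D.Y') ≫ (DTen.resFactors φ).inv.app _

instance isIso_aP (P : DRing.Cx R) [P.IsKProjective] : IsIso (aP D P) := by
  have hqis : QuasiIso (P ◁ D.v) :=
    quasiIso_mapBifunctorMap_of_isKFlat₁ R P (isKFlat₁_of_isKProjective R P) D.v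
  have h2 : IsIso (Q.map (P ◁ D.v) : (Q.obj _ : Dual.D R) ⟶ _) :=
    (DerivedCategory.isIso_Q_map_iff_quasiIso (ModuleCat.{u} R) _).2 hqis
  dsimp only [aP]
  rw [Functor.map_comp]
  infer_instance

/-- `Q (P ⊗_R V) ⟶ Q P` induced by `c : V ⟶ R` -/
noncomputable def bP (P : DRing.Cx R) : (Q.obj (P ⊗ D.V) : Dual.D R) ⟶ Q.obj P :=
  Q.map ((P ◁ D.c) ≫ (ρ_ P).hom)

/-- the evaluation map `(P ⊗^L_R ω)|_R ⟶ P` -/
noncomputable def tP (P : DRing.Cx R) [P.IsKProjective] :
    (DRing.restrictD φ).obj ((F₂ φ).obj (Q.obj P)) ⟶ (Q.obj P : Dual.D R) :=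
  (DRing.restrictD φ).map (cP D P) ≫ inv (aP D P) ≫ bP D P

lemma F₂_map {K K' : Dual.D R} (f : K ⟶ K') :
    (F₂ φ).map f = (DTen.LTenMix φ).map (Prod.mkHom f (𝟙 (ω φ))) := rfl

lemma cP_naturality {P P' : DRing.Cx R} (g : P ⟶ P') :
    (F₂ φ).map (Q.map g) ≫ cP D P' = cP D P ≫ Q.map ((DTen.extCx φ).map g ▷ D.Y') := by
  have h := (DTen.εMix φ).naturality (Prod.mkHom g (𝟙 D.Y') : (P, D.Y') ⟶ (P', D.Y'))
  have e1 : (DTen.mix₂ φ).map (Prod.mkHom g (𝟙 D.Y') : (P, D.Y') ⟶ (P', D.Y')) =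
      Q.map ((DTen.extCx φ).map g ▷ D.Y') := by
    change Q.map (((DTen.extCx φ).map g ▷ D.Y') ≫ (_ ◁ 𝟙 D.Y')) = _
    rw [MonoidalCategory.whiskerLeft_id, Category.comp_id]
  rw [e1] at h
  rw [F₂_map]
  dsimp only [cP]
  rw [Category.assoc, ← h, ← Functor.map_comp_assoc, Functor.comp_map, ← Functor.map_comp_assoc]
  congr 2
  refine Prod.ext ?_ ?_
  · dsimp
    rw [Category.comp_id, Category.id_comp]
  · dsimp
    rw [Category.id_comp, CategoryTheory.Functor.map_id, Category.comp_id]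

lemma aP_naturality {P P' : DRing.Cx R} (g : P ⟶ P') :
    aP D P ≫ (DRing.restrictD φ).map (Q.map ((DTen.extCx φ).map g ▷ D.Y')) =
      Q.map (g ▷ D.V) ≫ aP D P' := by
  have h1 := (DTen.resFactors φ).inv.naturality ((DTen.extCx φ).map g ▷ D.Y')
  have h2 := πhom_naturality φ g (𝟙 D.Y')
  have h3 := MonoidalCategory.whisker_exchange g D.v
  dsimp only [Functor.comp_map] at h1
  rw [CategoryTheory.Functor.map_id, MonoidalCategory.tensorHom_id, MonoidalCategory.tensorHom_id]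
    at h2
  dsimp only [aP]
  rw [Category.assoc, ← h1, ← Functor.map_comp_assoc, ← Functor.map_comp_assoc, Category.assoc,
    ← h2, ← Category.assoc, ← Category.assoc, h3]

lemma bP_naturality {P P' : DRing.Cx R} (g : P ⟶ P') :
    bP D P ≫ Q.map g = Q.map (g ▷ D.V) ≫ bP D P' := by
  dsimp only [bP]
  rw [← Functor.map_comp, ← Functor.map_comp, Category.assoc,
    ← MonoidalCategory.rightUnitor_naturality, ← Category.assoc, ← Category.assoc,
    MonoidalCategory.whisker_exchange]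

lemma tP_naturality {P P' : DRing.Cx R} [P.IsKProjective] [P'.IsKProjective] (g : P ⟶ P') :
    (DRing.restrictD φ).map ((F₂ φ).map (Q.map g)) ≫ tP D P' = tP D P ≫ Q.map g := by
  have h1 := cP_naturality D g
  have h2 := aP_naturality D g
  have h3 := bP_naturality D g
  have h2' : (DRing.restrictD φ).map (Q.map ((DTen.extCx φ).map g ▷ D.Y')) ≫ inv (aP D P') =
      inv (aP D P) ≫ Q.map (g ▷ D.V) := by
    rw [← cancel_epi (aP D P), ← Category.assoc, h2, Category.assoc, IsIso.hom_inv_id,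
      Category.comp_id, IsIso.hom_inv_id_assoc]
  dsimp only [tP]
  rw [← Functor.map_comp_assoc, h1, Functor.map_comp_assoc, reassoc_of% h2', Category.assoc,
    Category.assoc, h3]

end KProj

section General

/-- a chosen K-projective representative -/
noncomputable def PK (K : Dual.D R) : DRing.Cx R := (exists_kproj_iso K).choose

instance (K : Dual.D R) : (PK K).IsKProjective := (exists_kproj_iso K).choose_spec.choose

/-- the chosen isomorphism -/
noncomputable def iK (K : Dual.D R) : (Q.obj (PK K) : Dual.D R) ≅ K :=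
  (exists_kproj_iso K).choose_spec.choose_spec.some

/-- the evaluation map `(K ⊗^L_R ω)|_R ⟶ K` -/
noncomputable def τflat (K : Dual.D R) : (DRing.restrictD φ).obj ((F₂ φ).obj K) ⟶ K :=
  (DRing.restrictD φ).map ((F₂ φ).map (iK K).inv) ≫ tP D (PK K) ≫ (iK K).hom

lemma τflat_naturality {K K' : Dual.D R} (f : K ⟶ K') :
    (DRing.restrictD φ).map ((F₂ φ).map f) ≫ τflat D K' = τflat D K ≫ f := by
  obtain ⟨g, hg⟩ := exists_Q_map_eq (S := PK K) (L := PK K') ((iK K).hom ≫ f ≫ (iK K').inv)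
  have h1 := tP_naturality D g
  have h2 : f ≫ (iK K').inv = (iK K).inv ≫ Q.map g := by
    rw [hg, Iso.inv_hom_id_assoc]
  have h3 : Q.map g ≫ (iK K').hom = (iK K).hom ≫ f := by
    rw [hg, Category.assoc, Category.assoc, Iso.inv_hom_id, Category.comp_id]
  dsimp only [τflat]
  rw [← Functor.map_comp_assoc, ← Functor.map_comp, h2, Functor.map_comp, Functor.map_comp_assoc,
    reassoc_of% h1, h3, Category.assoc, Category.assoc]

lemma τflat_Q (P : DRing.Cx R) [P.IsKProjective] : τflat D (Q.obj P) = tP D P := by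
  obtain ⟨g, hg⟩ := exists_Q_map_eq (S := PK (Q.obj P)) (L := P) (iK (Q.obj P)).hom
  have h1 := tP_naturality D g
  dsimp only [τflat]
  rw [← hg, ← h1, ← Functor.map_comp_assoc, ← Functor.map_comp, hg, Iso.inv_hom_id,
    CategoryTheory.Functor.map_id, CategoryTheory.Functor.map_id, Category.id_comp]

/-- the comparison `K ⊗^L_R RHom_R(A, R) ⟶ RHom_R(A, K)` -/
noncomputable def τ : F₂ φ ⟶ DTen.RHomRel φ where
  app K := (DTen.relAdj φ).homEquiv _ _ (τflat D K)
  naturality K K' f := by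
    rw [← Adjunction.homEquiv_naturality_left, ← Adjunction.homEquiv_naturality_right,
      τflat_naturality]

/-- `e : Z|_R ⟶ K` exhibits `Z` as `RHom_R(A, K)` -/
def Univ {Z : Dual.D A} {K : Dual.D R} (e : (DRing.restrictD φ).obj Z ⟶ K) : Prop :=
  ∀ X : Dual.D A, Function.Bijective (fun y : X ⟶ Z => (DRing.restrictD φ).map y ≫ e)

lemma isIso_τ_app_of_univ (K : Dual.D R) (h : Univ (τflat D K)) : IsIso ((τ D).app K) := by
  refine isIso_of_yoneda_map_bijective _ (fun X => ?_)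
  have : (fun y : X ⟶ (F₂ φ).obj K => y ≫ (τ D).app K) =
      (DTen.relAdj φ).homEquiv _ _ ∘ (fun y : X ⟶ (F₂ φ).obj K =>
        (DRing.restrictD φ).map y ≫ τflat D K) := by
    funext y
    exact ((DTen.relAdj φ).homEquiv_naturality_left y (τflat D K)).symm
  rw [this]
  exact ((DTen.relAdj φ).homEquiv _ _).bijective.comp (h X)

lemma univ_counit (K : Dual.D R) : Univ (φ := φ) ((DTen.relAdj φ).counit.app K) := by
  intro X
  have : (fun y : X ⟶ (DTen.RHomRel φ).obj K =>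
      (DRing.restrictD φ).map y ≫ (DTen.relAdj φ).counit.app K) =
      ((DTen.relAdj φ).homEquiv _ _).symm := by
    funext y
    exact ((DTen.relAdj φ).homEquiv_counit _ _ y).symm
  rw [this]
  exact ((DTen.relAdj φ).homEquiv _ _).symm.bijective

lemma Univ.res_comp {Z Z' : Dual.D A} {K : Dual.D R} {e : (DRing.restrictD φ).obj Z ⟶ K}
    (h : Univ e) (α : Z' ⟶ Z) [IsIso α] : Univ ((DRing.restrictD φ).map α ≫ e) := by
  intro X
  have : (fun y : X ⟶ Z' => (DRing.restrictD φ).map y ≫ (DRing.restrictD φ).map α ≫ e) =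
      (fun y : X ⟶ Z => (DRing.restrictD φ).map y ≫ e) ∘ (fun y => y ≫ α) := by
    funext y
    simp
  rw [this]
  exact (h X).comp ⟨fun a b hab => (cancel_mono α).1 hab, fun y => ⟨y ≫ inv α, by simp⟩⟩

lemma Univ.comp_iso {Z : Dual.D A} {K K' : Dual.D R} {e : (DRing.restrictD φ).obj Z ⟶ K}
    (h : Univ e) (β : K ⟶ K') [IsIso β] : Univ (e ≫ β) := by
  intro X
  have : (fun y : X ⟶ Z => (DRing.restrictD φ).map y ≫ e ≫ β) =
      (fun z => z ≫ β) ∘ (fun y : X ⟶ Z => (DRing.restrictD φ).map y ≫ e) := by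
    funext y
    simp
  rw [this]
  exact (show Function.Bijective (fun z : (DRing.restrictD φ).obj X ⟶ K => z ≫ β) from
    ⟨fun a b hab => (cancel_mono β).1 hab, fun y => ⟨y ≫ inv β, by simp⟩⟩).comp (h X)

lemma Univ.shift {Z : Dual.D A} {K : Dual.D R} {e : (DRing.restrictD φ).obj Z ⟶ K}
    (h : Univ e) (m : ℤ) :
    Univ (((DRing.restrictD φ).commShiftIso m).hom.app Z ≫ e⟦m⟧') := by
  have hnat : ∀ {X' : Dual.D A} (y' : X' ⟶ Z),
      (DRing.restrictD φ).map (y'⟦m⟧') ≫ ((DRing.restrictD φ).commShiftIso m).hom.app Z ≫ e⟦m⟧' =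
        ((DRing.restrictD φ).commShiftIso m).hom.app X' ≫
          ((DRing.restrictD φ).map y' ≫ e)⟦m⟧' := by
    intro X' y'
    have := ((DRing.restrictD φ).commShiftIso m).hom.naturality y'
    dsimp only [Functor.comp_map] at this
    rw [reassoc_of% this, Functor.map_comp]
  have key : ∀ X' : Dual.D A, Function.Bijective (fun y : X'⟦m⟧ ⟶ Z⟦m⟧ =>
      (DRing.restrictD φ).map y ≫ ((DRing.restrictD φ).commShiftIso m).hom.app Z ≫ e⟦m⟧') := by
    intro X'
    constructor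
    · intro y₁ y₂ h12
      obtain ⟨y₁', rfl⟩ := (shiftFunctor (Dual.D A) m).map_surjective y₁
      obtain ⟨y₂', rfl⟩ := (shiftFunctor (Dual.D A) m).map_surjective y₂
      dsimp only at h12
      rw [hnat, hnat, cancel_epi] at h12
      have h3 := (shiftFunctor (Dual.D R) m).map_injective h12
      rw [(h X').1 h3]
    · intro g
      obtain ⟨f, hf⟩ := (shiftFunctor (Dual.D R) m).map_surjective
        (((DRing.restrictD φ).commShiftIso m).inv.app X' ≫ g)
      obtain ⟨y', hy'⟩ := (h X').2 f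
      refine ⟨y'⟦m⟧', ?_⟩
      dsimp only at hy' ⊢
      rw [hnat, hy', hf, Iso.hom_inv_id_app_assoc]
  intro X
  let ι : (X⟦-m⟧)⟦m⟧ ≅ X := shiftNegShift X m
  have : (fun y : X ⟶ Z⟦m⟧ => (DRing.restrictD φ).map y ≫
      ((DRing.restrictD φ).commShiftIso m).hom.app Z ≫ e⟦m⟧') =
      (fun z => (DRing.restrictD φ).map ι.inv ≫ z) ∘ (fun y : (X⟦-m⟧)⟦m⟧ ⟶ Z⟦m⟧ =>
        (DRing.restrictD φ).map y ≫ ((DRing.restrictD φ).commShiftIso m).hom.app Z ≫ e⟦m⟧') ∘
      (fun y => ι.hom ≫ y) := by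
    funext y
    dsimp only [Function.comp]
    rw [Functor.map_comp, Category.assoc, ← Functor.map_comp_assoc, Iso.inv_hom_id,
      CategoryTheory.Functor.map_id, Category.id_comp]
  rw [this]
  refine Function.Bijective.comp ?_ ((key _).comp ?_)
  · exact ⟨fun a b hab => (cancel_epi _).1 hab, fun y => ⟨(DRing.restrictD φ).map ι.hom ≫ y, by
      dsimp only
      rw [← Functor.map_comp_assoc, Iso.inv_hom_id, CategoryTheory.Functor.map_id,
        Category.id_comp]⟩⟩
  · exact ⟨fun a b hab => (cancel_epi _).1 hab, fun y => ⟨ι.inv ≫ y, by simp⟩⟩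

end General

end Groth.Agent.Lib.Helper46.DTenRelTau
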