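import Mathlib.CategoryTheory.Abelian.LeftDerived
import Mathlib.Algebra.Homology.HomologySequenceLemmas
import Mathlib.Algebra.Homology.HomologicalComplexAbelian

/-!
# Long exact sequence of left derived functors for a short exact sequence of functors

(helper46)  Let `F₁ ⟶ F₂ ⟶ F₃` be additive functors `C ⥤ D` between abelian categories (`C` with
projective resolutions) such that `0 ⟶ F₁ P ⟶ F₂ P ⟶ F₃ P ⟶ 0` is short exact for every projective `P`.
Then there is a long exact sequence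
`… ⟶ LₙF₁ X ⟶ LₙF₂ X ⟶ LₙF₃ X ⟶ Lₙ₋₁F₁ X ⟶ …` with connecting maps natural in `X` and in the sequence.

Main application: `Fᵢ = Mᵢ ⊗ -` for a short exact sequence of modules `M₁ ⟶ M₂ ⟶ M₃`
(long exact sequence of Mathlib's `Tor` in the FIRST variable).
-/

set_option autoImplicit false
set_option backward.isDefEq.respectTransparency false
set_option backward.defeqAttrib.useBackward true

namespace Groth.Agent.Lib.Helper46.DerivedLES

open CategoryTheory Limits Category

universe v u v' u'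

variable {C : Type u} [Category.{v} C] {D : Type u'} [Category.{v'} D]
  [Abelian C] [HasProjectiveResolutions C] [Abelian D]

/-- A sequence of additive functors `F₁ ⟶ F₂ ⟶ F₃` which is short exact on projective objects. -/
structure FunSES (C : Type u) [Category.{v} C] (D : Type u') [Category.{v'} D]
    [Abelian C] [Abelian D] where
  F₁ : C ⥤ D
  F₂ : C ⥤ D
  F₃ : C ⥤ D
  [add₁ : F₁.Additive]
  [add₂ : F₂.Additive]
  [add₃ : F₃.Additive]
  α : F₁ ⟶ F₂
  β : F₂ ⟶ F₃
  zero : ∀ X : C, α.app X ≫ β.app X = 0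
  exact : ∀ (P : C), Projective P → (ShortComplex.mk (α.app P) (β.app P) (zero P)).ShortExact

attribute [instance] FunSES.add₁ FunSES.add₂ FunSES.add₃

namespace FunSES

variable (T : FunSES C D)

lemma rel (n : ℕ) : (ComplexShape.down ℕ).Rel (n + 1) n := by simp

/-- The short complex of chain complexes obtained by evaluating on a projective resolution. -/
noncomputable def sc {X : C} (P : ProjectiveResolution X) :
    ShortComplex (ChainComplex D ℕ) :=
  ShortComplex.mk ((NatTrans.mapHomologicalComplex T.α _).app P.complex)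
    ((NatTrans.mapHomologicalComplex T.β _).app P.complex)
    (by ext i; simp; exact T.zero _)

omit [HasProjectiveResolutions C] in
lemma sc_shortExact {X : C} (P : ProjectiveResolution X) : (T.sc P).ShortExact :=
  HomologicalComplex.shortExact_of_degreewise_shortExact _
    (fun i => T.exact _ (P.projective i))

/-- The connecting morphism computed with a given projective resolution. -/
noncomputable def δ' {X : C} (P : ProjectiveResolution X) (n : ℕ) :
    (T.F₃.leftDerived (n + 1)).obj X ⟶ (T.F₁.leftDerived n).obj X :=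
  (P.isoLeftDerivedObj T.F₃ (n + 1)).hom ≫ (T.sc_shortExact P).δ (n + 1) n (rel n) ≫
    (P.isoLeftDerivedObj T.F₁ n).inv

lemma α_app_eq {X : C} (P : ProjectiveResolution X) (n : ℕ) :
    (NatTrans.leftDerived T.α n).app X =
      (P.isoLeftDerivedObj T.F₁ n).hom ≫ HomologicalComplex.homologyMap (T.sc P).f n ≫
        (P.isoLeftDerivedObj T.F₂ n).inv :=
  P.leftDerived_app_eq T.α n

lemma β_app_eq {X : C} (P : ProjectiveResolution X) (n : ℕ) :
    (NatTrans.leftDerived T.β n).app X =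
      (P.isoLeftDerivedObj T.F₂ n).hom ≫ HomologicalComplex.homologyMap (T.sc P).g n ≫
        (P.isoLeftDerivedObj T.F₃ n).inv :=
  P.leftDerived_app_eq T.β n

@[reassoc]
lemma α_β_app (X : C) (n : ℕ) :
    (NatTrans.leftDerived T.α n).app X ≫ (NatTrans.leftDerived T.β n).app X = 0 := by
  rw [← NatTrans.comp_app, ← NatTrans.leftDerived_comp]
  have : T.α ≫ T.β = 0 := by ext X; exact T.zero X
  rw [this]
  let P := projectiveResolution X
  rw [P.leftDerived_app_eq (0 : T.F₁ ⟶ T.F₃) n]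
  have : (NatTrans.mapHomologicalComplex (0 : T.F₁ ⟶ T.F₃) (ComplexShape.down ℕ)).app P.complex = 0 := by
    ext i; simp
  rw [this]
  simp

/-- Exactness of `LₙF₁ X ⟶ LₙF₂ X ⟶ LₙF₃ X`. -/
lemma exact₂ (X : C) (n : ℕ) :
    (ShortComplex.mk ((NatTrans.leftDerived T.α n).app X) ((NatTrans.leftDerived T.β n).app X)
      (T.α_β_app X n)).Exact := by
  let P := projectiveResolution X
  have h := (T.sc_shortExact P).homology_exact₂ n
  refine ShortComplex.exact_of_iso ?_ h
  refine ShortComplex.isoMk (P.isoLeftDerivedObj T.F₁ n).symm (P.isoLeftDerivedObj T.F₂ n).symm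
    (P.isoLeftDerivedObj T.F₃ n).symm ?_ ?_
  · dsimp; rw [T.α_app_eq P n]; simp
  · dsimp; rw [T.β_app_eq P n]; simp

@[reassoc]
lemma β_δ' {X : C} (P : ProjectiveResolution X) (n : ℕ) :
    (NatTrans.leftDerived T.β (n + 1)).app X ≫ T.δ' P n = 0 := by
  rw [T.β_app_eq P (n + 1)]
  dsimp only [δ']
  simp only [assoc, Iso.inv_hom_id_assoc]
  rw [(T.sc_shortExact P).comp_δ_assoc (n + 1) n (rel n)]
  simp

@[reassoc]
lemma δ'_α {X : C} (P : ProjectiveResolution X) (n : ℕ) :
    T.δ' P n ≫ (NatTrans.leftDerived T.α n).app X = 0 := by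
  rw [T.α_app_eq P n]
  dsimp only [δ']
  simp only [assoc, Iso.inv_hom_id_assoc]
  rw [(T.sc_shortExact P).δ_comp_assoc (n + 1) n (rel n)]
  simp

/-- Exactness of `Lₙ₊₁F₂ X ⟶ Lₙ₊₁F₃ X ⟶ LₙF₁ X`. -/
lemma exact₃' {X : C} (P : ProjectiveResolution X) (n : ℕ) :
    (ShortComplex.mk ((NatTrans.leftDerived T.β (n + 1)).app X) (T.δ' P n) (T.β_δ' P n)).Exact := by
  have h := (T.sc_shortExact P).homology_exact₃ (n + 1) n (rel n)
  refine ShortComplex.exact_of_iso ?_ h
  refine ShortComplex.isoMk (P.isoLeftDerivedObj T.F₂ (n + 1)).symm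
    (P.isoLeftDerivedObj T.F₃ (n + 1)).symm (P.isoLeftDerivedObj T.F₁ n).symm ?_ ?_
  · dsimp; rw [T.β_app_eq P (n + 1)]; simp
  · dsimp [δ']; simp

/-- Exactness of `Lₙ₊₁F₃ X ⟶ LₙF₁ X ⟶ LₙF₂ X`. -/
lemma exact₁' {X : C} (P : ProjectiveResolution X) (n : ℕ) :
    (ShortComplex.mk (T.δ' P n) ((NatTrans.leftDerived T.α n).app X) (T.δ'_α P n)).Exact := by
  have h := (T.sc_shortExact P).homology_exact₁ (n + 1) n (rel n)
  refine ShortComplex.exact_of_iso ?_ h
  refine ShortComplex.isoMk (P.isoLeftDerivedObj T.F₃ (n + 1)).symm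
    (P.isoLeftDerivedObj T.F₁ n).symm (P.isoLeftDerivedObj T.F₂ n).symm ?_ ?_
  · dsimp [δ']; simp
  · dsimp; rw [T.α_app_eq P n]; simp

/-- `L₀F₂ X ⟶ L₀F₃ X` is an epimorphism. -/
lemma epi_β_zero (X : C) : Epi ((NatTrans.leftDerived T.β 0).app X) := by
  let P := projectiveResolution X
  rw [T.β_app_eq P 0]
  have hS := T.sc_shortExact P
  have : Epi (T.sc P).g := hS.epi_g
  have : Epi (HomologicalComplex.homologyMap (T.sc P).g 0) := by
    have h := HomologicalComplex.homologyι_naturality (T.sc P).g 0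
    have e : HomologicalComplex.homologyMap (T.sc P).g 0 =
        ((T.sc P).X₂.homologyι 0 ≫ HomologicalComplex.opcyclesMap (T.sc P).g 0) ≫
          inv ((T.sc P).X₃.homologyι 0) := by
      rw [← h, assoc, IsIso.hom_inv_id, comp_id]
    rw [e]; infer_instance
  infer_instance

/-- Naturality of the connecting morphism in the object. -/
lemma δ'_naturality {X Y : C} (f : X ⟶ Y) (P : ProjectiveResolution X)
    (Q : ProjectiveResolution Y) (n : ℕ) :
    (T.F₃.leftDerived (n + 1)).map f ≫ T.δ' Q n = T.δ' P n ≫ (T.F₁.leftDerived n).map f := by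
  let φ := ProjectiveResolution.lift f P Q
  have comm : φ.f 0 ≫ Q.π.f 0 = P.π.f 0 ≫ f := ProjectiveResolution.lift_commutes_zero f P Q
  let Φ : T.sc P ⟶ T.sc Q := ShortComplex.homMk ((T.F₁.mapHomologicalComplex _).map φ)
    ((T.F₂.mapHomologicalComplex _).map φ) ((T.F₃.mapHomologicalComplex _).map φ)
    (NatTrans.mapHomologicalComplex_naturality T.α φ)
    (NatTrans.mapHomologicalComplex_naturality T.β φ)
  have hδ := HomologicalComplex.HomologySequence.δ_naturality Φ (T.sc_shortExact P)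
    (T.sc_shortExact Q) (n + 1) n (rel n)
  have h3 : (T.F₃.leftDerived (n + 1)).map f ≫ (Q.isoLeftDerivedObj T.F₃ (n + 1)).hom =
      (P.isoLeftDerivedObj T.F₃ (n + 1)).hom ≫ HomologicalComplex.homologyMap Φ.τ₃ (n + 1) :=
    ProjectiveResolution.isoLeftDerivedObj_hom_naturality f P Q φ comm T.F₃ (n + 1)
  have h1 : (P.isoLeftDerivedObj T.F₁ n).inv ≫ (T.F₁.leftDerived n).map f =
      HomologicalComplex.homologyMap Φ.τ₁ n ≫ (Q.isoLeftDerivedObj T.F₁ n).inv :=
    ProjectiveResolution.isoLeftDerivedObj_inv_naturality f P Q φ comm T.F₁ n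
  dsimp only [δ']
  rw [reassoc_of% h3, ← reassoc_of% hδ]
  simp only [assoc]
  rw [h1]

/-- The connecting morphism does not depend on the resolution. -/
lemma δ'_eq {X : C} (P Q : ProjectiveResolution X) (n : ℕ) : T.δ' P n = T.δ' Q n := by
  have h := T.δ'_naturality (𝟙 X) P Q n
  simp only [CategoryTheory.Functor.map_id, id_comp, comp_id] at h
  exact h.symm

/-- The connecting morphism as a natural transformation `Lₙ₊₁F₃ ⟶ LₙF₁`. -/
noncomputable def δ (n : ℕ) : T.F₃.leftDerived (n + 1) ⟶ T.F₁.leftDerived n where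
  app X := T.δ' (projectiveResolution X) n
  naturality _ _ f := T.δ'_naturality f _ _ n

lemma δ_app_eq {X : C} (P : ProjectiveResolution X) (n : ℕ) : (T.δ n).app X = T.δ' P n :=
  T.δ'_eq _ _ n

@[reassoc (attr := simp)]
lemma β_δ_app (X : C) (n : ℕ) :
    (NatTrans.leftDerived T.β (n + 1)).app X ≫ (T.δ n).app X = 0 := T.β_δ' _ n

@[reassoc (attr := simp)]
lemma δ_α_app (X : C) (n : ℕ) :
    (T.δ n).app X ≫ (NatTrans.leftDerived T.α n).app X = 0 := T.δ'_α _ n

/-- Exactness of `Lₙ₊₁F₂ X ⟶ Lₙ₊₁F₃ X ⟶ LₙF₁ X`. -/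
lemma exact₃ (X : C) (n : ℕ) :
    (ShortComplex.mk ((NatTrans.leftDerived T.β (n + 1)).app X) ((T.δ n).app X)
      (T.β_δ_app X n)).Exact := T.exact₃' _ n

/-- Exactness of `Lₙ₊₁F₃ X ⟶ LₙF₁ X ⟶ LₙF₂ X`. -/
lemma exact₁ (X : C) (n : ℕ) :
    (ShortComplex.mk ((T.δ n).app X) ((NatTrans.leftDerived T.α n).app X)
      (T.δ_α_app X n)).Exact := T.exact₁' _ n

/-- Morphisms of short exact sequences of functors. -/
structure Hom (T T' : FunSES C D) where
  τ₁ : T.F₁ ⟶ T'.F₁
  τ₂ : T.F₂ ⟶ T'.F₂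
  τ₃ : T.F₃ ⟶ T'.F₃
  comm₁₂ : T.α ≫ τ₂ = τ₁ ≫ T'.α
  comm₂₃ : T.β ≫ τ₃ = τ₂ ≫ T'.β

/-- Naturality of the connecting morphism with respect to morphisms of sequences of functors. -/
lemma δ_naturality_hom {T T' : FunSES C D} (h : Hom T T') (n : ℕ) :
    T.δ n ≫ NatTrans.leftDerived h.τ₁ n = NatTrans.leftDerived h.τ₃ (n + 1) ≫ T'.δ n := by
  ext X
  let P := projectiveResolution X
  let Φ : T.sc P ⟶ T'.sc P := ShortComplex.homMk
    ((NatTrans.mapHomologicalComplex h.τ₁ _).app P.complex)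
    ((NatTrans.mapHomologicalComplex h.τ₂ _).app P.complex)
    ((NatTrans.mapHomologicalComplex h.τ₃ _).app P.complex)
    (by
      dsimp only [sc]
      rw [← NatTrans.comp_app, ← NatTrans.comp_app, ← NatTrans.mapHomologicalComplex_comp,
        ← NatTrans.mapHomologicalComplex_comp, h.comm₁₂])
    (by
      dsimp only [sc]
      rw [← NatTrans.comp_app, ← NatTrans.comp_app, ← NatTrans.mapHomologicalComplex_comp,
        ← NatTrans.mapHomologicalComplex_comp, h.comm₂₃])
  have hδ := HomologicalComplex.HomologySequence.δ_naturality Φ (T.sc_shortExact P)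
    (T'.sc_shortExact P) (n + 1) n (rel n)
  have h1 : (NatTrans.leftDerived h.τ₁ n).app X = (P.isoLeftDerivedObj T.F₁ n).hom ≫
      HomologicalComplex.homologyMap Φ.τ₁ n ≫ (P.isoLeftDerivedObj T'.F₁ n).inv :=
    P.leftDerived_app_eq h.τ₁ n
  have h3 : (NatTrans.leftDerived h.τ₃ (n + 1)).app X = (P.isoLeftDerivedObj T.F₃ (n + 1)).hom ≫
      HomologicalComplex.homologyMap Φ.τ₃ (n + 1) ≫ (P.isoLeftDerivedObj T'.F₃ (n + 1)).inv :=
    P.leftDerived_app_eq h.τ₃ (n + 1)
  rw [NatTrans.comp_app, NatTrans.comp_app, h1, h3]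
  change T.δ' P n ≫ _ = _ ≫ T'.δ' P n
  dsimp only [δ']
  simp only [assoc, Iso.inv_hom_id_assoc]
  rw [reassoc_of% hδ]

end FunSES

/-- Naturality of `F.leftDerived 0 ⟶ F` with respect to natural transformations. -/
lemma fromLeftDerivedZero_naturality {F G : C ⥤ D} [F.Additive] [G.Additive] (α : F ⟶ G) (X : C) :
    (NatTrans.leftDerived α 0).app X ≫ G.fromLeftDerivedZero.app X =
      F.fromLeftDerivedZero.app X ≫ α.app X := by
  let P := projectiveResolution X
  have h1 := HomologicalComplex.homologyι_naturality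
    ((NatTrans.mapHomologicalComplex α (ComplexShape.down ℕ)).app P.complex) 0
  have h2 : HomologicalComplex.opcyclesMap
      ((NatTrans.mapHomologicalComplex α (ComplexShape.down ℕ)).app P.complex) 0 ≫
        P.fromLeftDerivedZero' G = P.fromLeftDerivedZero' F ≫ α.app X := by
    rw [← cancel_epi (HomologicalComplex.pOpcycles _ _)]
    simp
  rw [P.leftDerived_app_eq α 0, P.fromLeftDerivedZero_eq F, P.fromLeftDerivedZero_eq G]
  simp only [assoc, Iso.inv_hom_id_assoc]
  congr 1
  change HomologicalComplex.homologyMap _ 0 ≫ HomologicalComplex.homologyι _ 0 ≫ _ =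
    HomologicalComplex.homologyι _ 0 ≫ _
  rw [reassoc_of% h1, h2]

end Groth.Agent.Lib.Helper46.DerivedLES
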