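import Groth.Agent.Lib.Helper46.TorFactorFree
import Mathlib.Algebra.Homology.DerivedCategory.Ext.ExactSequences
import Mathlib.Algebra.Homology.DerivedCategory.Ext.EnoughProjectives
import Mathlib.Algebra.Category.ModuleCat.Ext.HasExt
import Mathlib.Algebra.Module.FinitePresentation

/-!
# Maps killing `Ext^{e+1}(-, N)` for all `N` vs. maps killing `Tor_{e+1}(-, N)` for all `N` (helper46)

For `α : M → M'` with `M` finite over a Noetherian ring: precomposition with `α` is zero on
`Ext^{e+1}(M', N)` for all `N` iff `Tor_{e+1}(α, N) = 0` for all `N`.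
-/

set_option autoImplicit false
set_option backward.isDefEq.respectTransparency false
set_option backward.defeqAttrib.useBackward true

namespace Groth.Agent.Lib.Helper46.ExtTorMapZero

open CategoryTheory Limits Category Abelian
open Groth.Agent.Lib.Helper46

universe u

variable {R : Type u} [CommRing R]

/-- precomposition with `α` kills all `Ext^k(M', N)` -/
def E {M M' : ModuleCat.{u} R} (α : M ⟶ M') (k : ℕ) : Prop :=
  ∀ (N : ModuleCat.{u} R) (x : Ext M' N k), (Ext.mk₀ α).comp x (zero_add k) = 0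

/-- `α` induces zero on `Tor_k(-, N)` for all `N`. -/
def T {M M' : ModuleCat.{u} R} (α : M ⟶ M') (k : ℕ) : Prop :=
  ∀ (N : ModuleCat.{u} R), ((Tor (ModuleCat.{u} R) k).map α).app N = 0

section Step

variable {S S' : ShortComplex (ModuleCat.{u} R)} (hS : S.ShortExact) (hS' : S'.ShortExact)
  (ψ : S ⟶ S')

include hS hS'

lemma T_step [Module.Flat R S.X₂] [Module.Flat R S'.X₂] (j : ℕ) :
    T ψ.τ₃ (j + 1 + 1) ↔ T ψ.τ₁ (j + 1) := by
  constructor
  · intro h N
    have hnat := TorNatural.δ_naturality_app hS hS' ψ (j + 1) N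
    rw [h N, zero_comp] at hnat
    have h0 : IsZero (((Tor (ModuleCat.{u} R) (j + 1)).obj S.X₂).obj N) :=
      TorLES.isZero_tor_succ_of_flat_left _ _ j
    haveI : Epi ((TorLES.δ S hS (j + 1)).app N) :=
      (TorLES.exact₁ S hS N (j + 1)).epi_f (h0.eq_of_tgt _ _)
    exact (cancel_epi ((TorLES.δ S hS (j + 1)).app N)).mp (hnat.trans comp_zero.symm)
  · intro h N
    have hnat := TorNatural.δ_naturality_app hS hS' ψ (j + 1) N
    rw [h N, comp_zero] at hnat
    have h0 : IsZero (((Tor (ModuleCat.{u} R) (j + 1 + 1)).obj S'.X₂).obj N) :=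
      TorLES.isZero_tor_succ_of_flat_left _ _ (j + 1)
    haveI : Mono ((TorLES.δ S' hS' (j + 1)).app N) :=
      (TorLES.exact₃ S' hS' N (j + 1)).mono_g (h0.eq_of_src _ _)
    exact (cancel_mono ((TorLES.δ S' hS' (j + 1)).app N)).mp (hnat.symm.trans zero_comp.symm)

lemma E_step [Projective S.X₂] [Projective S'.X₂] (j : ℕ) :
    E ψ.τ₃ (j + 1 + 1) ↔ E ψ.τ₁ (j + 1) := by
  have hnat := ShortComplex.ShortExact.extClass_naturality hS hS' ψ
  constructor
  · intro h N y
    have h1 := h N (hS'.extClass.comp y (add_comm 1 (j + 1)))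
    rw [← Ext.comp_assoc (Ext.mk₀ ψ.τ₃) hS'.extClass y (zero_add 1) (add_comm 1 (j + 1))
        (by omega), ← hnat,
      Ext.comp_assoc hS.extClass (Ext.mk₀ ψ.τ₁) y (add_zero 1) (zero_add (j + 1))
        (by omega)] at h1
    obtain ⟨x₂, hx₂⟩ := Ext.contravariant_sequence_exact₁ hS N _ (add_comm 1 (j + 1)) h1
    rw [← hx₂, Ext.eq_zero_of_projective x₂, Ext.comp_zero]
  · intro h N x
    have h0 : (Ext.mk₀ S'.g).comp x (zero_add (j + 1 + 1)) = 0 := Ext.eq_zero_of_projective _
    obtain ⟨y, hy⟩ := Ext.contravariant_sequence_exact₃ hS' N x h0 (add_comm 1 (j + 1))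
    rw [← hy, ← Ext.comp_assoc (Ext.mk₀ ψ.τ₃) hS'.extClass y (zero_add 1) (add_comm 1 (j + 1))
        (by omega), ← hnat,
      Ext.comp_assoc hS.extClass (Ext.mk₀ ψ.τ₁) y (add_zero 1) (zero_add (j + 1))
        (by omega), h N y, Ext.comp_zero]

end Step

section Base

variable (M M' : Type u) [AddCommGroup M] [Module R M] [AddCommGroup M'] [Module R M']
  (α : M →ₗ[R] M')

lemma T_one_of_E_one (h : E (ModuleCat.ofHom α) 1) : T (ModuleCat.ofHom α) 1 := by
  intro N
  set π : (M' →₀ R) →ₗ[R] M' := Finsupp.linearCombination R id with hπdef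
  have hπ : Function.Surjective π := fun x => ⟨Finsupp.single x 1, by simp [hπdef]⟩
  have hS' := LinearMap.shortExact_shortComplexKer hπ
  have h1 := h _ hS'.extClass
  obtain ⟨x₂, hx₂⟩ := Ext.covariant_sequence_exact₃ (ModuleCat.of R M) hS'
    (Ext.mk₀ (ModuleCat.ofHom α)) (zero_add 1) h1
  obtain ⟨β, rfl⟩ := (Ext.mk₀_bijective _ _).2 x₂
  rw [Ext.mk₀_comp_mk₀] at hx₂
  have hβ : β ≫ π.shortComplexKer.g = ModuleCat.ofHom α := (Ext.mk₀_bijective _ _).1 hx₂
  rw [← hβ, Functor.map_comp, NatTrans.comp_app]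
  haveI : Module.Flat R (π.shortComplexKer.X₂) := inferInstanceAs (Module.Flat R (M' →₀ R))
  have h0 : IsZero (((Tor (ModuleCat.{u} R) 1).obj π.shortComplexKer.X₂).obj N) :=
    TorLES.isZero_tor_succ_of_flat_left _ _ 0
  rw [h0.eq_of_tgt (((Tor (ModuleCat.{u} R) 1).map β).app N) 0, zero_comp]

lemma E_one_of_T_one [Module.FinitePresentation R M] (h : T (ModuleCat.ofHom α) 1) :
    E (ModuleCat.ofHom α) 1 := by
  intro N x
  obtain ⟨g', hg'⟩ := TorFactorFree.factor_through_free M M' α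
    (fun N' _ _ => h (ModuleCat.of R N'))
  have hα : ModuleCat.ofHom α =
      ModuleCat.ofHom g' ≫ ModuleCat.ofHom (Finsupp.linearCombination R id) := by
    rw [← ModuleCat.ofHom_comp, ← hg']
  rw [hα, ← Ext.mk₀_comp_mk₀_assoc]
  rw [Ext.eq_zero_of_projective
    ((Ext.mk₀ (ModuleCat.ofHom (Finsupp.linearCombination R (id : M' → M')))).comp x (zero_add 1)),
    Ext.comp_zero]

end Base

theorem E_iff_T [IsNoetherianRing R] (e : ℕ) :
    ∀ (M M' : Type u) [AddCommGroup M] [Module R M] [Module.Finite R M]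
      [AddCommGroup M'] [Module R M'] (α : M →ₗ[R] M'),
      E (ModuleCat.ofHom α) (e + 1) ↔ T (ModuleCat.ofHom α) (e + 1) := by
  induction e with
  | zero =>
    intro M M' _ _ _ _ _ α
    haveI := Module.finitePresentation_of_finite R M
    exact ⟨T_one_of_E_one M M' α, E_one_of_T_one M M' α⟩
  | succ e ih =>
    intro M M' _ _ _ _ _ α
    obtain ⟨n, f, hf⟩ := Module.Finite.exists_fin' R M
    obtain ⟨π, hπ⟩ : ∃ π : (M' →₀ R) →ₗ[R] M', Function.Surjective π :=
      ⟨Finsupp.linearCombination R id, fun x => ⟨Finsupp.single x 1, by simp⟩⟩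
    obtain ⟨φ, hφ⟩ := Module.projective_lifting_property π (α ∘ₗ f) hπ
    have hφ' : ∀ x, π (φ x) = α (f x) := fun x => LinearMap.congr_fun hφ x
    have hres : ∀ x ∈ LinearMap.ker f, φ x ∈ LinearMap.ker π := by
      intro x hx
      rw [LinearMap.mem_ker] at hx ⊢
      rw [hφ', hx, map_zero]
    obtain ⟨φK, hφK⟩ : ∃ φK : LinearMap.ker f →ₗ[R] LinearMap.ker π,
        ∀ x, ((φK x : LinearMap.ker π) : M' →₀ R) = φ x := ⟨φ.restrict hres, fun x => rfl⟩
    have hS := LinearMap.shortExact_shortComplexKer hf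
    have hS' := LinearMap.shortExact_shortComplexKer hπ
    obtain ⟨ψ, hψ₁, hψ₃⟩ : ∃ ψ : f.shortComplexKer ⟶ π.shortComplexKer,
        ψ.τ₁ = ModuleCat.ofHom φK ∧ ψ.τ₃ = ModuleCat.ofHom α :=
      ⟨ShortComplex.homMk (ModuleCat.ofHom φK) (ModuleCat.ofHom φ) (ModuleCat.ofHom α)
        (ModuleCat.hom_ext (LinearMap.ext fun x => hφK x))
        (ModuleCat.hom_ext hφ), rfl, rfl⟩
    haveI : Module.Finite R (LinearMap.ker f) := inferInstance
    haveI i1 : Projective f.shortComplexKer.X₂ :=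
      inferInstanceAs (Projective (ModuleCat.of R (Fin n → R)))
    haveI i2 : Projective π.shortComplexKer.X₂ :=
      inferInstanceAs (Projective (ModuleCat.of R (M' →₀ R)))
    haveI i3 : Module.Flat R f.shortComplexKer.X₂ := inferInstanceAs (Module.Flat R (Fin n → R))
    haveI i4 : Module.Flat R π.shortComplexKer.X₂ := inferInstanceAs (Module.Flat R (M' →₀ R))
    have hE := @E_step R _ _ _ hS hS' ψ i1 i2 e
    have hT := @T_step R _ _ _ hS hS' ψ i3 i4 e
    have hI := ih (LinearMap.ker f) (LinearMap.ker π) φK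
    rw [hψ₁, hψ₃] at hE hT
    exact hE.trans (hI.trans hT.symm)

section Translate

attribute [local instance] HasDerivedCategory.standard

lemma E_iff_derived {M M' : ModuleCat.{u} R} (α : M ⟶ M') (k : ℕ) (n : ℤ) (hn : (k : ℤ) = n) :
    E α k ↔ ∀ (N : ModuleCat.{u} R)
      (φ : (DerivedCategory.singleFunctor (ModuleCat.{u} R) 0).obj M' ⟶
        ((DerivedCategory.singleFunctor (ModuleCat.{u} R) 0).obj N)⟦n⟧),
      (DerivedCategory.singleFunctor (ModuleCat.{u} R) 0).map α ≫ φ = 0 := by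
  subst hn
  constructor
  · intro h N φ
    have h1 := h N (Ext.homEquiv.symm φ)
    have h2 := congrArg Ext.hom h1
    rw [Ext.comp_hom, Ext.mk₀_hom, ShiftedHom.mk₀_comp, Ext.zero_hom] at h2
    simpa using h2
  · intro h N x
    apply Ext.ext
    rw [Ext.comp_hom, Ext.mk₀_hom, ShiftedHom.mk₀_comp, Ext.zero_hom]
    exact h N x.hom

end Translate

end Groth.Agent.Lib.Helper46.ExtTorMapZero
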