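import Mathlib
import Groth.Prelude.Def_DDual2

/-!
# Dévissage of test modules along `R → R_f`, `R → R/f` for exactness of `P ⊗ Q` (helper46)

Namespace `Groth.Agent.Lib.Helper46.FlatGlue`.

`P` a cochain complex of flat `R`-modules, `f ∈ R`.  `Good P Q` says that `P ⊗_R Q` is exact in all
negative degrees.  If this holds for all `Q` killed by `f` and for all localizations `Q_f`, it holds
for every `R`-module `Q` (`good_of_base`).
-/

set_option autoImplicit false
universe u
open CategoryTheory TensorProduct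

namespace Groth.Agent.Lib.Helper46.FlatGlue

section Chase

variable {R : Type*} [CommRing R]

theorem exact_mid {A1 A2 A3 B1 B2 B3 C1 C2 C3 : Type*}
    [AddCommGroup A1] [Module R A1] [AddCommGroup A2] [Module R A2] [AddCommGroup A3] [Module R A3]
    [AddCommGroup B1] [Module R B1] [AddCommGroup B2] [Module R B2] [AddCommGroup B3] [Module R B3]
    [AddCommGroup C1] [Module R C1] [AddCommGroup C2] [Module R C2] [AddCommGroup C3] [Module R C3]
    (f1 : A1 →ₗ[R] B1) (g1 : B1 →ₗ[R] C1) (f2 : A2 →ₗ[R] B2) (g2 : B2 →ₗ[R] C2)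
    (f3 : A3 →ₗ[R] B3) (g3 : B3 →ₗ[R] C3)
    (ιA : A1 →ₗ[R] A2) (ιB : B1 →ₗ[R] B2) (ιC : C1 →ₗ[R] C2)
    (πA : A2 →ₗ[R] A3) (πB : B2 →ₗ[R] B3) (πC : C2 →ₗ[R] C3)
    (c1 : ∀ x, ιB (f1 x) = f2 (ιA x)) (c2 : ∀ x, ιC (g1 x) = g2 (ιB x))
    (c3 : ∀ x, πB (f2 x) = f3 (πA x)) (c4 : ∀ x, πC (g2 x) = g3 (πB x))
    (h2 : ∀ x, g2 (f2 x) = 0)
    (e1 : Function.Exact f1 g1) (e3 : Function.Exact f3 g3)
    (hιC : Function.Injective ιC) (hB : Function.Exact ιB πB) (hπA : Function.Surjective πA) :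
    Function.Exact f2 g2 := by
  intro z
  constructor
  · intro hz
    have h3 : g3 (πB z) = 0 := by rw [← c4, hz, map_zero]
    obtain ⟨w3, hw3⟩ := (e3 (πB z)).1 h3
    obtain ⟨w2, rfl⟩ := hπA w3
    have hz' : πB (z - f2 w2) = 0 := by rw [map_sub, c3, hw3, sub_self]
    obtain ⟨z1, hz1⟩ := (hB (z - f2 w2)).1 hz'
    have hg : g1 z1 = 0 := by
      apply hιC
      rw [c2, hz1, map_sub, hz, h2, sub_zero, map_zero]
    obtain ⟨w1, rfl⟩ := (e1 z1).1 hg
    refine ⟨w2 + ιA w1, ?_⟩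
    rw [map_add, ← c1, hz1]
    abel
  · rintro ⟨w, rfl⟩
    exact h2 w

theorem exact_left {Z2 Z3 A1 A2 A3 B1 B2 B3 C1 C2 : Type*}
    [AddCommGroup Z2] [Module R Z2] [AddCommGroup Z3] [Module R Z3]
    [AddCommGroup A1] [Module R A1] [AddCommGroup A2] [Module R A2] [AddCommGroup A3] [Module R A3]
    [AddCommGroup B1] [Module R B1] [AddCommGroup B2] [Module R B2] [AddCommGroup B3] [Module R B3]
    [AddCommGroup C1] [Module R C1] [AddCommGroup C2] [Module R C2]
    (f1 : A1 →ₗ[R] B1) (g1 : B1 →ₗ[R] C1)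
    (e2 : Z2 →ₗ[R] A2) (f2 : A2 →ₗ[R] B2) (g2 : B2 →ₗ[R] C2)
    (e3 : Z3 →ₗ[R] A3) (f3 : A3 →ₗ[R] B3)
    (ιA : A1 →ₗ[R] A2) (ιB : B1 →ₗ[R] B2) (ιC : C1 →ₗ[R] C2)
    (πZ : Z2 →ₗ[R] Z3) (πA : A2 →ₗ[R] A3) (πB : B2 →ₗ[R] B3)
    (c1 : ∀ x, ιB (f1 x) = f2 (ιA x)) (c2 : ∀ x, ιC (g1 x) = g2 (ιB x))
    (c3 : ∀ x, πA (e2 x) = e3 (πZ x)) (c4 : ∀ x, πB (f2 x) = f3 (πA x))
    (h1 : ∀ x, g1 (f1 x) = 0) (h2 : ∀ x, f2 (e2 x) = 0)
    (ex2 : Function.Exact f2 g2) (ex3 : Function.Exact e3 f3)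
    (hιB : Function.Injective ιB) (hA : Function.Exact ιA πA) (hBz : ∀ x, πB (ιB x) = 0)
    (hπZ : Function.Surjective πZ) : Function.Exact f1 g1 := by
  intro z
  constructor
  · intro hz
    have h : g2 (ιB z) = 0 := by rw [← c2, hz, map_zero]
    obtain ⟨w2, hw2⟩ := (ex2 (ιB z)).1 h
    have h3 : f3 (πA w2) = 0 := by rw [← c4, hw2, hBz]
    obtain ⟨v3, hv3⟩ := (ex3 (πA w2)).1 h3
    obtain ⟨v2, rfl⟩ := hπZ v3
    have h4 : πA (w2 - e2 v2) = 0 := by rw [map_sub, c3, hv3, sub_self]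
    obtain ⟨w1, hw1⟩ := (hA (w2 - e2 v2)).1 h4
    refine ⟨w1, hιB ?_⟩
    rw [c1, hw1, map_sub, h2, sub_zero, hw2]
  · rintro ⟨w, rfl⟩
    exact h1 w

end Chase

section Tensor

variable {R : Type u} [CommRing R] (P : DRing.Cx R)

/-- the differential of `P ⊗ Q` -/
noncomputable def dT (Q : Type u) [AddCommGroup Q] [Module R Q] (n m : ℤ) :
    (P.X n) ⊗[R] Q →ₗ[R] (P.X m) ⊗[R] Q := LinearMap.rTensor Q (P.d n m).hom

lemma dT_dT (Q : Type u) [AddCommGroup Q] [Module R Q] (n m k : ℤ) (x : (P.X n) ⊗[R] Q) :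
    dT P Q m k (dT P Q n m x) = 0 := by
  have h : (dT P Q m k).comp (dT P Q n m) = 0 := by
    rw [dT, dT, ← LinearMap.rTensor_comp]
    have h0 : (P.d m k).hom.comp (P.d n m).hom = 0 := by
      rw [← ModuleCat.hom_comp, P.d_comp_d]
      rfl
    rw [h0, LinearMap.rTensor_zero]
  exact LinearMap.congr_fun h x

lemma lTensor_dT {Q Q' : Type u} [AddCommGroup Q] [Module R Q] [AddCommGroup Q'] [Module R Q']
    (v : Q →ₗ[R] Q') (n m : ℤ) (x : (P.X n) ⊗[R] Q) :
    LinearMap.lTensor (P.X m) v (dT P Q n m x) = dT P Q' n m (LinearMap.lTensor (P.X n) v x) :=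
  LinearMap.congr_fun ((LinearMap.lTensor_comp_rTensor (f := (P.d n m).hom) (g := v)).trans
    (LinearMap.rTensor_comp_lTensor (f := (P.d n m).hom) (g := v)).symm) x

/-- `P ⊗ Q` is exact at the middle of `a, b, c` -/
def ExL (Q : Type u) [AddCommGroup Q] [Module R Q] (a b c : ℤ) : Prop :=
  Function.Exact (dT P Q a b) (dT P Q b c)

/-- `P ⊗ Q` is exact in negative degrees -/
def Good (Q : Type u) [AddCommGroup Q] [Module R Q] : Prop :=
  ∀ a b c : ℤ, a + 1 = b → b + 1 = c → b < 0 → ExL P Q a b c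

variable {P}

theorem good_mid (hfl : ∀ n, Module.Flat R (P.X n)) {Q1 Q2 Q3 : Type u}
    [AddCommGroup Q1] [Module R Q1] [AddCommGroup Q2] [Module R Q2] [AddCommGroup Q3] [Module R Q3]
    (ι : Q1 →ₗ[R] Q2) (π : Q2 →ₗ[R] Q3) (hι : Function.Injective ι)
    (hπ : Function.Surjective π) (hex : Function.Exact ι π)
    (h1 : Good P Q1) (h3 : Good P Q3) : Good P Q2 := by
  intro a b c hab hbc hb
  haveI := hfl c
  exact exact_mid (dT P Q1 a b) (dT P Q1 b c) (dT P Q2 a b) (dT P Q2 b c) (dT P Q3 a b)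
    (dT P Q3 b c)
    (LinearMap.lTensor (P.X a) ι) (LinearMap.lTensor (P.X b) ι) (LinearMap.lTensor (P.X c) ι)
    (LinearMap.lTensor (P.X a) π) (LinearMap.lTensor (P.X b) π) (LinearMap.lTensor (P.X c) π)
    (fun x => lTensor_dT P ι a b x) (fun x => lTensor_dT P ι b c x)
    (fun x => lTensor_dT P π a b x) (fun x => lTensor_dT P π b c x)
    (fun x => dT_dT P Q2 a b c x)
    (h1 a b c hab hbc hb) (h3 a b c hab hbc hb)
    (Module.Flat.lTensor_preserves_injective_linearMap ι hι)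
    (lTensor_exact (P.X b) hex hπ)
    (LinearMap.lTensor_surjective (P.X a) hπ)

theorem good_left (hfl : ∀ n, Module.Flat R (P.X n)) {Q1 Q2 Q3 : Type u}
    [AddCommGroup Q1] [Module R Q1] [AddCommGroup Q2] [Module R Q2] [AddCommGroup Q3] [Module R Q3]
    (ι : Q1 →ₗ[R] Q2) (π : Q2 →ₗ[R] Q3) (hι : Function.Injective ι)
    (hπ : Function.Surjective π) (hex : Function.Exact ι π)
    (h2 : Good P Q2) (h3 : Good P Q3) : Good P Q1 := by
  intro a b c hab hbc hb
  haveI := hfl b
  exact exact_left (dT P Q1 a b) (dT P Q1 b c)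
    (dT P Q2 (a - 1) a) (dT P Q2 a b) (dT P Q2 b c)
    (dT P Q3 (a - 1) a) (dT P Q3 a b)
    (LinearMap.lTensor (P.X a) ι) (LinearMap.lTensor (P.X b) ι) (LinearMap.lTensor (P.X c) ι)
    (LinearMap.lTensor (P.X (a - 1)) π) (LinearMap.lTensor (P.X a) π) (LinearMap.lTensor (P.X b) π)
    (fun x => lTensor_dT P ι a b x) (fun x => lTensor_dT P ι b c x)
    (fun x => lTensor_dT P π (a - 1) a x) (fun x => lTensor_dT P π a b x)
    (fun x => dT_dT P Q1 a b c x) (fun x => dT_dT P Q2 (a - 1) a b x)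
    (h2 a b c hab hbc hb) (h3 (a - 1) a b (by omega) hab (by omega))
    (Module.Flat.lTensor_preserves_injective_linearMap ι hι)
    (lTensor_exact (P.X a) hex hπ)
    (fun x => (lTensor_exact (P.X b) hex hπ).apply_apply_eq_zero x)
    (LinearMap.lTensor_surjective (P.X (a - 1)) hπ)

lemma subsingleton_tensor (M : Type u) [AddCommGroup M] [Module R M] (Q : Type u)
    [AddCommGroup Q] [Module R Q] [Subsingleton Q] : Subsingleton (M ⊗[R] Q) := by
  refine ⟨fun x y => ?_⟩
  have h0 : ∀ z : M ⊗[R] Q, z = 0 := by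
    intro z
    induction z using TensorProduct.induction_on with
    | zero => rfl
    | tmul m q => rw [Subsingleton.elim q 0, TensorProduct.tmul_zero]
    | add x y hx hy => rw [hx, hy, add_zero]
  rw [h0 x, h0 y]

theorem good_of_subsingleton (Q : Type u) [AddCommGroup Q] [Module R Q] [Subsingleton Q] :
    Good P Q := by
  intro a b c _ _ _ z
  haveI := subsingleton_tensor (R := R) (P.X b) Q
  constructor
  · intro _
    exact ⟨0, Subsingleton.elim _ _⟩
  · intro _
    haveI := subsingleton_tensor (R := R) (P.X c) Q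
    exact Subsingleton.elim _ _

theorem good_of_equiv (hfl : ∀ n, Module.Flat R (P.X n)) {Q Q' : Type u}
    [AddCommGroup Q] [Module R Q] [AddCommGroup Q'] [Module R Q'] (e : Q ≃ₗ[R] Q')
    (h : Good P Q') : Good P Q :=
  good_left hfl (Q3 := PUnit.{u + 1}) e.toLinearMap (0 : Q' →ₗ[R] PUnit.{u + 1}) e.injective
    (fun _ => ⟨0, Subsingleton.elim _ _⟩)
    (fun y => ⟨fun _ => ⟨e.symm y, e.apply_symm_apply y⟩, fun _ => rfl⟩)
    h (good_of_subsingleton PUnit.{u + 1})

end Tensor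

section Torsion

variable {R : Type u} [CommRing R] {P : DRing.Cx R}

/-- modules killed by `f ^ n` are good, if modules killed by `f` are -/
theorem good_of_pow_smul (hfl : ∀ n, Module.Flat R (P.X n)) (f : R)
    (hbase : ∀ (Q : Type u) [AddCommGroup Q] [Module R Q], (∀ q : Q, f • q = 0) → Good P Q) :
    ∀ (n : ℕ) (Q : Type u) [AddCommGroup Q] [Module R Q], (∀ q : Q, f ^ n • q = 0) → Good P Q := by
  intro n
  induction n with
  | zero =>
    intro Q _ _ h
    haveI : Subsingleton Q := ⟨fun x y => by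
      rw [← one_smul R x, ← one_smul R y, ← pow_zero f, h x, h y]⟩
    exact good_of_subsingleton Q
  | succ n ih =>
    intro Q _ _ h
    let Q' : Submodule R Q := Submodule.torsionBy R Q f
    refine good_mid hfl Q'.subtype Q'.mkQ Q'.injective_subtype Q'.mkQ_surjective
      (LinearMap.exact_subtype_mkQ Q') ?_ ?_
    · apply hbase
      intro q
      exact Submodule.smul_torsionBy f q
    · apply ih
      intro q
      obtain ⟨q, rfl⟩ := Q'.mkQ_surjective q
      rw [← map_smul]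
      refine (Submodule.Quotient.mk_eq_zero Q').2 ?_
      rw [Submodule.mem_torsionBy_iff, ← mul_smul, ← pow_succ']
      exact h q

/-- `f`-power torsion modules are good -/
theorem good_of_torsion (hfl : ∀ n, Module.Flat R (P.X n)) (f : R)
    (hbdd : ∀ (n : ℕ) (Q : Type u) [AddCommGroup Q] [Module R Q],
      (∀ q : Q, f ^ n • q = 0) → Good P Q)
    (T : Type u) [AddCommGroup T] [Module R T] (hT : ∀ t : T, ∃ n : ℕ, f ^ n • t = 0) :
    Good P T := by
  intro a b c hab hbc hb z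
  constructor
  · intro hz
    have key : ∀ x : (P.X b) ⊗[R] T, ∃ (n : ℕ)
        (y : (P.X b) ⊗[R] (Submodule.torsionBy R T (f ^ n))),
        LinearMap.lTensor (P.X b) (Submodule.torsionBy R T (f ^ n)).subtype y = x := by
      intro x
      induction x using TensorProduct.induction_on with
      | zero => exact ⟨0, 0, map_zero _⟩
      | tmul p t =>
        obtain ⟨n, hn⟩ := hT t
        exact ⟨n, p ⊗ₜ[R] ⟨t, (Submodule.mem_torsionBy_iff _ _).2 hn⟩, rfl⟩
      | add x y hx hy =>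
        obtain ⟨n, x', hx'⟩ := hx
        obtain ⟨m, y', hy'⟩ := hy
        have h1 : Submodule.torsionBy R T (f ^ n) ≤ Submodule.torsionBy R T (f ^ (max n m)) :=
          Submodule.torsionBy_le_torsionBy_of_dvd _ _ (pow_dvd_pow f (le_max_left n m))
        have h2 : Submodule.torsionBy R T (f ^ m) ≤ Submodule.torsionBy R T (f ^ (max n m)) :=
          Submodule.torsionBy_le_torsionBy_of_dvd _ _ (pow_dvd_pow f (le_max_right n m))
        refine ⟨max n m, LinearMap.lTensor (P.X b) (Submodule.inclusion h1) x' +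
          LinearMap.lTensor (P.X b) (Submodule.inclusion h2) y', ?_⟩
        rw [map_add, ← LinearMap.comp_apply, ← LinearMap.comp_apply, ← LinearMap.lTensor_comp,
          ← LinearMap.lTensor_comp, Submodule.subtype_comp_inclusion,
          Submodule.subtype_comp_inclusion, hx', hy']
    obtain ⟨n, y, rfl⟩ := key z
    have h1 : dT P (Submodule.torsionBy R T (f ^ n)) b c y = 0 := by
      haveI := hfl c
      apply Module.Flat.lTensor_preserves_injective_linearMap
        (Submodule.torsionBy R T (f ^ n)).subtype (Submodule.injective_subtype _)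
      rw [lTensor_dT, hz, map_zero]
    have hg : Good P (Submodule.torsionBy R T (f ^ n)) :=
      hbdd n _ (fun q => Submodule.smul_torsionBy (f ^ n) q)
    obtain ⟨w, hw⟩ := (hg a b c hab hbc hb y).1 h1
    exact ⟨LinearMap.lTensor (P.X a) (Submodule.torsionBy R T (f ^ n)).subtype w, by
      rw [← lTensor_dT, hw]⟩
  · rintro ⟨w, rfl⟩
    exact dT_dT P T a b c w

/-- the dévissage: if modules killed by `f` and localizations at `f` are good, all modules are -/
theorem good_of_base (hfl : ∀ n, Module.Flat R (P.X n)) (f : R)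
    (hbase : ∀ (Q : Type u) [AddCommGroup Q] [Module R Q], (∀ q : Q, f • q = 0) → Good P Q)
    (hloc : ∀ (Q : Type u) [AddCommGroup Q] [Module R Q],
      Good P (LocalizedModule (Submonoid.powers f) Q))
    (Q : Type u) [AddCommGroup Q] [Module R Q] : Good P Q := by
  have htor := good_of_torsion hfl f (good_of_pow_smul hfl f hbase)
  let ℓ : Q →ₗ[R] LocalizedModule (Submonoid.powers f) Q :=
    LocalizedModule.mkLinearMap (Submonoid.powers f) Q
  have hK : Good P (LinearMap.ker ℓ) := by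
    apply htor
    intro t
    obtain ⟨r, ⟨n, rfl⟩, hr⟩ := LocalizedModule.mem_ker_mkLinearMap_iff.1 t.2
    exact ⟨n, Subtype.ext hr⟩
  have hC : Good P (LocalizedModule (Submonoid.powers f) Q ⧸ LinearMap.range ℓ) := by
    apply htor
    intro c
    obtain ⟨x, rfl⟩ := (LinearMap.range ℓ).mkQ_surjective c
    induction x using LocalizedModule.induction_on with
    | h m s =>
      obtain ⟨n, hn⟩ := s.2
      refine ⟨n, ?_⟩
      rw [← map_smul]
      refine (Submodule.Quotient.mk_eq_zero _).2 ⟨m, ?_⟩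
      have h1 : f ^ n • LocalizedModule.mk m s = LocalizedModule.mk m 1 := by
        rw [LocalizedModule.smul'_mk]
        have : f ^ n • m = s • m := by
          rw [Submonoid.smul_def, ← hn]
        rw [this, LocalizedModule.mk_cancel]
      rw [h1]
      rfl
  have hI : Good P (LinearMap.range ℓ) :=
    good_left hfl (LinearMap.range ℓ).subtype (LinearMap.range ℓ).mkQ
      (Submodule.injective_subtype _) (Submodule.mkQ_surjective _)
      (LinearMap.exact_subtype_mkQ _) (hloc Q) hC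
  refine good_mid hfl (LinearMap.ker ℓ).subtype ℓ.rangeRestrict (Submodule.injective_subtype _)
    ℓ.surjective_rangeRestrict ?_ hK hI
  intro y
  constructor
  · intro h
    have h' : ℓ y = 0 := congrArg Subtype.val h
    exact ⟨⟨y, h'⟩, rfl⟩
  · rintro ⟨⟨y, hy⟩, rfl⟩
    exact Subtype.ext hy

end Torsion

end Groth.Agent.Lib.Helper46.FlatGlue
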