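import Groth.Agent.Lib.Helper46.FlatGlue
import Groth.Agent.Lib.Helper46.DTenRelProj
import Groth.Agent.S6945
import Groth.Agent.Lib.Helper36.TorAmpExt
import Groth.Agent.Lib.Helper36.TorAmpGlDim
import Groth.Agent.Lib.Helper36.HasLeftDerived
import Groth.Agent.Lib.Helper36.BaseChangeKProj

/-!
# Exactness of `P ⊗_R Q` for `Q` a module over a base change `B` with `P ⊗^L_R B` flat (helper46)

Namespace `Groth.Agent.Lib.Helper46.FlatGlueBC`.
-/

set_option autoImplicit false
universe u
open CategoryTheory CategoryTheory.Limits TensorProduct MonoidalCategory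
attribute [local instance] HasDerivedCategory.standard

namespace Groth.Agent.Lib.Helper46.FlatGlueBC

open Groth.Agent.Lib.Helper46.FlatGlue Groth.Agent.Lib.Helper46.DTenRelProj
  Groth.Agent.Lib.Helper36 Groth.Agent.Lib.Helper12 DRing

variable {R B : Type u} [CommRing R] [CommRing B] (π : R →+* B)

/-- if `P ⊗^L_R B` is a flat `B`-module in degree `0`, then `P ⊗_R Q` is exact in negative degrees
for every `B`-module `Q` -/
theorem good_of_lBaseChange [DRing.HasLBaseChange π]
    (P : DRing.Cx R) [P.IsKProjective] (N : Type u) [AddCommGroup N] [Module B N] [Module.Flat B N]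
    (e : (DRing.LBaseChange π).obj (DRing.toD P) ≅ Dual.inD B N) (Q' : ModuleCat.{u} B) :
    Good P ((ModuleCat.restrictScalars π).obj Q') := by
  haveI : ∀ M : ModuleCat.{u} B, DRing.HasLTensor B M := fun M => LT.hasLTensor B M
  let P' : DRing.Cx B :=
    ((ModuleCat.extendScalars.{u, u, u} π).mapHomologicalComplex (ComplexShape.up ℤ)).obj P
  haveI : P'.IsKProjective := BCKP.isKProjective_extendScalars π P
  have e' : DRing.toD P' ≅ Dual.inD B N := (LT.lBaseChangeObjIso π P).symm ≪≫ e
  haveI : Module.Flat B (ModuleCat.of B N) := inferInstanceAs (Module.Flat B N)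
  have hTA : DRing.HasTorAmplitudeIn B 0 0 (DRing.toD P') :=
    hasTorAmplitudeIn_of_iso e'.symm (TorAmpExt.hasTorAmplitudeIn_single_of_flat (ModuleCat.of B N))
  intro a b c hab hbc hb
  have hS := (Groth.Agent.S6945.result B (DRing.toD P') 0 0).mp hTA Q' b (Or.inl hb)
  have hE : (LT.tensorCx Q' P').ExactAt b :=
    LT.exactAt_tensorCx_of_subsingleton Q' P' (Iso.refl _) b hS
  rw [HomologicalComplex.exactAt_iff' _ a b c (by simp; omega) (by simp; omega),
    ShortComplex.ShortExact.moduleCat_exact_iff_function_exact] at hE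
  -- the comparison isomorphisms
  have hθ : ∀ n : ℤ, Function.Bijective (θ π (P.X n) Q').hom := fun n =>
    (ConcreteCategory.isIso_iff_bijective (θ π (P.X n) Q')).1 inferInstance
  have hnat : ∀ (n m : ℤ) (x : (P.X n) ⊗[R] ((ModuleCat.restrictScalars π).obj Q')),
      (θ π (P.X m) Q').hom (dT P ((ModuleCat.restrictScalars π).obj Q') n m x) =
        ((LT.tensorCx Q' P').d n m).hom ((θ π (P.X n) Q').hom x) := by
    intro n m x
    have h := θ_naturality_left π (P.d n m) Q'
    exact congrArg (fun t => t.hom x) h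
  intro z
  constructor
  · intro hz
    have h1 : ((LT.tensorCx Q' P').d b c).hom ((θ π (P.X b) Q').hom z) = 0 := by
      rw [← hnat b c z, hz]
      exact map_zero _
    obtain ⟨w', hw'⟩ := (hE ((θ π (P.X b) Q').hom z)).1 h1
    obtain ⟨w, rfl⟩ := (hθ a).2 w'
    refine ⟨w, (hθ b).1 ?_⟩
    rw [hnat]
    exact hw'
  · rintro ⟨w, rfl⟩
    exact dT_dT P _ a b c w

end Groth.Agent.Lib.Helper46.FlatGlueBC
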