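import Mathlib.AlgebraicGeometry.AffineTransitionLimit
import Mathlib.AlgebraicGeometry.Morphisms.FinitePresentation
import Mathlib.AlgebraicGeometry.Morphisms.QuasiSeparated
import Mathlib.AlgebraicGeometry.Morphisms.Separated
import Mathlib.AlgebraicGeometry.Pullbacks
import Mathlib.CategoryTheory.Limits.Shapes.Pullback.IsPullback.Basic
import Mathlib.CategoryTheory.Limits.Shapes.Pullback.Connected

/-!
# Base change of a cofiltered limit of schemes along a morphism to a stage

Given a diagram `D : I ⥤ Scheme`, a cone `c`, an index `i` and `xi : Xi ⟶ D.obj i`, we form the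
diagram `j ↦ Xi ×_{D i} D j` indexed by `Over i` and show that a pullback `X` of `xi` along
`c.pt ⟶ D.obj i` is its limit.
-/

universe u

set_option backward.isDefEq.respectTransparency false

open CategoryTheory Limits AlgebraicGeometry

namespace Groth.Agent.Lib.Helper46

attribute [local simp] pullback.lift_fst pullback.lift_snd pullback.lift_fst_assoc
  pullback.lift_snd_assoc

variable {I : Type u} [SmallCategory I] (D : I ⥤ Scheme.{u}) (c : Cone D) (i : I)
  {Xi : Scheme.{u}} (xi : Xi ⟶ D.obj i)

/-- The diagram `j ↦ Xi ×_{D i} D j` indexed by `Over i`. -/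
noncomputable def pbDiagram : Over i ⥤ Scheme.{u} where
  obj j := pullback xi (D.map j.hom)
  map {j k} ψ := pullback.map xi (D.map j.hom) xi (D.map k.hom) (𝟙 _) (D.map ψ.left) (𝟙 _)
    (by simp) (by rw [Category.comp_id, ← D.map_comp, Over.w])
  map_id j := by apply pullback.hom_ext <;> simp [pullback.map]
  map_comp ψ ψ' := by apply pullback.hom_ext <;> simp [pullback.map]

@[simp]
lemma pbDiagram_obj (j : Over i) : (pbDiagram D i xi).obj j = pullback xi (D.map j.hom) := rfl

@[reassoc (attr := simp)]
lemma pbDiagram_map_fst {j k : Over i} (ψ : j ⟶ k) :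
    (pbDiagram D i xi).map ψ ≫ pullback.fst xi (D.map k.hom) = pullback.fst xi (D.map j.hom) := by
  simp [pbDiagram]

@[reassoc (attr := simp)]
lemma pbDiagram_map_snd {j k : Over i} (ψ : j ⟶ k) :
    (pbDiagram D i xi).map ψ ≫ pullback.snd xi (D.map k.hom) =
      pullback.snd xi (D.map j.hom) ≫ D.map ψ.left := by
  simp [pbDiagram, pullback.map]

/-- The projection to the original diagram. -/
noncomputable def pbDiagramSnd : pbDiagram D i xi ⟶ Over.forget i ⋙ D where
  app j := pullback.snd xi (D.map j.hom)
  naturality j k ψ := by simp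

/-- The structure morphisms to the stage `D.obj i`. -/
noncomputable def pbDiagramToBase : pbDiagram D i xi ⟶ (Functor.const (Over i)).obj (D.obj i) where
  app j := pullback.fst xi (D.map j.hom) ≫ xi
  naturality j k ψ := by simp

variable {D c i xi}
variable {X : Scheme.{u}} {qX : X ⟶ Xi} {pX : X ⟶ c.pt} (hX : IsPullback qX pX xi (c.π.app i))

/-- The cone over `pbDiagram` with vertex a pullback of `xi` along `c.pt ⟶ D.obj i`. -/
noncomputable def pbCone : Cone (pbDiagram D i xi) where
  pt := X
  π :=
    { app := fun j => pullback.lift qX (pX ≫ c.π.app j.left)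
        (by rw [hX.w, Category.assoc, c.w])
      naturality := fun j k ψ => by
        apply pullback.hom_ext <;> simp }

@[reassoc (attr := simp)]
lemma pbCone_π_fst (j : Over i) :
    (pbCone hX).π.app j ≫ pullback.fst xi (D.map j.hom) = qX := by
  simp [pbCone]

@[reassoc (attr := simp)]
lemma pbCone_π_snd (j : Over i) :
    (pbCone hX).π.app j ≫ pullback.snd xi (D.map j.hom) = pX ≫ c.π.app j.left := by
  simp [pbCone]

lemma pbCone_isPullback (j : Over i) :
    IsPullback ((pbCone hX).π.app j) pX (pullback.snd xi (D.map j.hom)) (c.π.app j.left) := by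
  refine IsPullback.of_right (h₁₂ := pullback.fst xi (D.map j.hom)) (h₂₂ := D.map j.hom)
    (v₁₃ := xi) ?_ (pbCone_π_snd hX j) (IsPullback.of_hasPullback xi (D.map j.hom))
  have e1 : (pbCone hX).π.app j ≫ pullback.fst xi (D.map j.hom) = qX := pbCone_π_fst hX j
  have e2 : c.π.app j.left ≫ D.map j.hom = c.π.app i := c.w j.hom
  rw [e1, e2]
  exact hX

attribute [local instance] CategoryTheory.isConnected_of_hasTerminal

/-- The cone `pbCone` is a limit cone. -/
noncomputable def pbConeIsLimit [IsCofiltered I] (hc : IsLimit c) : IsLimit (pbCone hX) :=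
  isLimitOfIsPullbackOfIsConnected (pbDiagramSnd D i xi) (pbCone hX) (c.whisker (Over.forget i))
    { hom := pX
      w := fun j => by simp [pbDiagramSnd] }
    (fun j => pbCone_isPullback hX j)
    ((Functor.Initial.isLimitWhiskerEquiv (Over.forget i) c).symm hc)

variable (D i xi)

instance pbDiagram_fst_isAffineHom [∀ (j k : I) (f : j ⟶ k), IsAffineHom (D.map f)] (j : Over i) :
    IsAffineHom (pullback.fst xi (D.map j.hom)) :=
  MorphismProperty.pullback_fst (P := @IsAffineHom) _ _ (inferInstanceAs (IsAffineHom (D.map j.hom)))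

instance pbDiagram_map_isAffineHom [∀ (j k : I) (f : j ⟶ k), IsAffineHom (D.map f)]
    {j k : Over i} (ψ : j ⟶ k) : IsAffineHom ((pbDiagram D i xi).map ψ) := by
  have h1 : IsAffineHom ((pbDiagram D i xi).map ψ ≫ pullback.fst xi (D.map k.hom)) := by
    rw [pbDiagram_map_fst]
    infer_instance
  exact IsAffineHom.of_comp ((pbDiagram D i xi).map ψ) (pullback.fst xi (D.map k.hom))

instance pbDiagram_compactSpace [∀ (j k : I) (f : j ⟶ k), IsAffineHom (D.map f)]
    [CompactSpace Xi] (j : Over i) : CompactSpace ((pbDiagram D i xi).obj j) :=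
  QuasiCompact.compactSpace_of_compactSpace (pullback.fst xi (D.map j.hom))

instance pbDiagram_quasiSeparatedSpace [∀ (j k : I) (f : j ⟶ k), IsAffineHom (D.map f)]
    [QuasiSeparatedSpace Xi] (j : Over i) : QuasiSeparatedSpace ((pbDiagram D i xi).obj j) :=
  quasiSeparatedSpace_of_quasiSeparated (pullback.fst xi (D.map j.hom))

end Groth.Agent.Lib.Helper46
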