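import Groth.Agent.Lib.QCoh.Helper74_LocFree
import Groth.Agent.Lib.QCoh.Helper50_AffineDict

/-!
# Epimorphisms onto finite locally free modules split on affine schemes

* `exists_section_Spec`: on `Spec R`, an epimorphism `M ⟶ P` from a quasi-coherent module onto a
  finite locally free module has a section.
* `exists_section_of_isAffine`: the same on any affine scheme.
* `isFinLocFree_of_isZero`.
-/

universe u

open CategoryTheory CategoryTheory.Limits AlgebraicGeometry Opposite TopologicalSpace

namespace Groth.Agent.Lib.Helper46.LocFreeSplitAffine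

open Scheme.Modules FlatMod Groth.Agent.Lib.QCoh

theorem exists_section_Spec {R : CommRingCat.{u}} {M P : (Spec R).Modules} [M.IsQuasicoherent]
    (hP : IsFinLocFree P) (φ : M ⟶ P) [Epi φ] : ∃ σ : P ⟶ M, σ ≫ φ = 𝟙 P := by
  haveI : P.IsQuasicoherent := isQuasicoherent_of_isFinLocFree hP
  have hproj : Module.Projective R (moduleSpecΓFunctor.obj P) :=
    (finite_projective_Γ_of_isFinLocFree hP).2
  haveI : Projective (moduleSpecΓFunctor.obj P) := by
    have := (IsProjective.iff_projective (R := R) (P := moduleSpecΓFunctor.obj P)).1 hproj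
    exact this
  haveI : Epi (moduleSpecΓFunctor.map φ) := by
    rw [ModuleCat.epi_iff_surjective]
    exact surjective_app_of_epi φ (isAffineOpen_top _)
  let s : moduleSpecΓFunctor.obj P ⟶ moduleSpecΓFunctor.obj M :=
    Projective.factorThru (𝟙 _) (moduleSpecΓFunctor.map φ)
  have hs : s ≫ moduleSpecΓFunctor.map φ = 𝟙 _ := Projective.factorThru_comp _ _
  let adj := tilde.adjunction (R := R)
  haveI : IsIso (adj.counit.app P) :=
    Scheme.Modules.isIso_fromTildeΓ_of_isQuasicoherent P
  have key : (adj.homEquiv _ _).symm s ≫ φ = adj.counit.app P := by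
    rw [← Adjunction.homEquiv_naturality_right_symm, hs, Adjunction.homEquiv_counit,
      CategoryTheory.Functor.map_id, Category.id_comp]
  refine ⟨inv (adj.counit.app P) ≫ (adj.homEquiv _ _).symm s, ?_⟩
  rw [Category.assoc, key, IsIso.inv_hom_id]

/-- The composite `restrict along isoSpec.inv` then `restrict along isoSpec.hom` is the
identity. -/
noncomputable def restrictIsoSpecIso (X : Scheme.{u}) [IsAffine X] :
    restrictFunctor X.isoSpec.inv ⋙ restrictFunctor X.isoSpec.hom ≅ 𝟭 X.Modules :=
  (restrictFunctorComp X.isoSpec.hom X.isoSpec.inv).symm ≪≫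
    restrictFunctorCongr (X.isoSpec.hom_inv_id) ≪≫ restrictFunctorId

theorem exists_section_of_isAffine {X : Scheme.{u}} [IsAffine X] {M P : X.Modules}
    [M.IsQuasicoherent] (hP : IsFinLocFree P) (φ : M ⟶ P) [Epi φ] :
    ∃ σ : P ⟶ M, σ ≫ φ = 𝟙 P := by
  let F := restrictFunctor X.isoSpec.inv
  let G := restrictFunctor X.isoSpec.hom
  let η : F ⋙ G ≅ 𝟭 X.Modules := restrictIsoSpecIso X
  haveI : (F.obj M).IsQuasicoherent := isQuasicoherent_restrict X.isoSpec.inv M
  have hP' : IsFinLocFree (F.obj P) := isFinLocFree_restrict X.isoSpec.inv hP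
  haveI : Epi (F.map φ) := inferInstance
  obtain ⟨σ', hσ'⟩ := exists_section_Spec hP' (F.map φ)
  refine ⟨η.inv.app P ≫ G.map σ' ≫ η.hom.app M, ?_⟩
  have nat := η.hom.naturality φ
  simp only [Functor.comp_map, Functor.id_map] at nat
  simp only [Category.assoc]
  rw [← nat, ← Functor.map_comp_assoc, hσ', CategoryTheory.Functor.map_id, Category.id_comp,
    Iso.inv_hom_id_app]
  rfl

theorem isFinLocFree_of_isZero {X : Scheme.{u}} {M : X.Modules} (h : IsZero M) :
    IsFinLocFree M :=
  isFinLocFree_of_retract (L := Coh.structureModule X)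
    ⟨0, 0, h.eq_of_src _ _⟩ (isFinLocFree_structureModule X)

end Groth.Agent.Lib.Helper46.LocFreeSplitAffine
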