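import Groth.Agent.Lib.Helper6.CompactGen
import Mathlib.Logic.Small.Basic
import Mathlib.CategoryTheory.Limits.EssentiallySmall

/-!
# Compact generation with an index universe `w` (helper46)

Namespace `Groth.Agent.Lib.Helper46.LocGen`.

`CohDer.IsCompactObject` only speaks of coproducts indexed by types in the morphism universe.
For the derived category `D(A)` with `HasDerivedCategory.standard` the morphisms live in `Type (u+1)`
while only `Type u`-indexed coproducts exist, so we redo the basic theory with an independent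
index universe `w`:

* `IsCpt.{w} K`: every map `K ⟶ ∐ X` (`X : J → D`, `J : Type w`) is a finite sum of maps through the
  coproduct inclusions; closure under retracts, isomorphisms, shifts and extensions;
* `exists_factor_of_isHocolim`: maps from compact objects to homotopy colimits factor through a stage;
* `prop_of_generates`: a property closed under isomorphisms, cones and `Type w`-indexed coproducts
  which holds for all shifts of a generating family of compact objects (with `w`-small Hom sets out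
  of them) holds for every object (the localizing subcategory generated by compact generators is
  everything).
-/

set_option autoImplicit false
universe w' w v u

open CategoryTheory CategoryTheory.Limits CategoryTheory.Pretriangulated

namespace Groth.Agent.Lib.Helper46.LocGen

open Groth.Agent.Lib.Helper6

section basic

variable {D : Type u} [Category.{v} D] [Preadditive D] [HasCoproducts.{w} D]

/-- compactness with respect to coproducts indexed by types in `Type w` -/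
def IsCpt (K : D) : Prop :=
  ∀ (J : Type w) (X : J → D) (φ : K ⟶ ∐ X),
    ∃ (s : Finset J) (ψ : ∀ i, K ⟶ X i), φ = ∑ i ∈ s, ψ i ≫ Sigma.ι X i

lemma IsCpt.of_retract {K L : D} (r : Retract K L) (hL : IsCpt.{w} L) : IsCpt.{w} K := by
  intro J X φ
  obtain ⟨s, ψ, hψ⟩ := hL J X (r.r ≫ φ)
  refine ⟨s, fun i => r.i ≫ ψ i, ?_⟩
  calc φ = r.i ≫ r.r ≫ φ := by simp
    _ = _ := by rw [hψ, Preadditive.comp_sum]; simp

lemma IsCpt.of_iso {K L : D} (e : K ≅ L) (hL : IsCpt.{w} L) : IsCpt.{w} K :=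
  IsCpt.of_retract ⟨e.hom, e.inv, e.hom_inv_id⟩ hL

lemma isCpt_of_isZero {K : D} (hK : IsZero K) : IsCpt.{w} K := fun J X φ =>
  ⟨∅, fun i => 0, by simpa using hK.eq_of_src φ 0⟩

lemma sum_add_sum {K : D} {J : Type w} [DecidableEq J] (X : J → D) (s s' : Finset J)
    (ψ ψ' : ∀ i, K ⟶ X i) :
    ∑ i ∈ s, ψ i ≫ Sigma.ι X i + ∑ i ∈ s', ψ' i ≫ Sigma.ι X i =
      ∑ i ∈ s ∪ s', ((if i ∈ s then ψ i else 0) + (if i ∈ s' then ψ' i else 0)) ≫
        Sigma.ι X i := by
  simp only [Preadditive.add_comp, Finset.sum_add_distrib]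
  congr 1
  · rw [← Finset.sum_subset (f := fun i => (if i ∈ s then ψ i else 0) ≫ Sigma.ι X i)
      Finset.subset_union_left (fun i _ hi => by simp [hi])]
    exact Finset.sum_congr rfl fun i hi => by simp [hi]
  · rw [← Finset.sum_subset (f := fun i => (if i ∈ s' then ψ' i else 0) ≫ Sigma.ι X i)
      Finset.subset_union_right (fun i _ hi => by simp [hi])]
    exact Finset.sum_congr rfl fun i hi => by simp [hi]

lemma IsCpt.eq_sum_π {K : D} (hK : IsCpt.{w} K) {J : Type w} [DecidableEq J] (X : J → D)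
    (φ : K ⟶ ∐ X) : ∃ t : Finset J, φ = ∑ k ∈ t, (φ ≫ Sigma.π X k) ≫ Sigma.ι X k := by
  obtain ⟨s, ψ, hψ⟩ := hK J X φ
  refine ⟨s.image id, eq_sum_π_of_eq_sum X φ id Function.injective_id s ψ hψ⟩

/-- compactness for coproducts indexed by a `w`-small type (in any universe) -/
lemma IsCpt.eq_sum_π_of_small {K : D} (hK : IsCpt.{w} K) {κ : Type w'}
    [Small.{w} κ] [DecidableEq κ] (X : κ → D) [HasCoproduct X] (φ : K ⟶ ∐ X) :
    ∃ t : Finset κ, φ = ∑ k ∈ t, (φ ≫ Sigma.π X k) ≫ Sigma.ι X k := by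
  classical
  let e := (equivShrink.{w} κ).symm
  obtain ⟨t', ψ, hψ⟩ := hK _ (X ∘ e) (φ ≫ (Sigma.reindex e X).inv)
  have h : φ = ∑ j ∈ t', ψ j ≫ Sigma.ι X (e j) := by
    have := congrArg (· ≫ (Sigma.reindex e X).hom) hψ
    simp only [Category.assoc, Iso.inv_hom_id, Category.comp_id, Preadditive.sum_comp,
      Sigma.ι_reindex_hom] at this
    exact this
  exact ⟨t'.image e, eq_sum_π_of_eq_sum X φ e e.injective t' ψ h⟩

lemma IsCpt.eq_zero_of_comp_π_eq_zero {K : D} (hK : IsCpt.{w} K) {κ : Type w'}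
    [Small.{w} κ] [DecidableEq κ] (X : κ → D) [HasCoproduct X] (φ : K ⟶ ∐ X)
    (h : ∀ k, φ ≫ Sigma.π X k = 0) : φ = 0 := by
  obtain ⟨t, ht⟩ := hK.eq_sum_π_of_small X φ
  rw [ht]
  exact Finset.sum_eq_zero fun k _ => by rw [h k, zero_comp]

/-- A left adjoint whose right adjoint preserves coproducts preserves compact objects. -/
lemma IsCpt.of_adjunction {F : D ⥤ D} {G : D ⥤ D} (adj : F ⊣ G) [F.Additive]
    [∀ (κ : Type w), PreservesColimitsOfShape (Discrete κ) G] {K : D}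
    (hK : IsCpt.{w} K) : IsCpt.{w} (F.obj K) := by
  intro κ X φ
  obtain ⟨s, ψ, hψ⟩ := hK κ (fun i => G.obj (X i))
    (adj.homEquiv K (∐ X) φ ≫ inv (sigmaComparison G X))
  have h1 : adj.homEquiv K (∐ X) φ = ∑ i ∈ s, ψ i ≫ G.map (Sigma.ι X i) := by
    rw [← cancel_mono (inv (sigmaComparison G X)), hψ, Preadditive.sum_comp]
    refine Finset.sum_congr rfl fun i _ => ?_
    rw [Category.assoc, ← ι_comp_sigmaComparison G X i, Category.assoc, IsIso.hom_inv_id,
      Category.comp_id]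
  refine ⟨s, fun i => F.map (ψ i) ≫ adj.counit.app (X i), ?_⟩
  rw [← (adj.homEquiv K (∐ X)).symm_apply_apply φ, h1, Adjunction.homEquiv_counit,
    Functor.map_sum, Preadditive.sum_comp]
  refine Finset.sum_congr rfl fun i _ => ?_
  simp

end basic

section triangulated

variable {D : Type u} [Category.{v} D] [Preadditive D] [HasZeroObject D] [HasShift D ℤ]
  [∀ n : ℤ, (shiftFunctor D n).Additive] [Pretriangulated D] [HasCoproducts.{w} D]

omit [HasZeroObject D] [Pretriangulated D] in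
lemma IsCpt.shift {K : D} (hK : IsCpt.{w} K) (n : ℤ) :
    IsCpt.{w} ((shiftFunctor D n).obj K) :=
  IsCpt.of_adjunction (F := shiftFunctor D n) (G := shiftFunctor D (-n))
    (shiftEquiv D n).toAdjunction hK

lemma IsCpt.ext₂ (T : Triangle D) (hT : T ∈ distTriang D)
    (h₁ : IsCpt.{w} T.obj₁) (h₃ : IsCpt.{w} T.obj₃) : IsCpt.{w} T.obj₂ := by
  classical
  intro κ X φ
  obtain ⟨s, ψ, hψ⟩ := h₁ κ X (T.mor₁ ≫ φ)
  have hcomp : ∀ i ∈ s, ψ i = T.mor₁ ≫ φ ≫ Sigma.π X i := by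
    intro i hi
    have := congrArg (· ≫ Sigma.π X i) hψ
    simp only [Category.assoc, Preadditive.sum_comp] at this
    rw [this, Finset.sum_eq_single i]
    · simp
    · intro j _ hj
      rw [Sigma.ι_π_of_ne X hj, comp_zero]
    · intro h; exact absurd hi h
  set φ₁ : T.obj₂ ⟶ ∐ X := ∑ i ∈ s, (φ ≫ Sigma.π X i) ≫ Sigma.ι X i with hφ₁
  have h0 : T.mor₁ ≫ (φ - φ₁) = 0 := by
    rw [Preadditive.comp_sub, hψ, hφ₁, Preadditive.comp_sum, sub_eq_zero]
    refine Finset.sum_congr rfl fun i hi => ?_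
    rw [hcomp i hi]
    simp
  obtain ⟨γ, hγ⟩ := Triangle.yoneda_exact₂ T hT (φ - φ₁) h0
  obtain ⟨s', c, hc⟩ := h₃ κ X γ
  have : φ = φ₁ + ∑ i ∈ s', (T.mor₂ ≫ c i) ≫ Sigma.ι X i := by
    rw [sub_eq_iff_eq_add'] at hγ
    rw [hγ, hc, Preadditive.comp_sum]
    simp
  exact ⟨_, _, this.trans (sum_add_sum X s s' _ _)⟩

omit [HasZeroObject D] [HasShift D ℤ] [∀ n : ℤ, (shiftFunctor D n).Additive] [Pretriangulated D] in
lemma eq_zero_of_comp_one_sub_shiftMap (K : ℕ → D) (f : ∀ n, K n ⟶ K (n + 1))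
    [HasCoproduct K] {C : D} (hC : IsCpt.{w} C) (χ : C ⟶ ∐ K)
    (h : χ ≫ (𝟙 _ - DerLim.shiftMap K f) = 0) : χ = 0 :=
  hC.eq_zero_of_comp_π_eq_zero K χ (comp_π_eq_zero_of_comp_one_sub_shiftMap K f χ h)

omit [HasZeroObject D] [Pretriangulated D] in
lemma eq_zero_of_comp_shift_one_sub_shiftMap (K : ℕ → D) (f : ∀ n, K n ⟶ K (n + 1))
    [HasCoproduct K] {C : D} (hC : IsCpt.{w} C)
    (χ : C ⟶ (shiftFunctor D (1 : ℤ)).obj (∐ K))
    (h : χ ≫ (shiftFunctor D (1 : ℤ)).map (𝟙 _ - DerLim.shiftMap K f) = 0) : χ = 0 := by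
  let e : (shiftFunctor D (1 : ℤ)).obj ((shiftFunctor D (-1 : ℤ)).obj C) ≅ C :=
    (shiftFunctorCompIsoId D (-1 : ℤ) 1 (by simp)).app C
  let χ' : (shiftFunctor D (-1 : ℤ)).obj C ⟶ ∐ K := (shiftFunctor D (1 : ℤ)).preimage (e.hom ≫ χ)
  have hχ' : (shiftFunctor D (1 : ℤ)).map χ' = e.hom ≫ χ := Functor.map_preimage _ _
  have h0 : χ' ≫ (𝟙 _ - DerLim.shiftMap K f) = 0 := by
    apply (shiftFunctor D (1 : ℤ)).map_injective
    rw [Functor.map_comp, hχ', Category.assoc, h, comp_zero, Functor.map_zero]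
  have h1 : χ' = 0 := eq_zero_of_comp_one_sub_shiftMap K f (hC.shift (-1)) χ' h0
  rw [h1, Functor.map_zero] at hχ'
  rw [← cancel_epi e.hom, comp_zero]
  exact hχ'.symm

/-- a map from a compact object to a homotopy colimit factors through a finite stage -/
lemma exists_factor_of_isHocolim {K : ℕ → D} {f : ∀ n, K n ⟶ K (n + 1)} [HasCoproduct K] {L : D}
    {i : ∀ n, K n ⟶ L} (hL : DerLim.IsHocolim K f L i) {C : D} (hC : IsCpt.{w} C)
    (ψ : C ⟶ L) : ∃ (N : ℕ) (ψ' : C ⟶ K N), ψ = ψ' ≫ i N := by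
  classical
  have hw := isHocolim_w hL
  obtain ⟨c, hT⟩ := hL
  have h0 : ψ ≫ c = 0 := by
    apply eq_zero_of_comp_shift_one_sub_shiftMap K f hC
    have : c ≫ (shiftFunctor D (1 : ℤ)).map (𝟙 (∐ K) - DerLim.shiftMap K f) = 0 :=
      comp_distTriang_mor_zero₃₁ _ hT
    rw [Category.assoc, this, comp_zero]
  obtain ⟨ψ₀, hψ₀⟩ : ∃ ψ₀ : C ⟶ ∐ K, ψ = ψ₀ ≫ Sigma.desc i :=
    Triangle.coyoneda_exact₃ _ hT ψ h0
  obtain ⟨t, ht⟩ := hC.eq_sum_π_of_small K ψ₀
  have hsum : ψ = ∑ n ∈ t, (ψ₀ ≫ Sigma.π K n) ≫ i n := by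
    rw [hψ₀]
    conv_lhs => rw [ht]
    rw [Preadditive.sum_comp]
    exact Finset.sum_congr rfl fun n _ => by simp
  have key : ∀ (t : Finset ℕ) (g : ∀ n, C ⟶ K n),
      ∃ (N : ℕ) (ψ' : C ⟶ K N), ∑ n ∈ t, g n ≫ i n = ψ' ≫ i N := by
    intro t g
    induction t using Finset.induction_on with
    | empty => exact ⟨0, 0, by simp⟩
    | insert n t hn ih =>
      obtain ⟨N, ψ', hψ'⟩ := ih
      obtain ⟨a, ha⟩ := exists_lift_of_le hw (le_max_left n N) (g n)
      obtain ⟨b, hb⟩ := exists_lift_of_le hw (le_max_right n N) ψ'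
      exact ⟨max n N, a + b, by rw [Finset.sum_insert hn, hψ', ha, hb, Preadditive.add_comp]⟩
  obtain ⟨N, ψ', hψ'⟩ := key t (fun n => ψ₀ ≫ Sigma.π K n)
  exact ⟨N, ψ', hsum.trans hψ'⟩

end triangulated

section generation

variable {D : Type u} [Category.{v} D] [Preadditive D] [HasZeroObject D] [HasShift D ℤ]
  [∀ n : ℤ, (shiftFunctor D n).Additive] [Pretriangulated D] [HasCoproducts.{w} D]

omit [Preadditive D] [HasZeroObject D] [∀ n : ℤ, (shiftFunctor D n).Additive] [Pretriangulated D] in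
/-- a `w`-small coproduct of shifts of the `E i` through which all maps `χ` with `p χ` factor -/
lemma exists_cover {ι : Type w} (E : ι → D)
    (hs : ∀ (i : ι) (m : ℤ) (Y : D), Small.{w} ((shiftFunctor D m).obj (E i) ⟶ Y)) (Y : D)
    (p : ∀ (i : ι) (m : ℤ), ((shiftFunctor D m).obj (E i) ⟶ Y) → Prop) :
    ∃ (J : Type w) (a : J → ι) (m : J → ℤ)
      (g : (∐ fun j => (shiftFunctor D (m j)).obj (E (a j))) ⟶ Y),
      (∀ j, p (a j) (m j) (Sigma.ι (fun j => (shiftFunctor D (m j)).obj (E (a j))) j ≫ g)) ∧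
      ∀ (i : ι) (n : ℤ) (χ : (shiftFunctor D n).obj (E i) ⟶ Y), p i n χ →
        ∃ χ' : (shiftFunctor D n).obj (E i) ⟶
          ∐ fun j => (shiftFunctor D (m j)).obj (E (a j)), χ' ≫ g = χ := by
  let S := Σ (i : ι) (m : ℤ), {ψ : (shiftFunctor D m).obj (E i) ⟶ Y // p i m ψ}
  haveI : ∀ (i : ι) (m : ℤ), Small.{w} ((shiftFunctor D m).obj (E i) ⟶ Y) := fun i m => hs i m Y
  haveI : Small.{w} S := inferInstance
  let e := equivShrink.{w} S
  refine ⟨Shrink.{w} S, fun j => (e.symm j).1, fun j => (e.symm j).2.1,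
    Sigma.desc (fun j => (e.symm j).2.2.1), fun j => ?_, ?_⟩
  · rw [Sigma.ι_desc]
    exact (e.symm j).2.2.2
  · intro i n χ hχ
    have key : ∀ (j : Shrink.{w} S) (s : S), e.symm j = s →
        ∃ χ' : (shiftFunctor D s.2.1).obj (E s.1) ⟶
          ∐ fun j => (shiftFunctor D (e.symm j).2.1).obj (E (e.symm j).1),
          χ' ≫ Sigma.desc (fun j => (e.symm j).2.2.1) = s.2.2.1 := by
      intro j s h
      subst h
      exact ⟨Sigma.ι (fun j => (shiftFunctor D (e.symm j).2.1).obj (E (e.symm j).1)) j,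
        Sigma.ι_desc _ _⟩
    exact key (e ⟨i, n, χ, hχ⟩) ⟨i, n, χ, hχ⟩ (e.symm_apply_apply _)

/-- a stage of the tower: an object satisfying `P` with a map to `X` -/
structure Stage (P : D → Prop) (X : D) where
  /-- the object -/
  obj : D
  /-- the map to `X` -/
  hom : obj ⟶ X
  /-- the property -/
  prop : P obj

/-- the relation between consecutive stages -/
def StageRel {ι : Type w} (E : ι → D) {P : D → Prop} {X : D} (S S' : Stage P X)
    (f : S.obj ⟶ S'.obj) : Prop :=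
  f ≫ S'.hom = S.hom ∧
    ∀ (i : ι) (m : ℤ) (ψ : (shiftFunctor D m).obj (E i) ⟶ S.obj), ψ ≫ S.hom = 0 → ψ ≫ f = 0

section tower

variable {ι : Type w} {E : ι → D} {P : D → Prop} {X : D}
  (H : ∀ S : Stage P X, ∃ (S' : Stage P X) (f : S.obj ⟶ S'.obj), StageRel E S S' f)
  (S₀ : Stage P X)

/-- the tower of stages -/
noncomputable def tower : ℕ → Stage P X
  | 0 => S₀
  | n + 1 => (H (tower n)).choose

/-- the transition maps of the tower -/
noncomputable def towerMap (n : ℕ) : (tower H S₀ n).obj ⟶ (tower H S₀ (n + 1)).obj :=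
  (H (tower H S₀ n)).choose_spec.choose

lemma towerMap_spec (n : ℕ) :
    StageRel E (tower H S₀ n) (tower H S₀ (n + 1)) (towerMap H S₀ n) :=
  (H (tower H S₀ n)).choose_spec.choose_spec

end tower

/-- **The localizing subcategory generated by compact generators is everything.** -/
theorem prop_of_generates [IsTriangulated D] {ι : Type w} (E : ι → D)
    (hc : ∀ (i : ι) (m : ℤ), IsCpt.{w} ((shiftFunctor D m).obj (E i)))
    (hg : CohDer.Generates E)
    (hs : ∀ (i : ι) (m : ℤ) (Y : D), Small.{w} ((shiftFunctor D m).obj (E i) ⟶ Y))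
    (P : D → Prop)
    (hP_iso : ∀ {X Y : D}, (X ≅ Y) → P X → P Y)
    (hP_ext : ∀ T ∈ distTriang D, P T.obj₁ → P T.obj₂ → P T.obj₃)
    (hP_coprod : ∀ (J : Type w) (X : J → D), (∀ j, P (X j)) → P (∐ X))
    (hE : ∀ (i : ι) (m : ℤ), P ((shiftFunctor D m).obj (E i))) (X : D) : P X := by
  classical
  have := hasCoproductsOfShape_of_small.{w} D ℕ
  -- the step
  have H : ∀ S : Stage P X, ∃ (S' : Stage P X) (f : S.obj ⟶ S'.obj), StageRel E S S' f := by
    intro S
    obtain ⟨J, a, m, g, hg1, hg2⟩ := exists_cover E hs S.obj (fun i m ψ => ψ ≫ S.hom = 0)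
    have hg0 : g ≫ S.hom = 0 :=
      Sigma.hom_ext _ _ (fun j => by rw [← Category.assoc, hg1 j, comp_zero])
    obtain ⟨K', f, z, hT⟩ := distinguished_cocone_triangle g
    obtain ⟨i', hi'⟩ : ∃ i' : K' ⟶ X, S.hom = f ≫ i' := Triangle.yoneda_exact₂ _ hT S.hom hg0
    have hgf : g ≫ f = 0 := comp_distTriang_mor_zero₁₂ _ hT
    refine ⟨⟨K', i', hP_ext _ hT (hP_coprod J _ (fun j => hE (a j) (m j))) S.prop⟩, f,
      hi'.symm, ?_⟩
    intro i n ψ hψ
    obtain ⟨χ', hχ'⟩ := hg2 i n ψ hψ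
    rw [← hχ', Category.assoc, hgf, comp_zero]
  -- the initial stage
  obtain ⟨J₀, a₀, m₀, g₀, -, hg₀⟩ := exists_cover E hs X (fun _ _ _ => True)
  let S₀ : Stage P X := ⟨_, g₀, hP_coprod J₀ _ (fun j => hE (a₀ j) (m₀ j))⟩
  -- the tower
  let K : ℕ → D := fun n => (tower H S₀ n).obj
  let f : ∀ n, K n ⟶ K (n + 1) := fun n => towerMap H S₀ n
  let i : ∀ n, K n ⟶ X := fun n => (tower H S₀ n).hom
  have hw : ∀ n, f n ≫ i (n + 1) = i n := fun n => (towerMap_spec H S₀ n).1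
  have hK : ∀ n, P (K n) := fun n => (tower H S₀ n).prop
  -- the homotopy colimit
  obtain ⟨L, j, c, hT⟩ := distinguished_cocone_triangle (𝟙 (∐ K) - DerLim.shiftMap K f)
  let i' : ∀ n, K n ⟶ L := fun n => Sigma.ι K n ≫ j
  have hj : j = Sigma.desc i' := Sigma.hom_ext _ _ fun n => by simp [i']
  have hL : DerLim.IsHocolim K f L i' := ⟨c, by rw [← hj]; exact hT⟩
  have h0 : (𝟙 (∐ K) - DerLim.shiftMap K f) ≫ Sigma.desc i = 0 := by
    refine Sigma.hom_ext _ _ fun n => ?_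
    simp only [Preadditive.sub_comp, Preadditive.comp_sub, Category.id_comp, comp_zero,
      ι_shiftMap_assoc, colimit.ι_desc, Cofan.mk_ι_app]
    rw [hw, sub_self]
  obtain ⟨θ, hθ⟩ : ∃ θ : L ⟶ X, Sigma.desc i = j ≫ θ := Triangle.yoneda_exact₂ _ hT _ h0
  have hi'θ : ∀ n, i' n ≫ θ = i n := fun n => by
    simp only [i', Category.assoc, ← hθ, colimit.ι_desc, Cofan.mk_ι_app]
  have hiso : IsIso θ := by
    apply isIso_of_generates hg θ
    · intro a m χ
      obtain ⟨χ₀, hχ₀⟩ : ∃ χ₀ : (shiftFunctor D m).obj (E a) ⟶ K 0, χ₀ ≫ i 0 = χ :=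
        hg₀ a m χ trivial
      exact ⟨χ₀ ≫ i' 0, by rw [Category.assoc, hi'θ 0]; exact hχ₀⟩
    · intro a m χ hχ
      obtain ⟨N, χ', hχ'⟩ := exists_factor_of_isHocolim hL (hc a m) χ
      have h1 : χ' ≫ i N = 0 := by
        rw [← hi'θ N, ← Category.assoc, ← hχ', hχ]
      have h4 : χ' ≫ f N = 0 := (towerMap_spec H S₀ N).2 a m χ' h1
      rw [hχ', ← isHocolim_w hL N, ← Category.assoc, h4, zero_comp]
  have hPK : P (∐ K) :=
    hP_iso (Sigma.reindex (Equiv.ulift.{w} : ULift.{w} ℕ ≃ ℕ) K)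
      (hP_coprod _ _ (fun j => hK _))
  have hPL : P L := hP_ext _ hT hPK hPK
  exact hP_iso (asIso θ) hPL

end generation

end Groth.Agent.Lib.Helper46.LocGen
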