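import Groth.Agent.Lib.Helper46.LocGen
import Mathlib.CategoryTheory.Triangulated.Subcategory
import Mathlib.CategoryTheory.ObjectProperty.Retract

/-!
# Compact objects lie in the thick subcategory generated by compact generators (helper46)

Namespace `Groth.Agent.Lib.Helper46.LocGenThick`.  Universe-`w` version (see `LocGen`) of
`S1076`/`S0978` (helper6): `thick_of_isCpt`.
-/

set_option autoImplicit false
universe w v u

open CategoryTheory CategoryTheory.Limits CategoryTheory.Pretriangulated ZeroObject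

namespace Groth.Agent.Lib.Helper46.LocGenThick

open Groth.Agent.Lib.Helper46.LocGen

variable {D : Type u} [Category.{v} D] [Preadditive D] [HasZeroObject D] [HasShift D ℤ]
  [∀ n : ℤ, (shiftFunctor D n).Additive] [Pretriangulated D]

/-- A triangulated property is closed under binary biproducts. -/
lemma prop_biprod' (Q : ObjectProperty D) [Q.IsTriangulated] [Q.IsClosedUnderIsomorphisms]
    {X₁ X₂ : D} (h₁ : Q X₁) (h₂ : Q X₂) : Q (X₁ ⊞ X₂) :=
  Q.ext_of_isTriangulatedClosed₂ _ (binaryBiproductTriangle_distinguished X₁ X₂) h₁ h₂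

/-- maps factoring through members of `Q` -/
def Fac (Q : ObjectProperty D) {C Y : D} (φ : C ⟶ Y) : Prop :=
  ∃ (E' : D) (_ : Q E') (g : C ⟶ E') (h : E' ⟶ Y), g ≫ h = φ

lemma Fac.comp_right {Q : ObjectProperty D} {C Y Y' : D} {φ : C ⟶ Y} (h : Fac Q φ) (b : Y ⟶ Y') :
    Fac Q (φ ≫ b) := by
  obtain ⟨E', hE', g, k, hgk⟩ := h
  exact ⟨E', hE', g, k ≫ b, by rw [← Category.assoc, hgk]⟩

lemma fac_zero (Q : ObjectProperty D) [Q.IsTriangulated] [Q.IsClosedUnderIsomorphisms] (C Y : D) :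
    Fac Q (0 : C ⟶ Y) :=
  ⟨0, Q.prop_zero, 0, 0, by simp⟩

lemma Fac.add {Q : ObjectProperty D} [Q.IsTriangulated] [Q.IsClosedUnderIsomorphisms] {C Y : D}
    {φ ψ : C ⟶ Y} (h₁ : Fac Q φ) (h₂ : Fac Q ψ) : Fac Q (φ + ψ) := by
  obtain ⟨E₁, hE₁, g₁, k₁, rfl⟩ := h₁
  obtain ⟨E₂, hE₂, g₂, k₂, rfl⟩ := h₂
  exact ⟨E₁ ⊞ E₂, prop_biprod' Q hE₁ hE₂, biprod.lift g₁ g₂, biprod.desc k₁ k₂, by
    rw [biprod.lift_desc]⟩

lemma fac_sum {Q : ObjectProperty D} [Q.IsTriangulated] [Q.IsClosedUnderIsomorphisms] {C Y : D}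
    {J : Type*} (t : Finset J) (φ : J → (C ⟶ Y)) (h : ∀ j ∈ t, Fac Q (φ j)) :
    Fac Q (∑ j ∈ t, φ j) := by
  classical
  induction t using Finset.induction_on with
  | empty => simpa using fac_zero Q C Y
  | insert k t hk ih =>
    rw [Finset.sum_insert hk]
    exact (h k (Finset.mem_insert_self k t)).add
      (ih fun j hj => h j (Finset.mem_insert_of_mem hj))

variable [IsTriangulated D] [HasCoproducts.{w} D]

/-- **Compact objects lie in the thick subcategory generated by compact generators.** -/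
theorem thick_of_isCpt {ι : Type w} (E : ι → D)
    (hc : ∀ (i : ι) (m : ℤ), IsCpt.{w} ((shiftFunctor D m).obj (E i)))
    (hg : CohDer.Generates E)
    (hs : ∀ (i : ι) (m : ℤ) (Y : D), Small.{w} ((shiftFunctor D m).obj (E i) ⟶ Y))
    (Q : ObjectProperty D) [Q.IsTriangulated] [Q.IsClosedUnderIsomorphisms]
    [Q.IsStableUnderRetracts]
    (hQc : ∀ X : D, Q X → IsCpt.{w} X) (hE : ∀ i, Q (E i)) (X : D) (hX : IsCpt.{w} X) : Q X := by
  classical
  let P : D → Prop := fun Y => ∀ (C : D), IsCpt.{w} C → ∀ φ : C ⟶ Y, Fac Q φ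
  have hP : P X := by
    refine prop_of_generates.{w} E hc hg hs P ?_ ?_ ?_ ?_ X
    · -- isomorphisms
      intro Y Y' e hY C hC φ
      have := (hY C hC (φ ≫ e.inv)).comp_right e.hom
      simpa using this
    · -- cones
      intro T hT h₁ h₂ C hC φ
      -- step 1
      let e : (shiftFunctor D (1 : ℤ)).obj ((shiftFunctor D (-1 : ℤ)).obj C) ≅ C :=
        (shiftFunctorCompIsoId D (-1 : ℤ) 1 (by simp)).app C
      let ψ : (shiftFunctor D (-1 : ℤ)).obj C ⟶ T.obj₁ :=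
        (shiftFunctor D (1 : ℤ)).preimage (e.hom ≫ φ ≫ T.mor₃)
      have hψ : (shiftFunctor D (1 : ℤ)).map ψ = e.hom ≫ φ ≫ T.mor₃ := Functor.map_preimage _ _
      obtain ⟨E₁, hE₁, g, b, hgb⟩ := h₁ _ (hC.shift (-1)) ψ
      let α : C ⟶ (shiftFunctor D (1 : ℤ)).obj E₁ := e.inv ≫ (shiftFunctor D (1 : ℤ)).map g
      have hαb : φ ≫ T.mor₃ = α ≫ (shiftFunctor D (1 : ℤ)).map b := by
        dsimp only [α]
        rw [Category.assoc, ← Functor.map_comp, hgb, hψ, Iso.inv_hom_id_assoc]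
      -- step 2
      obtain ⟨C', v, u, hT₁⟩ := distinguished_cocone_triangle₂ α
      have hC' : IsCpt.{w} C' := IsCpt.ext₂ _ hT₁ (hQc _ hE₁) hC
      -- step 3
      obtain ⟨β, hβ₁, hβ₂⟩ : ∃ β : C' ⟶ T.obj₂, v ≫ β = b ≫ T.mor₁ ∧ u ≫ φ = β ≫ T.mor₂ :=
        complete_distinguished_triangle_morphism₂ _ _ hT₁ hT b φ hαb.symm
      -- step 4
      obtain ⟨E₂, hE₂, g₂, h₂', hgh₂⟩ := h₂ C' hC' β
      -- step 5
      obtain ⟨E₃, p, q, hT₃⟩ := distinguished_cocone_triangle (v ≫ g₂)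
      have hE₃ : Q E₃ := Q.ext_of_isTriangulatedClosed₃ _ hT₃ hE₁ hE₂
      -- step 6
      obtain ⟨c, hc₁, hc₂⟩ : ∃ c : C ⟶ E₃, u ≫ c = g₂ ≫ p ∧
          α ≫ (shiftFunctor D (1 : ℤ)).map (𝟙 E₁) = c ≫ q :=
        complete_distinguished_triangle_morphism _ _ hT₁ hT₃ (𝟙 E₁) g₂
          (show v ≫ g₂ = 𝟙 E₁ ≫ v ≫ g₂ from (Category.id_comp _).symm)
      obtain ⟨d, hd₁, hd₂⟩ : ∃ d : E₃ ⟶ T.obj₃, p ≫ d = h₂' ≫ T.mor₂ ∧
          q ≫ (shiftFunctor D (1 : ℤ)).map b = d ≫ T.mor₃ :=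
        complete_distinguished_triangle_morphism _ _ hT₃ hT b h₂'
          (show (v ≫ g₂) ≫ h₂' = b ≫ T.mor₁ by rw [Category.assoc, hgh₂, hβ₁])
      -- step 7
      have hdiff : (φ - c ≫ d) ≫ T.mor₃ = 0 := by
        rw [Preadditive.sub_comp, Category.assoc, ← hd₂, ← Category.assoc, ← hc₂, hαb]
        simp
      obtain ⟨δ, hδ⟩ : ∃ δ : C ⟶ T.obj₂, φ - c ≫ d = δ ≫ T.mor₂ :=
        Triangle.coyoneda_exact₃ _ hT (φ - c ≫ d) hdiff
      -- step 8
      have h1 : Fac Q (c ≫ d) := ⟨E₃, hE₃, c, d, rfl⟩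
      have h2 : Fac Q (δ ≫ T.mor₂) := (h₂ C hC δ).comp_right T.mor₂
      have : φ = c ≫ d + δ ≫ T.mor₂ := by rw [← hδ]; abel
      rw [this]
      exact h1.add h2
    · -- coproducts
      intro J Y hY C hC φ
      obtain ⟨s, ψ, hψ⟩ := hC J Y φ
      rw [hψ]
      exact fac_sum s _ (fun j _ => (hY j C hC (ψ j)).comp_right (Sigma.ι Y j))
    · -- generators
      intro i m C hC φ
      exact ⟨_, Q.le_shift m _ (hE i), φ, 𝟙 _, Category.comp_id _⟩
  obtain ⟨E', hE', g, h, hgh⟩ := hP X hX (𝟙 X)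
  exact Q.prop_of_retract ⟨g, h, hgh⟩ hE'

end Groth.Agent.Lib.Helper46.LocGenThick
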