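import Mathlib
import Groth.Agent.Lib.Helper8.PCL2
import Groth.Agent.Lib.Helper12.DerCAFinite

/-!
# More on pseudo-coherent ring maps / morphisms (on top of helper8 `PCL` and helper12 `ResPC`)

* `pch_srcAway` : `PCH` is stable under precomposition with localizations away from an element.
* `pch_cancel` : `R → A` and `R → A → B` pseudo-coherent ⇒ `A → B` pseudo-coherent.
* `pch_of_flat_fp` : flat ring maps of finite presentation are pseudo-coherent.
* `pch_iff_resPC_of_finite` : for a finite ring map `φ : A → B`, `φ` is pseudo-coherent iff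
  `B` is a pseudo-coherent `A`-module.
* `pcMor_iff_exists` : local characterisation of pseudo-coherent morphisms.
* `isPseudoCoherentMor_of_comp` : cancellation for morphisms.
-/

set_option autoImplicit false
set_option linter.style.haveILetI false
universe u
attribute [local instance] HasDerivedCategory.standard
open CategoryTheory AlgebraicGeometry

namespace Groth.Agent.Lib.Helper46.PCMorExtra

open Groth.Agent.Lib.Helper12 DRing Groth.Agent.Lib.Helper8.PCoh Groth.Agent.Lib.Helper8.PCL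

section ringhom
variable {R A B : Type u} [CommRing R] [CommRing A] [CommRing B]

theorem pch_srcAway : RingHom.StableUnderCompositionWithLocalizationAwaySource @PCH := by
  intro R S T _ _ _ _ r _ f hf
  exact pch_comp _ f (pch_away r S) hf

theorem pch_cancel (φ : R →+* A) (ψ : A →+* B) (hφ : PCH φ) (h : PCH (ψ.comp φ)) : PCH ψ := by
  letI := φ.toAlgebra
  letI := ψ.toAlgebra
  letI := (ψ.comp φ).toAlgebra
  haveI : IsScalarTower R A B := .of_algebraMap_eq' rfl
  obtain ⟨hft1, h1⟩ := pc_iff.1 hφ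
  obtain ⟨hft, h2⟩ := pc_iff.1 h
  haveI := hft1
  haveI := hft
  haveI : Algebra.FiniteType A B := Algebra.FiniteType.of_restrictScalars_finiteType R A B
  refine pc_iff.2 ⟨inferInstance, fun m => ?_⟩
  exact (isRelPseudoCoherent_iff_of_pseudoCoherent_intermediate h1 _ m).2 (h2 m)

theorem pch_of_flat_fp (ψ : A →+* B) (h1 : ψ.Flat) (h2 : ψ.FinitePresentation) : PCH ψ := by
  letI := ψ.toAlgebra
  haveI : Module.Flat A B := h1
  haveI : Algebra.FinitePresentation A B := h2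
  have H : Groth.Agent.Lib.Helper8.FlatRes.Descent9456.{u} :=
    fun R _ S _ _ _ M _ _ _ _ _ _ => Groth.Agent.S9456.result R S M
  exact (isPerfectHom_of_flat_fp H A B).1

theorem pch_id (A : Type u) [CommRing A] : MoreMor.IsPseudoCoherentHom A A :=
  pch_algebraMap.1 (pch_of_bijective (RingHom.id A) Function.bijective_id)

theorem pch_iff_resPC_of_finite (φ : A →+* B) (hfin : φ.Finite) : PCH φ ↔ ResPC φ := by
  letI := φ.toAlgebra
  haveI : Module.Finite A B := hfin
  haveI : Algebra.FiniteType A B := inferInstance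
  have key : ∀ m : ℤ, DerCA.IsRelPseudoCoherent A B m (Dual.inD B (ModuleCat.of B B)) ↔
      IsPseudoCoherent A m (Dual.inD A ((resSc φ).obj (ModuleCat.of B B))) := by
    intro m
    rw [isRelPseudoCoherent_iff_restrict_of_finite (R := A) (A := A) (B := B),
      isRelPseudoCoherent_iff_isPseudoCoherent_of_isPseudoCoherentHom (pch_id A)]
    exact ⟨isPseudoCoherent_of_iso' (restrictD_inD φ (ModuleCat.of B B)),
      isPseudoCoherent_of_iso' (restrictD_inD φ (ModuleCat.of B B)).symm⟩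
  constructor
  · intro h m
    exact (key m).1 ((pc_iff.1 h).2 m)
  · intro h
    exact pc_iff.2 ⟨inferInstance, fun m => (key m).2 (h m)⟩

end ringhom

section scheme

theorem pcMor_iff_exists {X S : Scheme.{u}} (f : X ⟶ S) :
    MoreMor.IsPseudoCoherentMor f ↔ ∀ x : X, ∃ (U : X.Opens) (V : S.Opens) (hUV : U ≤ f ⁻¹ᵁ V),
      IsAffineOpen U ∧ IsAffineOpen V ∧ x ∈ U ∧ PCH (f.appLE V U hUV).hom := by
  rw [← pcMor_iff, HasRingHomProperty.iff_exists_appLE (P := pcMor) pch_srcAway]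
  constructor
  · intro h x
    obtain ⟨U, V, hx, e, hQ⟩ := h x
    exact ⟨V.1, U.1, e, V.2, U.2, hx, hQ⟩
  · intro h x
    obtain ⟨U, V, hUV, hU, hV, hx, hQ⟩ := h x
    exact ⟨⟨V, hV⟩, ⟨U, hU⟩, hx, hUV, hQ⟩

theorem isPseudoCoherentMor_of_comp {X Y S : Scheme.{u}} (f : X ⟶ Y) (g : Y ⟶ S)
    (hX : MoreMor.IsPseudoCoherentMor (f ≫ g)) (hY : MoreMor.IsPseudoCoherentMor g) :
    MoreMor.IsPseudoCoherentMor f := by
  rw [pcMor_iff_exists]
  intro x
  obtain ⟨W, hW, hxW, -⟩ := TopologicalSpace.Opens.isBasis_iff_nbhd.mp S.isBasis_affineOpens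
    (TopologicalSpace.Opens.mem_top (g (f x)))
  obtain ⟨V, hV, hxV, hVW⟩ := TopologicalSpace.Opens.isBasis_iff_nbhd.mp Y.isBasis_affineOpens
    (show f x ∈ g ⁻¹ᵁ W from hxW)
  obtain ⟨U, hU, hxU, hUV⟩ := TopologicalSpace.Opens.isBasis_iff_nbhd.mp X.isBasis_affineOpens
    (show x ∈ f ⁻¹ᵁ V from hxV)
  refine ⟨U, V, hUV, hU, hV, hxU, ?_⟩
  have hUW : U ≤ (f ≫ g) ⁻¹ᵁ W := fun y hy => hVW (hUV hy)
  have h1 : PCH ((f ≫ g).appLE W U hUW).hom := hX U W hU hW hUW
  have h2 : PCH (g.appLE W V hVW).hom := hY V W hV hW hVW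
  have e : (f ≫ g).appLE W U hUW = g.appLE W V hVW ≫ f.appLE V U hUV :=
    (Scheme.Hom.appLE_comp_appLE f g W V U hVW hUV).symm
  rw [e] at h1
  exact pch_cancel _ _ h2 h1

theorem isPseudoCoherentMor_iff_of_isFinite {X S : Scheme.{u}} (f : X ⟶ S) [IsFinite f] :
    MoreMor.IsPseudoCoherentMor f ↔ ∀ (V : S.Opens), IsAffineOpen V → ResPC (f.app V).hom := by
  constructor
  · intro hf V hV
    have h := hf (f ⁻¹ᵁ V) V (hV.preimage f) hV le_rfl
    have h' : PCH (f.appLE V (f ⁻¹ᵁ V) le_rfl).hom := h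
    rw [Scheme.Hom.appLE_eq_app] at h'
    exact (pch_iff_resPC_of_finite _ (f.finite_app V hV)).1 h'
  · intro h U V hU hV hUV
    show PCH (f.appLE V U hUV).hom
    have h1 : PCH (f.app V).hom := (pch_iff_resPC_of_finite _ (f.finite_app V hV)).2 (h V hV)
    have hW : IsAffineOpen (f ⁻¹ᵁ V) := hV.preimage f
    have e0 : U ≤ (𝟙 X : X ⟶ X) ⁻¹ᵁ (f ⁻¹ᵁ V) := by simpa using hUV
    have hfl : RingHom.Flat ((𝟙 X : X ⟶ X).appLE (f ⁻¹ᵁ V) U e0).hom :=
      HasRingHomProperty.appLE (P := @Flat) (𝟙 X) inferInstance ⟨_, hW⟩ ⟨U, hU⟩ e0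
    have hfp : RingHom.FinitePresentation ((𝟙 X : X ⟶ X).appLE (f ⁻¹ᵁ V) U e0).hom :=
      HasRingHomProperty.appLE (P := @LocallyOfFinitePresentation) (𝟙 X) inferInstance
        ⟨_, hW⟩ ⟨U, hU⟩ e0
    have h2 : PCH ((𝟙 X : X ⟶ X).appLE (f ⁻¹ᵁ V) U e0).hom := pch_of_flat_fp _ hfl hfp
    have e : f.appLE V U hUV = f.app V ≫ (𝟙 X : X ⟶ X).appLE (f ⁻¹ᵁ V) U e0 := by
      simp only [Scheme.Hom.appLE, Scheme.Hom.id_app]
      erw [Category.id_comp]
      rfl
    rw [e]
    exact pch_comp _ _ h1 h2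

end scheme

end Groth.Agent.Lib.Helper46.PCMorExtra
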