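import Mathlib
import Groth.Agent.Lib.Helper46.PCMorExtra

/-!
# Flat base change of pseudo-coherent ring maps and morphisms

* `resPC_of_isPushout_flat` : flat base change of `ResPC`.
* `isPseudoCoherentHom_of_isPushout_flat` : `A → B` pseudo-coherent, `A → A'` flat,
  `B' = A' ⊗_A B` ⇒ `A' → B'` pseudo-coherent.
* `isPseudoCoherentMor_flat_baseChange` : pseudo-coherent morphisms are stable under flat base
  change.
-/

set_option autoImplicit false
set_option linter.style.haveILetI false
universe u
attribute [local instance] HasDerivedCategory.standard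
open CategoryTheory AlgebraicGeometry

namespace Groth.Agent.Lib.Helper46.PCMorBC

open Groth.Agent.Lib.Helper12 DRing Groth.Agent.Lib.Helper8.PCoh Groth.Agent.Lib.Helper8.PCL
  Groth.Agent.Lib.Helper46.PCMorExtra

section BC

variable {P A P' A' : Type u} [CommRing P] [CommRing A] [CommRing P'] [CommRing A']
  [Algebra P A] [Algebra P P'] [Algebra P' A'] [Algebra A A'] [Algebra P A']
  [IsScalarTower P A A'] [IsScalarTower P P' A']

/-- flat base change of `ResPC` -/
theorem resPC_of_isPushout_flat [Algebra.IsPushout P P' A A'] [Module.Flat P P']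
    (hα : ResPC (algebraMap P A)) : ResPC (algebraMap P' A') := by
  intro m
  have h1 : IsPseudoCoherent P m (Dual.inD P A) :=
    isPseudoCoherent_of_iso' (inDMapIso (resScAlgebraMapIso P A)) (hα m)
  have hbc := (inferInstance : Algebra.IsPushout P P' A A').out
  let l := hbc.equiv
  have h2 := isPseudoCoherent_extScD (B := P') m (Dual.inD P A) h1
  have h3 := isPseudoCoherent_of_iso' (extScD_inD A ≪≫ inDMapIso l.toModuleIso) h2
  exact isPseudoCoherent_of_iso' (inDMapIso (resScAlgebraMapIso P' A')).symm h3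

end BC

section Hom

variable {A B A' B' : Type u} [CommRing A] [CommRing B] [CommRing A'] [CommRing B']
  [Algebra A B] [Algebra A A'] [Algebra A' B'] [Algebra B B'] [Algebra A B']
  [IsScalarTower A B B'] [IsScalarTower A A' B']

set_option maxHeartbeats 400000 in
theorem isPseudoCoherentHom_of_isPushout_flat [Algebra.IsPushout A B A' B'] [Module.Flat A A']
    (h : MoreMor.IsPseudoCoherentHom A B) : MoreMor.IsPseudoCoherentHom A' B' := by
  obtain ⟨n, α, hα, hres⟩ := exists_resPC_of_isPseudoCoherentHom h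
  let β : B →+* B' := algebraMap B B'
  let α' : MvPolynomial (Fin n) A' →ₐ[A'] B' :=
    MvPolynomial.aeval (fun i => β (α (MvPolynomial.X i)))
  have hcomp : ∀ p : MvPolynomial (Fin n) A,
      α' (MvPolynomial.map (algebraMap A A') p) = β (α p) := by
    intro p
    induction p using MvPolynomial.induction_on with
    | C a =>
      simp only [MvPolynomial.map_C, α', MvPolynomial.aeval_C, β]
      rw [← MvPolynomial.algebraMap_eq, AlgHom.commutes,
        ← IsScalarTower.algebraMap_apply A A' B', ← IsScalarTower.algebraMap_apply A B B']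
    | add p q hp hq => simp only [map_add, hp, hq]
    | mul_X p i hp =>
      simp only [map_mul, hp, MvPolynomial.map_X]
      congr 1
      simp [α']
  letI iPB : Algebra (MvPolynomial (Fin n) A) B := (α : MvPolynomial (Fin n) A →+* B).toAlgebra
  letI iP'B' : Algebra (MvPolynomial (Fin n) A') B' :=
    (α' : MvPolynomial (Fin n) A' →+* B').toAlgebra
  letI iPB' : Algebra (MvPolynomial (Fin n) A) B' :=
    (β.comp (α : MvPolynomial (Fin n) A →+* B)).toAlgebra
  letI iPP' : Algebra (MvPolynomial (Fin n) A) (MvPolynomial (Fin n) A') :=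
    MvPolynomial.algebraMvPolynomial
  haveI t1 : IsScalarTower (MvPolynomial (Fin n) A) B B' := .of_algebraMap_eq' rfl
  haveI t2 : IsScalarTower (MvPolynomial (Fin n) A) (MvPolynomial (Fin n) A') B' :=
    .of_algebraMap_eq (fun p => (hcomp p).symm)
  haveI t3 : IsScalarTower A' (MvPolynomial (Fin n) A') B' :=
    .of_algebraMap_eq (fun a => (α'.commutes a).symm)
  haveI t5 : IsScalarTower A (MvPolynomial (Fin n) A) B :=
    .of_algebraMap_eq (fun a => (α.commutes a).symm)
  haveI t6 : IsScalarTower A (MvPolynomial (Fin n) A) B' := .of_algebraMap_eq (fun a => by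
    show algebraMap A B' a = β (α (algebraMap A _ a))
    rw [AlgHom.commutes, ← IsScalarTower.algebraMap_apply A B B'])
  haveI t4 : IsScalarTower A (MvPolynomial (Fin n) A') B' := .of_algebraMap_eq (fun a => by
    show algebraMap A B' a = α' (algebraMap A _ a)
    rw [IsScalarTower.algebraMap_apply A A' (MvPolynomial (Fin n) A'), AlgHom.commutes,
      ← IsScalarTower.algebraMap_apply A A' B'])
  haveI po : Algebra.IsPushout (MvPolynomial (Fin n) A) B (MvPolynomial (Fin n) A') B' :=
    (Algebra.IsPushout.comp_iff A (MvPolynomial (Fin n) A) A' (S' := MvPolynomial (Fin n) A')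
      (T := B) (T' := B')).1 inferInstance
  haveI fl : Module.Flat (MvPolynomial (Fin n) A) (MvPolynomial (Fin n) A') :=
    Module.Flat.isBaseChange (R := A) (S := MvPolynomial (Fin n) A) (M := A')
      (MvPolynomial (Fin n) A')
      (inferInstance : Algebra.IsPushout A (MvPolynomial (Fin n) A) A' (MvPolynomial (Fin n) A')).out
  haveI po' : Algebra.IsPushout (MvPolynomial (Fin n) A) (MvPolynomial (Fin n) A') B B' := po.symm
  have hres' : ResPC (algebraMap (MvPolynomial (Fin n) A') B') :=
    resPC_of_isPushout_flat (P := MvPolynomial (Fin n) A) (A := B)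
      (P' := MvPolynomial (Fin n) A') (A' := B') hres
  have hsurj : Function.Surjective α' := by
    intro y
    have hb := (inferInstance : Algebra.IsPushout A B A' B').symm.out
    -- `hb : IsBaseChange A' (B →ₗ[A] B')`
    refine hb.inductionOn y (fun y => y ∈ α'.range) (Subalgebra.zero_mem _) ?_ ?_ ?_
    · intro b
      obtain ⟨p, rfl⟩ := hα b
      exact ⟨MvPolynomial.map (algebraMap A A') p, hcomp p⟩
    · intro a' y hy
      exact Subalgebra.smul_mem _ hy a'
    · intro y z hy hz
      exact Subalgebra.add_mem _ hy hz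
  exact isPseudoCoherentHom_iff.2 ⟨n, α', hsurj, hres'⟩

end Hom

section Scheme

theorem pch_of_isPushout {A B A' B' : CommRingCat.{u}} {φ : A ⟶ B} {ρ : A ⟶ A'} {β : B ⟶ B'}
    {φ' : A' ⟶ B'} (hpo : IsPushout φ ρ β φ') (h : PCH φ.hom) (hfl : ρ.hom.Flat) :
    PCH φ'.hom := by
  letI : Algebra A B := φ.hom.toAlgebra
  letI : Algebra A A' := ρ.hom.toAlgebra
  letI : Algebra A' B' := φ'.hom.toAlgebra
  letI : Algebra B B' := β.hom.toAlgebra
  letI : Algebra A B' := (β.hom.comp φ.hom).toAlgebra
  haveI : IsScalarTower A B B' := .of_algebraMap_eq' rfl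
  haveI : IsScalarTower A A' B' := .of_algebraMap_eq' (by
    show β.hom.comp φ.hom = φ'.hom.comp ρ.hom
    rw [← CommRingCat.hom_comp, ← CommRingCat.hom_comp, hpo.w])
  haveI : Algebra.IsPushout A B A' B' := CommRingCat.isPushout_iff_isPushout.mp hpo
  haveI : Module.Flat A A' := hfl
  exact isPseudoCoherentHom_of_isPushout_flat (A := A) (B := B) (A' := A') (B' := B') h

open TopologicalSpace in
theorem isPseudoCoherentMor_flat_baseChange {X S X' S' : Scheme.{u}} (f : X ⟶ S) (f' : X' ⟶ S')
    (g' : X' ⟶ X) (g : S' ⟶ S) [Flat g] (hc : IsPullback g' f' f g)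
    (hf : MoreMor.IsPseudoCoherentMor f) : MoreMor.IsPseudoCoherentMor f' := by
  rw [pcMor_iff_exists]
  intro x'
  obtain ⟨W, hW, hxW, -⟩ := Opens.isBasis_iff_nbhd.mp S.isBasis_affineOpens
    (Opens.mem_top (f (g' x')))
  have hx1 : g (f' x') ∈ W := by
    have : g (f' x') = f (g' x') := by
      rw [← Scheme.Hom.comp_apply, ← Scheme.Hom.comp_apply, hc.w]
    rw [this]
    exact hxW
  obtain ⟨W', hW', hxW', hW'W⟩ := Opens.isBasis_iff_nbhd.mp S'.isBasis_affineOpens
    (show f' x' ∈ g ⁻¹ᵁ W from hx1)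
  obtain ⟨U, hU, hxU, hUW⟩ := Opens.isBasis_iff_nbhd.mp X.isBasis_affineOpens
    (show g' x' ∈ f ⁻¹ᵁ W from hxW)
  have hU'aff : IsAffineOpen (g' ⁻¹ᵁ U ⊓ f' ⁻¹ᵁ W') := by
    haveI : IsAffine W := hW
    haveI : IsAffine W' := hW'
    haveI : IsAffine U := hU
    exact .of_isIso (Scheme.Hom.isPullback_resLE hc hW'W hUW rfl).isoPullback.hom
  have hpo := (isIso_pushoutSection_iff hc hW'W hUW rfl).mp
    (isIso_pushoutSection_of_isAffineOpen hc hW'W hUW rfl hW hW' hU)
  refine ⟨g' ⁻¹ᵁ U ⊓ f' ⁻¹ᵁ W', W', inf_le_right, hU'aff, hW', ⟨hxU, hxW'⟩, ?_⟩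
  have h0 : PCH (f.appLE W U hUW).hom := hf U W hU hW hUW
  have hfl : (g.appLE W W' hW'W).hom.Flat :=
    HasRingHomProperty.appLE (P := @Flat) g inferInstance ⟨W, hW⟩ ⟨W', hW'⟩ hW'W
  exact pch_of_isPushout hpo h0 hfl

end Scheme

end Groth.Agent.Lib.Helper46.PCMorBC
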