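import Groth.Agent.Lib.Helper46.TorAmpLocal
import Groth.Agent.Lib.Helper12.DRingFFDescent
import Groth.Agent.Lib.Helper36.LeftDerivedCompute

/-!
# Tor amplitude of a restriction is insensitive to faithfully flat base change upstairs (helper46)

Namespace `Groth.Agent.Lib.Helper46.TorAmpFFlat`.
-/

set_option autoImplicit false
universe u
open CategoryTheory CategoryTheory.Limits CochainComplex DerivedCategory MonoidalCategory
attribute [local instance] HasDerivedCategory.standard

namespace Groth.Agent.Lib.Helper46.TorAmpFFlat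

open Groth.Agent.Lib.Helper12 Groth.Agent.Lib.Helper46.TorAmpExact
  Groth.Agent.Lib.Helper46.TorAmpLocal

section FF

variable {A B : Type u} [CommRing A] [CommRing B] [Algebra A B]

/-- faithfully flat extension of scalars preserves and reflects exactness -/
lemma exactAt_extCx_iff [Module.FaithfullyFlat A B] (W : DRing.Cx A) (i : ℤ) :
    ((DTen.extCx (algebraMap A B)).obj W).ExactAt i ↔ W.ExactAt i := by
  rw [HomologicalComplex.exactAt_iff_isZero_homology,
    HomologicalComplex.exactAt_iff_isZero_homology]
  have e := (mapHCHomologyIso (extSc A B) i).app W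
  constructor
  · intro h
    exact isZero_of_isZero_extSc _ (h.of_iso e.symm)
  · intro h
    exact (extSc_isZero _ h).of_iso e

end FF

section Tower

variable {R A B : Type u} [CommRing R] [CommRing A] [CommRing B] [Algebra R A] [Algebra A B]
  [Algebra R B] [IsScalarTower R A B]

/-- restriction along a tower -/
noncomputable def resCompIso (Y : DRing.Cx B) :
    (DTen.resCx (algebraMap R B)).obj Y ≅
      (DTen.resCx (algebraMap R A)).obj ((DTen.resCx (algebraMap A B)).obj Y) :=
  HomologicalComplex.Hom.isoOfComponents (fun n =>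
    ModuleCat.restrictScalarsComp'App (algebraMap R A) (algebraMap A B) (algebraMap R B)
      (IsScalarTower.algebraMap_eq R A B) (Y.X n)) (fun i j _ => by ext y; rfl)

lemma exactAt_tensor_iff_of_faithfullyFlat [Module.FaithfullyFlat A B] (F : DRing.Cx R)
    (P : DRing.Cx A) (i : ℤ) :
    (F ⊗ (DTen.resCx (algebraMap R B)).obj ((DTen.extCx (algebraMap A B)).obj P)).ExactAt i ↔
      (F ⊗ (DTen.resCx (algebraMap R A)).obj P).ExactAt i := by
  rw [exactAt_iff_of_iso (whiskerLeftIso F
    (resCompIso (R := R) (A := A) ((DTen.extCx (algebraMap A B)).obj P))) i,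
    exactAt_proj_iff (algebraMap R A), exactAt_proj_iff (algebraMap A B),
    exactAt_proj_iff (algebraMap R A)]
  rw [← exactAt_extCx_iff (B := B) ((DTen.extCx (algebraMap R A)).obj F ⊗ P) i]
  exact (exactAt_iff_of_iso (show (DTen.extCx (algebraMap A B)).obj
      ((DTen.extCx (algebraMap R A)).obj F ⊗ P) ≅
    ((DTen.extCx (algebraMap A B)).obj ((DTen.extCx (algebraMap R A)).obj F)) ⊗
      ((DTen.extCx (algebraMap A B)).obj P) from
    DTen.extTenCxIso (algebraMap A B) ((DTen.extCx (algebraMap R A)).obj F) P) i).symm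

theorem hasTorAmplitudeIn_res_ext_iff [Module.FaithfullyFlat A B] (P : DRing.Cx A) (a b : ℤ) :
    DRing.HasTorAmplitudeIn R a b (DRing.toD ((DTen.resCx (algebraMap R A)).obj P)) ↔
      DRing.HasTorAmplitudeIn R a b (DRing.toD ((DTen.resCx (algebraMap R B)).obj
        ((DTen.extCx (algebraMap A B)).obj P))) := by
  constructor
  · intro h
    refine hasTorAmplitudeIn_of_exactAt _ a b (fun Q F hF f _ i hi => ?_)
    rw [exactAt_tensor_iff_of_faithfullyFlat]
    exact exactAt_of_hasTorAmplitudeIn _ a b h Q F hF f i hi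
  · intro h
    refine hasTorAmplitudeIn_of_exactAt _ a b (fun Q F hF f _ i hi => ?_)
    rw [← exactAt_tensor_iff_of_faithfullyFlat (B := B)]
    exact exactAt_of_hasTorAmplitudeIn _ a b h Q F hF f i hi

open Groth.Agent.Lib.Helper36.KP Groth.Agent.Lib.Helper36.LT in
/-- the statement for objects of `D(A)` -/
theorem hasTorAmplitudeIn_restrictD_iff [Module.FaithfullyFlat A B]
    [DRing.HasLBaseChange (algebraMap A B)] (K : Dual.D A) (a b : ℤ) :
    DRing.HasTorAmplitudeIn R a b ((DRing.restrictD (algebraMap R A)).obj K) ↔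
      DRing.HasTorAmplitudeIn R a b ((DRing.restrictD (algebraMap R B)).obj
        ((DRing.LBaseChange (algebraMap A B)).obj K)) := by
  obtain ⟨P, f, hf, hP, -⟩ := exists_resolution (Q.objPreimage K)
  haveI := hP
  haveI : IsIso (Q.map f) := by
    rw [isIso_Q_map_iff_quasiIso]
    exact hf
  let e : K ≅ DRing.toD P := (Q.objObjPreimageIso K).symm ≪≫ (asIso (Q.map f)).symm
  let e1 : (DRing.restrictD (algebraMap R A)).obj K ≅
      DRing.toD ((DTen.resCx (algebraMap R A)).obj P) :=
    (DRing.restrictD (algebraMap R A)).mapIso e ≪≫ (DTen.resFactors (algebraMap R A)).app P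
  let e2 : (DRing.restrictD (algebraMap R B)).obj ((DRing.LBaseChange (algebraMap A B)).obj K) ≅
      DRing.toD ((DTen.resCx (algebraMap R B)).obj ((DTen.extCx (algebraMap A B)).obj P)) :=
    (DRing.restrictD (algebraMap R B)).mapIso
      ((DRing.LBaseChange (algebraMap A B)).mapIso e ≪≫ lBaseChangeObjIso (algebraMap A B) P) ≪≫
      (DTen.resFactors (algebraMap R B)).app ((DTen.extCx (algebraMap A B)).obj P)
  constructor
  · intro h
    exact hasTorAmplitudeIn_of_iso e2.symm
      ((hasTorAmplitudeIn_res_ext_iff (B := B) P a b).1 (hasTorAmplitudeIn_of_iso e1 h))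
  · intro h
    exact hasTorAmplitudeIn_of_iso e1.symm
      ((hasTorAmplitudeIn_res_ext_iff (B := B) P a b).2 (hasTorAmplitudeIn_of_iso e2 h))

end Tower

end Groth.Agent.Lib.Helper46.TorAmpFFlat
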