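import Groth.Agent.Lib.Helper46.TorPrime
import Mathlib.Algebra.Category.ModuleCat.ChangeOfRings
import Mathlib.RingTheory.Flat.Stability
import Mathlib.LinearAlgebra.TensorProduct.Tower
import Mathlib.LinearAlgebra.TensorProduct.RightExactness
import Mathlib.Algebra.Homology.ShortComplex.ExactFunctor
import Mathlib.Algebra.Homology.ShortComplex.PreservesHomology
import Mathlib.Algebra.Homology.ShortComplex.ModuleCat

/-!
# Base change for `Tor` (helper46)

`bc A A' : ModuleCat A ⥤ ModuleCat A'`, `M ↦ A' ⊗[A] M` (with Mathlib's `TensorProduct` module structure),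
`rs A A'` restriction of scalars.
-/

set_option autoImplicit false
set_option backward.isDefEq.respectTransparency false
set_option backward.defeqAttrib.useBackward true

namespace Groth.Agent.Lib.Helper46.TorBaseChange

open CategoryTheory Limits MonoidalCategory Category
open Groth.Agent.Lib.Helper46 Groth.Agent.Lib.Helper46.TorBalance

universe u

variable (A A' : Type u) [CommRing A] [CommRing A'] [Algebra A A']

/-- base change `M ↦ A' ⊗[A] M` -/
noncomputable def bc : ModuleCat.{u} A ⥤ ModuleCat.{u} A' where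
  obj M := ModuleCat.of A' (TensorProduct A A' M)
  map g := ModuleCat.ofHom (g.hom.baseChange A')
  map_id M := by ext : 1; simp
  map_comp f g := by ext : 1; simp [LinearMap.baseChange_comp]

instance : (bc A A').Additive where
  map_add := by intros; ext : 1; simp [bc, LinearMap.baseChange_add]

/-- restriction of scalars along `A → A'` -/
noncomputable abbrev rs : ModuleCat.{u} A' ⥤ ModuleCat.{u} A :=
  ModuleCat.restrictScalars.{u} (algebraMap A A')

/-- restriction of scalars of `of A' X` is `of A X` when the actions are compatible -/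
noncomputable def rsOfIso (X : Type u) [AddCommGroup X] [Module A X] [Module A' X]
    [IsScalarTower A A' X] : (rs A A').obj (ModuleCat.of A' X) ≅ ModuleCat.of A X :=
  let e : ((rs A A').obj (ModuleCat.of A' X)) ≃ₗ[A] X :=
    { toFun := fun x => x
      invFun := fun x => x
      left_inv := fun _ => rfl
      right_inv := fun _ => rfl
      map_add' := fun _ _ => rfl
      map_smul' := fun a x => algebraMap_smul A' a (show X from x) }
  e.toModuleIso

variable {A A'}

/-- an isomorphism `X ≅ rs Y` gives a bijective semilinear map -/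
lemma exists_semilinear_bijective {X : ModuleCat.{u} A} {Y : ModuleCat.{u} A'}
    (ι : X ≅ (rs A A').obj Y) : ∃ φ : X →ₛₗ[algebraMap A A'] Y, Function.Bijective φ :=
  ⟨{ toFun := fun x => ι.hom x
     map_add' := fun x y => map_add ι.hom.hom x y
     map_smul' := fun a x => ι.hom.hom.map_smul a x },
   ConcreteCategory.bijective_of_isIso ι.hom⟩

variable (A A')

/-- `bc` is right exact -/
lemma bc_map_exact_epi (S : ShortComplex (ModuleCat.{u} A)) (hS : S.Exact) (hg : Epi S.g) :
    (S.map (bc A A')).Exact ∧ Epi ((bc A A').map S.g) := by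
  rw [ShortComplex.ShortExact.moduleCat_exact_iff_function_exact] at hS
  rw [ModuleCat.epi_iff_surjective] at hg
  constructor
  · rw [ShortComplex.ShortExact.moduleCat_exact_iff_function_exact]
    have := lTensor_exact A' hS hg
    intro y
    exact this y
  · rw [ModuleCat.epi_iff_surjective]
    exact LinearMap.lTensor_surjective A' hg

/-- `bc` is exact when `A'` is flat -/
lemma bc_map_shortExact [Module.Flat A A'] (S : ShortComplex (ModuleCat.{u} A))
    (hS : S.ShortExact) : (S.map (bc A A')).ShortExact := by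
  have h := bc_map_exact_epi A A' S hS.exact hS.epi_g
  have hm : Mono ((bc A A').map S.f) := by
    rw [ModuleCat.mono_iff_injective]
    exact Module.Flat.lTensor_preserves_injective_linearMap (M := A') S.f.hom
      ((ModuleCat.mono_iff_injective _).mp hS.mono_f)
  exact { exact := h.1, mono_f := hm, epi_g := h.2 }

noncomputable instance [Module.Flat A A'] : (bc A A').PreservesHomology :=
  ((Functor.exact_tfae (bc A A')).out 0 2).mp (bc_map_shortExact A A')

/-- `bc ⋙ rs ≅ (A' ⊗[A] -)` -/
noncomputable def n1 : bc A A' ⋙ rs A A' ≅ tensorLeft (ModuleCat.of A A') :=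
  NatIso.ofComponents (fun M => rsOfIso A A' (TensorProduct A A' M)) (by
    intro M N g
    ext x
    rfl)

/-- `bc ⋙ rs ≅ (- ⊗[A] A')` -/
noncomputable def n1' : bc A A' ⋙ rs A A' ≅ tensorRight (ModuleCat.of A A') :=
  n1 A A' ≪≫ BraidedCategory.tensorLeftIsoTensorRight _

variable (K : ChainComplex (ModuleCat.{u} A) ℕ)

/-- base change of a complex -/
noncomputable def bcK : ChainComplex (ModuleCat.{u} A') ℕ :=
  ((bc A A').mapHomologicalComplex _).obj K

/-- `rs (bc K) ≅ K ⊗ A'` -/
noncomputable def rsBcIso :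
    ((rs A A').mapHomologicalComplex _).obj (bcK A A' K) ≅ (tensK K).obj (ModuleCat.of A A') :=
  (NatIso.mapHomologicalComplex (n1' A A') _).app K

lemma bcK_exactAt (j : ℕ) (h : IsZero ((Hfun K j).obj (ModuleCat.of A A'))) :
    (bcK A A' K).ExactAt j := by
  have h1 : (((rs A A').mapHomologicalComplex _).obj (bcK A A' K)).ExactAt j := by
    rw [HomologicalComplex.exactAt_iff_isZero_homology]
    exact h.of_iso ((HomologicalComplex.homologyFunctor _ _ j).mapIso (rsBcIso A A' K))
  exact (ShortComplex.exact_map_iff_of_faithful ((bcK A A' K).sc j) (rs A A')).mp h1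

lemma bcK_flat (hK : ∀ i, Module.Flat A (K.X i)) (i : ℕ) : Module.Flat A' ((bcK A A' K).X i) := by
  haveI := hK i
  change Module.Flat A' (TensorProduct A A' (K.X i))
  infer_instance

/-- `coker (bc P₁ → bc P₀) ≅ bc M` for the chosen projective resolution `P` of `M` -/
noncomputable def bcOpcyclesIso (M : ModuleCat.{u} A) :
    (bcK A A' (TorLES2.resK M)).opcycles 0 ≅ (bc A A').obj M := by
  let R := projectiveResolution M
  let S : ShortComplex (ModuleCat.{u} A) :=
    ShortComplex.mk (R.complex.d 1 0) (R.π.f 0) R.complex_d_comp_π_f_zero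
  have hS : S.Exact := S.exact_of_g_is_cokernel R.isColimitCokernelCofork
  have hg : Epi S.g := (inferInstance : Epi (R.π.f 0))
  have h := bc_map_exact_epi A A' S hS hg
  haveI : Epi (S.map (bc A A')).g := h.2
  exact IsColimit.coconePointUniqueUpToIso
    ((bcK A A' (TorLES2.resK M)).opcyclesIsCokernel 1 0 (by simp)) h.1.gIsCokernel

/-- Tor-independent base change of the resolution: if `Tor_q^A(M, A') = 0` for `q > 0` then
`bc (resK M)` is a flat resolution of `bc M`. -/
noncomputable def torBcIso (M : ModuleCat.{u} A)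
    (hM : ∀ q : ℕ, IsZero (((Tor (ModuleCat.{u} A) (q + 1)).obj M).obj (ModuleCat.of A A'))) (n : ℕ) :
    (Tor (ModuleCat.{u} A') n).obj ((bc A A').obj M) ≅ Hfun (bcK A A' (TorLES2.resK M)) n :=
  TorLES2.torIsoHfunOfRes (bcK A A' (TorLES2.resK M))
    (bcK_flat A A' _ (TorLES2.resK_flat M))
    (fun q => bcK_exactAt A A' _ (q + 1)
      ((hM q).of_iso ((TorLES2.torIsoHfun M (q + 1)).app (ModuleCat.of A A')).symm))
    (bcOpcyclesIso A A' M) n

section N2

variable (Q' : Type u) [AddCommGroup Q'] [Module A' Q'] [Module A Q'] [IsScalarTower A A' Q']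

/-- component of `n2` -/
noncomputable def n2App (M : ModuleCat.{u} A) :
    (rs A A').obj ((bc A A').obj M ⊗ ModuleCat.of A' Q') ≅ M ⊗ ModuleCat.of A Q' :=
  (rs A A').mapIso (β_ ((bc A A').obj M) (ModuleCat.of A' Q')) ≪≫
    (rs A A').mapIso
      (TensorProduct.AlgebraTensorModule.cancelBaseChange A A' A' Q' M).toModuleIso ≪≫
    rsOfIso A A' (TensorProduct A Q' M) ≪≫ β_ (ModuleCat.of A Q') M

lemma n2App_hom_apply (M : ModuleCat.{u} A) (a' : A') (m : M) (q : Q') :
    (n2App A A' Q' M).hom.hom ((a' ⊗ₜ[A] m) ⊗ₜ[A'] q : TensorProduct A' (TensorProduct A A' M) Q') =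
      (m ⊗ₜ[A] (a' • q) : TensorProduct A M Q') := rfl

/-- `(A' ⊗[A] -) ⊗[A'] Q' ≅ - ⊗[A] Q'` after restriction of scalars -/
noncomputable def n2 : bc A A' ⋙ tensorRight (ModuleCat.of A' Q') ⋙ rs A A' ≅
    tensorRight (ModuleCat.of A Q') :=
  NatIso.ofComponents (fun M => n2App A A' Q' M) (by
    intro M N g
    apply ModuleCat.hom_ext
    apply LinearMap.ext
    intro x
    induction x using TensorProduct.induction_on with
    | zero => simp
    | tmul y q =>
      induction y using TensorProduct.induction_on with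
      | zero => simp
      | tmul a' m => rfl
      | add y₁ y₂ h₁ h₂ => rw [TensorProduct.add_tmul, map_add, map_add, h₁, h₂]
    | add x₁ x₂ h₁ h₂ => rw [map_add, map_add, h₁, h₂])

/-- Tor-independent base change: if `Tor_q^A(M, A') = 0` for `q > 0` then
`Tor_n^A(M, Q') ≅ Tor_n^{A'}(A' ⊗[A] M, Q')` (as `A`-modules) for every `A'`-module `Q'`. -/
noncomputable def torBaseChangeIso (M : ModuleCat.{u} A)
    (hM : ∀ q : ℕ, IsZero (((Tor (ModuleCat.{u} A) (q + 1)).obj M).obj (ModuleCat.of A A'))) (n : ℕ) :
    ((Tor (ModuleCat.{u} A) n).obj M).obj (ModuleCat.of A Q') ≅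
      (rs A A').obj (((Tor (ModuleCat.{u} A') n).obj ((bc A A').obj M)).obj (ModuleCat.of A' Q')) :=
  (TorLES2.torIsoHfun M n).app (ModuleCat.of A Q') ≪≫
  (HomologicalComplex.homologyFunctor _ _ n).mapIso
    ((NatIso.mapHomologicalComplex (n2 A A' Q') _).app (TorLES2.resK M)).symm ≪≫
  (((tensK (bcK A A' (TorLES2.resK M))).obj (ModuleCat.of A' Q')).sc n).mapHomologyIso (rs A A') ≪≫
  (rs A A').mapIso ((torBcIso A A' M hM n).app (ModuleCat.of A' Q')).symm

end N2

section Flat

/-- base change is monoidal: `A' ⊗ (M ⊗ Q) ≅ (A' ⊗ M) ⊗[A'] (A' ⊗ Q)`, naturally in `M` -/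
noncomputable def n3 (Q : ModuleCat.{u} A) :
    tensorRight Q ⋙ bc A A' ≅ bc A A' ⋙ tensorRight ((bc A A').obj Q) :=
  NatIso.ofComponents
    (fun M => (TensorProduct.AlgebraTensorModule.distribBaseChange A A' M Q).toModuleIso) (by
    intro M N g
    apply ModuleCat.hom_ext
    apply LinearMap.ext
    intro x
    induction x using TensorProduct.induction_on with
    | zero => simp
    | tmul a y =>
      induction y using TensorProduct.induction_on with
      | zero => simp
      | tmul m q => rfl
      | add y₁ y₂ h₁ h₂ => rw [TensorProduct.tmul_add, map_add, map_add, h₁, h₂]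
    | add x₁ x₂ h₁ h₂ => rw [map_add, map_add, h₁, h₂])

/-- Flat base change for Tor: `A' ⊗[A] Tor_n^A(P, Q) ≅ Tor_n^{A'}(A' ⊗ P, A' ⊗ Q)` for `A'` flat. -/
noncomputable def torFlatBaseChangeIso [Module.Flat A A'] (P Q : ModuleCat.{u} A) (n : ℕ) :
    (bc A A').obj (((Tor (ModuleCat.{u} A) n).obj P).obj Q) ≅
      ((Tor (ModuleCat.{u} A') n).obj ((bc A A').obj P)).obj ((bc A A').obj Q) :=
  (bc A A').mapIso ((TorLES2.torIsoHfun P n).app Q) ≪≫
  ((((tensK (TorLES2.resK P)).obj Q).sc n).mapHomologyIso (bc A A')).symm ≪≫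
  (HomologicalComplex.homologyFunctor _ _ n).mapIso
    ((NatIso.mapHomologicalComplex (n3 A A' Q) _).app (TorLES2.resK P)) ≪≫
  ((torBcIso A A' P
    (fun q => TorLES.isZero_tor_succ_of_flat_right (ModuleCat.of A A') q P) n).app
      ((bc A A').obj Q)).symm

end Flat

end Groth.Agent.Lib.Helper46.TorBaseChange
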