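import Groth.Agent.Lib.Helper46.DTenRelProj
import Groth.Prelude.Def_TrivBC

set_option autoImplicit false
set_option backward.isDefEq.respectTransparency false
universe u
open CategoryTheory CategoryTheory.Limits MonoidalCategory TensorProduct
attribute [local instance] HasDerivedCategory.standard

namespace Groth.Agent.Lib.Helper46.SqTauIso

open Groth.Agent.Lib.Helper46.DTenRelProj

section General

variable {R A R' A' : Type u} [CommRing R] [CommRing A] [CommRing R'] [CommRing A']
  (φ : R →+* A) (ρ : R →+* R') (φ' : R' →+* A') (α : A →+* A') (h : α.comp φ = φ'.comp ρ)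

lemma sqτ₀_pt (M : ModuleCat.{u} A) (r' : R') (m : M) :
    ((DTen.sqτ₀ φ ρ φ' α h).app M).hom (pt ρ ((ModuleCat.restrictScalars φ).obj M) r' m) =
      (show (ModuleCat.restrictScalars φ').obj ((extM α).obj M) from pt α M (φ' r' * 1) m) := rfl

end General

section Pushout

variable (R A R' A' : Type u) [CommRing R] [CommRing A] [CommRing R'] [CommRing A']
  [Algebra R A] [Algebra R R'] [Algebra A A'] [Algebra R' A'] [Algebra R A']
  [IsScalarTower R A A'] [IsScalarTower R R' A'] [Algebra.IsPushout R A R' A']
  (h : (algebraMap A A').comp (algebraMap R A) = (algebraMap R' A').comp (algebraMap R R'))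

theorem bijective_sqτ₀ (M : ModuleCat.{u} A) :
    Function.Bijective ((DTen.sqτ₀ (algebraMap R A) (algebraMap R R') (algebraMap R' A')
      (algebraMap A A') h).app M).hom := by
  letI : Module R M := Module.compHom M (algebraMap R A)
  haveI : IsScalarTower R A M := IsScalarTower.of_algebraMap_smul (fun r m => rfl)
  haveI : Algebra.IsPushout R R' A A' := Algebra.IsPushout.symm inferInstance
  -- the two conversions
  let X₁ : ModuleCat.{u} R := (ModuleCat.restrictScalars (algebraMap R R')).obj (ModuleCat.of R' R')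
  let X₂ : ModuleCat.{u} A := (ModuleCat.restrictScalars (algebraMap A A')).obj (ModuleCat.of A' A')
  let i₁ : X₁ ≃ₗ[R] R' :=
    { toFun := fun x => x
      invFun := fun x => x
      map_add' := fun _ _ => rfl
      map_smul' := fun r x => (Algebra.smul_def r (show R' from x)).symm
      left_inv := fun _ => rfl
      right_inv := fun _ => rfl }
  let i₂ : X₂ ≃ₗ[A] A' :=
    { toFun := fun x => x
      invFun := fun x => x
      map_add' := fun _ _ => rfl
      map_smul' := fun r x => (Algebra.smul_def r (show A' from x)).symm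
      left_inv := fun _ => rfl
      right_inv := fun _ => rfl }
  let e₁ : (X₁ ⊗[R] M) ≃ₗ[R] (R' ⊗[R] M) := TensorProduct.congr i₁ (LinearEquiv.refl R M)
  let e₂ : (X₂ ⊗[A] M) ≃ₗ[A] (A' ⊗[A] M) := TensorProduct.congr i₂ (LinearEquiv.refl A M)
  let c := Algebra.IsPushout.cancelBaseChange R R' A A' M
  let f₁ : (X₁ ⊗[R] M) → (X₂ ⊗[A] M) := fun t =>
    ((DTen.sqτ₀ (algebraMap R A) (algebraMap R R') (algebraMap R' A') (algebraMap A A') h).app M).hom t
  have hadd : ∀ s t, f₁ (s + t) = f₁ s + f₁ t := fun s t => map_add _ s t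
  have key : ∀ t : X₁ ⊗[R] M, e₂ (f₁ t) = c.symm (e₁ t) := by
    intro t
    induction t using TensorProduct.induction_on with
    | zero =>
      have h0 : f₁ 0 = 0 := map_zero _
      rw [h0, map_zero, map_zero, map_zero]
    | tmul r' m =>
      have h1 : f₁ (r' ⊗ₜ[R] m) = ((show X₂ from (algebraMap R' A' (show R' from r') * 1)) ⊗ₜ[A] m) :=
        sqτ₀_pt (algebraMap R A) (algebraMap R R') (algebraMap R' A') (algebraMap A A') h M r' m
      rw [h1]
      have h2 : e₁ (r' ⊗ₜ[R] m) = (show R' from r') ⊗ₜ[R] m := rfl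
      have h3 : e₂ ((show X₂ from (algebraMap R' A' (show R' from r') * 1)) ⊗ₜ[A] m) =
          (algebraMap R' A' (show R' from r') * 1) ⊗ₜ[A] m := rfl
      rw [h2, h3, Algebra.IsPushout.cancelBaseChange_symm_tmul, mul_one]
    | add s t hs ht =>
      rw [hadd, map_add, map_add, map_add, hs, ht]
  have hcomp : (e₂ ∘ f₁) = (c.symm ∘ e₁) := funext key
  have hb : Function.Bijective (e₂ ∘ f₁) := by
    rw [hcomp]
    exact c.symm.bijective.comp e₁.bijective
  exact (Function.Bijective.of_comp_iff' e₂.bijective f₁).1 hb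

instance isIso_sqτ₀_app (M : ModuleCat.{u} A) :
    IsIso ((DTen.sqτ₀ (algebraMap R A) (algebraMap R R') (algebraMap R' A')
      (algebraMap A A') h).app M) :=
  (ConcreteCategory.isIso_iff_bijective _).2 (bijective_sqτ₀ R A R' A' h M)

instance isIso_sqτ_app (P : DRing.Cx A) :
    IsIso ((DTen.sqτ (algebraMap R A) (algebraMap R R') (algebraMap R' A')
      (algebraMap A A') h).app P) := by
  haveI : ∀ i, IsIso (((DTen.sqτ (algebraMap R A) (algebraMap R R') (algebraMap R' A')
      (algebraMap A A') h).app P).f i) := fun i => by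
    have : ((DTen.sqτ (algebraMap R A) (algebraMap R R') (algebraMap R' A')
      (algebraMap A A') h).app P).f i = (DTen.sqτ₀ (algebraMap R A) (algebraMap R R')
        (algebraMap R' A') (algebraMap A A') h).app (P.X i) := rfl
    rw [this]
    infer_instance
  exact HomologicalComplex.Hom.isIso_of_components _

end Pushout

end Groth.Agent.Lib.Helper46.SqTauIso
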