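import Groth.Agent.Lib.Helper46.BaseCmpTorIndep
import Groth.Prelude.Def_TrivBC

/-!
# The base change comparison `TrivBC.cmp` (helper46)

Namespace `Groth.Agent.Lib.Helper46.TrivBCCmp`.
-/

set_option autoImplicit false
universe u
open CategoryTheory CategoryTheory.Limits MonoidalCategory HomologicalComplex CochainComplex
attribute [local instance] HasDerivedCategory.standard

namespace Groth.Agent.Lib.Helper46.TrivBCCmp

open DerivedCategory

variable {R A R' A' : Type u} [CommRing R] [CommRing A] [CommRing R'] [CommRing A']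
  {φ : R →+* A} {ρ : R →+* R'} {α : A →+* A'} {φ' : R' →+* A'}

section Generic

variable {Lρ : Dual.D R ⥤ Dual.D R'} {Lα : Dual.D A ⥤ Dual.D A'}
  (adjρ : Lρ ⊣ DRing.restrictD ρ) (adjα : Lα ⊣ DRing.restrictD α)
  {Lρ' : Dual.D R ⥤ Dual.D R'} {Lα' : Dual.D A ⥤ Dual.D A'}
  (adjρ' : Lρ' ⊣ DRing.restrictD ρ) (adjα' : Lα' ⊣ DRing.restrictD α)
  (h : α.comp φ = φ'.comp ρ)

/-- the mate of `resComm` for arbitrary left adjoints of the restriction functors -/
noncomputable def gcmp (K : Dual.D A) :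
    Lρ.obj ((DRing.restrictD φ).obj K) ⟶ (DRing.restrictD φ').obj (Lα.obj K) :=
  (adjρ.homEquiv _ _).symm
    ((DRing.restrictD φ).map (adjα.unit.app K) ≫ (TrivBC.resComm h).hom.app (Lα.obj K))

lemma homEquiv_gcmp (K : Dual.D A) :
    adjρ.homEquiv _ _ (gcmp adjρ adjα h K) =
      (DRing.restrictD φ).map (adjα.unit.app K) ≫ (TrivBC.resComm h).hom.app (Lα.obj K) :=
  Equiv.apply_symm_apply _ _

/-- independence of the adjunctions -/
lemma gcmp_eq (K : Dual.D A) :
    gcmp adjρ adjα h K = (adjρ.leftAdjointUniq adjρ').hom.app _ ≫ gcmp adjρ' adjα' h K ≫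
      (DRing.restrictD φ').map ((adjα'.leftAdjointUniq adjα).hom.app K) := by
  apply (adjρ.homEquiv _ _).injective
  rw [homEquiv_gcmp]
  have e1 : adjρ.homEquiv _ _ ((adjρ.leftAdjointUniq adjρ').hom.app _ ≫ gcmp adjρ' adjα' h K ≫
      (DRing.restrictD φ').map ((adjα'.leftAdjointUniq adjα).hom.app K)) =
      adjρ'.homEquiv _ _ (gcmp adjρ' adjα' h K ≫
        (DRing.restrictD φ').map ((adjα'.leftAdjointUniq adjα).hom.app K)) := by
    rw [Adjunction.homEquiv_unit, Adjunction.homEquiv_unit, Functor.map_comp,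
      ← Category.assoc, Adjunction.unit_leftAdjointUniq_hom_app]
  rw [e1, Adjunction.homEquiv_naturality_right, homEquiv_gcmp, Category.assoc]
  have e2 := (TrivBC.resComm h).hom.naturality ((adjα'.leftAdjointUniq adjα).hom.app K)
  dsimp only [Functor.comp_obj, Functor.comp_map] at e2
  rw [← e2, ← Category.assoc, ← Functor.map_comp, Adjunction.unit_leftAdjointUniq_hom_app]

lemma isIso_gcmp_iff (K : Dual.D A) :
    IsIso (gcmp adjρ adjα h K) ↔ IsIso (gcmp adjρ' adjα' h K) := by
  rw [gcmp_eq adjρ adjα adjρ' adjα' h K]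
  constructor
  · intro hi
    have h1 : IsIso (gcmp adjρ' adjα' h K ≫
        (DRing.restrictD φ').map ((adjα'.leftAdjointUniq adjα).hom.app K)) :=
      IsIso.of_isIso_comp_left ((adjρ.leftAdjointUniq adjρ').hom.app
        ((DRing.restrictD φ).obj K)) _
    exact IsIso.of_isIso_comp_right _
      ((DRing.restrictD φ').map ((adjα'.leftAdjointUniq adjα).hom.app K))
  · intro hi
    infer_instance

/-- naturality of the generic mate in `K` -/
lemma gcmp_naturality {K K' : Dual.D A} (f : K ⟶ K') :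
    Lρ.map ((DRing.restrictD φ).map f) ≫ gcmp adjρ adjα h K' =
      gcmp adjρ adjα h K ≫ (DRing.restrictD φ').map (Lα.map f) := by
  apply (adjρ.homEquiv _ _).injective
  rw [Adjunction.homEquiv_naturality_left, Adjunction.homEquiv_naturality_right, homEquiv_gcmp,
    homEquiv_gcmp]
  have e2 := (TrivBC.resComm h).hom.naturality (Lα.map f)
  dsimp only [Functor.comp_obj, Functor.comp_map] at e2
  have e3 := adjα.unit.naturality f
  dsimp only [Functor.comp_obj, Functor.comp_map, Functor.id_obj, Functor.id_map] at e3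
  rw [Category.assoc, ← e2, ← Category.assoc, ← Category.assoc, ← Functor.map_comp,
    ← Functor.map_comp, e3]

lemma isIso_gcmp_of_iso {K K' : Dual.D A} (e : K ≅ K') (hK : IsIso (gcmp adjρ adjα h K)) :
    IsIso (gcmp adjρ adjα h K') := by
  have h1 := gcmp_naturality adjρ adjα h e.hom
  have h2 : gcmp adjρ adjα h K' = inv (Lρ.map ((DRing.restrictD φ).map e.hom)) ≫
      gcmp adjρ adjα h K ≫ (DRing.restrictD φ').map (Lα.map e.hom) := by
    rw [← h1, IsIso.inv_hom_id_assoc]
  rw [h2]
  infer_instance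

end Generic


section Chain

variable (h : α.comp φ = φ'.comp ρ)

/-- the chain-level identification `Z|_A|_R ≅ Z|_{R'}|_R` -/
noncomputable def commCx (Z : DRing.Cx A') :
    (DTen.resCx φ).obj ((DTen.resCx α).obj Z) ⟶ (DTen.resCx ρ).obj ((DTen.resCx φ').obj Z) :=
  (Functor.mapHomologicalComplexCompIso (TrivBC.resCommMod h) (ComplexShape.up ℤ) ≪≫
    (Functor.mapHomologicalComplexCompIso
      (Iso.refl (ModuleCat.restrictScalars.{u} φ' ⋙ ModuleCat.restrictScalars.{u} ρ))
      (ComplexShape.up ℤ)).symm).hom.app Z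

lemma commCx_f (Z : DRing.Cx A') (i : ℤ) :
    (commCx h Z).f i = (TrivBC.resCommMod h).hom.app (Z.X i) := by
  simp [commCx]
  exact Category.comp_id _

lemma resCommCx_hom_app (Z : DRing.Cx A') :
    (TrivBC.resCommCx h).hom.app Z = Q.map (commCx h Z) := by
  simp [TrivBC.resCommCx, commCx]

lemma resComm_hom_app_Q (Z : DRing.Cx A') :
    (TrivBC.resComm h).hom.app (Q.obj Z) =
      (DRing.restrictD φ).map ((DTen.resFactors α).hom.app Z) ≫
        (DTen.resFactors φ).hom.app ((DTen.resCx α).obj Z) ≫ Q.map (commCx h Z) ≫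
        (DTen.resFactors ρ).inv.app ((DTen.resCx φ').obj Z) ≫
        (DRing.restrictD ρ).map ((DTen.resFactors φ').inv.app Z) := by
  have h1 := @Localization.liftNatTrans_app _ _ _ _ (Q : DRing.Cx A' ⥤ Dual.D A')
    (HomologicalComplex.quasiIso (ModuleCat.{u} A') (ComplexShape.up ℤ)) _ _ _ _ _ _ _
    (TrivBC.liftingRes₂ α φ) (TrivBC.liftingRes₂ φ' ρ) (TrivBC.resCommCx h).hom Z
  refine h1.trans ?_
  rw [resCommCx_hom_app]
  have e1 : (TrivBC.liftingRes₂ α φ).1.hom.app Z =
      (DRing.restrictD φ).map ((DTen.resFactors α).hom.app Z) ≫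
        (DTen.resFactors φ).hom.app ((DTen.resCx α).obj Z) := by
    delta TrivBC.liftingRes₂
    simp
  have e2 : (TrivBC.liftingRes₂ φ' ρ).1.inv.app Z =
      (DTen.resFactors ρ).inv.app ((DTen.resCx φ').obj Z) ≫
        (DRing.restrictD ρ).map ((DTen.resFactors φ').inv.app Z) := by
    delta TrivBC.liftingRes₂
    simp
  show (TrivBC.liftingRes₂ α φ).1.hom.app Z ≫ Q.map (commCx h Z) ≫
    (TrivBC.liftingRes₂ φ' ρ).1.inv.app Z = _
  rw [e1, e2, Category.assoc]

end Chain


section Sq

variable (h : α.comp φ = φ'.comp ρ)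

lemma sqτ₀_fac (M : ModuleCat.{u} A) :
    (ModuleCat.extendRestrictScalarsAdj.{u, u, u} ρ).unit.app
        ((ModuleCat.restrictScalars.{u} φ).obj M) ≫
      (ModuleCat.restrictScalars.{u} ρ).map ((DTen.sqτ₀ φ ρ φ' α h).app M) =
    (ModuleCat.restrictScalars.{u} φ).map
        ((ModuleCat.extendRestrictScalarsAdj.{u, u, u} α).unit.app M) ≫
      (TrivBC.resCommMod h).hom.app ((ModuleCat.extendScalars.{u, u, u} α).obj M) := by
  have h0 := (((ModuleCat.extendRestrictScalarsAdj.{u, u, u} ρ).whiskerRight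
    (ModuleCat.{u} A)).homEquiv (ModuleCat.restrictScalars.{u} φ)
      (ModuleCat.extendScalars.{u, u, u} α ⋙ ModuleCat.restrictScalars.{u} φ')).apply_symm_apply
    ((ModuleCat.restrictScalars.{u} φ).leftUnitor.inv ≫
      Functor.whiskerRight (ModuleCat.extendRestrictScalarsAdj.{u, u, u} α).unit
        (ModuleCat.restrictScalars.{u} φ) ≫
      (Functor.associator _ _ _).hom ≫
      Functor.whiskerLeft (ModuleCat.extendScalars.{u, u, u} α)
        ((ModuleCat.restrictScalarsComp' φ α (α.comp φ) rfl).inv ≫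
          (ModuleCat.restrictScalarsComp' ρ φ' (α.comp φ) h).hom) ≫
      (Functor.associator _ _ _).inv)
  rw [Adjunction.homEquiv_unit] at h0
  have h' := NatTrans.congr_app h0 M
  dsimp [DTen.sqτ₀, Adjunction.whiskerRight, TrivBC.resCommMod] at h' ⊢
  simpa using h'

lemma sqτ_fac (P : DRing.Cx A) :
    (DTen.unitCx ρ).app ((DTen.resCx φ).obj P) ≫
        (DTen.resCx ρ).map ((DTen.sqτ φ ρ φ' α h).app P) =
      (DTen.resCx φ).map ((DTen.unitCx α).app P) ≫ commCx h ((DTen.extCx α).obj P) := by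
  refine HomologicalComplex.hom_ext _ _ (fun i => ?_)
  rw [HomologicalComplex.comp_f, HomologicalComplex.comp_f, commCx_f]
  exact sqτ₀_fac h (P.X i)

variable [DTen.HasLBase ρ] [DTen.HasLBase α]

theorem gcmp_baseCmp (P : DRing.Cx A) :
    gcmp (DTen.baseAdj ρ) (DTen.baseAdj α) h (Q.obj P) ≫
        (DRing.restrictD φ').map ((DTen.baseCmp α).app P) =
      (DTen.LBase ρ).map ((DTen.resFactors φ).hom.app P) ≫
        (DTen.baseCmp ρ).app ((DTen.resCx φ).obj P) ≫
        Q.map ((DTen.sqτ φ ρ φ' α h).app P) ≫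
        (DTen.resFactors φ').inv.app ((DTen.extCx α).obj P) := by
  apply ((DTen.baseAdj ρ).homEquiv _ _).injective
  rw [Adjunction.homEquiv_naturality_right, homEquiv_gcmp]
  have e2 := (TrivBC.resComm h).hom.naturality ((DTen.baseCmp α).app P)
  dsimp only [Functor.comp_obj, Functor.comp_map] at e2
  rw [Category.assoc, ← e2, ← Category.assoc, ← Functor.map_comp, DTen.baseCmp_fac]
  rw [resComm_hom_app_Q]
  rw [Adjunction.homEquiv_naturality_left, Adjunction.homEquiv_naturality_right,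
    Adjunction.homEquiv_unit]
  dsimp only [Functor.comp_obj]
  rw [DTen.baseCmp_fac]
  dsimp only [DTen.baseγ]
  have n1 := (DTen.resFactors φ).hom.naturality ((DTen.unitCx α).app P)
  have n2 := (DTen.resFactors ρ).inv.naturality ((DTen.sqτ φ ρ φ' α h).app P)
  dsimp only [Functor.comp_obj, Functor.comp_map, Functor.id_obj] at n1 n2
  have n3 : (Q.map ((DTen.unitCx ρ).app ((DTen.resCx φ).obj P)) : (Q.obj _ : Dual.D R) ⟶ _) ≫
      Q.map ((DTen.resCx ρ).map ((DTen.sqτ φ ρ φ' α h).app P)) =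
      Q.map ((DTen.resCx φ).map ((DTen.unitCx α).app P)) ≫
        Q.map (commCx h ((DTen.extCx α).obj P)) := by
    rw [← Functor.map_comp, ← Functor.map_comp, sqτ_fac]
  have k1 : (DRing.restrictD φ).map ((DTen.resFactors α).inv.app ((DTen.extCx α).obj P)) ≫
      (DRing.restrictD φ).map ((DTen.resFactors α).hom.app ((DTen.extCx α).obj P)) = 𝟙 _ := by
    rw [← Functor.map_comp, Iso.inv_hom_id_app, CategoryTheory.Functor.map_id]
  simp only [Functor.map_comp, Category.assoc]
  rw [reassoc_of% k1, reassoc_of% n1, ← reassoc_of% n2, reassoc_of% n3]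

end Sq

end Groth.Agent.Lib.Helper46.TrivBCCmp
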