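import Mathlib
import Groth.Agent.Lib.Helper8.PFL3
import Groth.Agent.Lib.Helper46.PCMorExtra

/-!
# Local characterisation of perfect morphisms (on helper8's `PFL` API)
-/

set_option autoImplicit false
set_option linter.style.haveILetI false
universe u
attribute [local instance] HasDerivedCategory.standard
open CategoryTheory AlgebraicGeometry

namespace Groth.Agent.Lib.Helper46.PFMorExtra

open Groth.Agent.Lib.Helper8.PCL Groth.Agent.Lib.Helper8.PFL

theorem pfMor_iff_exists {X S : Scheme.{u}} (f : X ⟶ S) :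
    MoreMor.IsPerfectMor f ↔ ∀ x : X, ∃ (U : X.Opens) (V : S.Opens) (hUV : U ≤ f ⁻¹ᵁ V),
      IsAffineOpen U ∧ IsAffineOpen V ∧ x ∈ U ∧ PFH (f.appLE V U hUV).hom := by
  rw [← pfMor_iff, HasRingHomProperty.iff_exists_appLE (P := pfMor) pfh_stableAwaySource]
  constructor
  · intro h x
    obtain ⟨U, V, hx, e, hQ⟩ := h x
    exact ⟨V.1, U.1, e, V.2, U.2, hx, hQ⟩
  · intro h x
    obtain ⟨U, V, hUV, hU, hV, hx, hQ⟩ := h x
    exact ⟨⟨V, hV⟩, ⟨U, hU⟩, hx, hUV, hQ⟩

end Groth.Agent.Lib.Helper46.PFMorExtra
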