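import Mathlib

/-!
# Perfect rings of characteristic `p` (helper46)

`IsPerf p R`: `p = 0` in `R` and the `p`-th power map is bijective (no `CharP` instance needed, so the
zero ring is allowed).  Stability under quotients by radical ideals and under tensor products.
-/

set_option autoImplicit false

namespace Groth.Agent.Lib.Helper46.PerfectBasic

open TensorProduct

variable (p : ℕ) [Fact p.Prime]

/-- `p = 0` in `R` and the `p`-th power map of `R` is bijective. -/
def IsPerf (R : Type*) [CommRing R] : Prop :=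
  (p : R) = 0 ∧ Function.Bijective (fun x : R => x ^ p)

variable {p}

lemma charP_of_cast_eq_zero {R : Type*} [CommRing R] [Nontrivial R] (h : (p : R) = 0) : CharP R p :=
  ringChar.of_eq (CharP.ringChar_of_prime_eq_zero Fact.out h)

lemma IsPerf.charP {R : Type*} [CommRing R] [Nontrivial R] (h : IsPerf p R) : CharP R p :=
  charP_of_cast_eq_zero h.1

lemma IsPerf.perfectRing {R : Type*} [CommRing R] (h : IsPerf p R) : PerfectRing R p := ⟨h.2⟩

lemma isPerf_of_subsingleton {R : Type*} [CommRing R] [Subsingleton R] : IsPerf p R :=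
  ⟨Subsingleton.elim _ _, fun x y _ => Subsingleton.elim x y, fun y => ⟨y, Subsingleton.elim _ _⟩⟩

lemma IsPerf.pow_p_pow_injective {R : Type*} [CommRing R] (h : IsPerf p R) (k : ℕ) :
    Function.Injective (fun x : R => x ^ p ^ k) := by
  induction k with
  | zero => intro x y hxy; simpa using hxy
  | succ k ih =>
    intro x y hxy
    apply ih
    apply h.2.1
    change (x ^ p ^ k) ^ p = (y ^ p ^ k) ^ p
    rw [← pow_mul, ← pow_mul, ← pow_succ]
    exact hxy

lemma IsPerf.isReduced {R : Type*} [CommRing R] (h : IsPerf p R) : IsReduced R := by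
  refine ⟨fun x hx => ?_⟩
  obtain ⟨n, hn⟩ := hx
  have hp : p.Prime := Fact.out
  apply h.pow_p_pow_injective n
  change x ^ p ^ n = 0 ^ p ^ n
  have hle : n ≤ p ^ n := (Nat.lt_pow_self hp.one_lt).le
  rw [zero_pow (pow_ne_zero n hp.ne_zero), ← Nat.sub_add_cancel hle, pow_add, hn, mul_zero]

/-- the quotient of a perfect ring by a radical ideal is perfect -/
lemma IsPerf.quotient {R : Type*} [CommRing R] (h : IsPerf p R) (I : Ideal R) (hI : I.IsRadical) :
    IsPerf p (R ⧸ I) := by
  refine ⟨by rw [← map_natCast (Ideal.Quotient.mk I), h.1, map_zero], ?_, ?_⟩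
  · intro x y hxy
    obtain ⟨x, rfl⟩ := Ideal.Quotient.mk_surjective x
    obtain ⟨y, rfl⟩ := Ideal.Quotient.mk_surjective y
    rcases subsingleton_or_nontrivial R with hR | hR
    · rw [Subsingleton.elim x y]
    · haveI := h.charP
      change (Ideal.Quotient.mk I x) ^ p = (Ideal.Quotient.mk I y) ^ p at hxy
      rw [← map_pow, ← map_pow, Ideal.Quotient.eq, ← sub_pow_char] at hxy
      rw [Ideal.Quotient.eq]
      exact hI ⟨p, hxy⟩
  · intro y
    obtain ⟨y, rfl⟩ := Ideal.Quotient.mk_surjective y
    obtain ⟨z, hz⟩ := h.2.2 y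
    refine ⟨Ideal.Quotient.mk I z, ?_⟩
    change (Ideal.Quotient.mk I z) ^ p = _
    rw [← map_pow]
    exact congrArg _ hz

lemma isPerf_zmod : IsPerf p (ZMod p) := by
  refine ⟨ZMod.natCast_self p, ?_⟩
  have : (fun x : ZMod p => x ^ p) = id := by
    funext x
    exact ZMod.pow_card x
  rw [this]
  exact Function.bijective_id

lemma frobSymm_pow {B : Type*} [CommRing B] [CharP B p] [PerfectRing B p] (r : B) :
    ((frobeniusEquiv B p).symm r) ^ p = r := by
  have := (frobeniusEquiv B p).apply_symm_apply r
  rwa [frobeniusEquiv_def] at this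

lemma frobSymm_apply_pow {B : Type*} [CommRing B] [CharP B p] [PerfectRing B p] (r : B) :
    (frobeniusEquiv B p).symm (r ^ p) = r := by
  rw [← frobeniusEquiv_def B p r, RingEquiv.symm_apply_apply]

section Tensor

variable {A R S : Type*} [CommRing A] [CommRing R] [CommRing S] [Algebra A R] [Algebra A S]

/-- the tensor product of perfect rings over a perfect ring is perfect -/
theorem IsPerf.tensor (hA : IsPerf p A) (hR : IsPerf p R) (hS : IsPerf p S) :
    IsPerf p (R ⊗[A] S) := by
  have h0 : (p : R ⊗[A] S) = 0 := by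
    rw [← map_natCast (algebraMap R (R ⊗[A] S)), hR.1, map_zero]
  refine ⟨h0, ?_⟩
  rcases subsingleton_or_nontrivial (R ⊗[A] S) with hT | hT
  · exact ⟨fun x y _ => Subsingleton.elim x y, fun y => ⟨y, Subsingleton.elim _ _⟩⟩
  haveI : Nontrivial R := (algebraMap R (R ⊗[A] S)).domain_nontrivial
  haveI : Nontrivial S :=
    (Algebra.TensorProduct.includeRight : S →ₐ[A] R ⊗[A] S).toRingHom.domain_nontrivial
  haveI : Nontrivial A := (algebraMap A R).domain_nontrivial
  haveI := hA.charP
  haveI := hR.charP
  haveI := hS.charP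
  haveI : CharP (R ⊗[A] S) p := charP_of_cast_eq_zero h0
  haveI := hA.perfectRing
  haveI := hR.perfectRing
  haveI := hS.perfectRing
  have keyR : ∀ a : A, (frobeniusEquiv R p).symm (algebraMap A R a) =
      algebraMap A R ((frobeniusEquiv A p).symm a) := by
    intro a
    rw [RingEquiv.symm_apply_eq, frobeniusEquiv_def, ← map_pow, frobSymm_pow a]
  have keyS : ∀ a : A, (frobeniusEquiv S p).symm (algebraMap A S a) =
      algebraMap A S ((frobeniusEquiv A p).symm a) := by
    intro a
    rw [RingEquiv.symm_apply_eq, frobeniusEquiv_def, ← map_pow, frobSymm_pow a]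
  let f : R →+ S →+ R ⊗[A] S :=
    AddMonoidHom.mk'
      (fun r => AddMonoidHom.mk'
        (fun s => (frobeniusEquiv R p).symm r ⊗ₜ[A] (frobeniusEquiv S p).symm s)
        (fun s s' => by simp only [map_add, TensorProduct.tmul_add]))
      (fun r r' => by
        ext s
        simp only [AddMonoidHom.mk'_apply, AddMonoidHom.add_apply, map_add, TensorProduct.add_tmul])
  have hf : ∀ (a : A) (r : R) (s : S), f (a • r) s = f r (a • s) := by
    intro a r s
    change (frobeniusEquiv R p).symm (a • r) ⊗ₜ[A] (frobeniusEquiv S p).symm s =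
      (frobeniusEquiv R p).symm r ⊗ₜ[A] (frobeniusEquiv S p).symm (a • s)
    rw [Algebra.smul_def, Algebra.smul_def, map_mul, map_mul, keyR, keyS, ← Algebra.smul_def,
      ← Algebra.smul_def, TensorProduct.smul_tmul]
  let ψ : R ⊗[A] S →+ R ⊗[A] S := TensorProduct.liftAddHom f hf
  have hψ : ∀ x : R ⊗[A] S, ψ (x ^ p) = x := by
    intro x
    induction x using TensorProduct.induction_on with
    | zero => rw [zero_pow (Fact.out : p.Prime).ne_zero, map_zero]
    | tmul r s =>
      rw [Algebra.TensorProduct.tmul_pow]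
      change (frobeniusEquiv R p).symm (r ^ p) ⊗ₜ[A] (frobeniusEquiv S p).symm (s ^ p) = _
      rw [frobSymm_apply_pow r, frobSymm_apply_pow s]
    | add x y hx hy => rw [add_pow_char, map_add, hx, hy]
  refine ⟨fun x y hxy => ?_, fun y => ?_⟩
  · have := congrArg ψ hxy
    simpa only [hψ] using this
  · induction y using TensorProduct.induction_on with
    | zero => exact ⟨0, zero_pow (Fact.out : p.Prime).ne_zero⟩
    | tmul r s =>
      refine ⟨(frobeniusEquiv R p).symm r ⊗ₜ[A] (frobeniusEquiv S p).symm s, ?_⟩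
      change ((frobeniusEquiv R p).symm r ⊗ₜ[A] (frobeniusEquiv S p).symm s) ^ p = _
      rw [Algebra.TensorProduct.tmul_pow, frobSymm_pow r, frobSymm_pow s]
    | add x y hx hy =>
      obtain ⟨u, hu⟩ := hx
      obtain ⟨v, hv⟩ := hy
      refine ⟨u + v, ?_⟩
      change (u + v) ^ p = _
      rw [add_pow_char]
      exact congrArg₂ (· + ·) hu hv

end Tensor

end Groth.Agent.Lib.Helper46.PerfectBasic
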