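import Groth.Agent.Lib.Helper46.PerfectBasic
import Groth.Agent.Lib.Helper46.TorBaseChange
import Groth.Agent.Lib.Helper46.TorFiltered
import Groth.Agent.Lib.Helper46.TorOne
import Groth.Agent.Lib.Helper46.TorShift
import Groth.Agent.S14262

/-!
# Tor-independence of perfect rings (Bhatt–Scholze 3.16) (helper46)

For a perfect ring `A` of characteristic `p` and perfect `A`-algebras `B`, `C`: `Tor_i^A(B, C) = 0` for `i > 0`.

Dévissage: quotient by the radical of a principal ideal (flat by `S14262`), induction on generators through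
Tor-independent base change, filtered colimits, and the flat cover `A ⊗_{𝔽_p} B → B`.
-/

set_option autoImplicit false
set_option backward.isDefEq.respectTransparency false
set_option backward.defeqAttrib.useBackward true

namespace Groth.Agent.Lib.Helper46.PerfectTor

open CategoryTheory Limits MonoidalCategory Category TensorProduct
open Groth.Agent.Lib.Helper46 Groth.Agent.Lib.Helper46.TorShift
open Groth.Agent.Lib.Helper46.PerfectBasic

universe u

section Quot

variable {A : Type u} [CommRing A] {N : Type u} [AddCommGroup N] [Module A N]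
  {J : Type u} [Preorder J]

/-- the diagram of quotients by a monotone family of submodules -/
noncomputable def quotFunctor (K : J → Submodule A N) (hK : Monotone K) : J ⥤ ModuleCat.{u} A where
  obj j := ModuleCat.of A (N ⧸ K j)
  map {i j} h := ModuleCat.ofHom (Submodule.mapQ (K i) (K j) LinearMap.id
    (by rw [Submodule.comap_id]; exact hK (leOfHom h)))
  map_id i := by
    apply ModuleCat.hom_ext
    apply LinearMap.ext
    intro x
    obtain ⟨x, rfl⟩ := Submodule.Quotient.mk_surjective _ x
    rfl
  map_comp f g := by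
    apply ModuleCat.hom_ext
    apply LinearMap.ext
    intro x
    obtain ⟨x, rfl⟩ := Submodule.Quotient.mk_surjective _ x
    rfl

/-- the cocone of projections to the quotient by an upper bound -/
noncomputable def quotCocone (K : J → Submodule A N) (hK : Monotone K) (I : Submodule A N)
    (hle : ∀ j, K j ≤ I) : Cocone (quotFunctor K hK) where
  pt := ModuleCat.of A (N ⧸ I)
  ι :=
    { app := fun j => ModuleCat.ofHom (Submodule.mapQ (K j) I LinearMap.id
        (by rw [Submodule.comap_id]; exact hle j))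
      naturality := fun i j h => by
        apply ModuleCat.hom_ext
        apply LinearMap.ext
        intro x
        obtain ⟨x, rfl⟩ := Submodule.Quotient.mk_surjective _ x
        rfl }

variable [IsDirected J (· ≤ ·)] [Nonempty J]

/-- `Tor_q(M, N ⧸ ·)` vanishes on the quotient by a directed union of submodules if it vanishes on the
quotients by the members. -/
theorem isZero_of_directed_quot (q : ℕ) (M : Type u) [AddCommGroup M] [Module A M]
    (K : J → Submodule A N) (hK : Monotone K) (I : Submodule A N) (hle : ∀ j, K j ≤ I)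
    (hcov : ∀ x ∈ I, ∃ j, x ∈ K j) (h : ∀ j, IsZero (T A q M (N ⧸ K j))) :
    IsZero (T A q M (N ⧸ I)) := by
  haveI := TorFiltered.tor_obj_preservesColimitsOfShape (R := A) J q (ModuleCat.of A M)
  obtain ⟨hc⟩ := TorFiltered.nonempty_isColimit_of_elementwise (quotCocone K hK I hle)
    (fun x => by
      obtain ⟨n, rfl⟩ := Submodule.Quotient.mk_surjective I x
      exact ⟨Classical.arbitrary J, Submodule.Quotient.mk n, rfl⟩)
    (fun i x hx => by
      obtain ⟨n, rfl⟩ := Submodule.Quotient.mk_surjective (K i) x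
      have hn : n ∈ I := (Submodule.Quotient.mk_eq_zero I).mp hx
      obtain ⟨j, hj⟩ := hcov n hn
      obtain ⟨k, hik, hjk⟩ := exists_ge_ge i j
      refine ⟨k, homOfLE hik, ?_⟩
      exact (Submodule.Quotient.mk_eq_zero (K k)).mpr (hK hjk hj))
  have hc' := isColimitOfPreserves ((Tor (ModuleCat.{u} A) q).obj (ModuleCat.of A M)) hc
  rw [IsZero.iff_id_eq_zero]
  apply hc'.hom_ext
  intro j
  exact (h j).eq_of_src _ _

end Quot

section Principal

variable (p : ℕ) [Fact p.Prime] {A : Type u} [CommRing A]

/-- the principal case: `Tor_{i+1}^A(C, A/√(f)) = 0` for `A` perfect and `C` a reduced `A`-algebra -/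
theorem isZero_tor_radical_singleton [CharP A p] [PerfectRing A p] (f : A)
    (C : Type u) [CommRing C] [Algebra A C] [IsReduced C] (i : ℕ) :
    IsZero (T A (i + 1) C (A ⧸ (Ideal.span {f}).radical)) := by
  have hp : p.Prime := Fact.out
  have hperf : IsPerf p A := ⟨CharP.cast_eq_zero A p, PerfectRing.bijective_frobenius⟩
  haveI : Module.Flat A ((Ideal.span {f}).radical) := Groth.Agent.S14262.result p A f
  have hι : Function.Injective (Submodule.subtype (Ideal.span {f}).radical) :=
    Submodule.injective_subtype _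
  have hex : Function.Exact (Submodule.subtype (Ideal.span {f}).radical)
      (Submodule.mkQ (Ideal.span {f}).radical) := LinearMap.exact_subtype_mkQ _
  have hπ : Function.Surjective (Submodule.mkQ (Ideal.span {f}).radical) :=
    Submodule.mkQ_surjective _
  cases i with
  | succ n =>
    exact isZero_right₂ _ _ hι hex hπ (n + 1) (isZero_of_flat_right C A (n + 1))
      (isZero_of_flat_right C ((Ideal.span {f}).radical) n)
  | zero =>
    refine (TorOne.isZero_tor_one_iff_injective_lTensor (N := C) _ _ hι hex hπ).mpr ?_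
    rw [injective_iff_map_eq_zero]
    intro z hz
    let ρ : A → A := (frobeniusEquiv A p).symm
    have hρ : ∀ a, ρ a ^ p = a := fun a => frobSymm_pow a
    have hρit : ∀ (m : ℕ) (a : A), (ρ^[m] a) ^ p ^ m = a := by
      intro m
      induction m with
      | zero => intro a; simp
      | succ m ih =>
        intro a
        rw [Function.iterate_succ_apply', pow_succ', pow_mul, hρ, ih]
    let g : ℕ → A := fun n => ρ^[n] f
    have hg_succ : ∀ n, g (n + 1) ^ p = g n := fun n => by
      change (ρ^[n + 1] f) ^ p = ρ^[n] f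
      rw [Function.iterate_succ_apply', hρ]
    have hg_pow : ∀ n, g n ^ p ^ n = f := fun n => hρit n f
    have hgI : ∀ n, g n ∈ (Ideal.span {f}).radical := fun n =>
      ⟨p ^ n, by rw [hg_pow]; exact Ideal.subset_span rfl⟩
    let G : ℕ → ((Ideal.span {f}).radical) := fun n => ⟨g n, hgI n⟩
    have hGsucc : ∀ n, G n = (g (n + 1) ^ (p - 1)) • G (n + 1) := by
      intro n
      apply Subtype.ext
      change g n = g (n + 1) ^ (p - 1) * g (n + 1)
      rw [← pow_succ, Nat.sub_add_cancel hp.one_le, hg_succ]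
    have hlift1 : ∀ (n : ℕ) (c : C), c ⊗ₜ[A] G n = ((g (n + 1) ^ (p - 1)) • c) ⊗ₜ[A] G (n + 1) := by
      intro n c
      rw [hGsucc n, TensorProduct.tmul_smul, TensorProduct.smul_tmul']
    have hlift : ∀ (k n : ℕ) (c : C), ∃ c' : C, c ⊗ₜ[A] G n = c' ⊗ₜ[A] G (n + k) := by
      intro k
      induction k with
      | zero => intro n c; exact ⟨c, rfl⟩
      | succ k ih =>
        intro n c
        obtain ⟨c', hc'⟩ := ih n c
        exact ⟨(g (n + k + 1) ^ (p - 1)) • c', by rw [hc', hlift1 (n + k) c']; rfl⟩
    have hrep : ∀ z : C ⊗[A] ((Ideal.span {f}).radical), ∃ (n : ℕ) (c : C), z = c ⊗ₜ[A] G n := by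
      intro z
      induction z using TensorProduct.induction_on with
      | zero => exact ⟨0, 0, (TensorProduct.zero_tmul _ _).symm⟩
      | tmul c x =>
        obtain ⟨m, hm⟩ := x.2
        have hle : m ≤ p ^ m := (Nat.lt_pow_self hp.one_lt).le
        have hmem : (x : A) ^ p ^ m ∈ Ideal.span {f} := by
          rw [← Nat.sub_add_cancel hle, pow_add]
          exact Ideal.mul_mem_left _ _ hm
        obtain ⟨a, ha⟩ := Ideal.mem_span_singleton'.mp hmem
        have hx : (x : A) = ρ^[m] a * g m := by
          apply hperf.pow_p_pow_injective m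
          change (x : A) ^ p ^ m = (ρ^[m] a * g m) ^ p ^ m
          rw [mul_pow, hρit, hg_pow, ha]
        have hx' : x = (ρ^[m] a) • G m := Subtype.ext hx
        exact ⟨m, (ρ^[m] a) • c, by rw [hx', TensorProduct.tmul_smul, TensorProduct.smul_tmul']⟩
      | add z w hz hw =>
        obtain ⟨n₁, c₁, h₁⟩ := hz
        obtain ⟨n₂, c₂, h₂⟩ := hw
        obtain ⟨k₁, hk₁⟩ := Nat.exists_eq_add_of_le (le_max_left n₁ n₂)
        obtain ⟨k₂, hk₂⟩ := Nat.exists_eq_add_of_le (le_max_right n₁ n₂)
        obtain ⟨c₁', hc₁⟩ := hlift k₁ n₁ c₁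
        obtain ⟨c₂', hc₂⟩ := hlift k₂ n₂ c₂
        rw [← hk₁] at hc₁
        rw [← hk₂] at hc₂
        exact ⟨max n₁ n₂, c₁' + c₂', by rw [h₁, h₂, hc₁, hc₂, TensorProduct.add_tmul]⟩
    obtain ⟨n, c, rfl⟩ := hrep z
    have h1 : g n • c = 0 := by
      have := congrArg (TensorProduct.rid A C) hz
      simpa only [LinearMap.lTensor_tmul, Submodule.subtype_apply, TensorProduct.rid_tmul,
        map_zero] using this
    have h2 : g (n + 1) • c = 0 := by
      apply IsReduced.eq_zero
      refine ⟨p, ?_⟩
      rw [Algebra.smul_def, mul_pow, ← map_pow, hg_succ, ← Nat.sub_add_cancel hp.one_le, pow_succ,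
        ← mul_assoc, mul_comm (algebraMap A C (g n)), mul_assoc, ← Algebra.smul_def, h1, mul_zero]
    rw [hlift1 n c]
    have h3 : (g (n + 1) ^ (p - 1)) • c = 0 := by
      obtain ⟨r, hr⟩ : ∃ r, p - 1 = r + 1 := ⟨p - 2, by have := hp.two_le; omega⟩
      rw [hr, pow_succ, mul_smul, h2, smul_zero]
    rw [h3, TensorProduct.zero_tmul]

/-- `Tor_{i+1}^A(C, A/I) = 0` for all perfect `A`-algebras `C` -/
def TorVanish (A : Type u) [CommRing A] (I : Ideal A) : Prop :=
  ∀ (C : Type u) [CommRing C] [Algebra A C], IsPerf p C → ∀ i : ℕ, IsZero (T A (i + 1) C (A ⧸ I))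

lemma isZero_of_subsingleton_ring [Subsingleton A] (X : ModuleCat.{u} A) : IsZero X := by
  haveI : Subsingleton X := Module.subsingleton A X
  exact ModuleCat.isZero_of_subsingleton X

theorem torVanish_radical_singleton (hA : IsPerf p A) (f : A) :
    TorVanish p A (Ideal.span {f}).radical := by
  intro C _ _ hC i
  rcases subsingleton_or_nontrivial A with h | h
  · exact isZero_of_subsingleton_ring _
  · haveI := hA.charP
    haveI := hA.perfectRing
    haveI := hC.isReduced
    exact isZero_tor_radical_singleton p f C i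

/-- transitivity along a quotient by a radical ideal -/
theorem torVanish_comap (hA : IsPerf p A) (I₀ : Ideal A) (hI₀ : I₀.IsRadical)
    (h₀ : TorVanish p A I₀) (J : Ideal (A ⧸ I₀)) (hJ : TorVanish p (A ⧸ I₀) J) :
    TorVanish p A (J.comap (Ideal.Quotient.mk I₀)) := by
  intro C _ _ hC i
  have hA' : IsPerf p (A ⧸ I₀) := hA.quotient I₀ hI₀
  have hC' : IsPerf p ((A ⧸ I₀) ⊗[A] C) := IsPerf.tensor hA hA' hC
  have h1 := hJ ((A ⧸ I₀) ⊗[A] C) hC' i
  have e := TorBaseChange.torBaseChangeIso (A := A) (A' := A ⧸ I₀) (Q' := (A ⧸ I₀) ⧸ J)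
    (ModuleCat.of A C) (fun q => h₀ C hC q) (i + 1)
  have h2 : IsZero (T A (i + 1) C ((A ⧸ I₀) ⧸ J)) :=
    IsZero.of_iso ((TorBaseChange.rs A (A ⧸ I₀)).map_isZero h1) e
  let φ : A →ₗ[A] ((A ⧸ I₀) ⧸ J) := Algebra.linearMap A ((A ⧸ I₀) ⧸ J)
  have hφ : Function.Surjective φ := by
    intro y
    obtain ⟨y', rfl⟩ := Ideal.Quotient.mk_surjective y
    obtain ⟨a, rfl⟩ := Ideal.Quotient.mk_surjective y'
    exact ⟨a, rfl⟩
  have hker : LinearMap.ker φ = J.comap (Ideal.Quotient.mk I₀) := by
    ext a
    rw [LinearMap.mem_ker, Ideal.mem_comap]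
    change Ideal.Quotient.mk J (Ideal.Quotient.mk I₀ a) = 0 ↔ _
    exact Ideal.Quotient.eq_zero_iff_mem
  exact isZero_congr (LinearEquiv.refl A C)
    ((φ.quotKerEquivOfSurjective hφ).symm.trans (Submodule.quotEquivOfEq _ _ hker)) (i + 1) h2

theorem torVanish_radical_span_finset (hA : IsPerf p A) (S : Finset A) :
    TorVanish p A (Ideal.span (S : Set A)).radical := by
  classical
  induction S using Finset.induction_on with
  | empty =>
    have h := torVanish_radical_singleton p hA (0 : A)
    have heq : Ideal.span ({0} : Set A) = Ideal.span ((∅ : Finset A) : Set A) := by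
      rw [Finset.coe_empty, Ideal.span_empty, Ideal.span_singleton_eq_bot.mpr rfl]
    rwa [heq] at h
  | insert a S ha ih =>
    have hrad : ((Ideal.span (S : Set A)).radical).IsRadical := Ideal.radical_isRadical _
    have hA' := hA.quotient _ hrad
    have h1 := torVanish_radical_singleton p hA'
      (Ideal.Quotient.mk (Ideal.span (S : Set A)).radical a)
    have h2 := torVanish_comap p hA _ hrad ih _ h1
    have heq : ((Ideal.span {Ideal.Quotient.mk (Ideal.span (S : Set A)).radical a}).radical).comap
        (Ideal.Quotient.mk (Ideal.span (S : Set A)).radical) =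
        (Ideal.span ((insert a S : Finset A) : Set A)).radical := by
      rw [Ideal.comap_radical, ← Set.image_singleton, ← Ideal.map_span,
        Ideal.comap_map_of_surjective _ Ideal.Quotient.mk_surjective, ← RingHom.ker_eq_comap_bot,
        Ideal.mk_ker, Finset.coe_insert, Ideal.span_insert, Ideal.radical_sup, Ideal.radical_idem,
        ← Ideal.radical_sup]
    rwa [heq] at h2

theorem torVanish_of_isRadical (hA : IsPerf p A) (I : Ideal A) (hI : I.IsRadical) :
    TorVanish p A I := by
  classical
  intro C _ _ hC i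
  refine isZero_of_directed_quot (J := Finset A) (i + 1) C
    (fun S => (Ideal.span ((S.filter (· ∈ I) : Finset A) : Set A)).radical) ?_ I ?_ ?_ ?_
  · intro S S' h
    exact Ideal.radical_mono (Ideal.span_mono (Finset.coe_subset.mpr (Finset.filter_subset_filter _ h)))
  · intro S
    exact hI.radical_le_iff.mpr (Ideal.span_le.mpr fun x hx => (Finset.mem_filter.mp hx).2)
  · intro x hx
    exact ⟨{x}, Ideal.le_radical (Ideal.subset_span
      (Finset.mem_coe.mpr (Finset.mem_filter.mpr ⟨Finset.mem_singleton_self x, hx⟩)))⟩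
  · intro S
    exact torVanish_radical_span_finset p hA _ C hC i

end Principal

section Main

variable (p : ℕ) [Fact p.Prime]

/-- **Tor-independence of perfect rings** -/
theorem isZero_tor_of_isPerf {A B C : Type u} [CommRing A] [CommRing B] [CommRing C] [CharP A p]
    [Algebra A B] [Algebra A C] (hA : IsPerf p A) (hB : IsPerf p B) (hC : IsPerf p C) (n : ℕ) :
    IsZero (T A (n + 1) B C) := by
  letI : Algebra (ZMod p) A := ZMod.algebra A p
  letI : Algebra (ZMod p) B := ((algebraMap A B).comp (algebraMap (ZMod p) A)).toAlgebra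
  haveI : IsScalarTower (ZMod p) A B := IsScalarTower.of_algebraMap_eq (fun x => rfl)
  have hP : IsPerf p (A ⊗[ZMod p] B) := IsPerf.tensor isPerf_zmod hA hB
  let μ : (A ⊗[ZMod p] B) →ₐ[A] B :=
    Algebra.TensorProduct.lift (Algebra.ofId A B) (AlgHom.id (ZMod p) B) (fun _ _ => Commute.all _ _)
  have hμ : Function.Surjective μ := fun b => ⟨1 ⊗ₜ b, by simp [μ]⟩
  letI : Algebra (A ⊗[ZMod p] B) B := μ.toRingHom.toAlgebra
  haveI : IsScalarTower A (A ⊗[ZMod p] B) B := IsScalarTower.of_algebraMap_eq (fun a => by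
    change algebraMap A B a = μ (algebraMap A (A ⊗[ZMod p] B) a)
    rw [AlgHom.commutes])
  have hM : ∀ q : ℕ, IsZero (((Tor (ModuleCat.{u} A) (q + 1)).obj (ModuleCat.of A C)).obj
      (ModuleCat.of A (A ⊗[ZMod p] B))) := fun q => isZero_of_flat_right C (A ⊗[ZMod p] B) q
  have e := TorBaseChange.torBaseChangeIso (A := A) (A' := A ⊗[ZMod p] B) (Q' := B)
    (ModuleCat.of A C) hM (n + 1)
  have hC' : IsPerf p ((A ⊗[ZMod p] B) ⊗[A] C) := IsPerf.tensor hA hP hC
  have hker : (RingHom.ker μ.toRingHom).IsRadical :=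
    (RingHom.ker_isRadical_iff_reduced_of_surjective hμ).mpr hB.isReduced
  have h1 := torVanish_of_isRadical p hP _ hker ((A ⊗[ZMod p] B) ⊗[A] C) hC' n
  let φ : (A ⊗[ZMod p] B) →ₗ[A ⊗[ZMod p] B] B := Algebra.linearMap (A ⊗[ZMod p] B) B
  have hφ : Function.Surjective φ := hμ
  have hkerφ : LinearMap.ker φ = RingHom.ker μ.toRingHom := by
    ext x
    rfl
  have h2 : IsZero (T (A ⊗[ZMod p] B) (n + 1) ((A ⊗[ZMod p] B) ⊗[A] C) B) :=
    isZero_congr (LinearEquiv.refl _ _)
      ((Submodule.quotEquivOfEq _ _ hkerφ.symm).trans (φ.quotKerEquivOfSurjective hφ)) (n + 1) h1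
  have h3 : IsZero (T A (n + 1) C B) :=
    IsZero.of_iso ((TorBaseChange.rs A (A ⊗[ZMod p] B)).map_isZero h2) e
  exact IsZero.of_iso h3 (TorPrime.torSymm (ModuleCat.of A B) (ModuleCat.of A C) (n + 1))

end Main

end Groth.Agent.Lib.Helper46.PerfectTor
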