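import Mathlib.Algebra.Homology.HomotopyCategory
import Mathlib.Algebra.Homology.ShortComplex.HomologicalComplex
import Mathlib.Algebra.Homology.ShortComplex.Exact
import Mathlib.CategoryTheory.Abelian.Basic
import Mathlib.CategoryTheory.Retract

/-!
# Bounded above acyclic complexes of "projective-like" objects are contractible

Abstract form: `G` a class of objects of an abelian category containing the zero objects and the
terms of a bounded above acyclic cochain complex `E`, stable under retracts, such that every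
epimorphism from a term of `E` onto an object of `G` splits.  Then `𝟙 E` is null homotopic.
-/

open CategoryTheory CategoryTheory.Limits

namespace Groth.Agent.Lib.Helper46.SplitAcyclic

universe v u

variable {C : Type u} [Category.{v} C] [Abelian C]

section

variable (E : CochainComplex C ℤ)

lemma epi_toCycles_of_exactAt (i j : ℤ) (hij : i + 1 = j) (h : E.ExactAt j) :
    Epi (E.toCycles i j) := by
  have hi : (ComplexShape.up ℤ).prev j = i := by simp; omega
  have hk : (ComplexShape.up ℤ).next j = j + 1 := by simp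
  have h' : (E.sc' i j (j + 1)).Exact := by
    rw [← HomologicalComplex.exactAt_iff' E i j (j + 1) hi hk]
    exact h
  have h3 : Epi (E.sc' i j (j + 1)).toCycles := h'.epi_toCycles
  have e := E.toCycles_cyclesIsoSc'_hom i j (j + 1) hi hk
  have h2 : E.toCycles i j = (E.sc' i j (j + 1)).toCycles ≫ (E.cyclesIsoSc' i j (j + 1) hi hk).inv :=
    (Iso.eq_comp_inv _).2 e
  rw [h2]
  exact @epi_comp _ _ _ _ _ _ h3 _ inferInstance

/-- A section `σ` of `toCycles i j` gives a retraction of `iCycles i`. -/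
lemma exists_retraction (i j : ℤ) (hij : i + 1 = j) (σ : E.cycles j ⟶ E.X i)
    (hσ : σ ≫ E.toCycles i j = 𝟙 _) :
    ∃ r : E.X i ⟶ E.cycles i, r ≫ E.iCycles i = 𝟙 _ - E.toCycles i j ≫ σ ∧
      E.iCycles i ≫ r = 𝟙 _ := by
  have h0 : (𝟙 (E.X i) - E.toCycles i j ≫ σ) ≫ E.d i j = 0 := by
    rw [← E.toCycles_i i j, Preadditive.sub_comp, Category.id_comp, Category.assoc,
      reassoc_of% hσ, sub_self]
  refine ⟨E.liftCycles (𝟙 _ - E.toCycles i j ≫ σ) j (by simpa using hij) h0, by simp, ?_⟩
  rw [← cancel_mono (E.iCycles i), Category.assoc, HomologicalComplex.liftCycles_i,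
    Preadditive.comp_sub, Category.comp_id, Category.id_comp]
  have : E.iCycles i ≫ E.toCycles i j = 0 := by
    rw [← cancel_mono (E.iCycles j), Category.assoc, E.toCycles_i, zero_comp,
      HomologicalComplex.iCycles_d]
  rw [reassoc_of% this, zero_comp, sub_zero]

/-- **Bounded above acyclic complexes with "projective-like" terms are contractible.** -/
theorem nonempty_homotopy_id_zero (b : ℤ)
    (hEb : ∀ i : ℤ, b < i → IsZero (E.X i)) (hE : E.Acyclic)
    (G : C → Prop) (hG0 : ∀ X, IsZero X → G X)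
    (hret : ∀ (X Y : C), Retract X Y → G Y → G X)
    (hGE : ∀ i, G (E.X i))
    (hsplit : ∀ (i : ℤ) (P : C) (φ : E.X i ⟶ P), Epi φ → G P →
      ∃ σ : P ⟶ E.X i, σ ≫ φ = 𝟙 P) :
    Nonempty (Homotopy (𝟙 E) 0) := by
  have hZ : ∀ n : ℕ, G (E.cycles (b + 1 - n)) := by
    intro n
    induction n with
    | zero =>
      apply hG0
      have : IsZero (E.X (b + 1 - (0 : ℕ))) := hEb _ (by simp)
      exact IsZero.of_mono (E.iCycles _) this
    | succ n ih =>
      have hij : (b + 1 - ((n + 1 : ℕ) : ℤ)) + 1 = b + 1 - (n : ℤ) := by push_cast; omega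
      have hepi := epi_toCycles_of_exactAt E _ _ hij (hE _)
      obtain ⟨σ, hσ⟩ := hsplit _ _ (E.toCycles _ _) hepi ih
      obtain ⟨r, -, hr⟩ := exists_retraction E _ _ hij σ hσ
      exact hret _ _ ⟨E.iCycles _, r, hr⟩ (hGE _)
  have hZ' : ∀ i : ℤ, G (E.cycles i) := by
    intro i
    by_cases hi : i ≤ b + 1
    · have : i = b + 1 - ((b + 1 - i).toNat : ℤ) := by
        omega
      rw [this]
      exact hZ _
    · apply hG0
      exact IsZero.of_mono (E.iCycles _) (hEb _ (by omega))
  have hσ' : ∀ (i j : ℤ) (hij : i + 1 = j), ∃ σ : E.cycles j ⟶ E.X i,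
      σ ≫ E.toCycles i j = 𝟙 _ := fun i j hij =>
    hsplit _ _ (E.toCycles i j) (epi_toCycles_of_exactAt E i j hij (hE _)) (hZ' j)
  choose σ hσ using hσ'
  have hr' : ∀ i : ℤ, ∃ r : E.X i ⟶ E.cycles i,
      r ≫ E.iCycles i = 𝟙 _ - E.toCycles i (i + 1) ≫ σ i (i + 1) rfl ∧
        E.iCycles i ≫ r = 𝟙 _ := fun i =>
    exists_retraction E i (i + 1) rfl _ (hσ i (i + 1) rfl)
  choose r hr1 hr2 using hr'
  refine ⟨{
    hom := fun i j => if h : j + 1 = i then r i ≫ σ j i h else 0
    zero := fun i j hij => dif_neg (fun h => hij h)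
    comm := fun i => ?_ }⟩
  have h1 : (ComplexShape.up ℤ).Rel i (i + 1) := rfl
  have h2 : (ComplexShape.up ℤ).Rel (i - 1) i := by simp
  rw [dNext_eq _ h1, prevD_eq _ h2, dif_pos rfl, dif_pos (by omega : i - 1 + 1 = i)]
  simp only [HomologicalComplex.id_f, HomologicalComplex.zero_f, add_zero]
  have e1 : E.d i (i + 1) ≫ r (i + 1) ≫ σ i (i + 1) rfl =
      E.toCycles i (i + 1) ≫ σ i (i + 1) rfl := by
    rw [← E.toCycles_i i (i + 1), Category.assoc, reassoc_of% (hr2 (i + 1))]
  have e2 : (r i ≫ σ (i - 1) i (by omega)) ≫ E.d (i - 1) i =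
      𝟙 _ - E.toCycles i (i + 1) ≫ σ i (i + 1) rfl := by
    rw [← E.toCycles_i (i - 1) i, Category.assoc, reassoc_of% (hσ (i - 1) i (by omega)), hr1]
  rw [e1, e2]
  abel

end

end Groth.Agent.Lib.Helper46.SplitAcyclic
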