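import Mathlib
import Groth.Agent.Lib.Helper8.PFL3
import Groth.Agent.Lib.Helper46.PFMorExtra

/-!
# Perfect morphisms and finite tor dimension of stalks (scheme-level glue for S7174)

* `stalk_ftd_of_perfectMor` : `f` perfect ⇒ every `O_{X,x}` has finite tor dimension over
  `O_{S,f(x)}`.
* `SpreadFTD` : the ring-level spreading-out statement (hypothesis).
* `perfectMor_of_stalks` : converse for pseudo-coherent `f`, assuming `SpreadFTD`.
* `perfectMor_iff_stalks` : the equivalence, assuming `SpreadFTD`.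
-/

set_option autoImplicit false
set_option linter.style.haveILetI false
universe u
attribute [local instance] HasDerivedCategory.standard
open CategoryTheory AlgebraicGeometry TopologicalSpace

namespace Groth.Agent.Lib.Helper46.StalkFTD

open Groth.Agent.Lib.Helper8.PCL Groth.Agent.Lib.Helper8.PFL Groth.Agent.Lib.Helper46.PFMorExtra

section ring

variable {R : Type u} [CommRing R]

/-- over a localization, tor dimension can be computed over the base -/
theorem tdle_base_loc (S : Submonoid R) (R' : Type u) [CommRing R'] [Algebra R R']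
    [IsLocalization S R'] {M : Type u} [AddCommGroup M] [Module R' M] [Module R M]
    [IsScalarTower R R' M] {k : ℕ} (h : DRing.HasTorDimLE R k M) : DRing.HasTorDimLE R' k M := by
  haveI : Module.Flat R R' := IsLocalization.flat R' S
  have h1 := tdle_baseChange R' h
  haveI : IsLocalizedModule S (LinearMap.id : M →ₗ[R] M) := isLocalizedModule_id S M R'
  have hb : IsBaseChange R' (LinearMap.id : M →ₗ[R] M) :=
    IsLocalizedModule.isBaseChange S R' _
  exact tdle_of_linearEquiv hb.equiv h1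

theorem tdle_stalk {A B A' B' : Type u} [CommRing A] [CommRing B] [CommRing A'] [CommRing B']
    [Algebra A B] [Algebra A A'] [Algebra B B'] [Algebra A' B'] [Algebra A B']
    [IsScalarTower A B B'] [IsScalarTower A A' B'] (S : Submonoid A) [IsLocalization S A']
    [Module.Flat B B'] {d : ℕ} (h : DRing.HasTorDimLE A d B) : DRing.HasTorDimLE A' d B' := by
  have h1 : DRing.HasTorDimLE A (d + 0) B' := tdle_comp h (tdle_of_flat B' 0)
  exact tdle_base_loc S A' (by simpa using h1)

theorem tdle_of_stalk {A A' B' : Type u} [CommRing A] [CommRing A'] [CommRing B']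
    [Algebra A A'] [Algebra A' B'] [Algebra A B'] [IsScalarTower A A' B'] [Module.Flat A A']
    {d : ℕ} (h : DRing.HasTorDimLE A' d B') : DRing.HasTorDimLE A d B' := by
  have h1 : DRing.HasTorDimLE A (0 + d) B' := tdle_comp (tdle_of_flat A' 0) h
  simpa using h1

end ring

/-- ring-level spreading out of finite tor dimension for pseudo-coherent ring maps -/
def SpreadFTD : Prop :=
  ∀ (A B : Type u) [CommRing A] [CommRing B] (φ : A →+* B), PCH φ →
    ∀ (q : Ideal B) [q.IsPrime],
      (letI := φ.toAlgebra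
       ∃ d : ℕ, DRing.HasTorDimLE A d (Localization.AtPrime q)) →
      ∃ g : B, g ∉ q ∧ FTD ((algebraMap B (Localization.Away g)).comp φ)

section scheme

variable {X S : Scheme.{u}} (f : X ⟶ S)

theorem appLE_germ (U : X.Opens) (V : S.Opens) (hUV : U ≤ f ⁻¹ᵁ V) (x : X) (hxU : x ∈ U)
    (hfx : f x ∈ V) :
    f.appLE V U hUV ≫ X.presheaf.germ U x hxU =
      S.presheaf.germ V (f x) hfx ≫ f.stalkMap x := by
  rw [Scheme.Hom.germ_stalkMap f V x hfx, Scheme.Hom.appLE, Category.assoc, X.presheaf.germ_res]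

theorem stalk_ftd_of_perfectMor (h : MoreMor.IsPerfectMor f) (x : X) :
    letI := (f.stalkMap x).hom.toAlgebra
    DRing.HasFiniteTorDim ↑(S.presheaf.stalk (f x)) ↑(X.presheaf.stalk x) := by
  obtain ⟨V, hV, hxV, -⟩ := Opens.isBasis_iff_nbhd.mp S.isBasis_affineOpens
    (Opens.mem_top (f x))
  obtain ⟨U, hU, hxU, hUV⟩ := Opens.isBasis_iff_nbhd.mp X.isBasis_affineOpens
    (show x ∈ f ⁻¹ᵁ V from hxV)
  have h0 := h U V hU hV hUV
  letI iAB : Algebra Γ(S, V) Γ(X, U) := (f.appLE V U hUV).hom.toAlgebra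
  obtain ⟨d, hd⟩ := h0.2
  letI iA'B' : Algebra (S.presheaf.stalk (f x)) (X.presheaf.stalk x) :=
    (f.stalkMap x).hom.toAlgebra
  letI iAA' : Algebra Γ(S, V) (S.presheaf.stalk (f x)) :=
    S.presheaf.algebra_section_stalk ⟨f x, hxV⟩
  letI iBB' : Algebra Γ(X, U) (X.presheaf.stalk x) :=
    X.presheaf.algebra_section_stalk ⟨x, hxU⟩
  letI iAB' : Algebra Γ(S, V) (X.presheaf.stalk x) :=
    ((X.presheaf.germ U x hxU).hom.comp (f.appLE V U hUV).hom).toAlgebra
  haveI : IsScalarTower Γ(S, V) Γ(X, U) (X.presheaf.stalk x) := .of_algebraMap_eq' rfl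
  haveI : IsScalarTower Γ(S, V) (S.presheaf.stalk (f x)) (X.presheaf.stalk x) :=
    .of_algebraMap_eq' (by
      show (X.presheaf.germ U x hxU).hom.comp (f.appLE V U hUV).hom =
        (f.stalkMap x).hom.comp (S.presheaf.germ V (f x) hxV).hom
      rw [← CommRingCat.hom_comp, ← CommRingCat.hom_comp, appLE_germ f U V hUV x hxU hxV])
  haveI := hV.isLocalization_stalk ⟨f x, hxV⟩
  haveI := hU.isLocalization_stalk ⟨x, hxU⟩
  haveI : Module.Flat Γ(X, U) (X.presheaf.stalk x) :=
    IsLocalization.flat _ (hU.primeIdealOf ⟨x, hxU⟩).asIdeal.primeCompl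
  exact ⟨d, tdle_stalk (hV.primeIdealOf ⟨f x, hxV⟩).asIdeal.primeCompl hd⟩

theorem perfectMor_of_stalks (H : SpreadFTD.{u}) (hf : MoreMor.IsPseudoCoherentMor f)
    (hst : ∀ x : X,
      (letI := (f.stalkMap x).hom.toAlgebra
       DRing.HasFiniteTorDim ↑(S.presheaf.stalk (f x)) ↑(X.presheaf.stalk x))) :
    MoreMor.IsPerfectMor f := by
  rw [pfMor_iff_exists]
  intro x
  obtain ⟨V, hV, hxV, -⟩ := Opens.isBasis_iff_nbhd.mp S.isBasis_affineOpens
    (Opens.mem_top (f x))
  obtain ⟨U, hU, hxU, hUV⟩ := Opens.isBasis_iff_nbhd.mp X.isBasis_affineOpens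
    (show x ∈ f ⁻¹ᵁ V from hxV)
  obtain ⟨d, hd⟩ := hst x
  letI iAB : Algebra Γ(S, V) Γ(X, U) := (f.appLE V U hUV).hom.toAlgebra
  letI iA'B' : Algebra (S.presheaf.stalk (f x)) (X.presheaf.stalk x) :=
    (f.stalkMap x).hom.toAlgebra
  letI iAA' : Algebra Γ(S, V) (S.presheaf.stalk (f x)) :=
    S.presheaf.algebra_section_stalk ⟨f x, hxV⟩
  letI iBB' : Algebra Γ(X, U) (X.presheaf.stalk x) :=
    X.presheaf.algebra_section_stalk ⟨x, hxU⟩
  letI iAB' : Algebra Γ(S, V) (X.presheaf.stalk x) :=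
    ((X.presheaf.germ U x hxU).hom.comp (f.appLE V U hUV).hom).toAlgebra
  haveI t1 : IsScalarTower Γ(S, V) Γ(X, U) (X.presheaf.stalk x) := .of_algebraMap_eq' rfl
  haveI t2 : IsScalarTower Γ(S, V) (S.presheaf.stalk (f x)) (X.presheaf.stalk x) :=
    .of_algebraMap_eq' (by
      show (X.presheaf.germ U x hxU).hom.comp (f.appLE V U hUV).hom =
        (f.stalkMap x).hom.comp (S.presheaf.germ V (f x) hxV).hom
      rw [← CommRingCat.hom_comp, ← CommRingCat.hom_comp, appLE_germ f U V hUV x hxU hxV])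
  haveI l1 := hV.isLocalization_stalk ⟨f x, hxV⟩
  haveI l2 := hU.isLocalization_stalk ⟨x, hxU⟩
  haveI : Module.Flat Γ(S, V) (S.presheaf.stalk (f x)) :=
    IsLocalization.flat _ (hV.primeIdealOf ⟨f x, hxV⟩).asIdeal.primeCompl
  have h1 : DRing.HasTorDimLE Γ(S, V) d (X.presheaf.stalk x) := tdle_of_stalk hd
  let q : Ideal Γ(X, U) := (hU.primeIdealOf ⟨x, hxU⟩).asIdeal
  let e : (X.presheaf.stalk x) ≃ₐ[Γ(X, U)] Localization.AtPrime q :=
    IsLocalization.algEquiv q.primeCompl (X.presheaf.stalk x) (Localization.AtPrime q)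
  have h2 : DRing.HasTorDimLE Γ(S, V) d (Localization.AtPrime q) :=
    tdle_of_linearEquiv (e.toLinearEquiv.restrictScalars Γ(S, V)) h1
  obtain ⟨g, hgq, hg⟩ := H Γ(S, V) Γ(X, U) (f.appLE V U hUV).hom (hf U V hU hV hUV) q ⟨d, h2⟩
  have hle : X.basicOpen g ≤ f ⁻¹ᵁ V := (X.basicOpen_le g).trans hUV
  have hxg : x ∈ X.basicOpen g := by
    rw [X.mem_basicOpen g x hxU]
    exact (IsLocalization.AtPrime.isUnit_to_map_iff (X.presheaf.stalk x) q g).2 hgq
  refine ⟨X.basicOpen g, V, hle, hU.basicOpen g, hV, hxg, ?_, ?_⟩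
  · exact hf (X.basicOpen g) V (hU.basicOpen g) hV hle
  · haveI := hU.isLocalization_basicOpen g
    let σ : Localization.Away g ≃ₐ[Γ(X, U)] Γ(X, X.basicOpen g) :=
      IsLocalization.algEquiv (Submonoid.powers g) _ _
    have h3 : FTD (σ : Localization.Away g →+* Γ(X, X.basicOpen g)) :=
      ftd_of_bijective _ σ.bijective
    have h4 := ftd_comp _ _ hg h3
    convert h4 using 1
    rw [← Scheme.Hom.appLE_map f hUV (homOfLE (X.basicOpen_le g)).op]
    ext a
    simp only [CommRingCat.hom_comp, RingHom.coe_comp, Function.comp_apply]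
    exact (σ.commutes _).symm

theorem perfectMor_iff_stalks (H : SpreadFTD.{u}) (hf : MoreMor.IsPseudoCoherentMor f) :
    MoreMor.IsPerfectMor f ↔ ∀ x : X,
      (letI := (f.stalkMap x).hom.toAlgebra
       DRing.HasFiniteTorDim ↑(S.presheaf.stalk (f x)) ↑(X.presheaf.stalk x)) :=
  ⟨fun h x => stalk_ftd_of_perfectMor f h x, perfectMor_of_stalks f H hf⟩

end scheme

end Groth.Agent.Lib.Helper46.StalkFTD
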