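import Mathlib
import Groth.Agent.Lib.Helper46.StalkFTD

/-!
# Reduction of `SpreadFTD` to syzygy spreading-out over a single ring (`StepB`)
-/

set_option autoImplicit false
set_option linter.style.haveILetI false
universe u
attribute [local instance] HasDerivedCategory.standard
open CategoryTheory

namespace Groth.Agent.Lib.Helper46.StalkFTD

open Groth.Agent.Lib.Helper8.PCL Groth.Agent.Lib.Helper8.PFL Groth.Agent.Lib.Helper8.TorDimPoly

/-- syzygy spreading-out of finite tor dimension for a pseudo-coherent module over one ring -/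
def StepB : Prop :=
  ∀ (P : Type u) [CommRing P] (M : Type u) [AddCommGroup M] [Module P M],
    DRing.IsPseudoCoherentModule' P M → ∀ (q : Ideal P) [q.IsPrime] (e : ℕ),
      DRing.HasTorDimLE P e (LocalizedModule q.primeCompl M) →
      ∃ g : P, g ∉ q ∧ ∃ e' : ℕ, DRing.HasTorDimLE P e' (LocalizedModule (Submonoid.powers g) M)

theorem map_primeCompl_comap {P B : Type u} [CommRing P] [CommRing B] [Algebra P B]
    (hs : Function.Surjective (algebraMap P B)) (q : Ideal B) [q.IsPrime] :
    Algebra.algebraMapSubmonoid B (q.comap (algebraMap P B)).primeCompl = q.primeCompl := by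
  ext b
  constructor
  · rintro ⟨p, hp, rfl⟩
    exact hp
  · intro hb
    obtain ⟨p, rfl⟩ := hs b
    exact ⟨p, hb, rfl⟩

theorem spreadFTD_of_stepB (H : StepB.{u}) : SpreadFTD.{u} := by
  intro A B _ _ φ hφ q _ hq
  letI iAB : Algebra A B := φ.toAlgebra
  obtain ⟨d, hd⟩ := hq
  obtain ⟨n, α, hα, hpc⟩ := (hφ : MoreMor.IsPseudoCoherentHom A B)
  letI iPB : Algebra (MvPolynomial (Fin n) A) B := α.toRingHom.toAlgebra
  haveI tAPB : IsScalarTower A (MvPolynomial (Fin n) A) B :=
    .of_algebraMap_eq (fun a => (α.commutes a).symm)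
  have hs : Function.Surjective (algebraMap (MvPolynomial (Fin n) A) B) := hα
  let q' : Ideal (MvPolynomial (Fin n) A) := q.comap (algebraMap (MvPolynomial (Fin n) A) B)
  -- the local ring `B_q` as a module over the polynomial ring
  haveI tAPL : IsScalarTower A (MvPolynomial (Fin n) A) (Localization.AtPrime q) :=
    .of_algebraMap_eq (fun a => by
      rw [IsScalarTower.algebraMap_apply A B (Localization.AtPrime q),
        IsScalarTower.algebraMap_apply (MvPolynomial (Fin n) A) B (Localization.AtPrime q),
        ← IsScalarTower.algebraMap_apply A (MvPolynomial (Fin n) A) B])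
  have h1 : DRing.HasTorDimLE (MvPolynomial (Fin n) A) (d + n) (Localization.AtPrime q) :=
    (tdle_iff_td _ _).2 (td_mvPolynomial A d n _ ((tdle_iff_td _ _).1 hd))
  haveI l1 : IsLocalization (Algebra.algebraMapSubmonoid B q'.primeCompl)
      (Localization.AtPrime q) := by
    rw [map_primeCompl_comap hs q]
    infer_instance
  let e1 : LocalizedModule q'.primeCompl B ≃ₗ[MvPolynomial (Fin n) A] Localization.AtPrime q :=
    IsLocalizedModule.iso q'.primeCompl
      (IsScalarTower.toAlgHom (MvPolynomial (Fin n) A) B (Localization.AtPrime q)).toLinearMap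
  have h2 : DRing.HasTorDimLE (MvPolynomial (Fin n) A) (d + n)
      (LocalizedModule q'.primeCompl B) := tdle_of_linearEquiv e1.symm h1
  obtain ⟨g', hg', e', h3⟩ := H (MvPolynomial (Fin n) A) B hpc q' (d + n) h2
  refine ⟨algebraMap (MvPolynomial (Fin n) A) B g', hg', ?_⟩
  set g : B := algebraMap (MvPolynomial (Fin n) A) B g' with hg
  haveI tAPLg : IsScalarTower A (MvPolynomial (Fin n) A) (Localization.Away g) :=
    .of_algebraMap_eq (fun a => by
      rw [IsScalarTower.algebraMap_apply A B (Localization.Away g),
        IsScalarTower.algebraMap_apply (MvPolynomial (Fin n) A) B (Localization.Away g),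
        ← IsScalarTower.algebraMap_apply A (MvPolynomial (Fin n) A) B])
  haveI l2 : IsLocalization (Algebra.algebraMapSubmonoid B (Submonoid.powers g'))
      (Localization.Away g) := by
    have : Algebra.algebraMapSubmonoid B (Submonoid.powers g') = Submonoid.powers g := by
      rw [Algebra.algebraMapSubmonoid, Submonoid.map_powers]
    rw [this]
    infer_instance
  let e2 : LocalizedModule (Submonoid.powers g') B ≃ₗ[MvPolynomial (Fin n) A]
      Localization.Away g :=
    IsLocalizedModule.iso (Submonoid.powers g')
      (IsScalarTower.toAlgHom (MvPolynomial (Fin n) A) B (Localization.Away g)).toLinearMap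
  have h4 : DRing.HasTorDimLE (MvPolynomial (Fin n) A) e' (Localization.Away g) :=
    tdle_of_linearEquiv e2 h3
  have h5 : DRing.HasTorDimLE A (0 + e') (Localization.Away g) :=
    tdle_comp (tdle_of_flat (MvPolynomial (Fin n) A) 0) h4
  have h6 : (algebraMap B (Localization.Away g)).comp φ = algebraMap A (Localization.Away g) :=
    (IsScalarTower.algebraMap_eq A B (Localization.Away g)).symm
  rw [h6, ftd_algebraMap]
  exact ⟨0 + e', h5⟩

end Groth.Agent.Lib.Helper46.StalkFTD
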