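import Mathlib
import Groth.Agent.Lib.Helper46.StalkFTD2
import Groth.Agent.Lib.Helper12.DRingClosure
import Groth.Agent.Lib.Helper12.DRingPCAbove
import Groth.Agent.Lib.Helper12.DRingPCRep
import Groth.Agent.S6935

/-!
# Syzygy spreading-out of finite tor dimension for pseudo-coherent modules (`StepB`)
-/

set_option autoImplicit false
set_option linter.style.haveILetI false
universe u
attribute [local instance] HasDerivedCategory.standard
open CategoryTheory

namespace Groth.Agent.Lib.Helper46.StalkFTD

open Groth.Agent.Lib.Helper12 DRing Groth.Agent.Lib.Helper8.PFL Groth.Agent.Lib.Helper8.TorDimPoly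

section
variable {P : Type u} [CommRing P]

theorem fp_of_pc' (M : Type u) [AddCommGroup M] [Module P M]
    (h : DRing.IsPseudoCoherentModule' P M) : Module.FinitePresentation P M :=
  ((Groth.Agent.S6935.result P M).2).1 (isPseudoCoherent_of_isPseudoCoherent' h (-1))

theorem finite_of_pc' (M : Type u) [AddCommGroup M] [Module P M]
    (h : DRing.IsPseudoCoherentModule' P M) : Module.Finite P M :=
  ((Groth.Agent.S6935.result P M).1).1 (isPseudoCoherent_of_isPseudoCoherent' h 0)

/-- first syzygy of a pseudo-coherent module is pseudo-coherent -/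
theorem exists_syzygy (M : Type u) [AddCommGroup M] [Module P M]
    (h : DRing.IsPseudoCoherentModule' P M) :
    ∃ (k : ℕ) (π : (Fin k → P) →ₗ[P] M), Function.Surjective π ∧
      DRing.IsPseudoCoherentModule' P (LinearMap.ker π) := by
  haveI := finite_of_pc' M h
  obtain ⟨k, π, hπ⟩ := Module.Finite.exists_fin' P M
  refine ⟨k, π, hπ, ?_⟩
  let S : ShortComplex (ModuleCat.{u} P) :=
    ShortComplex.mk (ModuleCat.ofHom (LinearMap.ker π).subtype) (ModuleCat.ofHom π) (by
      ext x
      exact x.2)
  have hS : S.ShortExact := by
    refine ShortComplex.ShortExact.mk' ?_ ?_ ?_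
    · rw [ShortComplex.ShortExact.moduleCat_exact_iff_function_exact]
      exact LinearMap.exact_subtype_ker_map π
    · exact (ModuleCat.mono_iff_injective _).2 (Submodule.injective_subtype _)
    · exact (ModuleCat.epi_iff_surjective _).2 hπ
  have hT := hS.singleTriangle_distinguished
  have h2 : IsPseudoCoherent' P (Dual.inD P (Fin k → P)) :=
    (isPseudoCoherent'_iff_forall _).1
      (fun m => isPseudoCoherent_inD_of_finite_free (ModuleCat.of P (Fin k → P)) m)
  exact (RepAbove.two_out_of_three (finiteFree P) finiteFree_projective _ hT).2.2 h2 h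

end

section localize
variable {P : Type u} [CommRing P] (S : Submonoid P)

/-- tor dimension of syzygies after localization, downwards -/
theorem td_loc_left {K F M : Type u} [AddCommGroup K] [Module P K] [AddCommGroup F] [Module P F]
    [AddCommGroup M] [Module P M] (ι : K →ₗ[P] F) (π : F →ₗ[P] M) (hι : Function.Injective ι)
    (hex : Function.Exact ι π) (hπ : Function.Surjective π) [Module.Flat P F] (e : ℕ)
    (h : DRing.HasTorDimLE P (e + 1) (LocalizedModule S M)) :
    DRing.HasTorDimLE P e (LocalizedModule S K) := by
  haveI : Module.Flat P (LocalizedModule S F) := by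
    haveI : Module.Flat (Localization S) (LocalizedModule S F) := inferInstance
    haveI : Module.Flat P (Localization S) := IsLocalization.flat _ S
    exact Module.Flat.trans P (Localization S) _
  rw [tdle_iff_td] at h ⊢
  exact td_left
    (IsLocalizedModule.map S (LocalizedModule.mkLinearMap S K) (LocalizedModule.mkLinearMap S F) ι)
    (IsLocalizedModule.map S (LocalizedModule.mkLinearMap S F) (LocalizedModule.mkLinearMap S M) π)
    (IsLocalizedModule.map_injective S _ _ ι hι)
    (IsLocalizedModule.map_exact S _ _ _ ι π hex)
    (IsLocalizedModule.map_surjective S _ _ π hπ) e h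

/-- tor dimension of syzygies after localization, upwards -/
theorem td_loc_right {K F M : Type u} [AddCommGroup K] [Module P K] [AddCommGroup F] [Module P F]
    [AddCommGroup M] [Module P M] (ι : K →ₗ[P] F) (π : F →ₗ[P] M) (hι : Function.Injective ι)
    (hex : Function.Exact ι π) (hπ : Function.Surjective π) [Module.Flat P F] (e : ℕ)
    (h : DRing.HasTorDimLE P e (LocalizedModule S K)) :
    DRing.HasTorDimLE P (e + 1) (LocalizedModule S M) := by
  haveI : Module.Flat P (LocalizedModule S F) := by
    haveI : Module.Flat (Localization S) (LocalizedModule S F) := inferInstance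
    haveI : Module.Flat P (Localization S) := IsLocalization.flat _ S
    exact Module.Flat.trans P (Localization S) _
  rw [tdle_iff_td] at h ⊢
  exact td_right
    (IsLocalizedModule.map S (LocalizedModule.mkLinearMap S K) (LocalizedModule.mkLinearMap S F) ι)
    (IsLocalizedModule.map S (LocalizedModule.mkLinearMap S F) (LocalizedModule.mkLinearMap S M) π)
    (IsLocalizedModule.map_injective S _ _ ι hι)
    (IsLocalizedModule.map_exact S _ _ _ ι π hex)
    (IsLocalizedModule.map_surjective S _ _ π hπ) e h (td_of_flat _ e)

end localize

section base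
variable {P : Type u} [CommRing P]

/-- the flat case: a finitely presented module flat at `q` is flat near `q` -/
theorem stepB_zero (M : Type u) [AddCommGroup M] [Module P M] [Module.FinitePresentation P M]
    (q : Ideal P) [q.IsPrime]
    (h : DRing.HasTorDimLE P 0 (LocalizedModule q.primeCompl M)) :
    ∃ g : P, g ∉ q ∧ DRing.HasTorDimLE P 0 (LocalizedModule (Submonoid.powers g) M) := by
  have h1 : DRing.HasTorDimLE (Localization.AtPrime q) 0 (LocalizedModule q.primeCompl M) :=
    tdle_base_loc q.primeCompl (Localization.AtPrime q) h
  haveI : Module.Flat (Localization.AtPrime q) (LocalizedModule q.primeCompl M) :=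
    flat_of_td_zero _ ((tdle_iff_td _ _).1 h1)
  haveI : Module.Finite (Localization.AtPrime q) (LocalizedModule q.primeCompl M) :=
    Module.Finite.of_isLocalizedModule q.primeCompl (LocalizedModule.mkLinearMap q.primeCompl M)
  haveI : Module.Free (Localization.AtPrime q) (LocalizedModule q.primeCompl M) :=
    Module.free_of_flat_of_isLocalRing
  obtain ⟨g, hg, hfree, -⟩ := Module.FinitePresentation.exists_free_localizedModule_powers
    q.primeCompl (LocalizedModule.mkLinearMap q.primeCompl M) (Localization.AtPrime q)
  refine ⟨g, hg, ?_⟩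
  haveI := hfree
  haveI : Module.Flat P (Localization (Submonoid.powers g)) := IsLocalization.flat _ (.powers g)
  haveI : Module.Flat P (LocalizedModule (Submonoid.powers g) M) :=
    Module.Flat.trans P (Localization (Submonoid.powers g)) _
  exact tdle_of_flat _ 0

theorem stepB_aux : ∀ (e : ℕ) (M : Type u) [AddCommGroup M] [Module P M],
    DRing.IsPseudoCoherentModule' P M → ∀ (q : Ideal P) [q.IsPrime],
      DRing.HasTorDimLE P e (LocalizedModule q.primeCompl M) →
      ∃ g : P, g ∉ q ∧ DRing.HasTorDimLE P e (LocalizedModule (Submonoid.powers g) M)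
  | 0, M, _, _, hM, q, _, h => by
    haveI := fp_of_pc' M hM
    exact stepB_zero M q h
  | e + 1, M, _, _, hM, q, _, h => by
    obtain ⟨k, π, hπ, hK⟩ := exists_syzygy M hM
    have h1 := td_loc_left q.primeCompl (LinearMap.ker π).subtype π
      (Submodule.injective_subtype _) (LinearMap.exact_subtype_ker_map π) hπ e h
    obtain ⟨g, hg, h2⟩ := stepB_aux e (LinearMap.ker π) hK q h1
    exact ⟨g, hg, td_loc_right (Submonoid.powers g) (LinearMap.ker π).subtype π
      (Submodule.injective_subtype _) (LinearMap.exact_subtype_ker_map π) hπ e h2⟩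

theorem stepB : StepB.{u} := by
  intro P _ M _ _ hM q _ e h
  obtain ⟨g, hg, h1⟩ := stepB_aux e M hM q h
  exact ⟨g, hg, e, h1⟩

theorem spreadFTD : SpreadFTD.{u} := spreadFTD_of_stepB stepB

end base

end Groth.Agent.Lib.Helper46.StalkFTD
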