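import Groth.Agent.Lib.Helper13.TensorField
import Mathlib

/-!
# Coordinates in `R ⊗[k] A` over an algebraically closed field (helper46)

`k` a field, `A` a `k`-algebra with `k`-basis `b`, `R` a `k`-algebra; `R ⊗[k] A` is `R`-free on
`Algebra.TensorProduct.basis R b`.
* `quotMap k A a : R ⊗[k] A →ₐ[k] (R ⧸ a) ⊗[k] A`;
* `repr_map`: coordinates commute with base change of the left factor;
* `quotMap_eq_zero_iff`: an element dies in `(R ⧸ a) ⊗ A` iff all coordinates lie in `a`;
* `mem_of_quotMap_eq_zero`: the kernel of `quotMap p` lies in every ideal `J` with `p ≤ J ∩ R`;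
* `exists_maximal_of_mul_eq_zero` (`k` alg. closed, `A` a domain): for `x ≠ 0` there is a maximal
  ideal `p` of `R` such that every `t` with `t * x = 0` dies in `(R ⧸ p) ⊗ A`;
* `mem_nonZeroDivisors_of_isUnit_repr`: an element with a unit coordinate is a non-zero-divisor.
-/

set_option autoImplicit false

open TensorProduct

namespace Groth.Agent.Lib.Helper46.TensorCoord

universe u

variable {k : Type u} [Field k] {A : Type u} [CommRing A] [Algebra k A]

variable (k A) in
/-- Base change of the quotient map `R → R ⧸ a` to `R ⊗[k] A`. -/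
noncomputable abbrev quotMap {R : Type u} [CommRing R] [Algebra k R] (a : Ideal R) :
    R ⊗[k] A →ₐ[k] (R ⧸ a) ⊗[k] A :=
  Algebra.TensorProduct.map (Ideal.Quotient.mkₐ k a) (AlgHom.id k A)

/-- Coordinates with respect to the base-changed basis commute with base change of the left
factor. -/
lemma repr_map {R R' : Type u} [CommRing R] [Algebra k R] [CommRing R'] [Algebra k R']
    {ι : Type u} (b : Module.Basis ι k A) (ρ : R →ₐ[k] R') (x : R ⊗[k] A) (i : ι) :
    (Algebra.TensorProduct.basis R' b).repr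
        (Algebra.TensorProduct.map ρ (AlgHom.id k A) x) i =
      ρ ((Algebra.TensorProduct.basis R b).repr x i) := by
  induction x using TensorProduct.induction_on with
  | zero => simp
  | tmul r a =>
    rw [Algebra.TensorProduct.map_tmul, Algebra.TensorProduct.basis_repr_tmul,
      Algebra.TensorProduct.basis_repr_tmul]
    simp
  | add x y hx hy => simp only [map_add, Finsupp.add_apply, hx, hy]

/-- An element dies in `(R ⧸ a) ⊗ A` iff all its coordinates lie in `a`. -/
lemma quotMap_eq_zero_iff {R : Type u} [CommRing R] [Algebra k R] {ι : Type u}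
    (b : Module.Basis ι k A) (a : Ideal R) (x : R ⊗[k] A) :
    quotMap k A a x = 0 ↔ ∀ i, (Algebra.TensorProduct.basis R b).repr x i ∈ a := by
  rw [← (Algebra.TensorProduct.basis (R ⧸ a) b).repr.map_eq_zero_iff, DFunLike.ext_iff]
  refine forall_congr' fun i => ?_
  rw [repr_map, Finsupp.zero_apply, Ideal.Quotient.mkₐ_eq_mk, Ideal.Quotient.eq_zero_iff_mem]

/-- The kernel of `quotMap p` is contained in every ideal `J` of `R ⊗ A` with `p ≤ J ∩ R`. -/
lemma mem_of_quotMap_eq_zero {R : Type u} [CommRing R] [Algebra k R] (J : Ideal (R ⊗[k] A))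
    (p : Ideal R)
    (hp : p ≤ Ideal.comap (Algebra.TensorProduct.includeLeftRingHom : R →+* R ⊗[k] A) J)
    (x : R ⊗[k] A) (hx : quotMap k A p x = 0) : x ∈ J := by
  classical
  obtain ⟨ι, ⟨b⟩⟩ : ∃ ι : Type u, Nonempty (Module.Basis ι k A) :=
    ⟨_, ⟨Module.Free.chooseBasis k A⟩⟩
  rw [quotMap_eq_zero_iff b p x] at hx
  have hmem : ∀ y : R, y ∈ p → (y ⊗ₜ[k] (1 : A)) ∈ J := fun y hy => hp hy
  have hx_sum : x = ((Algebra.TensorProduct.basis R b).repr x).sum
      fun i a => a • (Algebra.TensorProduct.basis R b) i := by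
    rw [← Finsupp.linearCombination_apply, Module.Basis.linearCombination_repr]
  rw [hx_sum]
  refine Ideal.sum_mem _ fun i _ => ?_
  beta_reduce
  rw [Algebra.TensorProduct.basis_repr_symm_apply']
  have : ((Algebra.TensorProduct.basis R b).repr x i) ⊗ₜ[k] b i =
      (((Algebra.TensorProduct.basis R b).repr x i) ⊗ₜ[k] (1 : A)) * ((1 : R) ⊗ₜ[k] b i) := by
    rw [Algebra.TensorProduct.tmul_mul_tmul, mul_one, one_mul]
  rw [this]
  exact Ideal.mul_mem_right _ _ (hmem _ (hx i))

/-- Over an algebraically closed field `k` with `A` a domain: for `x ≠ 0` in `R ⊗[k] A` there is a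
maximal ideal `p` of `R` such that every `t` with `t * x = 0` vanishes in `(R ⧸ p) ⊗[k] A`. -/
theorem exists_maximal_of_mul_eq_zero [IsAlgClosed k] [IsDomain A] {R : Type u} [CommRing R]
    [Algebra k R] (x : R ⊗[k] A) (hx : x ≠ 0) :
    ∃ p : Ideal R, p.IsMaximal ∧ ∀ t : R ⊗[k] A, t * x = 0 → quotMap k A p t = 0 := by
  classical
  obtain ⟨ι, ⟨b⟩⟩ : ∃ ι : Type u, Nonempty (Module.Basis ι k A) :=
    ⟨_, ⟨Module.Free.chooseBasis k A⟩⟩
  obtain ⟨rf, hrf⟩ : ∃ rf : ι →₀ R, rf = (Algebra.TensorProduct.basis R b).repr x := ⟨_, rfl⟩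
  -- the coefficient ideal
  obtain ⟨c, hc⟩ : ∃ c : Ideal R, c = Ideal.span (rf.support.image rf : Set R) := ⟨_, rfl⟩
  have hcfg : c.FG := ⟨rf.support.image rf, hc.symm⟩
  have hrc : ∀ i, rf i ∈ c := by
    intro i
    by_cases hi : i ∈ rf.support
    · rw [hc]
      exact Ideal.subset_span (Finset.mem_coe.mpr (Finset.mem_image_of_mem _ hi))
    · rw [Finsupp.notMem_support_iff.mp hi]; exact c.zero_mem
  have hcne : ¬ c ≤ ⊥ := by
    intro hle
    apply hx
    apply (Algebra.TensorProduct.basis R b).repr.injective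
    ext i
    have := hle (hrc i)
    rw [hrf] at this
    simpa using this
  -- a maximal ideal among those not containing `c`
  obtain ⟨c', -, hmax⟩ := zorn_le_nonempty₀ {a : Ideal R | ¬ c ≤ a} (by
    intro C hCS hC y hy
    refine ⟨sSup C, ?_, fun z hz => le_sSup hz⟩
    intro hle
    have hcomp := (Submodule.fg_iff_compact c).mp hcfg
    rw [CompleteLattice.isCompactElement_iff_le_of_directed_sSup_le] at hcomp
    obtain ⟨x, hxC, hx⟩ := hcomp C ⟨y, hy⟩ hC.directedOn hle
    exact hCS hxC hx) ⊥ hcne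
  have hc'S : ¬ c ≤ c' := hmax.prop
  have hbig : ∀ b' : Ideal R, c' ≤ b' → ¬ b' ≤ c' → c ≤ b' := by
    intro b' h1 h2
    by_contra h3
    exact h2 (hmax.le_of_ge h3 h1)
  obtain ⟨i0, hi0⟩ : ∃ i, rf i ∉ c' := by
    by_contra hall
    push_neg at hall
    apply hc'S
    rw [hc, Ideal.span_le]
    intro r hr
    obtain ⟨i, -, rfl⟩ := Finset.mem_image.mp (Finset.mem_coe.mp hr)
    exact hall i
  obtain ⟨ε, hε⟩ : ∃ ε : R, ε = rf i0 := ⟨_, rfl⟩
  obtain ⟨p, hp⟩ : ∃ p : Ideal R, p = Submodule.colon c' ({ε} : Set R) := ⟨_, rfl⟩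
  have hpmem : ∀ a, a ∈ p ↔ a * ε ∈ c' := by
    intro a
    rw [hp, Submodule.mem_colon_singleton, smul_eq_mul]
  have hεc' : ε ∉ c' := by rw [hε]; exact hi0
  have hsup : c ≤ c' ⊔ Ideal.span {ε} := hbig _ le_sup_left (fun hle =>
    hεc' (hle (Ideal.mem_sup_right (Ideal.subset_span rfl))))
  have hpmax : p.IsMaximal := by
    rw [Ideal.isMaximal_iff]
    refine ⟨?_, ?_⟩
    · rw [hpmem, one_mul]; exact hεc'
    · intro J a hpJ hap haJ
      have h1 : a * ε ∉ c' := fun h => hap ((hpmem a).mpr h)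
      have h2 : c ≤ c' ⊔ Ideal.span {a * ε} := hbig _ le_sup_left (fun hle =>
        h1 (hle (Ideal.mem_sup_right (Ideal.subset_span rfl))))
      have h3 : ε ∈ c' ⊔ Ideal.span {a * ε} := h2 (hε ▸ hrc i0)
      obtain ⟨y, hy, z, hz, hyz⟩ := Submodule.mem_sup.mp h3
      obtain ⟨t, rfl⟩ := Ideal.mem_span_singleton'.mp hz
      have h4 : (1 - t * a) ∈ p := by
        rw [hpmem]
        have : (1 - t * a) * ε = y := by linear_combination (-1 : R) * hyz
        rw [this]; exact hy
      have h5 : (1 - t * a) + t * a ∈ J := J.add_mem (hpJ h4) (J.mul_mem_left t haJ)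
      simpa using h5
  -- the quotient coefficients
  have hex : ∀ r : R, ∃ v : R, (r ∈ c → r - v * ε ∈ c') ∧ (r = 0 → v = 0) := by
    intro r
    by_cases hr0 : r = 0
    · exact ⟨0, fun _ => by simp [hr0], fun _ => rfl⟩
    · by_cases hrc' : r ∈ c
      · obtain ⟨y, hy, z, hz, hyz⟩ := Submodule.mem_sup.mp (hsup hrc')
        obtain ⟨t, rfl⟩ := Ideal.mem_span_singleton'.mp hz
        refine ⟨t, fun _ => ?_, fun h => absurd h hr0⟩
        have : r - t * ε = y := by rw [← hyz]; ring
        rw [this]; exact hy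
      · exact ⟨0, fun h => absurd h hrc', fun _ => rfl⟩
  choose u hu1 hu0 using hex
  obtain ⟨h, hh⟩ : ∃ h : R ⊗[k] A, ∀ i, (Algebra.TensorProduct.basis R b).repr h i = u (rf i) :=
    ⟨(Algebra.TensorProduct.basis R b).repr.symm (Finsupp.mapRange u (hu0 0 rfl) rf), fun i => by
      rw [LinearEquiv.apply_symm_apply, Finsupp.mapRange_apply]⟩
  refine ⟨p, hpmax, fun t ht => ?_⟩
  haveI : p.IsPrime := hpmax.isPrime
  haveI : IsDomain ((R ⧸ p) ⊗[k] A) :=
    Groth.Agent.Lib.Helper13.isDomain_tensorProduct k (R ⧸ p) A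
  -- the key computation modulo `c'`
  have key : quotMap k A c' (ε • (t * h)) = 0 := by
    have h1 : quotMap k A c' (ε • h) = quotMap k A c' x := by
      apply (Algebra.TensorProduct.basis (R ⧸ c') b).repr.injective
      ext i
      rw [repr_map, repr_map, map_smul, Finsupp.smul_apply, hh i, smul_eq_mul, ← hrf,
        Ideal.Quotient.mkₐ_eq_mk, eq_comm, Ideal.Quotient.mk_eq_mk_iff_sub_mem]
      have := hu1 (rf i) (hrc i)
      rwa [mul_comm] at this
    calc quotMap k A c' (ε • (t * h))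
        = quotMap k A c' (t * (ε • h)) := by rw [mul_smul_comm]
      _ = quotMap k A c' t * quotMap k A c' (ε • h) := map_mul _ _ _
      _ = quotMap k A c' t * quotMap k A c' x := by rw [h1]
      _ = quotMap k A c' (t * x) := (map_mul _ _ _).symm
      _ = 0 := by rw [ht, map_zero]
  rw [quotMap_eq_zero_iff b c'] at key
  have hw : quotMap k A p (t * h) = 0 := by
    rw [quotMap_eq_zero_iff b p]
    intro i
    rw [hpmem]
    have := key i
    rw [map_smul, Finsupp.smul_apply, smul_eq_mul] at this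
    rwa [mul_comm]
  rw [map_mul] at hw
  rcases mul_eq_zero.mp hw with h1 | h1
  · exact h1
  · exfalso
    rw [quotMap_eq_zero_iff b p] at h1
    have h2 := h1 i0
    rw [hh i0] at h2
    have h3 := hu1 (rf i0) (hrc i0)
    have h4 : (1 - u (rf i0)) ∈ p := by
      rw [hpmem]
      have : (1 - u (rf i0)) * ε = rf i0 - u (rf i0) * ε := by rw [hε]; ring
      rw [this]; exact h3
    have h5 : (1 : R) ∈ p := by
      have := p.add_mem h4 h2
      simpa using this
    exact hpmax.ne_top ((Ideal.eq_top_iff_one p).mpr h5)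

/-- An element of `R ⊗[k] A` one of whose coordinates is a unit is a non-zero-divisor
(`k` algebraically closed, `A` a domain). -/
theorem mem_nonZeroDivisors_of_isUnit_repr [IsAlgClosed k] [IsDomain A] {R : Type u} [CommRing R]
    [Algebra k R] {ι : Type u} (b : Module.Basis ι k A) (t : R ⊗[k] A) (i0 : ι)
    (hu : IsUnit ((Algebra.TensorProduct.basis R b).repr t i0)) :
    t ∈ nonZeroDivisors (R ⊗[k] A) := by
  rw [mem_nonZeroDivisors_iff_right]
  intro x hx
  by_contra hne
  obtain ⟨p, hp, H⟩ := exists_maximal_of_mul_eq_zero x hne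
  have h1 := H t (by rwa [mul_comm])
  rw [quotMap_eq_zero_iff b p] at h1
  exact hp.ne_top (Ideal.eq_top_of_isUnit_mem _ (h1 i0) hu)

end Groth.Agent.Lib.Helper46.TensorCoord
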