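import Groth.Agent.Lib.Helper46.TensorCoord
import Groth.Agent.Lib.Helper46.TorOne
import Groth.Agent.Lib.Helper10.TorAux

/-!
# Flatness of `(R ⊗[k] A) ⧸ (f)` for `f` with a unit coordinate (helper46)

`k` algebraically closed, `A` a `k`-domain, `R` any `k`-algebra.  If some coordinate of
`f ∈ R ⊗[k] A` (with respect to a basis of `A`) is a unit of `R`, then `f` is a non-zero-divisor
and `(R ⊗[k] A) ⧸ (f)` is flat over `R` (`flat_quotient_of_isUnit_repr`): the hypersurface `f = 0`
is a relative effective Cartier divisor.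
-/

set_option autoImplicit false
set_option backward.isDefEq.respectTransparency false
set_option backward.defeqAttrib.useBackward true

open TensorProduct

namespace Groth.Agent.Lib.Helper46.TensorCoord

universe u

variable {k : Type u} [Field k] {A : Type u} [CommRing A] [Algebra k A]

section Theta

variable {R : Type u} [CommRing R] [Algebra k R] (I : Ideal R)

/-- `(R ⧸ I) ⊗[R] (R ⊗[k] A) ≃ (R ⧸ I) ⊗[k] A`. -/
noncomputable def theta : (R ⧸ I) ⊗[R] (R ⊗[k] A) ≃ₗ[R] (R ⧸ I) ⊗[k] A :=
  TensorProduct.AlgebraTensorModule.cancelBaseChange k R R (R ⧸ I) A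

lemma theta_tmul_mul (m : R ⧸ I) (t s : R ⊗[k] A) :
    theta (A := A) I (m ⊗ₜ[R] (t * s)) = quotMap k A I t * theta I (m ⊗ₜ[R] s) := by
  induction t using TensorProduct.induction_on with
  | zero => simp
  | add t1 t2 h1 h2 =>
    rw [add_mul, TensorProduct.tmul_add, map_add, h1, h2, map_add, add_mul]
  | tmul r a' =>
    induction s using TensorProduct.induction_on with
    | zero => simp
    | add s1 s2 h1 h2 =>
      rw [mul_add, TensorProduct.tmul_add, map_add, h1, h2, TensorProduct.tmul_add, map_add,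
        mul_add]
    | tmul a n =>
      rw [Algebra.TensorProduct.tmul_mul_tmul]
      unfold theta
      rw [TensorProduct.AlgebraTensorModule.cancelBaseChange_tmul,
        TensorProduct.AlgebraTensorModule.cancelBaseChange_tmul, Algebra.TensorProduct.map_tmul,
        Algebra.TensorProduct.tmul_mul_tmul]
      congr 1
      rw [mul_smul, Algebra.smul_def r, Ideal.Quotient.algebraMap_eq, Ideal.Quotient.mkₐ_eq_mk]

lemma theta_lTensor_mulLeft (t : R ⊗[k] A) (y : (R ⧸ I) ⊗[R] (R ⊗[k] A)) :
    theta (A := A) I (LinearMap.lTensor (R ⧸ I) (LinearMap.mulLeft R t) y) =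
      quotMap k A I t * theta I y := by
  induction y using TensorProduct.induction_on with
  | zero => simp
  | add y1 y2 h1 h2 => rw [map_add, map_add, h1, h2, map_add, mul_add]
  | tmul m s => rw [LinearMap.lTensor_tmul, LinearMap.mulLeft_apply, theta_tmul_mul]

end Theta

/-- If a coordinate of `f ∈ R ⊗[k] A` is a unit, then `(R ⊗[k] A) ⧸ (f)` is flat over `R`. -/
theorem flat_quotient_of_isUnit_repr [IsAlgClosed k] [IsDomain A] {R : Type u} [CommRing R]
    [Algebra k R] {ι : Type u} (b : Module.Basis ι k A) (f : R ⊗[k] A) (i0 : ι)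
    (hu : IsUnit ((Algebra.TensorProduct.basis R b).repr f i0)) :
    Module.Flat R ((R ⊗[k] A) ⧸ Ideal.span {f}) := by
  have hnzd := mem_nonZeroDivisors_of_isUnit_repr b f i0 hu
  apply Groth.Agent.Lib.Helper10.TorAux.flat_of_forall_isZero_tor_one
  intro I
  have hι : Function.Injective (LinearMap.mulLeft R f) := by
    rw [injective_iff_map_eq_zero]
    intro x hx
    rw [LinearMap.mulLeft_apply] at hx
    exact (mem_nonZeroDivisors_iff_left.mp hnzd) x hx
  have hπ : Function.Surjective (Ideal.Quotient.mkₐ R (Ideal.span {f})).toLinearMap :=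
    Ideal.Quotient.mkₐ_surjective R _
  have hex : Function.Exact (LinearMap.mulLeft R f)
      (Ideal.Quotient.mkₐ R (Ideal.span {f})).toLinearMap := by
    intro y
    rw [AlgHom.toLinearMap_apply, Ideal.Quotient.mkₐ_eq_mk, Ideal.Quotient.eq_zero_iff_mem,
      Ideal.mem_span_singleton']
    constructor
    · rintro ⟨a, rfl⟩
      exact ⟨a, by rw [LinearMap.mulLeft_apply, mul_comm]⟩
    · rintro ⟨a, rfl⟩
      exact ⟨a, by rw [LinearMap.mulLeft_apply, mul_comm]⟩
  have hiff := TorOne.isZero_tor_one_iff_injective_lTensor (N := R ⧸ I) (LinearMap.mulLeft R f)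
    (Ideal.Quotient.mkₐ R (Ideal.span {f})).toLinearMap hι hex hπ
  refine hiff.mpr ?_
  rw [injective_iff_map_eq_zero]
  intro y hy
  have h1 := theta_lTensor_mulLeft (A := A) I f y
  rw [hy, map_zero] at h1
  -- the image of `f` in `(R ⧸ I) ⊗ A` is a non-zero-divisor
  have hu' : IsUnit ((Algebra.TensorProduct.basis (R ⧸ I) b).repr (quotMap k A I f) i0) := by
    rw [repr_map]
    exact hu.map (Ideal.Quotient.mkₐ k I)
  have hnzd' := mem_nonZeroDivisors_of_isUnit_repr b (quotMap k A I f) i0 hu'
  have h2 : theta (A := A) I y = 0 := (mem_nonZeroDivisors_iff_left.mp hnzd') _ h1.symm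
  exact (theta (A := A) I).map_eq_zero_iff.mp h2

end Groth.Agent.Lib.Helper46.TensorCoord
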