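import Groth.Prelude.Def_Wider
import Mathlib

/-!
# Sections of `M~` over opens of `Spec R` and power torsion (helper46)

`F R M` is the sheaf of `R`-modules `modulesSpecToSheaf.obj (tilde M)` on `Spec R`, `res h` its
restriction maps and `toU U : M → M~(U)` the canonical map (all as `R`-linear maps).
* `exists_pow_smul_eq_zero_basic`: a section over `D(g)` vanishing on `D(g f)` is killed by `f ^ N`;
* `eq_zero_of_cover`: separatedness;
* `exists_pow_smul_eq_zero` (`R` Noetherian): a section over any open `W` vanishing on `W ∩ D(f)` is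
  killed by a power of `f`;
* for `U = Spec R ∖ V(a)`: `ker_toU_puncturedOpen`, `torsion_sections_puncturedOpen`,
  `isPowerTorsion_coker_toU`, `ker_res_puncturedOpen`, `isPowerTorsion_coker_res`
  (the Deligne-type description of `Γ(U, M~)` up to `a`-power torsion).
-/

set_option autoImplicit false

open AlgebraicGeometry CategoryTheory Opposite TopologicalSpace

namespace Groth.Agent.Lib.Helper46.TildePunctured

universe u

variable (R : Type u) [CommRing R] (M : Type u) [AddCommGroup M] [Module R M]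

/-- The sheaf of `R`-modules `M~` on `Spec R`. -/
noncomputable abbrev F : TopCat.Sheaf (ModuleCat (CommRingCat.of R)) (Spec (CommRingCat.of R)) :=
  modulesSpecToSheaf.obj (tilde (R := CommRingCat.of R) (ModuleCat.of R M))

variable {R M}

/-- restriction maps of `M~` as linear maps -/
noncomputable abbrev res {U V : (Spec (CommRingCat.of R)).Opens} (h : V ≤ U) :
    ((F R M).presheaf.obj (op U)) →ₗ[R] ((F R M).presheaf.obj (op V)) :=
  ((F R M).presheaf.map (homOfLE h).op).hom

/-- the localisation map `M → M~(U)` as a linear map -/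
noncomputable abbrev toU (U : (Spec (CommRingCat.of R)).Opens) :
    M →ₗ[R] ((F R M).presheaf.obj (op U)) :=
  (tilde.toOpen (R := CommRingCat.of R) (ModuleCat.of R M) U).hom

lemma res_toU {U V : (Spec (CommRingCat.of R)).Opens} (h : V ≤ U) (m : M) :
    res h (toU U m) = toU V m := by
  have := tilde.toOpen_res (R := CommRingCat.of R) (ModuleCat.of R M) U V (homOfLE h)
  exact congrArg (fun φ => φ.hom m) this

lemma res_res {U V W : (Spec (CommRingCat.of R)).Opens} (h : V ≤ U) (h' : W ≤ V)
    (s : (F R M).presheaf.obj (op U)) : res h' (res h s) = res (h'.trans h) s := by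
  have : (F R M).presheaf.map (homOfLE h).op ≫ (F R M).presheaf.map (homOfLE h').op =
      (F R M).presheaf.map (homOfLE (h'.trans h)).op := by
    rw [← Functor.map_comp]; rfl
  exact congrArg (fun φ => φ.hom s) this

set_option backward.isDefEq.respectTransparency.types false in
lemma isLocalizedModule_toOpen' (R' : CommRingCat.{u}) (K : ModuleCat.{u} R') (g : R') :
    IsLocalizedModule (Submonoid.powers g) (tilde.toOpen K (PrimeSpectrum.basicOpen g)).hom :=
  inferInstanceAs (IsLocalizedModule.Away g (tilde.toOpen K (PrimeSpectrum.basicOpen g)).hom)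

lemma isLocalizedModule_toU (g : R) :
    IsLocalizedModule (Submonoid.powers g) (toU (M := M) (PrimeSpectrum.basicOpen g)) :=
  isLocalizedModule_toOpen' (CommRingCat.of R) (ModuleCat.of R M) g

/-- `g` acts injectively on sections of `M~` over `D(g)`. -/
lemma smul_injective_basicOpen (g : R) (n : ℕ)
    (s : (F R M).presheaf.obj (op (PrimeSpectrum.basicOpen g))) (hs : g ^ n • s = 0) : s = 0 := by
  haveI := isLocalizedModule_toU (M := M) g
  have hu := IsLocalizedModule.map_units (S := Submonoid.powers g)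
    (toU (M := M) (PrimeSpectrum.basicOpen g)) ⟨g ^ n, n, rfl⟩
  rw [Module.End.isUnit_iff] at hu
  have h1 : (algebraMap R (Module.End R ((F R M).presheaf.obj (op (PrimeSpectrum.basicOpen g))))
      (g ^ n)) s = (algebraMap R (Module.End R _) (g ^ n)) 0 := by
    rw [Module.algebraMap_end_apply, Module.algebraMap_end_apply, hs, smul_zero]
  exact hu.injective h1

/-- A section over `D(g)` which vanishes on `D(g f)` is killed by a power of `f`. -/
lemma exists_pow_smul_eq_zero_basic (g f : R)
    (s : (F R M).presheaf.obj (op (PrimeSpectrum.basicOpen g)))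
    (hs : res (PrimeSpectrum.basicOpen_mul_le_left g f) s = 0) : ∃ N : ℕ, f ^ N • s = 0 := by
  haveI := isLocalizedModule_toU (M := M) g
  haveI := isLocalizedModule_toU (M := M) (g * f)
  obtain ⟨⟨m, ⟨_, k, rfl⟩⟩, hm⟩ := IsLocalizedModule.surj (Submonoid.powers g)
    (toU (M := M) (PrimeSpectrum.basicOpen g)) s
  have hm' : g ^ k • s = (toU (M := M) (PrimeSpectrum.basicOpen g)) m := hm
  have h1 : (toU (M := M) (PrimeSpectrum.basicOpen (g * f))) m = 0 := by
    rw [← res_toU (PrimeSpectrum.basicOpen_mul_le_left g f), ← hm', map_smul, hs, smul_zero]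
  obtain ⟨⟨_, N, rfl⟩, hN⟩ := (IsLocalizedModule.eq_zero_iff (Submonoid.powers (g * f))
    (toU (M := M) (PrimeSpectrum.basicOpen (g * f)))).mp h1
  have hN' : (g * f) ^ N • m = 0 := hN
  refine ⟨N, smul_injective_basicOpen g (N + k) _ ?_⟩
  calc g ^ (N + k) • f ^ N • s = (g * f) ^ N • (g ^ k • s) := by
        rw [smul_smul, smul_smul]; congr 1; ring
    _ = (g * f) ^ N • (toU (M := M) (PrimeSpectrum.basicOpen g)) m := by rw [hm']
    _ = (toU (M := M) (PrimeSpectrum.basicOpen g)) ((g * f) ^ N • m) := (map_smul _ _ _).symm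
    _ = 0 := by rw [hN', map_zero]

/-- Separatedness of `M~`. -/
lemma eq_zero_of_cover {ι : Type u} (V : (Spec (CommRingCat.of R)).Opens)
    (U : ι → (Spec (CommRingCat.of R)).Opens) (hU : ∀ i, U i ≤ V) (hcover : V ≤ iSup U)
    (s : (F R M).presheaf.obj (op V)) (h : ∀ i, res (hU i) s = 0) : s = 0 := by
  refine TopCat.Sheaf.eq_of_locally_eq' (F R M) U V (fun i => homOfLE (hU i)) hcover s 0
    (fun i => ?_)
  rw [map_zero]
  exact h i

/-- Over a Noetherian ring, a section over an open `W` vanishing on `W ∩ D(f)` is killed by a power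
of `f`. -/
theorem exists_pow_smul_eq_zero [IsNoetherianRing R] (W : (Spec (CommRingCat.of R)).Opens) (f : R)
    (s : (F R M).presheaf.obj (op W))
    (hs : res (inf_le_left : W ⊓ PrimeSpectrum.basicOpen f ≤ W) s = 0) :
    ∃ N : ℕ, f ^ N • s = 0 := by
  classical
  have hcpt : IsCompact (W.1 : Set (PrimeSpectrum R)) :=
    TopologicalSpace.NoetherianSpace.isCompact _
  obtain ⟨t, ht⟩ := hcpt.elim_finite_subcover
    (fun h : {h : R // PrimeSpectrum.basicOpen h ≤ W} =>
      (PrimeSpectrum.basicOpen h.1 : Set (PrimeSpectrum R)))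
    (fun h => (PrimeSpectrum.basicOpen h.1).isOpen) (by
      intro x hx
      obtain ⟨_, ⟨h, rfl⟩, hxh, hhW⟩ :=
        PrimeSpectrum.isTopologicalBasis_basic_opens.exists_subset_of_mem_open hx W.isOpen
      exact Set.mem_iUnion.mpr ⟨⟨h, hhW⟩, hxh⟩)
  have hN : ∀ h : {h : R // PrimeSpectrum.basicOpen h ≤ W}, ∃ N : ℕ, f ^ N • res h.2 s = 0 := by
    intro h
    apply exists_pow_smul_eq_zero_basic h.1 f
    rw [res_res]
    have hle : PrimeSpectrum.basicOpen (h.1 * f) ≤ W ⊓ PrimeSpectrum.basicOpen f :=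
      le_inf ((PrimeSpectrum.basicOpen_mul_le_left _ _).trans h.2)
        (PrimeSpectrum.basicOpen_mul_le_right _ _)
    have h2 := res_res (M := M) inf_le_left hle s
    rw [hs, map_zero] at h2
    exact h2.symm
  choose N hN using hN
  refine ⟨t.sup N, ?_⟩
  apply eq_zero_of_cover W (fun h : t => PrimeSpectrum.basicOpen h.1.1) (fun h => h.1.2) ?_ _ ?_
  · intro x hx
    have := ht hx
    simp only [Set.mem_iUnion] at this
    obtain ⟨h, hht, hxh⟩ := this
    exact Opens.mem_iSup.mpr ⟨⟨h, hht⟩, hxh⟩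
  · intro h
    rw [map_smul]
    have hle : N h.1 ≤ t.sup N := Finset.le_sup h.2
    obtain ⟨d, hd⟩ := Nat.exists_eq_add_of_le hle
    rw [hd, pow_add, mul_comm, mul_smul, hN h.1, smul_zero]

section Punctured

lemma basicOpen_le_puncturedOpen (a : Ideal R) {f : R} (hf : f ∈ a) :
    PrimeSpectrum.basicOpen f ≤ LocCoh.puncturedOpen R a := by
  intro x hx hxa
  exact hx (hxa hf)

lemma puncturedOpen_le_iSup (a : Ideal R) :
    LocCoh.puncturedOpen R a ≤ ⨆ f : a, PrimeSpectrum.basicOpen (f : R) := by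
  intro x hx
  have hx' : ¬ (a : Set R) ⊆ x.asIdeal := fun h => hx ((PrimeSpectrum.mem_zeroLocus _ _).mpr h)
  obtain ⟨f, hfa, hfx⟩ := Set.not_subset.mp hx'
  exact Opens.mem_iSup.mpr ⟨⟨f, hfa⟩, hfx⟩

/-- The kernel of `M → Γ(U, M~)`, `U = Spec R ∖ V(a)`, is the `a`-power torsion of `M`. -/
theorem ker_toU_puncturedOpen [IsNoetherianRing R] (a : Ideal R) :
    LinearMap.ker (toU (M := M) (LocCoh.puncturedOpen R a)) =
      ⨆ n : ℕ, LocCoh.torsionBy (a ^ n) M := by
  apply le_antisymm
  · intro m hm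
    rw [LinearMap.mem_ker] at hm
    have hrad : a ≤ (Ideal.torsionOf R M m).radical := by
      intro f hf
      haveI := isLocalizedModule_toU (M := M) f
      have h1 : (toU (M := M) (PrimeSpectrum.basicOpen f)) m = 0 := by
        rw [← res_toU (basicOpen_le_puncturedOpen a hf), hm, map_zero]
      obtain ⟨⟨_, N, rfl⟩, hN⟩ := (IsLocalizedModule.eq_zero_iff (Submonoid.powers f)
        (toU (M := M) (PrimeSpectrum.basicOpen f))).mp h1
      exact ⟨N, (Ideal.mem_torsionOf_iff _ _).mpr hN⟩
    obtain ⟨k, hk⟩ := Ideal.exists_pow_le_of_le_radical_of_fg hrad (IsNoetherian.noetherian a)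
    refine Submodule.mem_iSup_of_mem k ?_
    rw [Submodule.mem_torsionBySet_iff]
    intro x
    exact (Ideal.mem_torsionOf_iff _ _).mp (hk x.2)
  · refine iSup_le fun n => ?_
    intro m hm
    rw [Submodule.mem_torsionBySet_iff] at hm
    rw [LinearMap.mem_ker]
    apply eq_zero_of_cover _ (fun f : a => PrimeSpectrum.basicOpen (f : R))
      (fun f => basicOpen_le_puncturedOpen a f.2) (puncturedOpen_le_iSup a)
    intro f
    haveI := isLocalizedModule_toU (M := M) (f : R)
    rw [res_toU, IsLocalizedModule.eq_zero_iff (Submonoid.powers (f : R))]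
    exact ⟨⟨(f : R) ^ n, n, rfl⟩, hm ⟨(f : R) ^ n, Ideal.pow_mem_pow f.2 n⟩⟩

/-- No nonzero section over `U = Spec R ∖ V(a)` is killed by a power of `a`. -/
theorem torsion_sections_puncturedOpen (a : Ideal R) :
    (⨆ n : ℕ, LocCoh.torsionBy (a ^ n)
      ((F R M).presheaf.obj (op (LocCoh.puncturedOpen R a)))) = ⊥ := by
  rw [eq_bot_iff]
  refine iSup_le fun n => ?_
  intro s hs
  rw [Submodule.mem_torsionBySet_iff] at hs
  rw [Submodule.mem_bot]
  apply eq_zero_of_cover _ (fun f : a => PrimeSpectrum.basicOpen (f : R))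
    (fun f => basicOpen_le_puncturedOpen a f.2) (puncturedOpen_le_iSup a)
  intro f
  apply smul_injective_basicOpen (f : R) n
  rw [← map_smul, hs ⟨(f : R) ^ n, Ideal.pow_mem_pow f.2 n⟩, map_zero]

/-- The cokernel of `M → Γ(U, M~)` is `a`-power torsion. -/
theorem isPowerTorsion_coker_toU [IsNoetherianRing R] (a : Ideal R) :
    LocCoh.IsPowerTorsion a (((F R M).presheaf.obj (op (LocCoh.puncturedOpen R a))) ⧸
      LinearMap.range (toU (M := M) (LocCoh.puncturedOpen R a))) := by
  intro sbar
  obtain ⟨s, rfl⟩ := Submodule.Quotient.mk_surjective _ sbar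
  have hrad : a ≤ ((LinearMap.range (toU (M := M) (LocCoh.puncturedOpen R a))).colon
      {s}).radical := by
    intro f hf
    have hfU := basicOpen_le_puncturedOpen a hf
    haveI := isLocalizedModule_toU (M := M) f
    obtain ⟨⟨m, ⟨_, k, rfl⟩⟩, hm⟩ := IsLocalizedModule.surj (Submonoid.powers f)
      (toU (M := M) (PrimeSpectrum.basicOpen f)) (res hfU s)
    have hm' : f ^ k • res hfU s = (toU (M := M) (PrimeSpectrum.basicOpen f)) m := hm
    have ht : res (inf_le_left : LocCoh.puncturedOpen R a ⊓ PrimeSpectrum.basicOpen f ≤ _)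
        (f ^ k • s - (toU (M := M) (LocCoh.puncturedOpen R a)) m) = 0 := by
      rw [← res_res hfU inf_le_right, map_sub, map_smul, hm', res_toU, sub_self, map_zero]
    obtain ⟨N, hN⟩ := exists_pow_smul_eq_zero _ f _ ht
    refine ⟨N + k, ?_⟩
    rw [Submodule.mem_colon_singleton]
    refine ⟨f ^ N • m, ?_⟩
    rw [map_smul]
    rw [smul_sub, sub_eq_zero] at hN
    rw [← hN, smul_smul, pow_add]
  obtain ⟨n, hn⟩ := Ideal.exists_pow_le_of_le_radical_of_fg hrad (IsNoetherian.noetherian a)
  refine ⟨n, fun x hx => ?_⟩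
  have := hn hx
  rw [Submodule.mem_colon_singleton] at this
  rw [← Submodule.Quotient.mk_smul, Submodule.Quotient.mk_eq_zero]
  exact this

/-- The kernel of `Γ(W, M~) → Γ(U, M~)` is the `a`-power torsion. -/
theorem ker_res_puncturedOpen [IsNoetherianRing R] (a : Ideal R)
    (W : (Spec (CommRingCat.of R)).Opens) (hUW : LocCoh.puncturedOpen R a ≤ W) :
    LinearMap.ker (res (M := M) hUW) =
      ⨆ n : ℕ, LocCoh.torsionBy (a ^ n) ((F R M).presheaf.obj (op W)) := by
  apply le_antisymm
  · intro s hs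
    rw [LinearMap.mem_ker] at hs
    have hrad : a ≤ (Ideal.torsionOf R _ s).radical := by
      intro f hf
      have ht : res (inf_le_left : W ⊓ PrimeSpectrum.basicOpen f ≤ W) s = 0 := by
        have hle : W ⊓ PrimeSpectrum.basicOpen f ≤ LocCoh.puncturedOpen R a :=
          inf_le_right.trans (basicOpen_le_puncturedOpen a hf)
        rw [← res_res hUW hle, hs, map_zero]
      obtain ⟨N, hN⟩ := exists_pow_smul_eq_zero W f s ht
      exact ⟨N, (Ideal.mem_torsionOf_iff _ _).mpr hN⟩
    obtain ⟨k, hk⟩ := Ideal.exists_pow_le_of_le_radical_of_fg hrad (IsNoetherian.noetherian a)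
    refine Submodule.mem_iSup_of_mem k ?_
    rw [Submodule.mem_torsionBySet_iff]
    intro x
    exact (Ideal.mem_torsionOf_iff _ _).mp (hk x.2)
  · refine iSup_le fun n => ?_
    intro s hs
    rw [LinearMap.mem_ker]
    have h2 : res hUW s ∈ (⨆ n : ℕ, LocCoh.torsionBy (a ^ n)
        ((F R M).presheaf.obj (op (LocCoh.puncturedOpen R a)))) := by
      refine Submodule.mem_iSup_of_mem n ?_
      rw [Submodule.mem_torsionBySet_iff] at hs ⊢
      intro x
      rw [← map_smul, hs x, map_zero]
    rw [torsion_sections_puncturedOpen] at h2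
    exact (Submodule.mem_bot R).mp h2

/-- The cokernel of `Γ(W, M~) → Γ(U, M~)` is `a`-power torsion. -/
theorem isPowerTorsion_coker_res [IsNoetherianRing R] (a : Ideal R)
    (W : (Spec (CommRingCat.of R)).Opens) (hUW : LocCoh.puncturedOpen R a ≤ W) :
    LocCoh.IsPowerTorsion a (((F R M).presheaf.obj (op (LocCoh.puncturedOpen R a))) ⧸
      LinearMap.range (res (M := M) hUW)) := by
  intro sbar
  obtain ⟨s, rfl⟩ := Submodule.Quotient.mk_surjective _ sbar
  obtain ⟨n, hn⟩ := isPowerTorsion_coker_toU (M := M) a (Submodule.Quotient.mk s)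
  refine ⟨n, fun x hx => ?_⟩
  have h1 := hn x hx
  rw [← Submodule.Quotient.mk_smul, Submodule.Quotient.mk_eq_zero] at h1 ⊢
  obtain ⟨m, hm⟩ := h1
  exact ⟨(toU (M := M) W) m, by rw [res_toU, hm]⟩

end Punctured

end Groth.Agent.Lib.Helper46.TildePunctured
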