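import Groth.Agent.Lib.Helper46.TorLES2
import Groth.Agent.Lib.Helper10.TorAux
import Groth.Agent.Lib.Helper94.KFlatCycles

/-!
# Tensoring a bounded above acyclic complex with Tor-vanishing terms (helper46)

Namespace `Groth.Agent.Lib.Helper46.TorAcyclic`.

`C` a bounded above acyclic cochain complex of `R`-modules, `M` an `R`-module with
`Tor_p(M, C^n) = 0` for all `p ≥ 1` and all `n` (Mathlib's `Tor`, derived in the second variable).
Then `M ⊗ C` is acyclic: `exact_map_tensorLeft`.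
-/

set_option autoImplicit false
universe u
open CategoryTheory CategoryTheory.Limits MonoidalCategory HomologicalComplex

namespace Groth.Agent.Lib.Helper46.TorAcyclic

open Groth.Agent.Lib.Helper94.KFlatCycles Groth.Agent.Lib.Helper10.TorAux

variable {R : Type u} [CommRing R] (M : ModuleCat.{u} R) (C : CochainComplex (ModuleCat.{u} R) ℤ)

lemma exact_map_tensorLeft_of_shortExact (S : ShortComplex (ModuleCat.{u} R)) (hS : S.ShortExact) :
    (S.map (tensorLeft M)).Exact := by
  rw [ShortComplex.ShortExact.moduleCat_exact_iff_function_exact]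
  have h1 := (ShortComplex.ShortExact.moduleCat_exact_iff_function_exact S).1 hS.exact
  have h2 : Function.Surjective S.g.hom := hS.moduleCat_surjective_g
  exact lTensor_exact M h1 h2

lemma isZero_tor_cycles (b : ℤ) (hb : ∀ n, b < n → IsZero (C.X n)) (hac : C.Acyclic)
    (hT : ∀ (n : ℤ) (p : ℕ), IsZero (((Tor (ModuleCat.{u} R) (p + 1)).obj M).obj (C.X n))) :
    ∀ (k : ℕ) (n : ℤ), b + 1 - n ≤ k → ∀ p : ℕ,
      IsZero (((Tor (ModuleCat.{u} R) (p + 1)).obj M).obj (C.cycles n)) := by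
  have hzero : ∀ n : ℤ, b < n → ∀ p : ℕ,
      IsZero (((Tor (ModuleCat.{u} R) (p + 1)).obj M).obj (C.cycles n)) := by
    intro n hn p
    have h0 : IsZero (C.cycles n) := IsZero.of_mono (C.iCycles n) (hb n hn)
    haveI : Projective (C.cycles n) := Projective.of_iso h0.isoZero.symm Projective.zero_projective
    exact isZero_Tor_succ_of_projective _ M (C.cycles n) p
  intro k
  induction k with
  | zero =>
    intro n hn p
    exact hzero n (by omega) p
  | succ k ih =>
    intro n hn p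
    by_cases hnb : b < n
    · exact hzero n hnb p
    · have hS := shortExact_cyclesSC C hac n
      have h3 : IsZero (((Tor (ModuleCat.{u} R) (p + 1 + 1)).obj M).obj (cyclesSC C n).X₃) :=
        ih (n + 1) (by push_cast at hn; omega) (p + 1)
      have h2 : IsZero (((Tor (ModuleCat.{u} R) (p + 1)).obj M).obj (cyclesSC C n).X₂) := hT n p
      have hex := TorLES2.exact₁₂ M (cyclesSC C n) hS (p + 1)
      have hx := hex.isZero_X₂ (h3.eq_of_src _ _) (h2.eq_of_tgt _ _)
      exact hx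

theorem exact_map_tensorLeft (b : ℤ) (hb : ∀ n, b < n → IsZero (C.X n)) (hac : C.Acyclic)
    (hT : ∀ (n : ℤ) (p : ℕ), IsZero (((Tor (ModuleCat.{u} R) (p + 1)).obj M).obj (C.X n)))
    (i j k : ℤ) (hij : i + 1 = j) (hjk : j + 1 = k) :
    ((C.sc' i j k).map (tensorLeft M)).Exact := by
  subst hij hjk
  have hZ : ∀ (n : ℤ), IsZero (((Tor (ModuleCat.{u} R) 1).obj M).obj (C.cycles n)) := fun n =>
    isZero_tor_cycles M C b hb hac hT (b + 1 - n).toNat n (Int.self_le_toNat _) 0
  have hS1 := shortExact_cyclesSC C hac (i + 1)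
  have hS2 := shortExact_cyclesSC C hac (i + 1 + 1)
  haveI m1 : Mono (M ◁ C.iCycles (i + 1)) :=
    mono_whiskerLeft_of_isZero_tor_one M (cyclesSC C (i + 1)) hS1 (hZ _)
  haveI m2 : Mono (M ◁ C.iCycles (i + 1 + 1)) :=
    mono_whiskerLeft_of_isZero_tor_one M (cyclesSC C (i + 1 + 1)) hS2 (hZ _)
  haveI : (tensorLeft M).PreservesEpimorphisms := by
    haveI : PreservesColimitsOfShape WalkingSpan (tensorLeft M) :=
      PreservesFiniteColimits.preservesFiniteColimits WalkingSpan
    exact preservesEpimorphisms_of_preservesColimitsOfShape _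
  haveI := epi_toCycles_of_acyclic C hac i
  haveI e1 : Epi (M ◁ C.toCycles i (i + 1)) := (tensorLeft M).map_epi _
  -- the exact complex `M ⊗ S_{i+1}`
  have w' : M ◁ C.iCycles (i + 1) ≫ M ◁ C.toCycles (i + 1) (i + 1 + 1) = 0 := by
    have h0 : C.iCycles (i + 1) ≫ C.toCycles (i + 1) (i + 1 + 1) = 0 := (cyclesSC C (i + 1)).zero
    rw [← MonoidalCategory.whiskerLeft_comp, h0, MonoidalPreadditive.whiskerLeft_zero]
  have hT' : (ShortComplex.mk _ _ w').Exact := exact_map_tensorLeft_of_shortExact M _ hS1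
  -- intermediate complex
  have w1 : M ◁ C.iCycles (i + 1) ≫ M ◁ C.d (i + 1) (i + 1 + 1) = 0 := by
    rw [← MonoidalCategory.whiskerLeft_comp, iCycles_d, MonoidalPreadditive.whiskerLeft_zero]
  have w : M ◁ C.d i (i + 1) ≫ M ◁ C.d (i + 1) (i + 1 + 1) = 0 := by
    rw [← MonoidalCategory.whiskerLeft_comp, d_comp_d, MonoidalPreadditive.whiskerLeft_zero]
  let φ₁ : ShortComplex.mk _ _ w' ⟶ ShortComplex.mk _ _ w1 :=
    { τ₁ := 𝟙 _
      τ₂ := 𝟙 _
      τ₃ := M ◁ C.iCycles (i + 1 + 1)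
      comm₁₂ := by
        dsimp
        rw [Category.id_comp, Category.comp_id]
      comm₂₃ := by
        dsimp
        rw [Category.id_comp, ← MonoidalCategory.whiskerLeft_comp, toCycles_i] }
  haveI : Epi φ₁.τ₁ := inferInstanceAs (Epi (𝟙 _))
  haveI : IsIso φ₁.τ₂ := inferInstanceAs (IsIso (𝟙 _))
  haveI : Mono φ₁.τ₃ := m2
  have hT₁ : (ShortComplex.mk _ _ w1).Exact :=
    (ShortComplex.exact_iff_of_epi_of_isIso_of_mono φ₁).1 hT'
  let φ₂ : ShortComplex.mk _ _ w ⟶ ShortComplex.mk _ _ w1 :=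
    { τ₁ := M ◁ C.toCycles i (i + 1)
      τ₂ := 𝟙 _
      τ₃ := 𝟙 _
      comm₁₂ := by
        dsimp
        rw [Category.comp_id, ← MonoidalCategory.whiskerLeft_comp, toCycles_i]
      comm₂₃ := by
        dsimp
        rw [Category.id_comp, Category.comp_id] }
  haveI : Epi φ₂.τ₁ := e1
  haveI : IsIso φ₂.τ₂ := inferInstanceAs (IsIso (𝟙 _))
  haveI : Mono φ₂.τ₃ := inferInstanceAs (Mono (𝟙 _))
  exact (ShortComplex.exact_iff_of_epi_of_isIso_of_mono φ₂).2 hT₁

end Groth.Agent.Lib.Helper46.TorAcyclic
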