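import Groth.Agent.Lib.Helper36.LTensorCxBalance
import Groth.Agent.Lib.Helper46.DTenAssoc

/-!
# Balance for `- ⊗^L M`: `X ⊗^L M` is computed by `F ⊗ X` for a K-flat resolution `F → M[0]` (helper46)

Namespace `Groth.Agent.Lib.Helper46.TorAmpBalance`.
-/

set_option autoImplicit false
universe u
open CategoryTheory CategoryTheory.Limits CochainComplex DerivedCategory MonoidalCategory
attribute [local instance] HasDerivedCategory.standard

namespace Groth.Agent.Lib.Helper46.TorAmpBalance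

open Groth.Agent.Lib.Helper36 Groth.Agent.Lib.Helper36.KP Groth.Agent.Lib.Helper36.LT
  Groth.Agent.Lib.Helper36.LTCx
  Groth.Agent.Lib.Helper94.KFlatRing Groth.Agent.Lib.Helper94.KFlatSymmInst
  Groth.Agent.Lib.Helper94.KFlatBdd Groth.Agent.Lib.Helper12 Groth.Agent.Lib.Helper46.DTenAssoc

variable {A : Type u} [CommRing A]

/-- **Balance**: for a K-flat resolution `f : F ⟶ M[0]`, `X ⊗^L M ≅ F ⊗ X` for every complex `X` -/
theorem nonempty_lTensor_iso_tensor (M : ModuleCat.{u} A) [DRing.HasLTensor A M] (F : DRing.Cx A)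
    (hF : KF A F) (f : F ⟶ TS.sM M) [QuasiIso f] (X : DRing.Cx A) :
    Nonempty ((DRing.LTensor A M).obj (DRing.toD X) ≅ DRing.toD (F ⊗ X)) := by
  obtain ⟨P, p, hp, hP, -⟩ := exists_resolution X
  haveI := hp
  haveI := hP
  have hPf : KF A P := (kf_iff A P).2 (isKFlat₂_of_isKProjective A P)
  haveI : IsIso (Q.map p) := by
    rw [isIso_Q_map_iff_quasiIso]
    exact hp
  have h1 : QuasiIso (f ▷ P) := quasiIso_whiskerRight_of_kf A P hPf f
  have h2 : QuasiIso (F ◁ p) := quasiIso_whiskerLeft_of_kf' F hF p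
  haveI : IsIso (Q.map (f ▷ P)) := by
    rw [isIso_Q_map_iff_quasiIso]
    exact h1
  haveI : IsIso (Q.map (F ◁ p)) := by
    rw [isIso_Q_map_iff_quasiIso]
    exact h2
  exact ⟨(DRing.LTensor A M).mapIso (asIso (Q.map p)).symm ≪≫ lTensorObjIso M P ≪≫
    Q.mapIso (TS.tensorSingleIso P M).symm ≪≫ Q.mapIso (DTen.braidCx (TS.sM M) P).symm ≪≫
    (asIso (Q.map (f ▷ P))).symm ≪≫ asIso (Q.map (F ◁ p))⟩

end Groth.Agent.Lib.Helper46.TorAmpBalance
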