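import Groth.Agent.Lib.Helper46.TorAmpBalance
import Groth.Agent.Lib.Helper46.DTenRelProj
import Groth.Agent.Lib.Helper36.BaseChangeKProj
import Groth.Agent.S6945

/-!
# Tor amplitude via exactness of `F ⊗ X` for projective resolutions `F → Q[0]` (helper46)

Namespace `Groth.Agent.Lib.Helper46.TorAmpExact`.
-/

set_option autoImplicit false
universe u
open CategoryTheory CategoryTheory.Limits CochainComplex DerivedCategory MonoidalCategory
attribute [local instance] HasDerivedCategory.standard

namespace Groth.Agent.Lib.Helper46.TorAmpExact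

open Groth.Agent.Lib.Helper36 Groth.Agent.Lib.Helper36.KP Groth.Agent.Lib.Helper36.LT
  Groth.Agent.Lib.Helper36.LTCx
  Groth.Agent.Lib.Helper94.KFlatRing Groth.Agent.Lib.Helper94.KFlatSymmInst
  Groth.Agent.Lib.Helper94.KFlatBdd Groth.Agent.Lib.Helper12 Groth.Agent.Lib.Helper46.DTenAssoc
  Groth.Agent.Lib.Helper46.TorAmpBalance

variable {A : Type u} [CommRing A]

/-- exactness in a degree is invariant under isomorphism of complexes -/
lemma exactAt_of_iso {C D : DRing.Cx A} (e : C ≅ D) (i : ℤ) (h : C.ExactAt i) : D.ExactAt i := by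
  rw [HomologicalComplex.exactAt_iff_isZero_homology] at h ⊢
  exact IsZero.of_iso h ((HomologicalComplex.homologyFunctor _ _ i).mapIso e.symm)

lemma exactAt_iff_of_iso {C D : DRing.Cx A} (e : C ≅ D) (i : ℤ) : C.ExactAt i ↔ D.ExactAt i :=
  ⟨exactAt_of_iso e i, exactAt_of_iso e.symm i⟩

/-- exactness of a complex ⟺ vanishing of the cohomology of its class in `D(A)` -/
lemma exactAt_iff_subsingleton_HD (C : DRing.Cx A) (i : ℤ) :
    C.ExactAt i ↔ Subsingleton (Dual.HD A (DRing.toD C) i) := by
  rw [HomologicalComplex.exactAt_iff_isZero_homology]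
  have e : (DerivedCategory.homologyFunctor (ModuleCat.{u} A) i).obj (DRing.toD C) ≅ C.homology i :=
    (DerivedCategory.homologyFunctorFactors (ModuleCat.{u} A) i).app C
  constructor
  · intro h
    exact ModuleCat.subsingleton_of_isZero (IsZero.of_iso h e)
  · intro h
    exact IsZero.of_iso (ModuleCat.isZero_of_subsingleton _) e.symm

/-- `H^i(X ⊗^L Q) = 0 ⟺ F ⊗ X` exact in degree `i`, for a K-flat resolution `F → Q[0]` -/
lemma exactAt_tensor_iff (Q : ModuleCat.{u} A) [DRing.HasLTensor A Q] (F : DRing.Cx A)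
    (hF : KF A F) (f : F ⟶ TS.sM Q) [QuasiIso f] (X : DRing.Cx A) (i : ℤ) :
    (F ⊗ X).ExactAt i ↔
      Subsingleton (Dual.HD A ((DRing.LTensor A Q).obj (DRing.toD X)) i) := by
  obtain ⟨e⟩ := nonempty_lTensor_iso_tensor Q F hF f X
  rw [exactAt_iff_subsingleton_HD]
  have e' := (DerivedCategory.homologyFunctor (ModuleCat.{u} A) i).mapIso e
  constructor
  · intro h
    exact ModuleCat.subsingleton_of_isZero
      (IsZero.of_iso (ModuleCat.isZero_of_subsingleton _) e')
  · intro h
    exact ModuleCat.subsingleton_of_isZero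
      (IsZero.of_iso (ModuleCat.isZero_of_subsingleton _) e'.symm)

/-- existence of a K-flat (projective, bounded above) resolution of a module -/
lemma exists_kf_resolution (Q : ModuleCat.{u} A) :
    ∃ (F : DRing.Cx A) (_ : KF A F) (f : F ⟶ TS.sM Q), QuasiIso f := by
  obtain ⟨F, f, hf, hFK, hFp, hFb⟩ := exists_resolution_above (TS.sM Q) 0
    (fun n hn => TS.isZero_sM_X Q n (by omega))
  have hFf : KF A F := kf_of_bounded_above A F 0 hFb (fun i => by
    have := hFp i
    infer_instance)
  exact ⟨F, hFf, f, hf⟩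

/-- tor amplitude ⟹ exactness of `F ⊗ X` outside `[a,b]` -/
theorem exactAt_of_hasTorAmplitudeIn (X : DRing.Cx A) (a b : ℤ)
    (h : DRing.HasTorAmplitudeIn A a b (DRing.toD X))
    (Q : ModuleCat.{u} A) (F : DRing.Cx A)
    (hF : KF A F) (f : F ⟶ TS.sM Q) [QuasiIso f] (i : ℤ) (hi : i < a ∨ b < i) :
    (F ⊗ X).ExactAt i := by
  haveI : ∀ M : ModuleCat.{u} A, DRing.HasLTensor A M := fun M => LT.hasLTensor _ M
  rw [exactAt_tensor_iff Q F hF f X i]
  exact (Groth.Agent.S6945.result A (DRing.toD X) a b).1 h Q i hi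

/-- exactness of `F ⊗ X` outside `[a,b]` for all resolutions ⟹ tor amplitude -/
theorem hasTorAmplitudeIn_of_exactAt (X : DRing.Cx A) (a b : ℤ)
    (h : ∀ (Q : ModuleCat.{u} A) (F : DRing.Cx A) (_ : KF A F) (f : F ⟶ TS.sM Q) [QuasiIso f]
      (i : ℤ), (i < a ∨ b < i) → (F ⊗ X).ExactAt i) :
    DRing.HasTorAmplitudeIn A a b (DRing.toD X) := by
  haveI : ∀ M : ModuleCat.{u} A, DRing.HasLTensor A M := fun M => LT.hasLTensor _ M
  rw [Groth.Agent.S6945.result A (DRing.toD X) a b]
  intro Q i hi
  obtain ⟨F, hF, f, hf⟩ := exists_kf_resolution Q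
  haveI := hf
  rw [← exactAt_tensor_iff Q F hF f X i]
  exact h Q F hF f i hi

section Res

variable {B : Type u} [CommRing B] (φ : A →+* B)

/-- restriction of scalars preserves and reflects exactness -/
lemma exactAt_resCx_iff (W : DRing.Cx B) (i : ℤ) :
    ((DTen.resCx φ).obj W).ExactAt i ↔ W.ExactAt i := by
  rw [HomologicalComplex.exactAt_iff' _ (i - 1) i (i + 1) (by simp) (by simp),
    HomologicalComplex.exactAt_iff' _ (i - 1) i (i + 1) (by simp) (by simp),
    ShortComplex.ShortExact.moduleCat_exact_iff_function_exact,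
    ShortComplex.ShortExact.moduleCat_exact_iff_function_exact]
  exact Iff.rfl

/-- projection formula on the level of exactness -/
lemma exactAt_proj_iff (F : DRing.Cx A) (K : DRing.Cx B) (i : ℤ) :
    (F ⊗ (DTen.resCx φ).obj K).ExactAt i ↔ ((DTen.extCx φ).obj F ⊗ K).ExactAt i := by
  rw [exactAt_iff_of_iso (asIso (DTenRelProj.πhom φ F K)) i, exactAt_resCx_iff]

end Res

end Groth.Agent.Lib.Helper46.TorAmpExact
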