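import Groth.Agent.Lib.Helper46.TorAmpExact
import Groth.Agent.Lib.Helper12.LocalizationBaseChange
import Groth.Agent.S6947
import Groth.Agent.Lib.Helper36.TorAmpGlDim
import Groth.Prelude.Def_DTen6

/-!
# Tor amplitude of a restriction can be checked at the maximal ideals of the source ring (helper46)

Namespace `Groth.Agent.Lib.Helper46.TorAmpLocal`: `function_exact_of_forall_maximal`,
`exactAt_of_forall_maximal` (exactness of a complex is local at maximal ideals), `resResIso`,
`hasTorAmplitudeIn_res_of_flat`, `hasTorAmplitudeIn_of_forall_maximal`.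
-/

set_option autoImplicit false
universe u
open CategoryTheory CategoryTheory.Limits CochainComplex DerivedCategory MonoidalCategory
attribute [local instance] HasDerivedCategory.standard

namespace Groth.Agent.Lib.Helper46.TorAmpLocal

open Groth.Agent.Lib.Helper12

variable {B : Type u} [CommRing B]

lemma exactAt_iff_function_exact (W : DRing.Cx B) (i : ℤ) :
    W.ExactAt i ↔ Function.Exact (W.d (i - 1) i).hom (W.d i (i + 1)).hom := by
  rw [HomologicalComplex.exactAt_iff' _ (i - 1) i (i + 1) (by simp) (by simp),
    ShortComplex.ShortExact.moduleCat_exact_iff_function_exact]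
  exact Iff.rfl

theorem function_exact_of_forall_maximal {M N L : ModuleCat.{u} B} (f : M ⟶ N) (g : N ⟶ L)
    (hfg : f ≫ g = 0)
    (h : ∀ (m : Ideal B) [m.IsMaximal], Function.Exact
      ((ModuleCat.extendScalars (algebraMap B (Localization.AtPrime m))).map f).hom
      ((ModuleCat.extendScalars (algebraMap B (Localization.AtPrime m))).map g).hom) :
    Function.Exact f.hom g.hom := by
  intro x
  constructor
  · intro hx
    by_contra hne
    let J : Ideal B := (LinearMap.range f.hom).comap (LinearMap.toSpanSingleton B N x)
    have hJ : J ≠ ⊤ := by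
      intro hJ
      have h1 : (1 : B) ∈ J := by rw [hJ]; trivial
      apply hne
      have h2 : (1 : B) • x ∈ LinearMap.range f.hom := h1
      rwa [one_smul] at h2
    obtain ⟨m, hm, hJm⟩ := Ideal.exists_le_maximal J hJ
    haveI := hm
    let ψ := algebraMap B (Localization.AtPrime m)
    let η := (ModuleCat.extendRestrictScalarsAdj.{u, u, u} ψ).unit
    have hnatf := η.naturality f
    have hnatg := η.naturality g
    have h1 : ((ModuleCat.extendScalars ψ).map g).hom ((η.app N).hom x) = 0 := by
      have h3 := congrArg (fun k => k.hom x) hnatg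
      dsimp at h3
      rw [hx, map_zero] at h3
      exact h3.symm
    obtain ⟨y, hy⟩ := (h m _).1 h1
    haveI := isLocalizedModule_unit (B := Localization.AtPrime m) m.primeCompl M
    haveI := isLocalizedModule_unit (B := Localization.AtPrime m) m.primeCompl N
    let y' : ↑((ModuleCat.restrictScalars ψ).obj ((ModuleCat.extendScalars ψ).obj M)) := y
    obtain ⟨⟨w, s⟩, hs⟩ := IsLocalizedModule.surj m.primeCompl (η.app M).hom y'
    have h2 : (η.app N).hom ((s : B) • x) = (η.app N).hom (f.hom w) := by
      have h4 := congrArg (fun k => k.hom w) hnatf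
      dsimp at h4
      rw [h4, ← hs, map_smul, ← hy]
      exact (map_smul ((ModuleCat.restrictScalars ψ).map ((ModuleCat.extendScalars ψ).map f)).hom
        (s : B) y').symm
    obtain ⟨t, ht⟩ := IsLocalizedModule.exists_of_eq (S := m.primeCompl) (f := (η.app N).hom) h2
    have h5 : (t : B) * s ∈ J := by
      change LinearMap.toSpanSingleton B N x (t * s) ∈ LinearMap.range f.hom
      rw [LinearMap.toSpanSingleton_apply, mul_smul]
      refine ⟨(t : B) • w, ?_⟩
      rw [map_smul]
      exact ht.symm
    exact (m.primeCompl.mul_mem t.2 s.2) (hJm h5)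
  · rintro ⟨y, rfl⟩
    have h3 := congrArg (fun k => k.hom y) hfg
    simpa using h3

theorem exactAt_of_forall_maximal (W : DRing.Cx B) (i : ℤ)
    (h : ∀ (m : Ideal B) [m.IsMaximal],
      ((DTen.extCx (algebraMap B (Localization.AtPrime m))).obj W).ExactAt i) :
    W.ExactAt i := by
  rw [exactAt_iff_function_exact]
  refine function_exact_of_forall_maximal _ _ (W.d_comp_d _ _ _) (fun m _ => ?_)
  have h1 := h m
  rw [exactAt_iff_function_exact] at h1
  exact h1

section Sq

variable {A A' B' : Type u} [CommRing A] [CommRing A'] [CommRing B']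
  (φ : A →+* B) (ψ : B →+* B') (ι : A →+* A') (lam : A' →+* B')

/-- restriction along the two paths of a commutative square of rings -/
noncomputable def resResIso (hsq : ψ.comp φ = lam.comp ι) (Y : DRing.Cx B') :
    (DTen.resCx φ).obj ((DTen.resCx ψ).obj Y) ≅ (DTen.resCx ι).obj ((DTen.resCx lam).obj Y) :=
  HomologicalComplex.Hom.isoOfComponents (fun n =>
    (ModuleCat.restrictScalarsComp'App φ ψ (ψ.comp φ) rfl (Y.X n)).symm ≪≫
      ModuleCat.restrictScalarsComp'App ι lam (ψ.comp φ) hsq (Y.X n)) (fun i j _ => by ext y; rfl)

end Sq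

section Flat

variable {A A' : Type u} [CommRing A] [CommRing A'] [Algebra A A'] [Module.Flat A A']

/-- tor amplitude is preserved by restriction along a flat ring map -/
theorem hasTorAmplitudeIn_res_of_flat (Y : DRing.Cx A') (a b : ℤ)
    (h : DRing.HasTorAmplitudeIn A' a b (DRing.toD Y)) :
    DRing.HasTorAmplitudeIn A a b (DRing.toD ((DTen.resCx (algebraMap A A')).obj Y)) := by
  have hB : DRing.HasTorAmplitudeIn A (-((0 : ℕ) : ℤ)) 0 (Dual.inD A A') := by
    have := Groth.Agent.Lib.Helper36.TorAmpExt.hasTorAmplitudeIn_single_of_flat (ModuleCat.of A A')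
    simpa using this
  have h1 := Groth.Agent.S6947.result 0 hB (DRing.toD Y) a b h
  have h2 : a - ((0 : ℕ) : ℤ) = a := by simp
  rw [h2] at h1
  exact hasTorAmplitudeIn_of_iso ((DTen.resFactors (algebraMap A A')).app Y) h1

end Flat

section Main

open Groth.Agent.Lib.Helper46.TorAmpExact

variable {A : Type u} [CommRing A] [Algebra A B]

/-- tor amplitude of `K|_A` can be checked after localizing at the maximal ideals of `B` -/
theorem hasTorAmplitudeIn_of_forall_maximal (K : DRing.Cx B) (a b : ℤ)
    (h3 : ∀ (m : Ideal B) [m.IsMaximal],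
      DRing.HasTorAmplitudeIn (Localization.AtPrime (m.comap (algebraMap A B))) a b
        (DRing.toD ((DTen.resCx (Localization.localRingHom (m.comap (algebraMap A B)) m
          (algebraMap A B) rfl)).obj
          ((DTen.extCx (algebraMap B (Localization.AtPrime m))).obj K)))) :
    DRing.HasTorAmplitudeIn A a b (DRing.toD ((DTen.resCx (algebraMap A B)).obj K)) := by
  refine hasTorAmplitudeIn_of_exactAt _ a b (fun Q F hF f _ i hi => ?_)
  rw [exactAt_proj_iff]
  refine exactAt_of_forall_maximal _ i (fun m _ => ?_)
  refine (exactAt_iff_of_iso (show (DTen.extCx (algebraMap B (Localization.AtPrime m))).obj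
      ((DTen.extCx (algebraMap A B)).obj F ⊗ K) ≅
    ((DTen.extCx (algebraMap B (Localization.AtPrime m))).obj
      ((DTen.extCx (algebraMap A B)).obj F)) ⊗
      ((DTen.extCx (algebraMap B (Localization.AtPrime m))).obj K) from
    DTen.extTenCxIso (algebraMap B (Localization.AtPrime m))
      ((DTen.extCx (algebraMap A B)).obj F) K) i).2 ?_
  rw [← exactAt_proj_iff (algebraMap B (Localization.AtPrime m)),
    ← exactAt_proj_iff (algebraMap A B)]
  refine exactAt_of_hasTorAmplitudeIn _ a b ?_ Q F hF f i hi
  have hsq : (algebraMap B (Localization.AtPrime m)).comp (algebraMap A B) =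
      (Localization.localRingHom (m.comap (algebraMap A B)) m (algebraMap A B) rfl).comp
        (algebraMap A (Localization.AtPrime (m.comap (algebraMap A B)))) :=
    RingHom.ext fun x => (Localization.localRingHom_to_map _ _ _ rfl x).symm
  have h4 := hasTorAmplitudeIn_res_of_flat (A := A)
    (A' := Localization.AtPrime (m.comap (algebraMap A B))) _ a b (h3 m)
  exact hasTorAmplitudeIn_of_iso (DerivedCategory.Q.mapIso (resResIso (algebraMap A B)
    (algebraMap B (Localization.AtPrime m))
    (algebraMap A (Localization.AtPrime (m.comap (algebraMap A B))))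
    (Localization.localRingHom (m.comap (algebraMap A B)) m (algebraMap A B) rfl) hsq
    ((DTen.extCx (algebraMap B (Localization.AtPrime m))).obj K)).symm) h4

end Main

end Groth.Agent.Lib.Helper46.TorAmpLocal
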