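import Groth.Agent.Lib.Helper46.TorAmpExact
import Groth.Agent.Lib.Helper36.TensorTerms
import Groth.Agent.Lib.Helper36.LTensorCxCompute
import Groth.Agent.Lib.Helper36.LTensorCxPC
import Groth.Agent.Lib.Helper12.DRingTorAmpRep

/-!
# Tor amplitude of `K ⊗^L_B L` restricted along `A → B` (helper46)

Namespace `Groth.Agent.Lib.Helper46.TorAmpTensor`.
-/

set_option autoImplicit false
universe u
open CategoryTheory CategoryTheory.Limits CochainComplex DerivedCategory MonoidalCategory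
attribute [local instance] HasDerivedCategory.standard

namespace Groth.Agent.Lib.Helper46.TorAmpTensor

open Groth.Agent.Lib.Helper36 Groth.Agent.Lib.Helper36.KP Groth.Agent.Lib.Helper36.LT
  Groth.Agent.Lib.Helper36.LTCx
  Groth.Agent.Lib.Helper94.KFlatRing Groth.Agent.Lib.Helper94.KFlatSymmInst
  Groth.Agent.Lib.Helper94.KFlatBdd Groth.Agent.Lib.Helper12 Groth.Agent.Lib.Helper46.DTenAssoc
  Groth.Agent.Lib.Helper46.TorAmpExact

variable {B : Type u} [CommRing B]

/-- a quasi-isomorphism between K-flat complexes stays a quasi-isomorphism after `- ⊗ Z` -/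
lemma quasiIso_whiskerRight_of_kf_kf (P E : DRing.Cx B) (hP : KF B P) (hE : KF B E) (p : P ⟶ E)
    [QuasiIso p] (Z : DRing.Cx B) : QuasiIso (p ▷ Z) := by
  obtain ⟨Z', z, hz, hZ', -⟩ := exists_resolution Z
  haveI := hz
  haveI := hZ'
  have hZ'f : KF B Z' := (kf_iff B Z').2 (isKFlat₂_of_isKProjective B Z')
  haveI h1 : QuasiIso (p ▷ Z') := quasiIso_whiskerRight_of_kf B Z' hZ'f p
  haveI h2 : QuasiIso (P ◁ z) := quasiIso_whiskerLeft_of_kf' P hP z
  haveI h3 : QuasiIso (E ◁ z) := quasiIso_whiskerLeft_of_kf' E hE z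
  have hcomm : (P ◁ z) ≫ (p ▷ Z) = (p ▷ Z') ≫ (E ◁ z) := whisker_exchange p z
  haveI h4 : QuasiIso ((P ◁ z) ≫ (p ▷ Z)) := by
    rw [hcomm]
    infer_instance
  exact quasiIso_of_comp_left (P ◁ z) (p ▷ Z)

/-- exactness is invariant under quasi-isomorphism -/
lemma exactAt_iff_of_quasiIso {X Y : DRing.Cx B} (f : X ⟶ Y) [QuasiIso f] (i : ℤ) :
    X.ExactAt i ↔ Y.ExactAt i := by
  rw [HomologicalComplex.exactAt_iff_isZero_homology,
    HomologicalComplex.exactAt_iff_isZero_homology]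
  exact (asIso (HomologicalComplex.homologyMap f i)).isZero_iff

/-- `E` K-flat concentrated in `[a,b]`, `Z` with cohomology in `[c,d]`: `E ⊗ Z` has cohomology
in `[a+c, b+d]` -/
lemma exactAt_tensor_of_bounded (E : DRing.Cx B) (hE : KF B E) (a b : ℤ)
    (hEv : DRing.VanishesOutside E a b) (Z : DRing.Cx B) (c d : ℤ)
    (hZ : ∀ j : ℤ, (j < c ∨ d < j) → Z.ExactAt j) (n : ℤ) (hn : n < a + c ∨ b + d < n) :
    (E ⊗ Z).ExactAt n := by
  haveI : Z.IsGE c := by
    rw [CochainComplex.isGE_iff]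
    intro i hi
    exact hZ i (Or.inl hi)
  haveI : Z.IsLE d := by
    rw [CochainComplex.isLE_iff]
    intro i hi
    exact hZ i (Or.inr hi)
  obtain ⟨Z₂, h1, h2, ⟨e⟩⟩ :=
    DerivedCategory.exists_iso_Q_obj_of_isGE_of_isLE (Q.obj Z) c d
  obtain ⟨e'⟩ := nonempty_tensor_iso_of_iso E hE Z Z₂ e
  have hv : DRing.VanishesOutside Z₂ c d := fun i hi => by
    rcases hi with hi | hi
    · exact Z₂.isZero_of_isStrictlyGE c i hi
    · exact Z₂.isZero_of_isStrictlyLE d i hi
  have h3 : (E ⊗ Z₂).ExactAt n :=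
    ShortComplex.exact_of_isZero_X₂ _ (TT.vanishesOutside_tensor E Z₂ hEv hv n hn)
  rw [exactAt_iff_subsingleton_HD] at h3 ⊢
  have e'' := (DerivedCategory.homologyFunctor (ModuleCat.{u} B) n).mapIso e'
  exact ModuleCat.subsingleton_of_isZero
    (IsZero.of_iso (ModuleCat.isZero_of_subsingleton _) e'')

/-- **Tor amplitude of `K ⊗^L_B L` over `A`.** -/
theorem hasTorAmplitudeIn_restrict_lTensorCx {A : Type u} [CommRing A] [Algebra A B]
    (K : Dual.D B) (a b c d : ℤ) (hK : DRing.HasTorAmplitudeIn B a b K) (L : DRing.Cx B)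
    (hL : DRing.HasTorAmplitudeIn A c d (DRing.toD ((DTen.resCx (algebraMap A B)).obj L)))
    [DRing.HasLTensorCx B L] :
    DRing.HasTorAmplitudeIn A (a + c) (b + d)
      ((DRing.restrictD (algebraMap A B)).obj ((DRing.LTensorCx B L).obj K)) := by
  obtain ⟨E, hEv, hEfl, ⟨eE⟩⟩ := hK
  have hEb : DRing.VanishesAbove E b := fun i hi => hEv i (Or.inr hi)
  have hE : KF B E := kf_of_bounded_above B E b hEb hEfl
  obtain ⟨P, p, hp, hPK, hPp, hPb⟩ := exists_resolution_above E b hEb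
  have hP : KF B P := kf_of_bounded_above B P b hPb (fun i => by
    have := hPp i
    infer_instance)
  haveI := hp
  haveI := hPK
  haveI : IsIso (Q.map p) := by
    rw [isIso_Q_map_iff_quasiIso]
    exact hp
  let e : (DRing.LTensorCx B L).obj K ≅ DRing.toD (P ⊗ L) :=
    (DRing.LTensorCx B L).mapIso (eE.symm ≪≫ (asIso (Q.map p)).symm) ≪≫ lTensorCxObjIso L P
  refine hasTorAmplitudeIn_of_iso (((DTen.resFactors (algebraMap A B)).app (P ⊗ L)).symm ≪≫
    (DRing.restrictD (algebraMap A B)).mapIso e.symm) ?_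
  refine hasTorAmplitudeIn_of_exactAt _ _ _ (fun M F hF f _ i hi => ?_)
  rw [exactAt_proj_iff]
  have iso1 : (DTen.extCx (algebraMap A B)).obj F ⊗ (P ⊗ L) ≅
      P ⊗ ((DTen.extCx (algebraMap A B)).obj F ⊗ L) :=
    (α_ _ P L).symm ≪≫ whiskerRightIso (DTen.braidCx _ P) L ≪≫ α_ P _ L
  rw [exactAt_iff_of_iso iso1]
  haveI hq := quasiIso_whiskerRight_of_kf_kf P E hP hE p
    ((DTen.extCx (algebraMap A B)).obj F ⊗ L)
  rw [exactAt_iff_of_quasiIso (p ▷ ((DTen.extCx (algebraMap A B)).obj F ⊗ L))]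
  refine exactAt_tensor_of_bounded E hE a b hEv _ c d (fun j hj => ?_) i hi
  rw [← exactAt_proj_iff]
  exact exactAt_of_hasTorAmplitudeIn _ c d hL M F hF f j hj

end Groth.Agent.Lib.Helper46.TorAmpTensor
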