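import Groth.Agent.Lib.Helper46.TorLES2
import Mathlib.RingTheory.Flat.CategoryTheory
import Mathlib.Algebra.Category.ModuleCat.Monoidal.Closed
import Mathlib.Algebra.Homology.ShortComplex.PreservesHomology
import Mathlib.Algebra.Homology.ShortComplex.ExactFunctor

/-!
# `Tor` and tensoring the first variable with a flat module (helper46)

For a flat module `F`: `torTensorFlatIso F X n : (Tor n).obj (F ⊗ X) ≅ (Tor n).obj X ⋙ tensorLeft F`,
i.e. `Torₙ(F ⊗ X, M) ≅ F ⊗ Torₙ(X, M)` naturally in `M`.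
-/

set_option autoImplicit false
set_option backward.isDefEq.respectTransparency false
set_option backward.defeqAttrib.useBackward true

namespace Groth.Agent.Lib.Helper46.TorFlatTensor

open CategoryTheory Limits MonoidalCategory Category
open Groth.Agent.Lib.Helper46 Groth.Agent.Lib.Helper46.TorBalance

universe u

variable {R : Type u} [CommRing R] (F : ModuleCat.{u} R) [Module.Flat R F]

noncomputable instance : (tensorLeft F).PreservesHomology := inferInstance

variable (K : ChainComplex (ModuleCat.{u} R) ℕ)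

/-- `F ⊗ K` -/
noncomputable def FK : ChainComplex (ModuleCat.{u} R) ℕ :=
  ((tensorLeft F).mapHomologicalComplex _).obj K

lemma FK_flat (hK : ∀ i, Module.Flat R (K.X i)) (i : ℕ) : Module.Flat R ((FK F K).X i) := by
  haveI := hK i
  change Module.Flat R (TensorProduct R F (K.X i))
  infer_instance

lemma FK_exactAt (j : ℕ) (h : K.ExactAt j) : (FK F K).ExactAt j :=
  ShortComplex.Exact.map h (tensorLeft F)

/-- `coker (F ⊗ K₁ → F ⊗ K₀) ≅ F ⊗ coker (K₁ → K₀)` -/
noncomputable def FKOpcyclesIso : (FK F K).opcycles 0 ≅ F ⊗ K.opcycles 0 :=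
  (K.sc 0).mapOpcyclesIso (tensorLeft F)

/-- `Torₙ(F ⊗ X, -) ≅ Hₙ((F ⊗ P) ⊗ -)` for the chosen projective resolution `P` of `X`. -/
noncomputable def torIsoHfunFK (X : ModuleCat.{u} R) (n : ℕ) :
    (Tor (ModuleCat.{u} R) n).obj (F ⊗ X) ≅ Hfun (FK F (TorLES2.resK X)) n :=
  TorLES2.torIsoHfunOfRes (FK F (TorLES2.resK X)) (FK_flat F _ (TorLES2.resK_flat X))
    (fun i => FK_exactAt F _ (i + 1) (TorLES2.resK_exact X i))
    (FKOpcyclesIso F _ ≪≫
      (tensorLeft F).mapIso (TorLES2.opcyclesIsoOfRes X (projectiveResolution X))) n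

/-- `(F ⊗ -) ⊗ M ≅ F ⊗ (- ⊗ M)` -/
noncomputable def assocNat (M : ModuleCat.{u} R) :
    tensorLeft F ⋙ tensorRight M ≅ tensorRight M ⋙ tensorLeft F :=
  NatIso.ofComponents (fun Y => α_ F Y M) (by
    intro Y Y' g
    exact associator_naturality_middle F g M)

/-- `(F ⊗ K) ⊗ M ≅ F ⊗ (K ⊗ M)` -/
noncomputable def assocK (M : ModuleCat.{u} R) :
    (tensK (FK F K)).obj M ≅ ((tensorLeft F).mapHomologicalComplex _).obj ((tensK K).obj M) :=
  (NatIso.mapHomologicalComplex (assocNat F M) _).app K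

lemma assocK_naturality {M M' : ModuleCat.{u} R} (g : M ⟶ M') :
    (tensK (FK F K)).map g ≫ (assocK F K M').hom =
      (assocK F K M).hom ≫ ((tensorLeft F).mapHomologicalComplex _).map ((tensK K).map g) := by
  ext i : 1
  exact associator_naturality_right F (K.X i) g

/-- `Hₙ((F ⊗ K) ⊗ M) ≅ F ⊗ Hₙ(K ⊗ M)` -/
noncomputable def HfunFKApp (n : ℕ) (M : ModuleCat.{u} R) :
    (Hfun (FK F K) n).obj M ≅ F ⊗ (Hfun K n).obj M :=
  (HomologicalComplex.homologyFunctor _ _ n).mapIso (assocK F K M) ≪≫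
    (((tensK K).obj M).sc n).mapHomologyIso (tensorLeft F)

/-- `Hₙ((F ⊗ K) ⊗ -) ≅ F ⊗ Hₙ(K ⊗ -)` -/
noncomputable def HfunFKIso (n : ℕ) : Hfun (FK F K) n ≅ Hfun K n ⋙ tensorLeft F :=
  NatIso.ofComponents (fun M => HfunFKApp F K n M) (by
    intro M M' g
    dsimp only [HfunFKApp, Iso.trans_hom, Functor.mapIso_hom, Functor.comp_map]
    have h1 : (Hfun (FK F K) n).map g ≫
        (HomologicalComplex.homologyFunctor _ _ n).map (assocK F K M').hom =
        (HomologicalComplex.homologyFunctor _ _ n).map (assocK F K M).hom ≫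
          (HomologicalComplex.homologyFunctor _ _ n).map
            (((tensorLeft F).mapHomologicalComplex _).map ((tensK K).map g)) := by
      change (HomologicalComplex.homologyFunctor _ _ n).map ((tensK (FK F K)).map g) ≫ _ = _
      rw [← Functor.map_comp, ← Functor.map_comp, assocK_naturality]
    have h2 := ShortComplex.mapHomologyIso_hom_naturality
      ((HomologicalComplex.shortComplexFunctor _ _ n).map ((tensK K).map g)) (tensorLeft F)
    rw [reassoc_of% h1, assoc]
    congr 1)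

/-- `Torₙ(F ⊗ X, M) ≅ F ⊗ Torₙ(X, M)`, naturally in `M`, for `F` flat. -/
noncomputable def torTensorFlatIso (X : ModuleCat.{u} R) (n : ℕ) :
    (Tor (ModuleCat.{u} R) n).obj (F ⊗ X) ≅ (Tor (ModuleCat.{u} R) n).obj X ⋙ tensorLeft F :=
  torIsoHfunFK F X n ≪≫ HfunFKIso F (TorLES2.resK X) n ≪≫
    Functor.isoWhiskerRight (TorLES2.torIsoHfun X n).symm (tensorLeft F)

end Groth.Agent.Lib.Helper46.TorFlatTensor
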