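import Groth.Agent.Lib.Helper46.TorShift
import Groth.Agent.Lib.Helper46.TorFlatTensor
import Mathlib.RingTheory.Filtration
import Mathlib.LinearAlgebra.TensorProduct.Quotient
import Mathlib.LinearAlgebra.TensorProduct.RightExactness

/-!
# Artin–Rees type vanishing of transition maps on `Tor` (helper46)

`ZeroOn i M φ` : the map `Torᵢ(M, φ)` (second variable) is zero.

* `zeroOn_one_of_forall`, `zeroOn_one_quot`: elementwise criteria for `Tor₁`.
* `zeroOn_succ_of_flat`: dimension shifting in the first variable.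
* `zeroOn_succ_of_comp`: the two-step chase along a short exact sequence in the first variable.
* `zeroOn_tensor_flat`: tensoring the first variable with a flat module.
* `exists_zeroOn_of_finite`: (Stacks 0BIE-like) for a finite module `X` over a Noetherian ring there is `c`
  with `Torᵢ₊₁(X, R/I^a) → Torᵢ₊₁(X, R/I^b)` zero whenever `b + c ≤ a`.
* `exists_zeroOn_of_killed`: the same uniformly for all modules killed by `I^m`.
-/

set_option autoImplicit false
set_option backward.isDefEq.respectTransparency false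
set_option backward.defeqAttrib.useBackward true

namespace Groth.Agent.Lib.Helper46.TorArtinRees

open CategoryTheory Limits MonoidalCategory Category TensorProduct
open Groth.Agent.Lib.Helper46 Groth.Agent.Lib.Helper46.TorShift

universe u

variable {R : Type u} [CommRing R]

/-- `Torᵢ(M, φ) = 0` (`φ` in the second, derived, variable). -/
def ZeroOn (i : ℕ) (M : Type u) [AddCommGroup M] [Module R M] {N N' : Type u} [AddCommGroup N]
    [Module R N] [AddCommGroup N'] [Module R N'] (φ : N →ₗ[R] N') : Prop :=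
  ((Tor (ModuleCat.{u} R) i).obj (ModuleCat.of R M)).map (ModuleCat.ofHom φ) = 0

section ses

variable {K F M : Type u} [AddCommGroup K] [Module R K] [AddCommGroup F] [Module R F]
  [AddCommGroup M] [Module R M]
  (ι : K →ₗ[R] F) (π : F →ₗ[R] M) (hι : Function.Injective ι) (hex : Function.Exact ι π)
  (hπ : Function.Surjective π)
variable {N N' N'' : Type u} [AddCommGroup N] [Module R N] [AddCommGroup N'] [Module R N']
  [AddCommGroup N''] [Module R N'']
include hι hex hπ

/-- dimension shifting -/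
theorem zeroOn_succ_of_flat [Module.Flat R F] (i : ℕ) (φ : N →ₗ[R] N') (h : ZeroOn i K φ) :
    ZeroOn (i + 1) M φ := by
  have hS := sesSC_shortExact ι π hι hex hπ
  have : Module.Flat R (ModuleCat.of R F) := ‹Module.Flat R F›
  have hmono : Mono ((TorLES.δ _ hS i).app (ModuleCat.of R N')) :=
    (TorLES.exact₃ _ hS (ModuleCat.of R N') i).mono_g
      ((TorLES.isZero_tor_succ_of_flat_left (ModuleCat.of R F) (ModuleCat.of R N') i).eq_of_src _ _)
  have hnat := (TorLES.δ _ hS i).naturality (ModuleCat.ofHom φ)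
  have h' : ((Tor (ModuleCat.{u} R) i).obj (sesSC ι π hex).X₁).map (ModuleCat.ofHom φ) = 0 := h
  rw [h', comp_zero] at hnat
  have goal' : ((Tor (ModuleCat.{u} R) (i + 1)).obj (sesSC ι π hex).X₃).map
      (ModuleCat.ofHom φ) = 0 := by
    rw [← cancel_mono ((TorLES.δ _ hS i).app (ModuleCat.of R N')), zero_comp]
    exact hnat
  exact goal'

/-- the chase: `Torᵢ(K, φ) = 0` and `Torᵢ₊₁(F, ψ) = 0` imply `Torᵢ₊₁(M, ψ ∘ φ) = 0`. -/
theorem zeroOn_succ_of_comp (i : ℕ) (φ : N →ₗ[R] N') (ψ : N' →ₗ[R] N'')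
    (h₁ : ZeroOn i K φ) (h₂ : ZeroOn (i + 1) F ψ) : ZeroOn (i + 1) M (ψ ∘ₗ φ) := by
  have hS := sesSC_shortExact ι π hι hex hπ
  have h₁' : ((Tor (ModuleCat.{u} R) i).obj (sesSC ι π hex).X₁).map (ModuleCat.ofHom φ) = 0 := h₁
  have h₂' : ((Tor (ModuleCat.{u} R) (i + 1)).obj (sesSC ι π hex).X₂).map
      (ModuleCat.ofHom ψ) = 0 := h₂
  have hnat := (TorLES.δ _ hS i).naturality (ModuleCat.ofHom φ)
  rw [h₁', comp_zero] at hnat
  have hex3 := (TorLES.exact₃ _ hS (ModuleCat.of R N') i).moduleCat_range_eq_ker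
  have hnat2 := ((Tor (ModuleCat.{u} R) (i + 1)).map (sesSC ι π hex).g).naturality
    (ModuleCat.ofHom ψ)
  rw [h₂', zero_comp] at hnat2
  have goal' : ((Tor (ModuleCat.{u} R) (i + 1)).obj (sesSC ι π hex).X₃).map
      (ModuleCat.ofHom (ψ ∘ₗ φ)) = 0 := by
    rw [ModuleCat.ofHom_comp, Functor.map_comp]
    apply ModuleCat.hom_ext
    apply LinearMap.ext
    intro x
    have hy0 : ((TorLES.δ _ hS i).app (ModuleCat.of R N')).hom
        ((((Tor (ModuleCat.{u} R) (i + 1)).obj (sesSC ι π hex).X₃).map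
          (ModuleCat.ofHom φ)).hom x) = 0 :=
      congrArg (fun g => ModuleCat.Hom.hom g x) hnat
    have hy : (((Tor (ModuleCat.{u} R) (i + 1)).obj (sesSC ι π hex).X₃).map
        (ModuleCat.ofHom φ)).hom x ∈
        LinearMap.ker ((TorLES.δ _ hS i).app (ModuleCat.of R N')).hom := hy0
    rw [← hex3] at hy
    obtain ⟨z, hz⟩ := hy
    have h3 := congrArg (fun g => ModuleCat.Hom.hom g z) hnat2
    change (((Tor (ModuleCat.{u} R) (i + 1)).obj (sesSC ι π hex).X₃).map
      (ModuleCat.ofHom ψ)).hom ((((Tor (ModuleCat.{u} R) (i + 1)).obj (sesSC ι π hex).X₃).map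
        (ModuleCat.ofHom φ)).hom x) = 0
    rw [← hz]
    exact h3.symm
  exact goal'

/-- elementwise criterion for `Tor₁` -/
theorem zeroOn_one_of_forall [Module.Flat R F] (φ : N →ₗ[R] N')
    (h : ∀ t : K ⊗[R] N, ι.rTensor N t = 0 → φ.lTensor K t = 0) : ZeroOn 1 M φ := by
  have hS := sesSC_shortExact ι π hι hex hπ
  have : Module.Flat R (ModuleCat.of R F) := ‹Module.Flat R F›
  have hmono : Mono ((TorLES.δ _ hS 0).app (ModuleCat.of R N')) :=
    (TorLES.exact₃ _ hS (ModuleCat.of R N') 0).mono_g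
      ((TorLES.isZero_tor_succ_of_flat_left (ModuleCat.of R F) (ModuleCat.of R N') 0).eq_of_src _ _)
  have hnat := (TorLES.δ _ hS 0).naturality (ModuleCat.ofHom φ)
  have hnat0 := (TorLES.torZeroIso (sesSC ι π hex).X₁).hom.naturality (ModuleCat.ofHom φ)
  have h1 := TorLES.δ_map_f _ hS (ModuleCat.of R N) 0
  have h2 := TorLES.torZeroIso_hom_naturality (sesSC ι π hex).f (ModuleCat.of R N)
  obtain ⟨v, hv⟩ : ∃ v : ((Tor (ModuleCat.{u} R) 1).obj (sesSC ι π hex).X₃).obj (ModuleCat.of R N) ⟶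
      (tensorLeft (sesSC ι π hex).X₁).obj (ModuleCat.of R N),
      v = (TorLES.δ _ hS 0).app (ModuleCat.of R N) ≫
        (TorLES.torZeroIso (sesSC ι π hex).X₁).hom.app (ModuleCat.of R N) := ⟨_, rfl⟩
  have hv1 : v ≫ (sesSC ι π hex).f ▷ (ModuleCat.of R N) = 0 := by
    rw [hv, assoc, ← h2, reassoc_of% h1, zero_comp]
  have hv2 : v ≫ (tensorLeft (sesSC ι π hex).X₁).map (ModuleCat.ofHom φ) = 0 := by
    apply ModuleCat.hom_ext
    apply LinearMap.ext
    intro x
    have hx : ι.rTensor N (v.hom x) = 0 := congrArg (fun g => ModuleCat.Hom.hom g x) hv1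
    exact h (v.hom x) hx
  have goal' : ((Tor (ModuleCat.{u} R) 1).obj (sesSC ι π hex).X₃).map (ModuleCat.ofHom φ) = 0 := by
    rw [← cancel_mono ((TorLES.δ _ hS 0).app (ModuleCat.of R N')), zero_comp, hnat,
      ← cancel_mono ((TorLES.torZeroIso (sesSC ι π hex).X₁).hom.app (ModuleCat.of R N')), zero_comp,
      assoc, hnat0, ← assoc, ← hv]
    exact hv2
  exact goal'

end ses

/-- tensoring the first variable with a flat module -/
theorem zeroOn_tensor_flat (F X : Type u) [AddCommGroup F] [Module R F] [AddCommGroup X] [Module R X]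
    [Module.Flat R F] {N N' : Type u} [AddCommGroup N] [Module R N] [AddCommGroup N'] [Module R N']
    (i : ℕ) (φ : N →ₗ[R] N') (h : ZeroOn i X φ) : ZeroOn i (F ⊗[R] X) φ := by
  have : Module.Flat R (ModuleCat.of R F) := ‹Module.Flat R F›
  have e := TorFlatTensor.torTensorFlatIso (ModuleCat.of R F) (ModuleCat.of R X) i
  have hnat := e.hom.naturality (ModuleCat.ofHom φ)
  have h0 : ((Tor (ModuleCat.{u} R) i).obj (ModuleCat.of R X) ⋙ tensorLeft (ModuleCat.of R F)).map
      (ModuleCat.ofHom φ) = 0 := by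
    rw [Functor.comp_map, h]
    exact Functor.map_zero _ _ _
  rw [h0, comp_zero] at hnat
  have h' : ((Tor (ModuleCat.{u} R) i).obj (ModuleCat.of R F ⊗ ModuleCat.of R X)).map
      (ModuleCat.ofHom φ) = 0 := by
    rw [← cancel_mono (e.hom.app (ModuleCat.of R N')), zero_comp]
    exact hnat
  exact h'

section quot

variable {K : Type u} [AddCommGroup K] [Module R K] (J : Ideal R)

lemma exists_tmul_one (t : K ⊗[R] (R ⧸ J)) : ∃ x : K, t = x ⊗ₜ[R] (1 : R ⧸ J) := by
  induction t using TensorProduct.induction_on with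
  | zero => exact ⟨0, (TensorProduct.zero_tmul _ _).symm⟩
  | tmul n r =>
    obtain ⟨r, rfl⟩ := Ideal.Quotient.mk_surjective r
    refine ⟨r • n, ?_⟩
    rw [TensorProduct.smul_tmul]
    congr 1
    rw [← Ideal.Quotient.algebraMap_eq, Algebra.algebraMap_eq_smul_one]
  | add x y hx hy =>
    obtain ⟨a, rfl⟩ := hx
    obtain ⟨b, rfl⟩ := hy
    exact ⟨a + b, (TensorProduct.add_tmul a b 1).symm⟩

lemma tmul_one_eq_zero_iff (x : K) :
    x ⊗ₜ[R] (1 : R ⧸ J) = 0 ↔ x ∈ J • (⊤ : Submodule R K) := by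
  rw [← (TensorProduct.tensorQuotEquivQuotSMul K J).map_eq_zero_iff,
    ← map_one (Ideal.Quotient.mk J), TensorProduct.tensorQuotEquivQuotSMul_tmul_mk, one_smul,
    Submodule.Quotient.mk_eq_zero]

lemma ext_of_one {J : Ideal R} {N : Type u} [AddCommGroup N] [Module R N]
    (φ φ' : (R ⧸ J) →ₗ[R] N) (h : φ 1 = φ' 1) : φ = φ' := by
  apply LinearMap.ext
  intro x
  obtain ⟨r, rfl⟩ := Ideal.Quotient.mk_surjective x
  rw [← Ideal.Quotient.algebraMap_eq, Algebra.algebraMap_eq_smul_one, map_smul, map_smul, h]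

end quot

/-- criterion for `Tor₁(M, R/J') → Tor₁(M, R/J)` to vanish -/
theorem zeroOn_one_quot {F M : Type u} [AddCommGroup F] [Module R F] [AddCommGroup M] [Module R M]
    [Module.Flat R F] (π : F →ₗ[R] M) (hπ : Function.Surjective π) (J' J : Ideal R)
    (φ : (R ⧸ J') →ₗ[R] (R ⧸ J)) (hφ : φ 1 = 1)
    (h : J' • (⊤ : Submodule R F) ⊓ LinearMap.ker π ≤ J • LinearMap.ker π) : ZeroOn 1 M φ := by
  refine zeroOn_one_of_forall (LinearMap.ker π).subtype π (Submodule.subtype_injective _)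
    (LinearMap.exact_subtype_ker_map π) hπ φ ?_
  intro t ht
  obtain ⟨x, rfl⟩ := exists_tmul_one J' t
  rw [LinearMap.rTensor_tmul, Submodule.subtype_apply, tmul_one_eq_zero_iff] at ht
  rw [LinearMap.lTensor_tmul, hφ, tmul_one_eq_zero_iff]
  have hx : (x : F) ∈ J • LinearMap.ker π := h ⟨ht, x.2⟩
  have hmap : (J • (⊤ : Submodule R (LinearMap.ker π))).map (LinearMap.ker π).subtype =
      J • LinearMap.ker π := by
    rw [Submodule.map_smul'', Submodule.map_subtype_top]
  rw [← hmap] at hx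
  obtain ⟨y, hy, hyx⟩ := hx
  have : y = x := Subtype.ext hyx
  rwa [← this]

section noeth

variable [IsNoetherianRing R] (I : Ideal R)

theorem exists_zeroOn_one_of_finite (X : Type u) [AddCommGroup X] [Module R X] [Module.Finite R X] :
    ∃ c : ℕ, ∀ a b : ℕ, b + c ≤ a → ∀ φ : (R ⧸ I ^ a) →ₗ[R] (R ⧸ I ^ b), φ 1 = 1 →
      ZeroOn 1 X φ := by
  obtain ⟨n, π, hπ⟩ := Module.Finite.exists_fin' R X
  obtain ⟨k, hk⟩ := Ideal.exists_pow_inf_eq_pow_smul I (LinearMap.ker π)
  refine ⟨k, fun a b hab φ hφ => zeroOn_one_quot π hπ (I ^ a) (I ^ b) φ hφ ?_⟩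
  rw [hk a (by omega)]
  calc I ^ (a - k) • (I ^ k • ⊤ ⊓ LinearMap.ker π) ≤ I ^ (a - k) • LinearMap.ker π :=
        Submodule.smul_mono le_rfl inf_le_right
    _ ≤ I ^ b • LinearMap.ker π :=
        Submodule.smul_mono (Ideal.pow_le_pow_right (by omega)) le_rfl

/-- for a finite module `X`, `Torᵢ₊₁(X, R/I^a) → Torᵢ₊₁(X, R/I^b)` vanishes for `a ≥ b + c`. -/
theorem exists_zeroOn_of_finite (i : ℕ) :
    ∀ (X : Type u) [AddCommGroup X] [Module R X] [Module.Finite R X],
      ∃ c : ℕ, ∀ a b : ℕ, b + c ≤ a → ∀ φ : (R ⧸ I ^ a) →ₗ[R] (R ⧸ I ^ b), φ 1 = 1 →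
        ZeroOn (i + 1) X φ := by
  induction i with
  | zero =>
    intro X _ _ _
    exact exists_zeroOn_one_of_finite I X
  | succ i ih =>
    intro X _ _ _
    obtain ⟨n, π, hπ⟩ := Module.Finite.exists_fin' R X
    obtain ⟨c, hc⟩ := ih (LinearMap.ker π)
    refine ⟨c, fun a b hab φ hφ => ?_⟩
    exact zeroOn_succ_of_flat (LinearMap.ker π).subtype π (Submodule.subtype_injective _)
      (LinearMap.exact_subtype_ker_map π) hπ (i + 1) φ (hc a b hab φ hφ)

omit [IsNoetherianRing R] in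
/-- elements of `I^m` kill `F ⊗ R/I^m` -/
lemma smul_tensorQuot_eq_zero {F : Type u} [AddCommGroup F] [Module R F] (J : Ideal R) (a : R)
    (ha : a ∈ J) (t : F ⊗[R] (R ⧸ J)) : a • t = 0 := by
  induction t using TensorProduct.induction_on with
  | zero => simp
  | tmul n r =>
    obtain ⟨r, rfl⟩ := Ideal.Quotient.mk_surjective r
    rw [← TensorProduct.tmul_smul]
    have : a • (Ideal.Quotient.mk J r) = 0 := by
      rw [← Ideal.Quotient.mk_eq_mk, ← Submodule.Quotient.mk_smul, Submodule.Quotient.mk_eq_zero]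
      exact J.mul_mem_right r ha
    rw [this, TensorProduct.tmul_zero]
  | add x y hx hy => rw [smul_add, hx, hy, add_zero]

/-- uniformly for all modules killed by `I^m` -/
theorem exists_zeroOn_of_killed (m : ℕ) (i : ℕ) :
    ∃ c : ℕ, ∀ (M : Type u) [AddCommGroup M] [Module R M], (∀ a ∈ I ^ m, ∀ x : M, a • x = 0) →
      ∀ a b : ℕ, b + c ≤ a → ∀ φ : (R ⧸ I ^ a) →ₗ[R] (R ⧸ I ^ b), φ 1 = 1 →
        ZeroOn (i + 1) M φ := by
  induction i with
  | zero =>
    refine ⟨m, fun M _ _ hM a b hab φ hφ => ?_⟩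
    refine zeroOn_one_quot (Finsupp.linearCombination R (id : M → M))
      (Finsupp.linearCombination_id_surjective R M) (I ^ a) (I ^ b) φ hφ ?_
    intro x hx
    have hle : I ^ (a - b) • (⊤ : Submodule R (M →₀ R)) ≤
        LinearMap.ker (Finsupp.linearCombination R (id : M → M)) := by
      rw [Submodule.smul_le]
      intro c hc f _
      rw [LinearMap.mem_ker, map_smul]
      exact hM c (Ideal.pow_le_pow_right (by omega) hc) _
    have hpow : I ^ a = I ^ b * I ^ (a - b) := by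
      rw [← pow_add]
      congr 1
      omega
    have h1 := hx.1
    rw [hpow, Submodule.mul_smul] at h1
    exact Submodule.smul_mono le_rfl hle h1
  | succ i ih =>
    obtain ⟨c₁, hc₁⟩ := ih
    obtain ⟨c₂, hc₂⟩ := exists_zeroOn_of_finite I (i + 1) (R ⧸ I ^ m)
    refine ⟨c₁ + c₂, fun M _ _ hM a b hab φ hφ => ?_⟩
    -- the presentation `(M →₀ R) ⊗ R/I^m → M`
    have hbot : I ^ m • (⊤ : Submodule R M) = ⊥ := by
      rw [eq_bot_iff, Submodule.smul_le]
      intro c hc x _
      rw [Submodule.mem_bot]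
      exact hM c hc x
    obtain ⟨e, -⟩ : ∃ e : (M ⊗[R] (R ⧸ I ^ m)) ≃ₗ[R] M, True :=
      ⟨(TensorProduct.tensorQuotEquivQuotSMul M (I ^ m)).trans
        (Submodule.quotEquivOfEqBot _ hbot), trivial⟩
    obtain ⟨F, _, _, _, π, hπ⟩ : ∃ (F : Type u) (_ : AddCommGroup F) (_ : Module R F)
        (_ : Module.Flat R F) (π : F →ₗ[R] M), Function.Surjective π :=
      ⟨M →₀ R, inferInstance, inferInstance, inferInstance,
        Finsupp.linearCombination R (id : M → M), Finsupp.linearCombination_id_surjective R M⟩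
    obtain ⟨πP, hπP⟩ : ∃ πP : (F ⊗[R] (R ⧸ I ^ m)) →ₗ[R] M, Function.Surjective πP :=
      ⟨e.toLinearMap ∘ₗ π.rTensor (R ⧸ I ^ m),
        e.surjective.comp (LinearMap.rTensor_surjective _ hπ)⟩
    have hK : ∀ c ∈ I ^ m, ∀ s : LinearMap.ker πP, c • s = 0 := by
      intro c hc s
      apply Subtype.ext
      rw [Submodule.coe_smul, Submodule.coe_zero]
      exact smul_tensorQuot_eq_zero (I ^ m) c hc _
    have hle1 : I ^ a ≤ I ^ (b + c₂) := Ideal.pow_le_pow_right (by omega)
    have hle2 : I ^ (b + c₂) ≤ I ^ b := Ideal.pow_le_pow_right (by omega)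
    have h₁ : ZeroOn (i + 1) (LinearMap.ker πP) (Submodule.factor hle1) :=
      hc₁ (LinearMap.ker πP) hK a (b + c₂) (by omega) _ rfl
    have h₂ : ZeroOn (i + 1 + 1) (F ⊗[R] (R ⧸ I ^ m)) (Submodule.factor hle2) :=
      zeroOn_tensor_flat _ _ _ _ (hc₂ (b + c₂) b le_rfl _ rfl)
    have h₃ := zeroOn_succ_of_comp (LinearMap.ker πP).subtype πP (Submodule.subtype_injective _)
      (LinearMap.exact_subtype_ker_map πP) hπP (i + 1) _ _ h₁ h₂
    have hφ' : φ = Submodule.factor hle2 ∘ₗ Submodule.factor hle1 := by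
      apply ext_of_one
      rw [hφ]
      rfl
    rw [hφ']
    exact h₃

end noeth

end Groth.Agent.Lib.Helper46.TorArtinRees
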