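import Groth.Agent.Lib.Helper46.TorLES
import Mathlib.Algebra.Homology.ShortComplex.HomologicalComplex
import Mathlib.Algebra.Homology.HomologySequenceLemmas

/-!
# Balancing Tor (helper46)

For a chain complex `K` of flat `R`-modules which is exact in positive degrees (a flat resolution of
`K.opcycles 0 = coker (K₁ ⟶ K₀)`), we construct isomorphisms, natural in `N`,
`Torₙ(K.opcycles 0, N) ≅ Hₙ(K ⊗ N)`, where `Tor` is Mathlib's Tor (derived in the second variable).
Consequences: long exact sequence of Tor in the second variable.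
-/

set_option autoImplicit false
set_option backward.isDefEq.respectTransparency false
set_option backward.defeqAttrib.useBackward true

namespace Groth.Agent.Lib.Helper46.TorBalance

open CategoryTheory Limits MonoidalCategory Category
open Groth.Agent.Lib.Helper46

universe u

variable {R : Type u} [CommRing R]

section General

variable {C : Type*} [Category C] [Abelian C] {ι : Type*} {c : ComplexShape ι}

lemma mono_fromOpcycles_of_exactAt (K : HomologicalComplex C c) (i j : ι) (hij : c.Rel i j)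
    (h : K.ExactAt i) : Mono (K.fromOpcycles i j) := by
  obtain rfl := c.next_eq' hij
  exact (K.sc i).exact_iff_mono_fromOpcycles.mp h

end General

variable (K : ChainComplex (ModuleCat.{u} R) ℕ)

/-- The functor `N ↦ K ⊗ N`. -/
noncomputable def tensK : ModuleCat.{u} R ⥤ ChainComplex (ModuleCat.{u} R) ℕ where
  obj N := ((tensorRight N).mapHomologicalComplex _).obj K
  map f := (NatTrans.mapHomologicalComplex ((tensoringRight _).map f) _).app K
  map_id N := by ext i; simp
  map_comp f g := by ext i; simp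

@[simp] lemma tensK_obj_X (N : ModuleCat.{u} R) (i : ℕ) : ((tensK K).obj N).X i = K.X i ⊗ N := rfl

@[simp] lemma tensK_obj_d (N : ModuleCat.{u} R) (i j : ℕ) :
    ((tensK K).obj N).d i j = K.d i j ▷ N := rfl

@[simp] lemma tensK_map_f {N N' : ModuleCat.{u} R} (f : N ⟶ N') (i : ℕ) :
    ((tensK K).map f).f i = K.X i ◁ f := rfl

/-- `N ↦ Hₘ(K ⊗ N)`. -/
noncomputable def Hfun (m : ℕ) : ModuleCat.{u} R ⥤ ModuleCat.{u} R :=
  tensK K ⋙ HomologicalComplex.homologyFunctor _ _ m

/-- The sequence `0 ⟶ Zₖ₊₁ ⟶ Kₖ ⟶ Zₖ ⟶ 0` where `Zₖ = K.opcycles k = coker (Kₖ₊₁ ⟶ Kₖ)`. -/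
noncomputable def syzSC (k : ℕ) : ShortComplex (ModuleCat.{u} R) :=
  ShortComplex.mk (K.fromOpcycles (k + 1) k) (K.pOpcycles k) (by
    rw [← cancel_epi (K.pOpcycles (k + 1)), HomologicalComplex.p_fromOpcycles_assoc,
      HomologicalComplex.d_pOpcycles, comp_zero])

lemma syzSC_shortExact (k : ℕ) (hk : K.ExactAt (k + 1)) : (syzSC K k).ShortExact where
  exact := by
    apply ShortComplex.exact_of_g_is_cokernel
    have h := K.opcyclesIsCokernel (k + 1) k (by simp)
    exact isCokernelOfComp (K.pOpcycles (k + 1)) (K.d (k + 1) k) h (syzSC K k).zero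
      (K.p_fromOpcycles (k + 1) k)
  mono_f := mono_fromOpcycles_of_exactAt K (k + 1) k (by simp) hk
  epi_g := by dsimp [syzSC]; infer_instance

section StageA

variable (S : ShortComplex (ModuleCat.{u} R)) (hS : S.ShortExact) [Module.Flat R S.X₂]

lemma mono_δ_app (n : ℕ) (N : ModuleCat.{u} R) : Mono ((TorLES.δ S hS n).app N) :=
  (TorLES.exact₃ S hS N n).mono_g
    ((TorLES.isZero_tor_succ_of_flat_left S.X₂ N n).eq_of_src _ _)

lemma isIso_δ_app (n : ℕ) (N : ModuleCat.{u} R) : IsIso ((TorLES.δ S hS (n + 1)).app N) := by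
  haveI := mono_δ_app S hS (n + 1) N
  haveI : Epi ((TorLES.δ S hS (n + 1)).app N) := (TorLES.exact₁ S hS N (n + 1)).epi_f
    ((TorLES.isZero_tor_succ_of_flat_left S.X₂ N n).eq_of_tgt _ _)
  exact isIso_of_mono_of_epi _

lemma isIso_δ (n : ℕ) : IsIso (TorLES.δ S hS (n + 1)) := by
  haveI := isIso_δ_app S hS n
  exact NatIso.isIso_of_isIso_app _

/-- Dimension shifting: for a short exact sequence with flat middle term,
`δ : Torₙ₊₂(X₃,-) ≅ Torₙ₊₁(X₁,-)`. -/
noncomputable def δIso (n : ℕ) :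
    (Tor (ModuleCat.{u} R) (n + 1 + 1)).obj S.X₃ ≅ (Tor (ModuleCat.{u} R) (n + 1)).obj S.X₁ :=
  @asIso _ _ _ _ (TorLES.δ S hS (n + 1)) (isIso_δ S hS n)

end StageA

section Comparison

variable (j : ℕ)

/-- `Zⱼ ⊗ N` is a cokernel of `Kⱼ₊₁ ⊗ N ⟶ Kⱼ ⊗ N`. -/
noncomputable def isColimitTens (N : ModuleCat.{u} R) :
    IsColimit ((CokernelCofork.ofπ (K.pOpcycles j)
      (K.d_pOpcycles (j + 1) j)).map (tensorRight N)) :=
  CokernelCofork.mapIsColimit _ (K.opcyclesIsCokernel (j + 1) j (by simp)) (tensorRight N)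

/-- comparison `(K ⊗ N).opcycles j ⟶ K.opcycles j ⊗ N` -/
noncomputable def cHom (N : ModuleCat.{u} R) :
    ((tensK K).obj N).opcycles j ⟶ K.opcycles j ⊗ N :=
  ((tensK K).obj N).descOpcycles (K.pOpcycles j ▷ N) (j + 1) (by simp) (by
    rw [tensK_obj_d, ← comp_whiskerRight, K.d_pOpcycles, MonoidalPreadditive.zero_whiskerRight])

/-- comparison `K.opcycles j ⊗ N ⟶ (K ⊗ N).opcycles j` -/
noncomputable def cInv (N : ModuleCat.{u} R) :
    K.opcycles j ⊗ N ⟶ ((tensK K).obj N).opcycles j :=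
  (isColimitTens K j N).desc (CokernelCofork.ofπ (((tensK K).obj N).pOpcycles j)
    (((tensK K).obj N).d_pOpcycles (j + 1) j))

@[reassoc (attr := simp)]
lemma p_cHom (N : ModuleCat.{u} R) :
    ((tensK K).obj N).pOpcycles j ≫ cHom K j N = K.pOpcycles j ▷ N :=
  ((tensK K).obj N).p_descOpcycles _ _ _ _

@[reassoc (attr := simp)]
lemma p_cInv (N : ModuleCat.{u} R) :
    K.pOpcycles j ▷ N ≫ cInv K j N = ((tensK K).obj N).pOpcycles j :=
  Cofork.IsColimit.π_desc (isColimitTens K j N)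

instance instPreservesEpi (N : ModuleCat.{u} R) : (tensorRight N).PreservesEpimorphisms := by
  haveI : PreservesColimitsOfShape WalkingSpan (tensorRight N) :=
    PreservesFiniteColimits.preservesFiniteColimits WalkingSpan
  exact preservesEpimorphisms_of_preservesColimitsOfShape _

instance (N : ModuleCat.{u} R) : Epi (K.pOpcycles j ▷ N) :=
  (tensorRight N).map_epi (K.pOpcycles j)

@[reassoc (attr := simp)]
lemma cHom_cInv (N : ModuleCat.{u} R) : cHom K j N ≫ cInv K j N = 𝟙 _ := by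
  rw [← cancel_epi (((tensK K).obj N).pOpcycles j)]
  simp

@[reassoc (attr := simp)]
lemma cInv_cHom (N : ModuleCat.{u} R) : cInv K j N ≫ cHom K j N = 𝟙 _ := by
  rw [← cancel_epi (K.pOpcycles j ▷ N)]
  simp

@[reassoc]
lemma cHom_naturality {N N' : ModuleCat.{u} R} (f : N ⟶ N') :
    HomologicalComplex.opcyclesMap ((tensK K).map f) j ≫ cHom K j N' =
      cHom K j N ≫ K.opcycles j ◁ f := by
  rw [← cancel_epi (((tensK K).obj N).pOpcycles j), HomologicalComplex.p_opcyclesMap_assoc,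
    p_cHom, p_cHom_assoc, tensK_map_f, whisker_exchange]

/-- `Zⱼ ⊗ - ≅ (K ⊗ -).opcycles j` as functors. -/
noncomputable def cNatIso :
    tensorLeft (K.opcycles j) ≅ tensK K ⋙ HomologicalComplex.opcyclesFunctor _ _ j :=
  NatIso.ofComponents (fun N =>
    { hom := cInv K j N
      inv := cHom K j N
      hom_inv_id := cInv_cHom K j N
      inv_hom_id := cHom_cInv K j N })
    (fun {N N'} f => by
      have h := cHom_naturality K j f
      change K.opcycles j ◁ f ≫ cInv K j N' =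
        cInv K j N ≫ HomologicalComplex.opcyclesMap ((tensK K).map f) j
      calc K.opcycles j ◁ f ≫ cInv K j N'
          = cInv K j N ≫ (cHom K j N ≫ K.opcycles j ◁ f) ≫ cInv K j N' := by simp
        _ = _ := by rw [← h]; simp)

end Comparison

section StageB

variable (k : ℕ)

@[reassoc]
lemma cHom_fromOpcycles (N : ModuleCat.{u} R) :
    cHom K (k + 1) N ≫ K.fromOpcycles (k + 1) k ▷ N =
      ((tensK K).obj N).fromOpcycles (k + 1) k := by
  rw [← cancel_epi (((tensK K).obj N).pOpcycles (k + 1)), p_cHom_assoc, ← comp_whiskerRight,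
    HomologicalComplex.p_fromOpcycles, HomologicalComplex.p_fromOpcycles, tensK_obj_d]

variable (hk : K.ExactAt (k + 1)) [Module.Flat R (K.X k)]

instance : Module.Flat R (syzSC K k).X₂ := ‹Module.Flat R (K.X k)›

/-- The connecting map `Tor₁(Zₖ, -) ⟶ Tor₀(Zₖ₊₁, -)`. -/
noncomputable def δZ :
    (Tor (ModuleCat.{u} R) 1).obj (K.opcycles k) ⟶ (Tor (ModuleCat.{u} R) 0).obj (K.opcycles (k + 1)) :=
  TorLES.δ (syzSC K k) (syzSC_shortExact K k hk) 0

@[reassoc]
lemma δZ_comp (N : ModuleCat.{u} R) :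
    (δZ K k hk).app N ≫ ((Tor (ModuleCat.{u} R) 0).map (K.fromOpcycles (k + 1) k)).app N = 0 :=
  TorLES.δ_map_f (syzSC K k) (syzSC_shortExact K k hk) N 0

lemma δZ_exact (N : ModuleCat.{u} R) : (ShortComplex.mk _ _ (δZ_comp K k hk N)).Exact :=
  TorLES.exact₁ (syzSC K k) (syzSC_shortExact K k hk) N 0

lemma mono_δZ (N : ModuleCat.{u} R) : Mono ((δZ K k hk).app N) :=
  mono_δ_app (syzSC K k) (syzSC_shortExact K k hk) 0 N

/-- The map `Tor₁(Zₖ, N) ⟶ Zₖ₊₁ ⊗ N`. -/
noncomputable def ιT (N : ModuleCat.{u} R) :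
    ((Tor (ModuleCat.{u} R) 1).obj (K.opcycles k)).obj N ⟶ K.opcycles (k + 1) ⊗ N :=
  (δZ K k hk).app N ≫ (TorLES.torZeroIso (K.opcycles (k + 1))).hom.app N

instance (N : ModuleCat.{u} R) : Mono (ιT K k hk N) := by
  haveI := mono_δZ K k hk N
  dsimp only [ιT]
  infer_instance

@[reassoc]
lemma ιT_naturality {N N' : ModuleCat.{u} R} (f : N ⟶ N') :
    ((Tor (ModuleCat.{u} R) 1).obj (K.opcycles k)).map f ≫ ιT K k hk N' =
      ιT K k hk N ≫ K.opcycles (k + 1) ◁ f := by
  have h2 : ((Tor (ModuleCat.{u} R) 0).obj (K.opcycles (k + 1))).map f ≫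
      (TorLES.torZeroIso (K.opcycles (k + 1))).hom.app N' =
      (TorLES.torZeroIso (K.opcycles (k + 1))).hom.app N ≫ K.opcycles (k + 1) ◁ f :=
    (TorLES.torZeroIso (K.opcycles (k + 1))).hom.naturality f
  dsimp only [ιT]
  rw [(δZ K k hk).naturality_assoc f, h2, assoc]

@[reassoc]
lemma ιT_comp (N : ModuleCat.{u} R) : ιT K k hk N ≫ K.fromOpcycles (k + 1) k ▷ N = 0 := by
  dsimp only [ιT]
  rw [assoc, ← TorLES.torZeroIso_hom_naturality (K.fromOpcycles (k + 1) k) N,
    δZ_comp_assoc, zero_comp]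

lemma ιT_exact (N : ModuleCat.{u} R) :
    (ShortComplex.mk (ιT K k hk N) (K.fromOpcycles (k + 1) k ▷ N) (ιT_comp K k hk N)).Exact := by
  refine ShortComplex.exact_of_iso ?_ (δZ_exact K k hk N)
  refine ShortComplex.isoMk (Iso.refl _) ((TorLES.torZeroIso (K.opcycles (k + 1))).app N)
    ((TorLES.torZeroIso (K.X k)).app N) ?_ ?_
  · dsimp [ιT]; simp
  · exact (TorLES.torZeroIso_hom_naturality (K.fromOpcycles (k + 1) k) N).symm

/-- `Hₖ₊₁(K ⊗ N) ⟶ Tor₁(Zₖ, N)` -/
noncomputable def bHom (N : ModuleCat.{u} R) :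
    ((tensK K).obj N).homology (k + 1) ⟶ ((Tor (ModuleCat.{u} R) 1).obj (K.opcycles k)).obj N :=
  (ιT_exact K k hk N).lift (((tensK K).obj N).homologyι (k + 1) ≫ cHom K (k + 1) N) (by
    dsimp
    rw [assoc, cHom_fromOpcycles, HomologicalComplex.homologyι_comp_fromOpcycles])

@[reassoc (attr := simp)]
lemma bHom_ιT (N : ModuleCat.{u} R) :
    bHom K k hk N ≫ ιT K k hk N = ((tensK K).obj N).homologyι (k + 1) ≫ cHom K (k + 1) N :=
  (ιT_exact K k hk N).lift_f _ _

/-- `Tor₁(Zₖ, N) ⟶ Hₖ₊₁(K ⊗ N)` -/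
noncomputable def bInv (N : ModuleCat.{u} R) :
    ((Tor (ModuleCat.{u} R) 1).obj (K.opcycles k)).obj N ⟶ ((tensK K).obj N).homology (k + 1) :=
  (((tensK K).obj N).homologyIsKernel (k + 1) k (by simp)).lift
    (KernelFork.ofι (ιT K k hk N ≫ cInv K (k + 1) N) (by
      rw [← cHom_fromOpcycles, assoc, cInv_cHom_assoc, ιT_comp]))

@[reassoc (attr := simp)]
lemma bInv_homologyι (N : ModuleCat.{u} R) :
    bInv K k hk N ≫ ((tensK K).obj N).homologyι (k + 1) = ιT K k hk N ≫ cInv K (k + 1) N :=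
  Fork.IsLimit.lift_ι _

/-- Stage B: `Hₖ₊₁(K ⊗ -) ≅ Tor₁(Zₖ, -)`. -/
noncomputable def stageB : Hfun K (k + 1) ≅ (Tor (ModuleCat.{u} R) 1).obj (K.opcycles k) :=
  NatIso.ofComponents (fun N =>
    { hom := bHom K k hk N
      inv := bInv K k hk N
      hom_inv_id := by
        rw [← cancel_mono (((tensK K).obj N).homologyι (k + 1))]
        simp
      inv_hom_id := by
        rw [← cancel_mono (ιT K k hk N)]
        simp })
    (fun {N N'} f => by
      rw [← cancel_mono (ιT K k hk N')]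
      change (HomologicalComplex.homologyMap ((tensK K).map f) (k + 1) ≫ bHom K k hk N') ≫ _ =
        (bHom K k hk N ≫ ((Tor (ModuleCat.{u} R) 1).obj (K.opcycles k)).map f) ≫ _
      rw [assoc, assoc, bHom_ιT, ιT_naturality, bHom_ιT_assoc,
        HomologicalComplex.homologyι_naturality_assoc, cHom_naturality])

end StageB

section Main

/-- `H₀(K ⊗ -) ≅ (K ⊗ -).opcycles 0` as functors. -/
noncomputable def homologyZeroNatIso :
    Hfun K 0 ≅ tensK K ⋙ HomologicalComplex.opcyclesFunctor _ _ 0 :=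
  NatIso.ofComponents (fun N => ((tensK K).obj N).isoHomologyι₀)
    (fun {N N'} f => by
      change HomologicalComplex.homologyMap ((tensK K).map f) 0 ≫ ((tensK K).obj N').homologyι 0 =
        ((tensK K).obj N).homologyι 0 ≫ HomologicalComplex.opcyclesMap ((tensK K).map f) 0
      exact HomologicalComplex.homologyι_naturality _ _)

/-- `Tor₀(Z₀, -) ≅ H₀(K ⊗ -)`. -/
noncomputable def torZeroIsoH : (Tor (ModuleCat.{u} R) 0).obj (K.opcycles 0) ≅ Hfun K 0 :=
  TorLES.torZeroIso (K.opcycles 0) ≪≫ cNatIso K 0 ≪≫ (homologyZeroNatIso K).symm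

variable (hflat : ∀ i, Module.Flat R (K.X i)) (hexact : ∀ i, K.ExactAt (i + 1))

/-- `Torₙ₊₁(Zₖ, -) ≅ Hₘ(K ⊗ -)` for `m = k + n + 1`. -/
noncomputable def torSuccIso : ∀ (n k m : ℕ), m = k + n + 1 →
    ((Tor (ModuleCat.{u} R) (n + 1)).obj (K.opcycles k) ≅ Hfun K m)
  | 0, k, m, h => by
    haveI := hflat k
    subst h
    exact (stageB K k (hexact k)).symm
  | n + 1, k, m, h => by
    haveI := hflat k
    exact δIso (syzSC K k) (syzSC_shortExact K k (hexact k)) n ≪≫
      torSuccIso n (k + 1) m (by omega)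

/-- **Balancing**: for a flat resolution `K` (flat terms, exact in positive degrees) of
`K.opcycles 0`, `Torₙ(K.opcycles 0, -) ≅ Hₙ(K ⊗ -)` naturally in the second variable. -/
noncomputable def torIsoH : ∀ n : ℕ, (Tor (ModuleCat.{u} R) n).obj (K.opcycles 0) ≅ Hfun K n
  | 0 => torZeroIsoH K
  | n + 1 => torSuccIso K hflat hexact n 0 (n + 1) (by omega)

end Main

section SecondVariable

instance : (tensK K).PreservesZeroMorphisms where
  map_zero N N' := by ext i; simp

variable (hflat : ∀ i, Module.Flat R (K.X i))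
variable (S : ShortComplex (ModuleCat.{u} R)) (hS : S.ShortExact)

include hflat hS in
lemma tensK_shortExact : (S.map (tensK K)).ShortExact := by
  refine HomologicalComplex.shortExact_of_degreewise_shortExact _ (fun i => ?_)
  haveI := hflat i
  exact hS.map_of_exact (tensorLeft (K.X i))

/-- connecting morphism for `Hₙ(K ⊗ -)`. -/
noncomputable def δH (n : ℕ) : (Hfun K (n + 1)).obj S.X₃ ⟶ (Hfun K n).obj S.X₁ :=
  (tensK_shortExact K hflat S hS).δ (n + 1) n (by simp)

@[reassoc]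
lemma Hfun_map_f_g (n : ℕ) : (Hfun K n).map S.f ≫ (Hfun K n).map S.g = 0 := by
  rw [← Functor.map_comp, S.zero]
  change HomologicalComplex.homologyMap ((tensK K).map 0) n = 0
  rw [Functor.map_zero, HomologicalComplex.homologyMap_zero]

@[reassoc]
lemma Hfun_map_g_δH (n : ℕ) : (Hfun K (n + 1)).map S.g ≫ δH K hflat S hS n = 0 :=
  (tensK_shortExact K hflat S hS).comp_δ (n + 1) n (by simp)

@[reassoc]
lemma δH_Hfun_map_f (n : ℕ) : δH K hflat S hS n ≫ (Hfun K n).map S.f = 0 :=
  (tensK_shortExact K hflat S hS).δ_comp (n + 1) n (by simp)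

include hflat hS in
lemma Hfun_exact₂ (n : ℕ) : (ShortComplex.mk _ _ (Hfun_map_f_g K S n)).Exact :=
  (tensK_shortExact K hflat S hS).homology_exact₂ n

lemma Hfun_exact₃ (n : ℕ) : (ShortComplex.mk _ _ (Hfun_map_g_δH K hflat S hS n)).Exact :=
  (tensK_shortExact K hflat S hS).homology_exact₃ (n + 1) n (by simp)

lemma Hfun_exact₁ (n : ℕ) : (ShortComplex.mk _ _ (δH_Hfun_map_f K hflat S hS n)).Exact :=
  (tensK_shortExact K hflat S hS).homology_exact₁ (n + 1) n (by simp)

end SecondVariable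

end Groth.Agent.Lib.Helper46.TorBalance
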