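import Mathlib.Algebra.Module.LocalizedModule.Basic
import Mathlib.RingTheory.Localization.BaseChange
import Mathlib.RingTheory.Localization.AtPrime.Basic
import Mathlib.Algebra.Exact
import Mathlib.LinearAlgebra.TensorProduct.Basic

/-!
# Abstract diagram chases for detecting isomorphisms on residue fields (helper46)
-/

set_option autoImplicit false

namespace Groth.Agent.Lib.Helper46.TorIsoChase

universe u

variable {A : Type u} [CommRing A]

section Chase

variable {T T' R R' T₁ T₁' : Type u}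
  [AddCommGroup T] [Module A T] [AddCommGroup T'] [Module A T']
  [AddCommGroup R] [Module A R] [AddCommGroup R'] [Module A R']
  [AddCommGroup T₁] [Module A T₁] [AddCommGroup T₁'] [Module A T₁']

/-- injectivity of `T/f → T'/f` -/
lemma chase1 (u : T →ₗ[A] T') (v : R →ₗ[A] R') (g : T →ₗ[A] R) (g' : T' →ₗ[A] R') (f : A)
    (hc : v.comp g = g'.comp u)
    (hE2 : Function.Exact (f • (LinearMap.id : T →ₗ[A] T)) g)
    (hg'f : ∀ t', g' (f • t') = 0) (hv : Function.Injective v)
    (t : T) (t'' : T') (h : u t = f • t'') : ∃ s, t = f • s := by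
  have h1 : v (g t) = 0 := by
    have := LinearMap.congr_fun hc t
    simp only [LinearMap.comp_apply] at this
    rw [this, h, hg'f]
  have h2 : g t = 0 := hv (by rw [h1, map_zero])
  obtain ⟨s, hs⟩ := (hE2 t).mp h2
  exact ⟨s, by simpa using hs.symm⟩

/-- surjectivity of `T[f] → T'[f]` -/
lemma chase2 (u : T →ₗ[A] T') (v : R →ₗ[A] R') (δ : R →ₗ[A] T) (δ' : R' →ₗ[A] T') (f : A)
    (hc : u.comp δ = δ'.comp v)
    (hE1' : Function.Exact δ' (f • (LinearMap.id : T' →ₗ[A] T')))
    (hfδ : ∀ ρ, f • δ ρ = 0) (hv : Function.Surjective v)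
    (t' : T') (h : f • t' = 0) : ∃ r, f • r = 0 ∧ u r = t' := by
  obtain ⟨ρ', hρ'⟩ := (hE1' t').mp (by simpa using h)
  obtain ⟨ρ, rfl⟩ := hv ρ'
  refine ⟨δ ρ, hfδ ρ, ?_⟩
  have := LinearMap.congr_fun hc ρ
  simp only [LinearMap.comp_apply] at this
  rw [this, hρ']

/-- injectivity of `T[f] → T'[f]` when `u₁` (one level up) is surjective -/
lemma chase3 (u₁ : T₁ →ₗ[A] T₁') (u : T →ₗ[A] T') (v : R →ₗ[A] R') (g : T₁ →ₗ[A] R)
    (g' : T₁' →ₗ[A] R') (δ : R →ₗ[A] T) (δ' : R' →ₗ[A] T') (f : A)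
    (hcg : v.comp g = g'.comp u₁) (hcδ : u.comp δ = δ'.comp v)
    (hE1 : Function.Exact δ (f • (LinearMap.id : T →ₗ[A] T)))
    (hE3' : Function.Exact g' δ') (hδg : ∀ t, δ (g t) = 0)
    (hu₁ : Function.Surjective u₁) (hv : Function.Injective v)
    (r : T) (hfr : f • r = 0) (hur : u r = 0) : r = 0 := by
  obtain ⟨ρ, rfl⟩ := (hE1 r).mp (by simpa using hfr)
  have h1 : δ' (v ρ) = 0 := by
    have := LinearMap.congr_fun hcδ ρ
    simp only [LinearMap.comp_apply] at this
    rw [← this, hur]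
  obtain ⟨t', ht'⟩ := (hE3' (v ρ)).mp h1
  obtain ⟨t, rfl⟩ := hu₁ t'
  have h2 : v (g t) = v ρ := by
    have := LinearMap.congr_fun hcg t
    simp only [LinearMap.comp_apply] at this
    rw [this, ht']
  rw [← hv h2, hδg]

end Chase

section Loc

variable (p : Ideal A) [p.IsPrime] {T T' : Type u}
  [AddCommGroup T] [Module A T] [AddCommGroup T'] [Module A T'] (u : T →ₗ[A] T')

lemma isLocalizedModule_mk (X : Type u) [AddCommGroup X] [Module A X] :
    IsLocalizedModule p.primeCompl (TensorProduct.mk A (Localization.AtPrime p) X 1) :=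
  (isLocalizedModule_iff_isBaseChange p.primeCompl (Localization.AtPrime p) _).mpr
    (TensorProduct.isBaseChange A _ (Localization.AtPrime p))

lemma loc_surj (h : Function.Surjective (u.lTensor (Localization.AtPrime p))) (t' : T') :
    ∃ s : A, s ∉ p ∧ ∃ t, s • t' = u t := by
  haveI := isLocalizedModule_mk p T
  haveI := isLocalizedModule_mk p T'
  obtain ⟨y, hy⟩ := h ((1 : Localization.AtPrime p) ⊗ₜ[A] t')
  obtain ⟨⟨t, s⟩, hts⟩ := IsLocalizedModule.surj p.primeCompl
    (TensorProduct.mk A (Localization.AtPrime p) T 1) y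
  have hts' : (s : A) • y = (1 : Localization.AtPrime p) ⊗ₜ[A] t := hts
  have h1 : TensorProduct.mk A (Localization.AtPrime p) T' 1 ((s : A) • t') =
      TensorProduct.mk A (Localization.AtPrime p) T' 1 (u t) := by
    change (1 : Localization.AtPrime p) ⊗ₜ[A] ((s : A) • t') = (1 : Localization.AtPrime p) ⊗ₜ[A] (u t)
    calc (1 : Localization.AtPrime p) ⊗ₜ[A] ((s : A) • t')
        = (s : A) • ((1 : Localization.AtPrime p) ⊗ₜ[A] t') := by rw [TensorProduct.tmul_smul]
      _ = (s : A) • (u.lTensor (Localization.AtPrime p) y) := by rw [hy]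
      _ = u.lTensor (Localization.AtPrime p) ((s : A) • y) := by rw [map_smul]
      _ = u.lTensor (Localization.AtPrime p) ((1 : Localization.AtPrime p) ⊗ₜ[A] t) := by rw [hts']
      _ = (1 : Localization.AtPrime p) ⊗ₜ[A] (u t) := LinearMap.lTensor_tmul _ _ _ _
  obtain ⟨c, hc⟩ := (IsLocalizedModule.eq_iff_exists p.primeCompl
    (TensorProduct.mk A (Localization.AtPrime p) T' 1)).mp h1
  have hc' : (c : A) • ((s : A) • t') = (c : A) • u t := hc
  refine ⟨(c : A) * (s : A), p.primeCompl.mul_mem c.2 s.2, (c : A) • t, ?_⟩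
  rw [mul_smul, map_smul, hc']

lemma loc_inj (h : Function.Injective (u.lTensor (Localization.AtPrime p))) (t : T)
    (ht : u t = 0) : ∃ s : A, s ∉ p ∧ s • t = 0 := by
  haveI := isLocalizedModule_mk p T
  have h1 : u.lTensor (Localization.AtPrime p) ((1 : Localization.AtPrime p) ⊗ₜ[A] t) =
      u.lTensor (Localization.AtPrime p) 0 := by
    rw [LinearMap.lTensor_tmul, ht, TensorProduct.tmul_zero, map_zero]
  have h2 : TensorProduct.mk A (Localization.AtPrime p) T 1 t = 0 := h h1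
  obtain ⟨c, hc⟩ := (IsLocalizedModule.eq_zero_iff p.primeCompl _).mp h2
  exact ⟨(c : A), c.2, hc⟩

/-- The abstract prime step. -/
theorem prime_step (T T' : ℕ → Type u) [∀ i, AddCommGroup (T i)] [∀ i, Module A (T i)]
    [∀ i, AddCommGroup (T' i)] [∀ i, Module A (T' i)] (u : ∀ i, T i →ₗ[A] T' i)
    (hloc : ∀ i, Function.Bijective ((u i).lTensor (Localization.AtPrime p)))
    (hF1 : ∀ f : A, f ∉ p → ∀ (i : ℕ) (t : T i) (t'' : T' i), u i t = f • t'' → ∃ s, t = f • s)
    (hF2 : ∀ f : A, f ∉ p → ∀ (i : ℕ) (t' : T' i), f • t' = 0 → ∃ r, f • r = 0 ∧ u i r = t')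
    (hF3 : ∀ f : A, f ∉ p → ∀ (i : ℕ), Function.Surjective (u (i + 1)) →
      ∀ r : T i, f • r = 0 → u i r = 0 → r = 0) :
    ∀ i, Function.Bijective (u i) := by
  have hsurj : ∀ i, Function.Surjective (u i) := by
    intro i t'
    obtain ⟨f, hf, t, ht⟩ := loc_surj p (u i) (hloc i).2 t'
    obtain ⟨s₁, rfl⟩ := hF1 f hf i t t' ht.symm
    have h0 : f • (t' - u i s₁) = 0 := by rw [smul_sub, ht, map_smul, sub_self]
    obtain ⟨r, -, hr⟩ := hF2 f hf i _ h0
    exact ⟨s₁ + r, by rw [map_add, hr]; abel⟩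
  intro i
  refine ⟨?_, hsurj i⟩
  rw [injective_iff_map_eq_zero]
  intro t ht
  obtain ⟨f, hf, hft⟩ := loc_inj p (u i) (hloc i).1 t ht
  exact hF3 f hf i (hsurj (i + 1)) t hft ht

end Loc

end Groth.Agent.Lib.Helper46.TorIsoChase
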