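import Groth.Agent.Lib.Helper46.TorResidue
import Groth.Agent.Lib.Helper46.TorFlatTensor
import Groth.Agent.Lib.Helper46.TorIsoChase
import Mathlib.Algebra.FiveLemma

/-!
# Isomorphisms detected by `Tor` against residue fields (helper46)
-/

set_option autoImplicit false
set_option backward.isDefEq.respectTransparency false
set_option backward.defeqAttrib.useBackward true

namespace Groth.Agent.Lib.Helper46.TorResidueIso

open CategoryTheory Limits MonoidalCategory Category
open Groth.Agent.Lib.Helper46 Groth.Agent.Lib.Helper46.TorShift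
open Groth.Agent.Lib.Helper46.TorBaseChange Groth.Agent.Lib.Helper46.TorResidue

universe u

variable {A : Type u} [CommRing A] {M N : ModuleCat.{u} A} (u : M ⟶ N)

/-- `Q u X`: all `Torᵢ(X, u)` are isomorphisms -/
def Q (X : ModuleCat.{u} A) : Prop :=
  ∀ i : ℕ, IsIso (((Tor (ModuleCat.{u} A) i).obj X).map u)

variable {u}

lemma Q_of_iso {X Y : ModuleCat.{u} A} (e : X ≅ Y) (h : Q u X) : Q u Y := fun i =>
  (NatIso.isIso_map_iff ((Tor (ModuleCat.{u} A) i).mapIso e) u).mp (h i)

lemma Q_bij {X : ModuleCat.{u} A} (h : Q u X) (i : ℕ) :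
    Function.Bijective (((Tor (ModuleCat.{u} A) i).obj X).map u).hom :=
  (ConcreteCategory.isIso_iff_bijective _).mp (h i)

lemma fexact {X Y Z : ModuleCat.{u} A} {a : X ⟶ Y} {b : Y ⟶ Z} {w : a ≫ b = 0}
    (h : (ShortComplex.mk a b w).Exact) : Function.Exact a.hom b.hom :=
  (ShortComplex.ShortExact.moduleCat_exact_iff_function_exact _).mp h

lemma Q_of_subsingleton (X : ModuleCat.{u} A) [Subsingleton X] : Q u X := by
  intro i
  have hz : ∀ L : ModuleCat.{u} A, IsZero (((Tor (ModuleCat.{u} A) i).obj X).obj L) := by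
    intro L
    cases i with
    | zero =>
      haveI : Subsingleton (X ⊗ L : ModuleCat.{u} A) := by
        change Subsingleton (TensorProduct A X L)
        infer_instance
      exact (ModuleCat.isZero_of_subsingleton (X ⊗ L)).of_iso ((TorLES.torZeroIso X).app L)
    | succ k => exact TorLES.isZero_tor_succ_of_flat_left X L k
  exact ⟨⟨0, (hz M).eq_of_src _ _, (hz N).eq_of_src _ _⟩⟩

/-- five lemma step -/
theorem Q_of_ses (S : ShortComplex (ModuleCat.{u} A)) (hS : S.ShortExact)
    (h1 : Q u S.X₁) (h3 : Q u S.X₃) : Q u S.X₂ := by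
  intro i
  rw [ConcreteCategory.isIso_iff_bijective]
  have hcf : ∀ j, (((Tor (ModuleCat.{u} A) j).map S.f).app N).hom.comp
      (((Tor (ModuleCat.{u} A) j).obj S.X₁).map u).hom =
      (((Tor (ModuleCat.{u} A) j).obj S.X₂).map u).hom.comp
        (((Tor (ModuleCat.{u} A) j).map S.f).app M).hom := fun j =>
    congrArg ModuleCat.Hom.hom (((Tor (ModuleCat.{u} A) j).map S.f).naturality u)
  have hcg : ∀ j, (((Tor (ModuleCat.{u} A) j).map S.g).app N).hom.comp
      (((Tor (ModuleCat.{u} A) j).obj S.X₂).map u).hom =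
      (((Tor (ModuleCat.{u} A) j).obj S.X₃).map u).hom.comp
        (((Tor (ModuleCat.{u} A) j).map S.g).app M).hom := fun j =>
    congrArg ModuleCat.Hom.hom (((Tor (ModuleCat.{u} A) j).map S.g).naturality u)
  have hcδ : ∀ j, ((TorLES.δ S hS j).app N).hom.comp
      (((Tor (ModuleCat.{u} A) (j + 1)).obj S.X₃).map u).hom =
      (((Tor (ModuleCat.{u} A) j).obj S.X₁).map u).hom.comp
        ((TorLES.δ S hS j).app M).hom := fun j =>
    congrArg ModuleCat.Hom.hom ((TorLES.δ S hS j).naturality u)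
  constructor
  · exact LinearMap.injective_of_surjective_of_injective_of_injective
      ((TorLES.δ S hS i).app M).hom (((Tor (ModuleCat.{u} A) i).map S.f).app M).hom
      (((Tor (ModuleCat.{u} A) i).map S.g).app M).hom
      ((TorLES.δ S hS i).app N).hom (((Tor (ModuleCat.{u} A) i).map S.f).app N).hom
      (((Tor (ModuleCat.{u} A) i).map S.g).app N).hom
      (((Tor (ModuleCat.{u} A) (i + 1)).obj S.X₃).map u).hom
      (((Tor (ModuleCat.{u} A) i).obj S.X₁).map u).hom
      (((Tor (ModuleCat.{u} A) i).obj S.X₂).map u).hom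
      (((Tor (ModuleCat.{u} A) i).obj S.X₃).map u).hom
      (hcδ i) (hcf i) (hcg i) (fexact (TorLES.exact₁ S hS M i)) (fexact (TorLES.exact₂ S hS M i))
      (fexact (TorLES.exact₁ S hS N i))
      (Q_bij h3 (i + 1)).2 (Q_bij h1 i).1 (Q_bij h3 i).1
  · cases i with
    | zero =>
      have hsM : Function.Surjective (((Tor (ModuleCat.{u} A) 0).map S.g).app M).hom :=
        (ModuleCat.epi_iff_surjective _).mp (TorLES.epi_map_g_zero S hS M)
      have hsN : Function.Surjective (((Tor (ModuleCat.{u} A) 0).map S.g).app N).hom :=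
        (ModuleCat.epi_iff_surjective _).mp (TorLES.epi_map_g_zero S hS N)
      exact LinearMap.surjective_of_surjective_of_surjective_of_injective
        (((Tor (ModuleCat.{u} A) 0).map S.f).app M).hom
        (((Tor (ModuleCat.{u} A) 0).map S.g).app M).hom
        (0 : ((Tor (ModuleCat.{u} A) 0).obj S.X₃).obj M →ₗ[A] ((Tor (ModuleCat.{u} A) 0).obj S.X₃).obj M)
        (((Tor (ModuleCat.{u} A) 0).map S.f).app N).hom
        (((Tor (ModuleCat.{u} A) 0).map S.g).app N).hom
        (0 : ((Tor (ModuleCat.{u} A) 0).obj S.X₃).obj N →ₗ[A] ((Tor (ModuleCat.{u} A) 0).obj S.X₃).obj N)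
        (((Tor (ModuleCat.{u} A) 0).obj S.X₁).map u).hom
        (((Tor (ModuleCat.{u} A) 0).obj S.X₂).map u).hom
        (((Tor (ModuleCat.{u} A) 0).obj S.X₃).map u).hom
        (((Tor (ModuleCat.{u} A) 0).obj S.X₃).map u).hom
        (hcf 0) (hcg 0) (by simp)
        (fun y => ⟨fun _ => hsM y, fun _ => rfl⟩)
        (fexact (TorLES.exact₂ S hS N 0))
        (fun y => ⟨fun _ => hsN y, fun _ => rfl⟩)
        (Q_bij h1 0).2 (Q_bij h3 0).2 (Q_bij h3 0).1
    | succ k =>
      exact LinearMap.surjective_of_surjective_of_surjective_of_injective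
        (((Tor (ModuleCat.{u} A) (k + 1)).map S.f).app M).hom
        (((Tor (ModuleCat.{u} A) (k + 1)).map S.g).app M).hom
        ((TorLES.δ S hS k).app M).hom
        (((Tor (ModuleCat.{u} A) (k + 1)).map S.f).app N).hom
        (((Tor (ModuleCat.{u} A) (k + 1)).map S.g).app N).hom
        ((TorLES.δ S hS k).app N).hom
        (((Tor (ModuleCat.{u} A) (k + 1)).obj S.X₁).map u).hom
        (((Tor (ModuleCat.{u} A) (k + 1)).obj S.X₂).map u).hom
        (((Tor (ModuleCat.{u} A) (k + 1)).obj S.X₃).map u).hom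
        (((Tor (ModuleCat.{u} A) k).obj S.X₁).map u).hom
        (hcf (k + 1)) (hcg (k + 1)) (hcδ k)
        (fexact (TorLES.exact₃ S hS M k))
        (fexact (TorLES.exact₂ S hS N (k + 1)))
        (fexact (TorLES.exact₃ S hS N k))
        (Q_bij h1 (k + 1)).2 (Q_bij h3 (k + 1)).2 (Q_bij h1 k).1

section Prime

variable (p : Ideal A) [p.IsPrime]

/-- `A_p ⊗ A/p ≅ k(p)` as `A`-modules -/
noncomputable def tensorQuotIso :
    (ModuleCat.of A (Localization.AtPrime p)) ⊗ (ModuleCat.of A (A ⧸ p)) ≅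
      ModuleCat.of A p.ResidueField :=
  ((n1 A (Localization.AtPrime p)).app (ModuleCat.of A (A ⧸ p))).symm ≪≫
    (rs A (Localization.AtPrime p)).mapIso (bcQuotIso p) ≪≫
    rsOfIso A (Localization.AtPrime p) p.ResidueField

lemma loc_bij (hres : Q u (ModuleCat.of A p.ResidueField)) (i : ℕ) :
    Function.Bijective ((((Tor (ModuleCat.{u} A) i).obj (ModuleCat.of A (A ⧸ p))).map u).hom.lTensor
      (Localization.AtPrime p)) := by
  haveI : Module.Flat A (Localization.AtPrime p) :=
    IsLocalization.flat (Localization.AtPrime p) p.primeCompl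
  have h1 : Q u ((ModuleCat.of A (Localization.AtPrime p)) ⊗ (ModuleCat.of A (A ⧸ p))) :=
    Q_of_iso (tensorQuotIso p).symm hres
  have h2 := (NatIso.isIso_map_iff (TorFlatTensor.torTensorFlatIso
    (ModuleCat.of A (Localization.AtPrime p)) (ModuleCat.of A (A ⧸ p)) i) u).mp (h1 i)
  exact (ConcreteCategory.isIso_iff_bijective _).mp h2

lemma prime_chases (f : A) (hf : f ∉ p)
    (hIH : Q u (ModuleCat.of A (A ⧸ (p ⊔ Ideal.span {f})))) :
    (∀ (i : ℕ) (t : ((Tor (ModuleCat.{u} A) i).obj (ModuleCat.of A (A ⧸ p))).obj M)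
      (t'' : ((Tor (ModuleCat.{u} A) i).obj (ModuleCat.of A (A ⧸ p))).obj N),
      (((Tor (ModuleCat.{u} A) i).obj (ModuleCat.of A (A ⧸ p))).map u).hom t = f • t'' →
        ∃ s, t = f • s) ∧
    (∀ (i : ℕ) (t' : ((Tor (ModuleCat.{u} A) i).obj (ModuleCat.of A (A ⧸ p))).obj N),
      f • t' = 0 → ∃ r, f • r = 0 ∧
        (((Tor (ModuleCat.{u} A) i).obj (ModuleCat.of A (A ⧸ p))).map u).hom r = t') ∧
    (∀ (i : ℕ), Function.Surjective
        (((Tor (ModuleCat.{u} A) (i + 1)).obj (ModuleCat.of A (A ⧸ p))).map u).hom →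
      ∀ r : ((Tor (ModuleCat.{u} A) i).obj (ModuleCat.of A (A ⧸ p))).obj M, f • r = 0 →
        (((Tor (ModuleCat.{u} A) i).obj (ModuleCat.of A (A ⧸ p))).map u).hom r = 0 → r = 0) := by
  have hreg := isSMulRegular_quot_prime p f hf
  have hι := TorLinear.smulId_injective f hreg
  have hex := exact_quot_sup p f
  have hπ : Function.Surjective (Submodule.factor (le_sup_left : p ≤ p ⊔ Ideal.span {f})) :=
    Submodule.factor_surjective _
  have hS := sesSC_shortExact _ _ hι hex hπ
  have hfL : ∀ (L : ModuleCat.{u} A) (j : ℕ),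
      (((Tor (ModuleCat.{u} A) j).map (sesSC _ _ hex).f).app L).hom =
        f • (LinearMap.id : ((Tor (ModuleCat.{u} A) j).obj (ModuleCat.of A (A ⧸ p))).obj L →ₗ[A] _) := by
    intro L j
    have h := TorLinear.tor_map_smul_id_app f (ModuleCat.of A (A ⧸ p)) L j
    exact congrArg ModuleCat.Hom.hom h
  have hE1 : ∀ (L : ModuleCat.{u} A) (j : ℕ), Function.Exact ((TorLES.δ _ hS j).app L).hom
      (f • (LinearMap.id : ((Tor (ModuleCat.{u} A) j).obj (ModuleCat.of A (A ⧸ p))).obj L →ₗ[A] _)) := by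
    intro L j
    have h := fexact (TorLES.exact₁ _ hS L j)
    rw [hfL L j] at h
    exact h
  have hE2 : ∀ (L : ModuleCat.{u} A) (j : ℕ), Function.Exact
      (f • (LinearMap.id : ((Tor (ModuleCat.{u} A) j).obj (ModuleCat.of A (A ⧸ p))).obj L →ₗ[A] _))
      (((Tor (ModuleCat.{u} A) j).map (sesSC _ _ hex).g).app L).hom := by
    intro L j
    have h := fexact (TorLES.exact₂ _ hS L j)
    rw [hfL L j] at h
    exact h
  have hE3 : ∀ (L : ModuleCat.{u} A) (j : ℕ), Function.Exact
      (((Tor (ModuleCat.{u} A) (j + 1)).map (sesSC _ _ hex).g).app L).hom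
      ((TorLES.δ _ hS j).app L).hom := fun L j => fexact (TorLES.exact₃ _ hS L j)
  have hcg : ∀ j, (((Tor (ModuleCat.{u} A) j).obj (sesSC _ _ hex).X₃).map u).hom.comp
        (((Tor (ModuleCat.{u} A) j).map (sesSC _ _ hex).g).app M).hom =
      (((Tor (ModuleCat.{u} A) j).map (sesSC _ _ hex).g).app N).hom.comp
      (((Tor (ModuleCat.{u} A) j).obj (sesSC _ _ hex).X₂).map u).hom := fun j =>
    (congrArg ModuleCat.Hom.hom (((Tor (ModuleCat.{u} A) j).map (sesSC _ _ hex).g).naturality u)).symm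
  have hcδ : ∀ j, (((Tor (ModuleCat.{u} A) j).obj (sesSC _ _ hex).X₁).map u).hom.comp
        ((TorLES.δ _ hS j).app M).hom =
      ((TorLES.δ _ hS j).app N).hom.comp
      (((Tor (ModuleCat.{u} A) (j + 1)).obj (sesSC _ _ hex).X₃).map u).hom := fun j =>
    (congrArg ModuleCat.Hom.hom ((TorLES.δ _ hS j).naturality u)).symm
  refine ⟨?_, ?_, ?_⟩
  · intro i t t'' h
    exact TorIsoChase.chase1 _ _ _ _ f (hcg i) (hE2 M i)
      (fun t' => ((hE2 N i) (f • t')).mpr ⟨t', rfl⟩) (Q_bij hIH i).1 t t'' h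
  · intro i t' h
    exact TorIsoChase.chase2 _ _ _ _ f (hcδ i) (hE1 N i)
      (fun ρ => ((hE1 M i) _).mpr ⟨ρ, rfl⟩) (Q_bij hIH (i + 1)).2 t' h
  · intro i hsurj r hfr hur
    exact TorIsoChase.chase3 _ _ _ _ _ _ _ f (hcg (i + 1)) (hcδ i) (hE1 M i) (hE3 N i)
      (fun t => ((hE3 M i) _).mpr ⟨t, rfl⟩) hsurj (Q_bij hIH (i + 1)).1 r hfr hur

theorem Q_prime (hres : Q u (ModuleCat.of A p.ResidueField))
    (IH : ∀ J : Ideal A, p < J → Q u (ModuleCat.of A (A ⧸ J))) :
    Q u (ModuleCat.of A (A ⧸ p)) := by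
  have hlt : ∀ f : A, f ∉ p → p < p ⊔ Ideal.span {f} := by
    intro f hf
    refine lt_of_le_of_ne le_sup_left ?_
    intro heq
    apply hf
    rw [heq]
    exact Submodule.mem_sup_right (Ideal.mem_span_singleton_self f)
  have key := TorIsoChase.prime_step p
    (fun i => ((Tor (ModuleCat.{u} A) i).obj (ModuleCat.of A (A ⧸ p))).obj M)
    (fun i => ((Tor (ModuleCat.{u} A) i).obj (ModuleCat.of A (A ⧸ p))).obj N)
    (fun i => (((Tor (ModuleCat.{u} A) i).obj (ModuleCat.of A (A ⧸ p))).map u).hom)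
    (fun i => loc_bij p hres i)
    (fun f hf => (prime_chases p f hf (IH _ (hlt f hf))).1)
    (fun f hf => (prime_chases p f hf (IH _ (hlt f hf))).2.1)
    (fun f hf => (prime_chases p f hf (IH _ (hlt f hf))).2.2)
  intro i
  exact (ConcreteCategory.isIso_iff_bijective _).mpr (key i)

end Prime

/-- If `Torᵢ(k(x), u)` is an isomorphism for all primes `x` and all `i`, so is `Torᵢ(A/I, u)` for
every ideal `I`. -/
theorem Q_quot [IsNoetherianRing A]
    (h : ∀ (x : Ideal A) [x.IsPrime], Q u (ModuleCat.of A x.ResidueField)) (I : Ideal A) :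
    Q u (ModuleCat.of A (A ⧸ I)) := by
  refine IsNoetherian.induction (P := fun I : Ideal A => Q u (ModuleCat.of A (A ⧸ I))) ?_ I
  intro (I : Ideal A) IH
  by_cases htop : I = ⊤
  · subst htop
    haveI : Subsingleton (ModuleCat.of A (A ⧸ (⊤ : Ideal A))) :=
      Submodule.Quotient.subsingleton_iff.mpr rfl
    exact Q_of_subsingleton _
  by_cases hp : Ideal.IsPrime I
  · haveI : Ideal.IsPrime I := hp
    exact Q_prime I (h I) IH
  · obtain ⟨a, ha, b, hb, hab⟩ := (Ideal.not_isPrime_iff.mp hp).resolve_left htop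
    have hι := colonMap_injective I a
    have hex := exact_colon I a
    have hπ : Function.Surjective (Submodule.factor (le_sup_left : I ≤ I ⊔ Ideal.span {a})) :=
      Submodule.factor_surjective _
    have hS := sesSC_shortExact _ _ hι hex hπ
    have hlt1 : I < colon I a := by
      refine lt_of_le_of_ne (le_colon I a) ?_
      intro heq
      apply hb
      rw [heq]
      exact (mem_colon I a b).mpr hab
    have hlt2 : I < I ⊔ Ideal.span {a} := by
      refine lt_of_le_of_ne le_sup_left ?_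
      intro heq
      apply ha
      rw [heq]
      exact Submodule.mem_sup_right (Ideal.mem_span_singleton_self a)
    exact Q_of_ses _ hS (IH _ hlt1) (IH _ hlt2)

/-- Main theorem: a morphism inducing isomorphisms on all `Torᵢ(k(x), -)` is an isomorphism. -/
theorem isIso_of_tor_residueField [IsNoetherianRing A]
    (h : ∀ (x : Ideal A) [x.IsPrime] (i : ℕ),
      IsIso (((Tor (ModuleCat.{u} A) i).obj (ModuleCat.of A x.ResidueField)).map u)) :
    IsIso u := by
  have h1 : Q u (ModuleCat.of A (A ⧸ (⊥ : Ideal A))) := Q_quot (fun x _ i => h x i) ⊥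
  have h2 : Q u (ModuleCat.of A A) :=
    Q_of_iso (Submodule.quotEquivOfEqBot (⊥ : Ideal A) rfl).toModuleIso h1
  have h3 := (NatIso.isIso_map_iff (TorLES.torZeroIso (ModuleCat.of A A) ≪≫
    leftUnitorNatIso (ModuleCat.{u} A)) u).mp (h2 0)
  exact h3

end Groth.Agent.Lib.Helper46.TorResidueIso
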