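import Groth.Agent.Lib.Helper46.TorNatural
import Groth.Agent.Lib.Helper46.TorResidueIso
import Mathlib.LinearAlgebra.TensorProduct.Pi
import Mathlib.LinearAlgebra.TensorProduct.RightExactness
import Mathlib.Algebra.Module.FinitePresentation
import Mathlib.Algebra.Module.Projective
import Mathlib.LinearAlgebra.Isomorphisms

/-!
# Maps killing `Tor₁` factor through free modules (helper46)

If `α : M → M'` with `M` finitely presented induces the zero map `Tor₁(M, N) → Tor₁(M', N)` for all `N`
then `α` factors through a free module.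
-/

set_option autoImplicit false
set_option backward.isDefEq.respectTransparency false
set_option backward.defeqAttrib.useBackward true

namespace Groth.Agent.Lib.Helper46.TorFactorFree

open CategoryTheory Limits MonoidalCategory Category TensorProduct
open Groth.Agent.Lib.Helper46

universe u

section Core

variable {R : Type u} [CommRing R] {n m : ℕ} (g : (Fin m → R) →ₗ[R] (Fin n → R))

/-- matrix of `g` -/
def Amat (i : Fin n) (j : Fin m) : R := g (Pi.single j 1) i

/-- the transpose of `g` -/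
noncomputable def gT : (Fin n → R) →ₗ[R] (Fin m → R) :=
  LinearMap.pi (fun j => ∑ i, Amat g i j • (LinearMap.proj i : (Fin n → R) →ₗ[R] R))

lemma gT_apply (v : Fin n → R) (j : Fin m) : gT g v j = ∑ i, Amat g i j * v i := by
  simp [gT, LinearMap.sum_apply]

/-- the cokernel of the transpose -/
noncomputable abbrev D : Type u := (Fin m → R) ⧸ LinearMap.range (gT g)

/-- the projection to `D` -/
noncomputable abbrev mkD : (Fin m → R) →ₗ[R] D g := (LinearMap.range (gT g)).mkQ

lemma K1 : ∑ j, (g (Pi.single j 1)) ⊗ₜ[R] (mkD g (Pi.single j 1)) =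
    (0 : (Fin n → R) ⊗[R] D g) := by
  have h1 : ∀ j, g (Pi.single j 1) = ∑ i, Amat g i j • (Pi.single i 1 : Fin n → R) :=
    fun j => pi_eq_sum_univ' _
  have h2 : ∀ i, (∑ j, Amat g i j • mkD g (Pi.single j 1)) = 0 := by
    intro i
    have h3 : (∑ j, Amat g i j • (Pi.single j 1 : Fin m → R)) = gT g (Pi.single i 1) := by
      rw [← pi_eq_sum_univ' (fun j => Amat g i j)]
      ext j
      rw [gT_apply]
      simp [Pi.single_apply]
    have h4 : (∑ j, Amat g i j • mkD g (Pi.single j 1)) =
        mkD g (∑ j, Amat g i j • (Pi.single j 1 : Fin m → R)) := by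
      rw [map_sum]
      exact Finset.sum_congr rfl fun j _ => (map_smul _ _ _).symm
    rw [h4, h3]
    exact (Submodule.Quotient.mk_eq_zero _).mpr ⟨_, rfl⟩
  have step : ∀ j, (g (Pi.single j 1)) ⊗ₜ[R] (mkD g (Pi.single j 1)) =
      ∑ i, (Pi.single i 1 : Fin n → R) ⊗ₜ[R] (Amat g i j • mkD g (Pi.single j 1)) := by
    intro j
    conv_lhs => rw [h1 j]
    rw [TensorProduct.sum_tmul]
    exact Finset.sum_congr rfl fun i _ => TensorProduct.smul_tmul _ _ _
  calc ∑ j, (g (Pi.single j 1)) ⊗ₜ[R] (mkD g (Pi.single j 1))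
      = ∑ j, ∑ i, (Pi.single i 1 : Fin n → R) ⊗ₜ[R] (Amat g i j • mkD g (Pi.single j 1)) :=
        Finset.sum_congr rfl fun j _ => step j
    _ = ∑ i, ∑ j, (Pi.single i 1 : Fin n → R) ⊗ₜ[R] (Amat g i j • mkD g (Pi.single j 1)) :=
        Finset.sum_comm
    _ = ∑ i, (Pi.single i 1 : Fin n → R) ⊗ₜ[R] (∑ j, Amat g i j • mkD g (Pi.single j 1)) :=
        Finset.sum_congr rfl fun i _ => (TensorProduct.tmul_sum _ _ _).symm
    _ = 0 := by
        refine Finset.sum_eq_zero fun i _ => ?_
        rw [h2 i, TensorProduct.tmul_zero]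

lemma K2 (X : Type u) [AddCommGroup X] [Module R X] (x : Fin m → X)
    (hx : ∑ j, x j ⊗ₜ[R] mkD g (Pi.single j 1) = (0 : X ⊗[R] D g)) :
    ∃ q : Fin n → X, ∀ j, x j = ∑ i, Amat g i j • q i := by
  have hex : Function.Exact (gT g) (mkD g) :=
    LinearMap.exact_iff.mpr (Submodule.ker_mkQ _)
  have hex' := lTensor_exact X hex (Submodule.mkQ_surjective _)
  set y : X ⊗[R] (Fin m → R) := ∑ j, x j ⊗ₜ[R] (Pi.single j (1 : R)) with hy
  have hy0 : ((mkD g).lTensor X) y = 0 := by
    rw [hy, map_sum]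
    exact hx
  obtain ⟨w, hw⟩ := (hex' y).mp hy0
  refine ⟨TensorProduct.piScalarRight R R X (Fin n) w, fun j => ?_⟩
  have h1 : TensorProduct.piScalarRight R R X (Fin m) y j = x j := by
    rw [hy, map_sum, Finset.sum_apply]
    simp [TensorProduct.piScalarRight_apply, TensorProduct.piScalarRightHom_tmul, Pi.single_apply]
  have h2 : ∀ w : X ⊗[R] (Fin n → R),
      TensorProduct.piScalarRight R R X (Fin m) ((gT g).lTensor X w) j =
        ∑ i, Amat g i j • (TensorProduct.piScalarRight R R X (Fin n) w i) := by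
    intro w
    induction w using TensorProduct.induction_on with
    | zero => simp
    | tmul a v =>
      simp only [LinearMap.lTensor_tmul, TensorProduct.piScalarRight_apply,
        TensorProduct.piScalarRightHom_tmul]
      rw [gT_apply, Finset.sum_smul]
      exact Finset.sum_congr rfl fun i _ => mul_smul _ _ _
    | add a b ha hb =>
      simp only [map_add, Pi.add_apply, ha, hb, smul_add, Finset.sum_add_distrib]
  rw [← h1, ← hw, h2]

end Core

section Main

variable {R : Type u} [CommRing R] (M M' : Type u) [AddCommGroup M] [Module R M]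
  [Module.FinitePresentation R M] [AddCommGroup M'] [Module R M']

theorem factor_through_free (α : M →ₗ[R] M')
    (h : ∀ (N : Type u) [AddCommGroup N] [Module R N],
      ((Tor (ModuleCat.{u} R) 1).map (ModuleCat.ofHom α)).app (ModuleCat.of R N) = 0) :
    ∃ g' : M →ₗ[R] (M' →₀ R), α = (Finsupp.linearCombination R id) ∘ₗ g' := by
  obtain ⟨n, m, f, g, hf, hfg⟩ := Module.FinitePresentation.exists_fin' R M
  set π : (M' →₀ R) →ₗ[R] M' := Finsupp.linearCombination R id with hπdef
  have hπ : Function.Surjective π := fun x => ⟨Finsupp.single x 1, by simp [hπdef]⟩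
  obtain ⟨φ, hφ⟩ := Module.projective_lifting_property π (α ∘ₗ f) hπ
  have hφ' : ∀ x, π (φ x) = α (f x) := fun x => LinearMap.congr_fun hφ x
  have hres : ∀ x ∈ LinearMap.ker f, φ x ∈ LinearMap.ker π := by
    intro x hx
    rw [LinearMap.mem_ker] at hx ⊢
    rw [hφ', hx, map_zero]
  let φK : LinearMap.ker f →ₗ[R] LinearMap.ker π := φ.restrict hres
  have hS := LinearMap.shortExact_shortComplexKer hf
  have hS' := LinearMap.shortExact_shortComplexKer hπ
  let ψ : f.shortComplexKer ⟶ π.shortComplexKer :=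
    ShortComplex.homMk (ModuleCat.ofHom φK) (ModuleCat.ofHom φ) (ModuleCat.ofHom α)
      (ModuleCat.hom_ext (LinearMap.ext fun x => rfl))
      (ModuleCat.hom_ext hφ)
  -- the test module
  let N : ModuleCat.{u} R := ModuleCat.of R (D g)
  let kgen : Fin m → LinearMap.ker f := fun j =>
    ⟨g (Pi.single j 1), hfg.apply_apply_eq_zero _⟩
  set z : (LinearMap.ker f) ⊗[R] D g := ∑ j, kgen j ⊗ₜ[R] mkD g (Pi.single j 1) with hz
  have hz1 : ((LinearMap.ker f).subtype.rTensor (D g)) z = 0 := by
    rw [hz, map_sum]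
    exact K1 g
  -- linear equivalences from `torZeroIso`
  let eK := ((TorLES.torZeroIso f.shortComplexKer.X₁).app N).toLinearEquiv
  let eF := ((TorLES.torZeroIso f.shortComplexKer.X₂).app N).toLinearEquiv
  let eQ := ((TorLES.torZeroIso π.shortComplexKer.X₁).app N).toLinearEquiv
  let t₀ := eK.symm z
  have ht₀ : eK t₀ = z := eK.apply_symm_apply z
  have hnatF : ∀ t, eF ((((Tor (ModuleCat.{u} R) 0).map f.shortComplexKer.f).app N).hom t) =
      ((LinearMap.ker f).subtype.rTensor (D g)) (eK t) := fun t =>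
    LinearMap.congr_fun (congrArg ModuleCat.Hom.hom
      (TorLES.torZeroIso_hom_naturality f.shortComplexKer.f N)) t
  have hnatQ : ∀ t, eQ ((((Tor (ModuleCat.{u} R) 0).map ψ.τ₁).app N).hom t) =
      (φK.rTensor (D g)) (eK t) := fun t =>
    LinearMap.congr_fun (congrArg ModuleCat.Hom.hom
      (TorLES.torZeroIso_hom_naturality ψ.τ₁ N)) t
  have hstep1 : (((Tor (ModuleCat.{u} R) 0).map f.shortComplexKer.f).app N).hom t₀ = 0 := by
    apply eF.injective
    rw [hnatF, ht₀, hz1, map_zero]
  obtain ⟨t, ht⟩ := ((TorResidueIso.fexact (TorLES.exact₁ _ hS N 0)) t₀).mp hstep1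
  have hτ₃ : ((Tor (ModuleCat.{u} R) (0 + 1)).map ψ.τ₃).app N = 0 := h (D g)
  have hnatδ := TorNatural.δ_naturality_app hS hS' ψ 0 N
  have hstep3 : (((Tor (ModuleCat.{u} R) 0).map ψ.τ₁).app N).hom t₀ = 0 := by
    have h3 := LinearMap.congr_fun (congrArg ModuleCat.Hom.hom hnatδ) t
    rw [hτ₃] at h3
    rw [← ht]
    exact h3.trans (by simp)
  have hz2 : (φK.rTensor (D g)) z = 0 := by
    rw [← ht₀, ← hnatQ, hstep3, map_zero]
  have hz2' : ∑ j, (φK (kgen j)) ⊗ₜ[R] mkD g (Pi.single j 1) =
      (0 : (LinearMap.ker π) ⊗[R] D g) := by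
    rw [← hz2, hz, map_sum]
    rfl
  obtain ⟨q, hq⟩ := K2 g (LinearMap.ker π) (fun j => φK (kgen j)) hz2'
  -- the correction map
  let ψ' : (Fin n → R) →ₗ[R] (M' →₀ R) :=
    ∑ i, (LinearMap.proj i : (Fin n → R) →ₗ[R] R).smulRight ((q i : LinearMap.ker π) : M' →₀ R)
  have hψ' : ∀ v, ψ' v = ∑ i, v i • ((q i : LinearMap.ker π) : M' →₀ R) := by
    intro v
    simp [ψ', LinearMap.sum_apply]
  have hψ'ker : ∀ v, π (ψ' v) = 0 := by
    intro v
    rw [hψ', map_sum]
    refine Finset.sum_eq_zero fun i _ => ?_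
    rw [map_smul, LinearMap.mem_ker.mp (q i).2, smul_zero]
  have hagree : φ ∘ₗ g = ψ' ∘ₗ g := by
    apply LinearMap.pi_ext'
    intro j
    apply LinearMap.ext_ring
    have h5 : ((φK (kgen j) : LinearMap.ker π) : M' →₀ R) = φ (g (Pi.single j 1)) := rfl
    have h6 := congrArg (fun y : LinearMap.ker π => (y : M' →₀ R)) (hq j)
    simp only [LinearMap.comp_apply, LinearMap.single_apply]
    rw [← h5, h6, hψ']
    simp only [Submodule.coe_sum, Submodule.coe_smul]
    rfl
  let χ : (Fin n → R) →ₗ[R] (M' →₀ R) := φ - ψ'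
  have hle : LinearMap.ker f ≤ LinearMap.ker χ := by
    intro x hx
    obtain ⟨y, rfl⟩ := (hfg x).mp (LinearMap.mem_ker.mp hx)
    rw [LinearMap.mem_ker]
    have := LinearMap.congr_fun hagree y
    simp only [LinearMap.comp_apply] at this
    simp [χ, this]
  let α' : M →ₗ[R] (M' →₀ R) :=
    (LinearMap.ker f).liftQ χ hle ∘ₗ (f.quotKerEquivOfSurjective hf).symm.toLinearMap
  refine ⟨α', ?_⟩
  apply LinearMap.ext
  intro y
  obtain ⟨x, rfl⟩ := hf y
  simp only [LinearMap.comp_apply, α', LinearEquiv.coe_coe,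
    LinearMap.quotKerEquivOfSurjective_symm_apply, Submodule.liftQ_apply]
  simp only [χ, LinearMap.sub_apply, map_sub, hψ'ker, sub_zero]
  exact (hφ' x).symm

end Main

end Groth.Agent.Lib.Helper46.TorFactorFree
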