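import Groth.Agent.Lib.Helper46.TorFiltered
import Groth.Agent.Lib.Helper46.TorFlatTensor
import Groth.Agent.Lib.Helper46.TorOne
import Mathlib.RingTheory.Flat.Stability
import Mathlib.RingTheory.Flat.Localization
import Mathlib.RingTheory.Flat.Tensor
import Mathlib.RingTheory.Localization.BaseChange
import Mathlib.Algebra.Module.Torsion.Basic
import Mathlib.LinearAlgebra.Finsupp.Supported
import Mathlib.LinearAlgebra.TensorProduct.Tower
import Mathlib.RingTheory.Noetherian.Nilpotent

/-!
# A `Tor`-criterion of flatness (helper46)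

`I = (f₁, …, f_r)`, `M_{fᵢ}` flat over `A_{fᵢ}`, `M/IM` flat over `A/I` and `Tor_q(M, A/I) = 0` for
`1 ≤ q ≤ r + 1` imply `M` flat.

Tools of independent interest:
* `isZero_of_directed_union`: `Tor_q(M, -)` vanishes on a directed union of submodules on which it vanishes;
* `isZero_tor_finsupp`: `Tor_{n+1}(M, X →₀ Y) = 0` if `Tor_{n+1}(M, Y) = 0`;
* `isZero_tor_tensor_of_flat`: `Tor_{n+1}(M, F ⊗ N) = 0` if `F` and `F ⊗ M` are flat;
* `isZero_tor_of_killed`: `Tor_q(M, X) = 0` for `1 ≤ q ≤ k` and all `X` killed by `I`, if `M/IM` is `A/I`-flat and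
  `Tor_q(M, A/I) = 0` for `1 ≤ q ≤ k`.
-/

set_option autoImplicit false
set_option backward.isDefEq.respectTransparency false
set_option backward.defeqAttrib.useBackward true

namespace Groth.Agent.Lib.Helper46.TorFlatCrit

open CategoryTheory Limits MonoidalCategory Category TensorProduct
open Groth.Agent.Lib.Helper46 Groth.Agent.Lib.Helper46.TorShift

universe u

section Union

variable {A : Type u} [CommRing A] {N : Type u} [AddCommGroup N] [Module A N]
  {J : Type u} [Preorder J]

/-- the diagram of a monotone family of submodules -/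
noncomputable def unionFunctor (P : J → Submodule A N) (hP : Monotone P) : J ⥤ ModuleCat.{u} A where
  obj j := ModuleCat.of A (P j)
  map {i j} h := ModuleCat.ofHom (Submodule.inclusion (hP (leOfHom h)))
  map_id i := ModuleCat.hom_ext (LinearMap.ext fun x => rfl)
  map_comp f g := ModuleCat.hom_ext (LinearMap.ext fun x => rfl)

/-- the cocone of inclusions -/
noncomputable def unionCocone (P : J → Submodule A N) (hP : Monotone P) :
    Cocone (unionFunctor P hP) where
  pt := ModuleCat.of A N
  ι :=
    { app := fun j => ModuleCat.ofHom (P j).subtype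
      naturality := fun i j h => ModuleCat.hom_ext (LinearMap.ext fun x => rfl) }

variable [IsDirected J (· ≤ ·)] [Nonempty J]

/-- `Tor_q(M, -)` vanishes on a directed union of submodules on which it vanishes. -/
theorem isZero_of_directed_union (q : ℕ) (M : Type u) [AddCommGroup M] [Module A M]
    (P : J → Submodule A N) (hP : Monotone P) (hcov : ∀ x : N, ∃ j, x ∈ P j)
    (h : ∀ j, IsZero (T A q M (P j))) : IsZero (T A q M N) := by
  haveI := TorFiltered.tor_obj_preservesColimitsOfShape (R := A) J q (ModuleCat.of A M)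
  obtain ⟨hc⟩ := TorFiltered.nonempty_isColimit_of_elementwise (unionCocone P hP)
    (fun x => by
      obtain ⟨j, hj⟩ := hcov x
      exact ⟨j, ⟨x, hj⟩, rfl⟩)
    (fun i x hx => ⟨i, 𝟙 i, Subtype.ext hx⟩)
  have hc' := isColimitOfPreserves ((Tor (ModuleCat.{u} A) q).obj (ModuleCat.of A M)) hc
  rw [IsZero.iff_id_eq_zero]
  apply hc'.hom_ext
  intro j
  exact (h j).eq_of_src _ _

end Union

section Finsupp

variable {A : Type u} [CommRing A] (M : Type u) [AddCommGroup M] [Module A M]

/-- `Tor_{n+1}(M, X →₀ Y) = 0` if `Tor_{n+1}(M, Y) = 0`. -/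
theorem isZero_tor_finsupp (Y : Type u) [AddCommGroup Y] [Module A Y] (n : ℕ)
    (hY : IsZero (T A (n + 1) M Y)) (X : Type u) : IsZero (T A (n + 1) M (X →₀ Y)) := by
  classical
  apply isZero_of_directed_union (n + 1) M
    (fun s : Finset X => Finsupp.supported Y A (s : Set X))
  · intro s t h
    exact Finsupp.supported_mono (R := A) (Finset.coe_subset.mpr h)
  · intro v
    exact ⟨v.support, Finsupp.mem_supported_support (R := A) v⟩
  · intro s
    induction s using Finset.induction_on with
    | empty =>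
      haveI : Subsingleton ↥(Finsupp.supported Y A ((∅ : Finset X) : Set X)) := by
        rw [Finset.coe_empty, Finsupp.supported_empty]
        infer_instance
      haveI := Module.Free.of_subsingleton A ↥(Finsupp.supported Y A ((∅ : Finset X) : Set X))
      exact isZero_of_flat_right M _ n
    | insert a s ha ih =>
      have hle : Finsupp.supported Y A (s : Set X) ≤
          Finsupp.supported Y A ((insert a s : Finset X) : Set X) :=
        Finsupp.supported_mono (R := A) (Finset.coe_subset.mpr (Finset.subset_insert a s))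
      obtain ⟨ι, π, hι, hex, hπ⟩ : ∃ (ι : ↥(Finsupp.supported Y A (s : Set X)) →ₗ[A]
            ↥(Finsupp.supported Y A ((insert a s : Finset X) : Set X)))
          (π : ↥(Finsupp.supported Y A ((insert a s : Finset X) : Set X)) →ₗ[A] Y),
          Function.Injective ι ∧ Function.Exact ι π ∧ Function.Surjective π := by
        refine ⟨Submodule.inclusion hle, (Finsupp.lapply a).comp (Submodule.subtype _),
          Submodule.inclusion_injective hle, ?_, ?_⟩
        · intro v
          constructor
          · intro hv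
            have hv' : (v.1 : X →₀ Y) a = 0 := hv
            refine ⟨⟨v.1, (Finsupp.mem_supported' (R := A) _).mpr ?_⟩, Subtype.ext rfl⟩
            intro x hx
            by_cases hxa : x = a
            · rw [hxa]; exact hv'
            · refine (Finsupp.mem_supported' (R := A) _).mp v.2 x ?_
              intro hx'
              rcases Finset.mem_insert.mp (Finset.mem_coe.mp hx') with h | h
              · exact hxa h
              · exact hx (Finset.mem_coe.mpr h)
          · rintro ⟨w, rfl⟩
            exact (Finsupp.mem_supported' (R := A) _).mp w.2 a (fun h => ha (Finset.mem_coe.mp h))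
        · intro y
          exact ⟨⟨Finsupp.single a y, Finsupp.single_mem_supported (R := A) y
            (Finset.mem_coe.mpr (Finset.mem_insert_self a s))⟩, by simp⟩
      exact isZero_mid₂ ι π hι hex hπ (n + 1) ih hY

end Finsupp

section Loc

variable {A : Type u} [CommRing A] (F M N₀ : Type u) [AddCommGroup F] [Module A F]
  [AddCommGroup M] [Module A M] [AddCommGroup N₀] [Module A N₀]

/-- `Tor_{n+1}(M, F ⊗ N₀) = 0` if `F` and `F ⊗ M` are flat. -/
theorem isZero_tor_tensor_of_flat [Module.Flat A F] [Module.Flat A (F ⊗[A] M)] (n : ℕ) :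
    IsZero (T A (n + 1) M (F ⊗[A] N₀)) := by
  have e1 : T A (n + 1) M (F ⊗[A] N₀) ≅
      ((Tor (ModuleCat.{u} A) (n + 1)).obj (ModuleCat.of A F ⊗ ModuleCat.of A N₀)).obj
        (ModuleCat.of A M) :=
    TorPrime.torSymm (ModuleCat.of A M) (ModuleCat.of A F ⊗ ModuleCat.of A N₀) (n + 1)
  have e2 : ((Tor (ModuleCat.{u} A) (n + 1)).obj (ModuleCat.of A F ⊗ ModuleCat.of A N₀)).obj
        (ModuleCat.of A M) ≅
      ModuleCat.of A F ⊗ ((Tor (ModuleCat.{u} A) (n + 1)).obj (ModuleCat.of A N₀)).obj
        (ModuleCat.of A M) :=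
    (TorFlatTensor.torTensorFlatIso (ModuleCat.of A F) (ModuleCat.of A N₀) (n + 1)).app
      (ModuleCat.of A M)
  have e3 : ModuleCat.of A F ⊗ ((Tor (ModuleCat.{u} A) (n + 1)).obj (ModuleCat.of A N₀)).obj
        (ModuleCat.of A M) ≅
      ModuleCat.of A F ⊗ ((Tor (ModuleCat.{u} A) (n + 1)).obj (ModuleCat.of A M)).obj
        (ModuleCat.of A N₀) :=
    (tensorLeft (ModuleCat.of A F)).mapIso
      (TorPrime.torSymm (ModuleCat.of A N₀) (ModuleCat.of A M) (n + 1))
  have e4 : ((Tor (ModuleCat.{u} A) (n + 1)).obj (ModuleCat.of A F ⊗ ModuleCat.of A M)).obj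
        (ModuleCat.of A N₀) ≅
      ModuleCat.of A F ⊗ ((Tor (ModuleCat.{u} A) (n + 1)).obj (ModuleCat.of A M)).obj
        (ModuleCat.of A N₀) :=
    (TorFlatTensor.torTensorFlatIso (ModuleCat.of A F) (ModuleCat.of A M) (n + 1)).app
      (ModuleCat.of A N₀)
  have h0 : IsZero (((Tor (ModuleCat.{u} A) (n + 1)).obj
      (ModuleCat.of A F ⊗ ModuleCat.of A M)).obj (ModuleCat.of A N₀)) := by
    haveI : Module.Flat A (ModuleCat.of A F ⊗ ModuleCat.of A M : ModuleCat.{u} A) :=
      ‹Module.Flat A (F ⊗[A] M)›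
    exact TorLES.isZero_tor_succ_of_flat_left _ _ n
  exact h0.of_iso (e1 ≪≫ e2 ≪≫ e3 ≪≫ e4.symm)

/-- `A_g ⊗ M` is flat over `A` if `M_g` is flat over `A_g`. -/
lemma flat_tensor_away (g : A)
    (h : Module.Flat (Localization.Away g) (LocalizedModule (Submonoid.powers g) M)) :
    Module.Flat A (Localization.Away g ⊗[A] M) := by
  haveI := h
  haveI : Module.Flat A (LocalizedModule (Submonoid.powers g) M) :=
    Module.Flat.trans A (Localization.Away g) _
  have hb : IsBaseChange (Localization.Away g)
      (LocalizedModule.mkLinearMap (Submonoid.powers g) M) :=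
    IsLocalizedModule.isBaseChange (Submonoid.powers g) (Localization.Away g) _
  exact Module.Flat.of_linearEquiv (hb.equiv.restrictScalars A)

lemma isLocalizedModule_mk_away (g : A) (X : Type u) [AddCommGroup X] [Module A X] :
    IsLocalizedModule (Submonoid.powers g) (TensorProduct.mk A (Localization.Away g) X 1) :=
  (isLocalizedModule_iff_isBaseChange (Submonoid.powers g) (Localization.Away g) _).mpr
    (TensorProduct.isBaseChange A _ (Localization.Away g))

end Loc

section TorOne'

variable {R : Type u} [CommRing R]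

/-- `Tor₁(N, S.X₃) = 0` if `Tor₁(N, S.X₂) = 0` and `N ⊗ S.X₁ ⟶ N ⊗ S.X₂` is mono. -/
theorem isZero_tor_one_of_mono₂' (N : ModuleCat.{u} R) (S : ShortComplex (ModuleCat.{u} R))
    (hS : S.ShortExact) (hP : IsZero (((Tor (ModuleCat.{u} R) 1).obj N).obj S.X₂))
    (h : Mono (N ◁ S.f)) : IsZero (((Tor (ModuleCat.{u} R) 1).obj N).obj S.X₃) := by
  have e3 := TorLES2.exact₃₂ N S hS 0
  have hmono : Mono (TorLES2.δ₂ N S hS 0) := e3.mono_g (hP.eq_of_src _ _)
  have hnat : ((Tor (ModuleCat.{u} R) 0).obj N).map S.f ≫ (TorLES.torZeroIso N).hom.app S.X₂ =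
      (TorLES.torZeroIso N).hom.app S.X₁ ≫ N ◁ S.f := (TorLES.torZeroIso N).hom.naturality S.f
  have h' : Mono (((Tor (ModuleCat.{u} R) 0).obj N).map S.f) := by
    have : ((Tor (ModuleCat.{u} R) 0).obj N).map S.f = (TorLES.torZeroIso N).hom.app S.X₁ ≫
        N ◁ S.f ≫ (TorLES.torZeroIso N).inv.app S.X₂ := by
      rw [← reassoc_of% hnat, Iso.hom_inv_id_app, comp_id]
    rw [this]; infer_instance
  have hz : TorLES2.δ₂ N S hS 0 = 0 := by
    rw [← cancel_mono (((Tor (ModuleCat.{u} R) 0).obj N).map S.f), TorLES2.δ₂_map_f, zero_comp]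
  rw [IsZero.iff_id_eq_zero, ← cancel_mono (TorLES2.δ₂ N S hS 0), hz]
  simp

variable {N Z P M : Type u} [AddCommGroup N] [Module R N] [AddCommGroup Z] [Module R Z]
  [AddCommGroup P] [Module R P] [AddCommGroup M] [Module R M]

/-- linear-map version -/
theorem isZero_tor_one_of_injective_lTensor' (ι : Z →ₗ[R] P) (π : P →ₗ[R] M)
    (hι : Function.Injective ι) (hex : Function.Exact ι π) (hπ : Function.Surjective π)
    (hP : IsZero (T R 1 N P)) (hinj : Function.Injective (ι.lTensor N)) :
    IsZero (T R 1 N M) := by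
  have hS := sesSC_shortExact ι π hι hex hπ
  refine isZero_tor_one_of_mono₂' (ModuleCat.of R N) (sesSC ι π hex) hS hP ?_
  rw [ModuleCat.mono_iff_injective]
  exact hinj

end TorOne'

section Killed

variable {A : Type u} [CommRing A] (I : Ideal A) (M : Type u) [AddCommGroup M] [Module A M]

/-- flatness of `(A/I) ⊗ M` over `A/I` gives injectivity of `- ⊗_A M` on injections of `A/I`-modules -/
lemma rTensor_injective_of_flat (hflat : Module.Flat (A ⧸ I) ((A ⧸ I) ⊗[A] M))
    {Y Y' : Type u} [AddCommGroup Y] [Module A Y] [Module (A ⧸ I) Y] [IsScalarTower A (A ⧸ I) Y]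
    [AddCommGroup Y'] [Module A Y'] [Module (A ⧸ I) Y'] [IsScalarTower A (A ⧸ I) Y']
    (g : Y →ₗ[A ⧸ I] Y') (hg : Function.Injective g) :
    Function.Injective ((g.restrictScalars A).rTensor M) := by
  haveI := hflat
  have hinj : Function.Injective (g.rTensor ((A ⧸ I) ⊗[A] M)) :=
    Module.Flat.rTensor_preserves_injective_linearMap g hg
  have hsq : ∀ t : Y ⊗[A ⧸ I] ((A ⧸ I) ⊗[A] M),
      TensorProduct.AlgebraTensorModule.cancelBaseChange A (A ⧸ I) (A ⧸ I) Y' M
        (g.rTensor ((A ⧸ I) ⊗[A] M) t) =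
      (g.restrictScalars A).rTensor M
        (TensorProduct.AlgebraTensorModule.cancelBaseChange A (A ⧸ I) (A ⧸ I) Y M t) := by
    intro t
    induction t using TensorProduct.induction_on with
    | zero => simp
    | tmul y z =>
      induction z using TensorProduct.induction_on with
      | zero => simp
      | tmul b m =>
        simp only [LinearMap.rTensor_tmul,
          TensorProduct.AlgebraTensorModule.cancelBaseChange_tmul, LinearMap.coe_restrictScalars,
          map_smul]
      | add z z' hz hz' =>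
        simp only [TensorProduct.tmul_add, map_add] at hz hz' ⊢
        rw [hz, hz']
    | add t t' ht ht' =>
      simp only [map_add]
      rw [ht, ht']
  intro a b hab
  obtain ⟨a', rfl⟩ :=
    (TensorProduct.AlgebraTensorModule.cancelBaseChange A (A ⧸ I) (A ⧸ I) Y M).surjective a
  obtain ⟨b', rfl⟩ :=
    (TensorProduct.AlgebraTensorModule.cancelBaseChange A (A ⧸ I) (A ⧸ I) Y M).surjective b
  rw [← hsq, ← hsq] at hab
  rw [hinj ((TensorProduct.AlgebraTensorModule.cancelBaseChange A (A ⧸ I) (A ⧸ I) Y' M).injective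
    hab)]

/-- `Tor_q(M, X) = 0` for `1 ≤ q ≤ k` and all `A/I`-modules `X`. -/
theorem isZero_tor_of_module_quot (k : ℕ) (hflat : Module.Flat (A ⧸ I) ((A ⧸ I) ⊗[A] M))
    (htor : ∀ q, 1 ≤ q → q ≤ k → IsZero (T A q M (A ⧸ I))) (q : ℕ) (hq1 : 1 ≤ q) :
    q ≤ k → ∀ (X : Type u) [AddCommGroup X] [Module A X] [Module (A ⧸ I) X]
      [IsScalarTower A (A ⧸ I) X], IsZero (T A q M X) := by
  induction q, hq1 using Nat.le_induction with
  | base =>
    intro hk X _ _ _ _
    obtain ⟨π, hπ⟩ : ∃ π : (X →₀ (A ⧸ I)) →ₗ[A ⧸ I] X, Function.Surjective π :=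
      ⟨Finsupp.linearCombination (A ⧸ I) id, fun x => ⟨Finsupp.single x 1, by simp⟩⟩
    have hF : IsZero (T A (0 + 1) M (X →₀ (A ⧸ I))) :=
      isZero_tor_finsupp M (A ⧸ I) 0 (htor 1 le_rfl hk) X
    have hex : Function.Exact ((LinearMap.ker π).subtype.restrictScalars A)
        (π.restrictScalars A) := LinearMap.exact_subtype_ker_map π
    have hι : Function.Injective ((LinearMap.ker π).subtype.restrictScalars A) :=
      (LinearMap.ker π).injective_subtype
    have hπ' : Function.Surjective (π.restrictScalars A) := hπ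
    have hinj : Function.Injective
        (((LinearMap.ker π).subtype.restrictScalars A).lTensor M) := by
      rw [LinearMap.lTensor_inj_iff_rTensor_inj]
      have h := rTensor_injective_of_flat I M hflat (Y := ↥(LinearMap.ker π))
        (Y' := X →₀ (A ⧸ I)) (LinearMap.ker π).subtype (LinearMap.ker π).injective_subtype
      exact h
    exact isZero_tor_one_of_injective_lTensor' (N := M) (Z := ↥(LinearMap.ker π))
      (P := X →₀ (A ⧸ I)) (M := X)
      ((LinearMap.ker π).subtype.restrictScalars A) (π.restrictScalars A) hι hex hπ' hF hinj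
  | succ q hq ih =>
    intro hk X _ _ _ _
    obtain ⟨π, hπ⟩ : ∃ π : (X →₀ (A ⧸ I)) →ₗ[A ⧸ I] X, Function.Surjective π :=
      ⟨Finsupp.linearCombination (A ⧸ I) id, fun x => ⟨Finsupp.single x 1, by simp⟩⟩
    have hF : IsZero (T A (q + 1) M (X →₀ (A ⧸ I))) :=
      isZero_tor_finsupp M (A ⧸ I) q (htor (q + 1) (by omega) hk) X
    have hK : IsZero (T A q M ↥(LinearMap.ker π)) := ih (by omega) ↥(LinearMap.ker π)
    have hex : Function.Exact ((LinearMap.ker π).subtype.restrictScalars A)
        (π.restrictScalars A) := LinearMap.exact_subtype_ker_map π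
    have hι : Function.Injective ((LinearMap.ker π).subtype.restrictScalars A) :=
      (LinearMap.ker π).injective_subtype
    have hπ' : Function.Surjective (π.restrictScalars A) := hπ
    exact isZero_right₂ ((LinearMap.ker π).subtype.restrictScalars A) (π.restrictScalars A)
      hι hex hπ' q hF hK

/-- `Tor_q(M, X) = 0` for `1 ≤ q ≤ k` and all `A`-modules `X` killed by `I`. -/
theorem isZero_tor_of_killed (k : ℕ) (hflat : Module.Flat (A ⧸ I) ((A ⧸ I) ⊗[A] M))
    (htor : ∀ q, 1 ≤ q → q ≤ k → IsZero (T A q M (A ⧸ I))) (q : ℕ) (hq1 : 1 ≤ q) (hqk : q ≤ k)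
    (X : Type u) [AddCommGroup X] [Module A X] (hX : ∀ a ∈ I, ∀ x : X, a • x = 0) :
    IsZero (T A q M X) := by
  have hT : Module.IsTorsionBySet A X (I : Set A) := fun x a => hX a.1 a.2 x
  letI := hT.module
  haveI : IsScalarTower A (A ⧸ I) X := hT.isScalarTower
  exact isZero_tor_of_module_quot I M k hflat htor q hq1 hqk X

/-- `Tor_q(M, X) = 0` for `1 ≤ q ≤ k` and all `A`-modules `X` killed by a power of `I`. -/
theorem isZero_tor_of_killed_pow (k : ℕ) (hflat : Module.Flat (A ⧸ I) ((A ⧸ I) ⊗[A] M))
    (htor : ∀ q, 1 ≤ q → q ≤ k → IsZero (T A q M (A ⧸ I))) (q : ℕ) (hq1 : 1 ≤ q) (hqk : q ≤ k)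
    (K : ℕ) : ∀ (X : Type u) [AddCommGroup X] [Module A X],
      (∀ a ∈ I ^ K, ∀ x : X, a • x = 0) → IsZero (T A q M X) := by
  induction K with
  | zero =>
    intro X _ _ hX
    haveI : Subsingleton X := ⟨fun x y => by
      have h1 : (1 : A) ∈ I ^ 0 := by rw [pow_zero, Ideal.one_eq_top]; trivial
      have hx := hX 1 h1 x
      have hy := hX 1 h1 y
      rw [one_smul] at hx hy
      rw [hx, hy]⟩
    haveI := Module.Free.of_subsingleton A X
    obtain ⟨n, rfl⟩ : ∃ n, q = n + 1 := ⟨q - 1, by omega⟩
    exact isZero_of_flat_right M X n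
  | succ K ih =>
    intro X _ _ hX
    have h1 : IsZero (T A q M ↥(I • (⊤ : Submodule A X))) := by
      apply ih
      intro a ha y
      apply Subtype.ext
      rw [Submodule.coe_smul, Submodule.coe_zero]
      refine Submodule.smul_induction_on y.2 ?_ ?_
      · intro b hb x _
        rw [← mul_smul]
        exact hX (a * b) (by rw [pow_succ]; exact Ideal.mul_mem_mul ha hb) x
      · intro x y hx hy
        rw [smul_add, hx, hy, add_zero]
    have h2 : IsZero (T A q M (X ⧸ (I • (⊤ : Submodule A X)))) := by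
      apply isZero_tor_of_killed I M k hflat htor q hq1 hqk
      intro a ha c
      obtain ⟨x, rfl⟩ := (I • (⊤ : Submodule A X)).mkQ_surjective c
      rw [← map_smul]
      exact (Submodule.Quotient.mk_eq_zero _).mpr (Submodule.smul_mem_smul ha Submodule.mem_top)
    exact isZero_mid₂ (I • (⊤ : Submodule A X)).subtype (I • (⊤ : Submodule A X)).mkQ
      (I • (⊤ : Submodule A X)).injective_subtype
      (LinearMap.exact_subtype_mkQ (I • (⊤ : Submodule A X)))
      (I • (⊤ : Submodule A X)).mkQ_surjective q h1 h2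

end Killed

section Main

variable {A : Type u} [CommRing A] (M : Type u) [AddCommGroup M] [Module A M] {r : ℕ}
  (f : Fin r → A)

/-- `f i` acts locally nilpotently on `N` for all `i` with `i.val < s`. -/
def LN (s : ℕ) (N : Type u) [AddCommGroup N] [Module A N] : Prop :=
  ∀ i : Fin r, i.val < s → ∀ x : N, ∃ k : ℕ, f i ^ k • x = 0

/-- base of the induction: all `f i` locally nilpotent. -/
theorem base (k : ℕ)
    (hflat : Module.Flat (A ⧸ Ideal.span (Set.range f)) ((A ⧸ Ideal.span (Set.range f)) ⊗[A] M))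
    (htor : ∀ q, 1 ≤ q → q ≤ k → IsZero (T A q M (A ⧸ Ideal.span (Set.range f))))
    (N : Type u) [AddCommGroup N] [Module A N] (hN : LN f r N) (q : ℕ) (hq1 : 1 ≤ q) (hqk : q ≤ k) :
    IsZero (T A q M N) := by
  classical
  apply isZero_of_directed_union q M (fun s : Finset N => Submodule.span A (s : Set N))
  · intro s t h
    exact Submodule.span_mono (Finset.coe_subset.mpr h)
  · intro x
    exact ⟨{x}, Submodule.subset_span (by simp)⟩
  · intro s
    have hrad : Ideal.span (Set.range f) ≤
        (Module.annihilator A ↥(Submodule.span A (s : Set N))).radical := by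
      rw [Ideal.span_le]
      rintro _ ⟨i, rfl⟩
      choose kf hkf using hN i i.isLt
      refine Ideal.mem_radical_iff.mpr ⟨s.sup kf, ?_⟩
      rw [Module.mem_annihilator]
      rintro ⟨y, hy⟩
      apply Subtype.ext
      rw [Submodule.coe_smul, Submodule.coe_zero]
      change f i ^ s.sup kf • y = 0
      induction hy using Submodule.span_induction with
      | mem x hx =>
        have hle : kf x ≤ s.sup kf := Finset.le_sup (Finset.mem_coe.mp hx)
        rw [← Nat.sub_add_cancel hle, pow_add, mul_smul, hkf x, smul_zero]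
      | zero => exact smul_zero _
      | add x y _ _ hx hy => rw [smul_add, hx, hy, add_zero]
      | smul a x _ hx => rw [smul_comm, hx, smul_zero]
    obtain ⟨K, hK⟩ := Ideal.exists_pow_le_of_le_radical_of_fg hrad
      (Submodule.fg_span (Set.finite_range f))
    exact isZero_tor_of_killed_pow (Ideal.span (Set.range f)) M k hflat htor q hq1 hqk K _
      (fun a ha y => Module.mem_annihilator.mp (hK ha) y)

/-- the descending induction -/
theorem main (hF : ∀ i, Module.Flat A (Localization.Away (f i) ⊗[A] M))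
    (hbase : ∀ (N : Type u) [AddCommGroup N] [Module A N], LN f r N →
      ∀ q, 1 ≤ q → q ≤ r + 1 → IsZero (T A q M N)) :
    ∀ (d s : ℕ), s + d = r → ∀ (N : Type u) [AddCommGroup N] [Module A N], LN f s N →
      ∀ q, 1 ≤ q → q ≤ s + 1 → IsZero (T A q M N) := by
  intro d
  induction d with
  | zero =>
    intro s hs N _ _ hN q hq1 hq2
    obtain rfl : s = r := by omega
    exact hbase N hN q hq1 hq2
  | succ d ih =>
    intro s hs N _ _ hN q hq1 hq2
    have hsr : s < r := by omega
    have IH := ih (s + 1) (by omega)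
    haveI := hF ⟨s, hsr⟩
    haveI := isLocalizedModule_mk_away (f ⟨s, hsr⟩) N
    obtain ⟨j, hj⟩ : ∃ j : N →ₗ[A] Localization.Away (f ⟨s, hsr⟩) ⊗[A] N,
        j = TensorProduct.mk A (Localization.Away (f ⟨s, hsr⟩)) N 1 := ⟨_, rfl⟩
    haveI : IsLocalizedModule (Submonoid.powers (f ⟨s, hsr⟩)) j := by rw [hj]; infer_instance
    -- the kernel
    have hK : LN f (s + 1) ↥(LinearMap.ker j) := by
      intro i hi x
      rcases Nat.lt_succ_iff_lt_or_eq.mp hi with h | h
      · obtain ⟨k, hk⟩ := hN i h (x : N)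
        exact ⟨k, Subtype.ext (by rw [Submodule.coe_smul, hk, Submodule.coe_zero])⟩
      · obtain rfl : i = ⟨s, hsr⟩ := Fin.ext h
        obtain ⟨⟨_, k, rfl⟩, hc⟩ :=
          (IsLocalizedModule.eq_zero_iff (Submonoid.powers (f ⟨s, hsr⟩)) j).mp
            (LinearMap.mem_ker.mp x.2)
        refine ⟨k, Subtype.ext ?_⟩
        rw [Submodule.coe_smul, Submodule.coe_zero]
        exact hc
    -- the cokernel
    have hC : LN f (s + 1) ((Localization.Away (f ⟨s, hsr⟩) ⊗[A] N) ⧸ LinearMap.range j) := by
      intro i hi c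
      obtain ⟨y, rfl⟩ := (LinearMap.range j).mkQ_surjective c
      rcases Nat.lt_succ_iff_lt_or_eq.mp hi with h | h
      · have hy : ∃ k : ℕ, f i ^ k • y = 0 := by
          induction y using TensorProduct.induction_on with
          | zero => exact ⟨0, smul_zero _⟩
          | tmul a x =>
            obtain ⟨k, hk⟩ := hN i h x
            exact ⟨k, by rw [← TensorProduct.tmul_smul, hk, TensorProduct.tmul_zero]⟩
          | add y y' hy hy' =>
            obtain ⟨k, hk⟩ := hy
            obtain ⟨k', hk'⟩ := hy'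
            refine ⟨k + k', ?_⟩
            have e1 : f i ^ (k + k') • y = 0 := by
              rw [pow_add, mul_comm, mul_smul, hk, smul_zero]
            have e2 : f i ^ (k + k') • y' = 0 := by
              rw [pow_add, mul_smul, hk', smul_zero]
            rw [smul_add, e1, e2, add_zero]
        obtain ⟨k, hk⟩ := hy
        exact ⟨k, by rw [← map_smul, hk, map_zero]⟩
      · obtain rfl : i = ⟨s, hsr⟩ := Fin.ext h
        obtain ⟨⟨x, ⟨_, k, rfl⟩⟩, hc⟩ :=
          IsLocalizedModule.surj (Submonoid.powers (f ⟨s, hsr⟩)) j y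
        refine ⟨k, ?_⟩
        rw [← map_smul]
        exact (Submodule.Quotient.mk_eq_zero _).mpr ⟨x, hc.symm⟩
    obtain ⟨n, rfl⟩ : ∃ n, q = n + 1 := ⟨q - 1, by omega⟩
    have hFN : IsZero (T A (n + 1) M (Localization.Away (f ⟨s, hsr⟩) ⊗[A] N)) :=
      isZero_tor_tensor_of_flat (Localization.Away (f ⟨s, hsr⟩)) M N n
    have hCq : IsZero (T A (n + 1 + 1) M
        ((Localization.Away (f ⟨s, hsr⟩) ⊗[A] N) ⧸ LinearMap.range j)) :=
      IH _ hC (n + 1 + 1) (by omega) (by omega)
    have hN' : IsZero (T A (n + 1) M ↥(LinearMap.range j)) :=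
      isZero_left₂ (LinearMap.range j).subtype (LinearMap.range j).mkQ
        (LinearMap.range j).injective_subtype (LinearMap.exact_subtype_mkQ (LinearMap.range j))
        (LinearMap.range j).mkQ_surjective (n + 1) hCq hFN
    have hKq : IsZero (T A (n + 1) M ↥(LinearMap.ker j)) := IH _ hK (n + 1) (by omega) (by omega)
    have hex : Function.Exact (LinearMap.ker j).subtype j.rangeRestrict := by
      rw [LinearMap.exact_iff, LinearMap.ker_rangeRestrict, Submodule.range_subtype]
    exact isZero_mid₂ (LinearMap.ker j).subtype j.rangeRestrict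
      (LinearMap.ker j).injective_subtype hex j.surjective_rangeRestrict (n + 1) hKq hN'

/-- The flatness criterion. -/
theorem flat_of_tor (h1 : ∀ i, Module.Flat (Localization.Away (f i))
      (LocalizedModule (Submonoid.powers (f i)) M))
    (h2 : Module.Flat (A ⧸ Ideal.span (Set.range f)) ((A ⧸ Ideal.span (Set.range f)) ⊗[A] M))
    (h3 : ∀ q, 1 ≤ q → q ≤ r + 1 → IsZero (T A q M (A ⧸ Ideal.span (Set.range f)))) :
    Module.Flat A M := by
  have hF : ∀ i, Module.Flat A (Localization.Away (f i) ⊗[A] M) :=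
    fun i => flat_tensor_away M (f i) (h1 i)
  have key : ∀ (N : Type u) [AddCommGroup N] [Module A N], IsZero (T A 1 M N) := fun N _ _ =>
    main M f hF (fun N' _ _ hN' q hq1 hq2 => base M f (r + 1) h2 h3 N' hN' q hq1 hq2) r 0
      (by omega) N (fun i hi => absurd hi (Nat.not_lt_zero _)) 1 le_rfl (by omega)
  rw [Module.Flat.iff_lTensor_injective']
  intro J
  exact (TorOne.isZero_tor_one_iff_injective_lTensor (N := M) J.subtype J.mkQ J.injective_subtype
    (LinearMap.exact_subtype_mkQ J) J.mkQ_surjective).mp (key (A ⧸ J))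

end Main

end Groth.Agent.Lib.Helper46.TorFlatCrit
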