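import Groth.Agent.Lib.Helper46.TorBalance

/-!
# Long exact sequence of `Tor` in the second variable, and balancing (helper46)

`Tor (ModuleCat R) n` is Mathlib's Tor (left-derived in the second variable).
* `torIsoHfun M n : (Tor _ n).obj M ≅ Hfun (resK M) n`, i.e. `Torₙ(M, N) ≅ Hₙ(P ⊗ N)` naturally in `N`,
  where `P = resK M` is the chosen projective resolution of `M`;
* `torIsoHfunOfRes K hflat hexact e n : (Tor _ n).obj M ≅ Hfun K n` for any flat resolution `K` of `M`;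
* for `S` short exact (second variable): `δ₂ M S hS n`, `exact₁₂`, `exact₂₂`, `exact₃₂`.
-/

set_option autoImplicit false
set_option backward.isDefEq.respectTransparency false
set_option backward.defeqAttrib.useBackward true

namespace Groth.Agent.Lib.Helper46.TorLES2

open CategoryTheory Limits MonoidalCategory Category
open Groth.Agent.Lib.Helper46 Groth.Agent.Lib.Helper46.TorBalance

universe u

variable {R : Type u} [CommRing R]

/-- `Torₙ(M, -) ≅ Hₙ(K ⊗ -)` for any flat resolution `K` of `M`. -/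
noncomputable def torIsoHfunOfRes {M : ModuleCat.{u} R} (K : ChainComplex (ModuleCat.{u} R) ℕ)
    (hflat : ∀ i, Module.Flat R (K.X i)) (hexact : ∀ i, K.ExactAt (i + 1))
    (e : K.opcycles 0 ≅ M) (n : ℕ) : (Tor (ModuleCat.{u} R) n).obj M ≅ Hfun K n :=
  (Tor (ModuleCat.{u} R) n).mapIso e.symm ≪≫ torIsoH K hflat hexact n

variable (M : ModuleCat.{u} R)

/-- The complex of the chosen projective resolution of `M`. -/
noncomputable def resK : ChainComplex (ModuleCat.{u} R) ℕ := (projectiveResolution M).complex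

lemma resK_flat (i : ℕ) : Module.Flat R ((resK M).X i) :=
  TorLES.flat_of_projective ((projectiveResolution M).complex.X i)

lemma resK_exact (i : ℕ) : (resK M).ExactAt (i + 1) :=
  (projectiveResolution M).complex_exactAt_succ i

/-- For a projective resolution `P` of `M`, `coker (P₁ ⟶ P₀) ≅ M`. -/
noncomputable def opcyclesIsoOfRes (P : ProjectiveResolution M) : P.complex.opcycles 0 ≅ M :=
  IsColimit.coconePointUniqueUpToIso (P.complex.opcyclesIsCokernel 1 0 (by simp))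
    P.isColimitCokernelCofork

/-- `Torₙ(M, -) ≅ Hₙ(P ⊗ -)`, `P` the chosen projective resolution of `M`. -/
noncomputable def torIsoHfun (n : ℕ) : (Tor (ModuleCat.{u} R) n).obj M ≅ Hfun (resK M) n :=
  torIsoHfunOfRes (resK M) (resK_flat M) (resK_exact M)
    (opcyclesIsoOfRes M (projectiveResolution M)) n

variable (S : ShortComplex (ModuleCat.{u} R)) (hS : S.ShortExact)

/-- The connecting morphism `Torₙ₊₁(M, S.X₃) ⟶ Torₙ(M, S.X₁)` (second variable). -/
noncomputable def δ₂ (n : ℕ) :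
    ((Tor (ModuleCat.{u} R) (n + 1)).obj M).obj S.X₃ ⟶ ((Tor (ModuleCat.{u} R) n).obj M).obj S.X₁ :=
  (torIsoHfun M (n + 1)).hom.app S.X₃ ≫ δH (resK M) (resK_flat M) S hS n ≫
    (torIsoHfun M n).inv.app S.X₁

lemma map_eq {X Y : ModuleCat.{u} R} (f : X ⟶ Y) (n : ℕ) :
    ((Tor (ModuleCat.{u} R) n).obj M).map f =
      (torIsoHfun M n).hom.app X ≫ (Hfun (resK M) n).map f ≫ (torIsoHfun M n).inv.app Y := by
  rw [← (torIsoHfun M n).hom.naturality_assoc f]
  simp

@[reassoc]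
lemma map_f_map_g₂ (n : ℕ) :
    ((Tor (ModuleCat.{u} R) n).obj M).map S.f ≫ ((Tor (ModuleCat.{u} R) n).obj M).map S.g = 0 := by
  rw [map_eq, map_eq]
  simp only [assoc, Iso.inv_hom_id_app_assoc]
  rw [Hfun_map_f_g_assoc, zero_comp, comp_zero]

@[reassoc]
lemma map_g_δ₂ (n : ℕ) :
    ((Tor (ModuleCat.{u} R) (n + 1)).obj M).map S.g ≫ δ₂ M S hS n = 0 := by
  rw [map_eq]
  dsimp only [δ₂]
  simp only [assoc, Iso.inv_hom_id_app_assoc]
  rw [Hfun_map_g_δH_assoc, zero_comp, comp_zero]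

@[reassoc]
lemma δ₂_map_f (n : ℕ) :
    δ₂ M S hS n ≫ ((Tor (ModuleCat.{u} R) n).obj M).map S.f = 0 := by
  rw [map_eq]
  dsimp only [δ₂]
  simp only [assoc, Iso.inv_hom_id_app_assoc]
  rw [δH_Hfun_map_f_assoc, zero_comp, comp_zero]

include hS in
/-- Exactness of `Torₙ(M,S.X₁) ⟶ Torₙ(M,S.X₂) ⟶ Torₙ(M,S.X₃)`. -/
lemma exact₂₂ (n : ℕ) : (ShortComplex.mk _ _ (map_f_map_g₂ M S n)).Exact := by
  refine ShortComplex.exact_of_iso ?_ (Hfun_exact₂ (resK M) (resK_flat M) S hS n)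
  exact ShortComplex.isoMk ((torIsoHfun M n).symm.app S.X₁) ((torIsoHfun M n).symm.app S.X₂)
    ((torIsoHfun M n).symm.app S.X₃) ((torIsoHfun M n).inv.naturality S.f).symm
    ((torIsoHfun M n).inv.naturality S.g).symm

/-- Exactness of `Torₙ₊₁(M,S.X₂) ⟶ Torₙ₊₁(M,S.X₃) ⟶ Torₙ(M,S.X₁)`. -/
lemma exact₃₂ (n : ℕ) : (ShortComplex.mk _ _ (map_g_δ₂ M S hS n)).Exact := by
  refine ShortComplex.exact_of_iso ?_ (Hfun_exact₃ (resK M) (resK_flat M) S hS n)
  refine ShortComplex.isoMk ((torIsoHfun M (n + 1)).symm.app S.X₂)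
    ((torIsoHfun M (n + 1)).symm.app S.X₃) ((torIsoHfun M n).symm.app S.X₁)
    ((torIsoHfun M (n + 1)).inv.naturality S.g).symm ?_
  dsimp [δ₂]
  simp

/-- Exactness of `Torₙ₊₁(M,S.X₃) ⟶ Torₙ(M,S.X₁) ⟶ Torₙ(M,S.X₂)`. -/
lemma exact₁₂ (n : ℕ) : (ShortComplex.mk _ _ (δ₂_map_f M S hS n)).Exact := by
  refine ShortComplex.exact_of_iso ?_ (Hfun_exact₁ (resK M) (resK_flat M) S hS n)
  refine ShortComplex.isoMk ((torIsoHfun M (n + 1)).symm.app S.X₃)
    ((torIsoHfun M n).symm.app S.X₁) ((torIsoHfun M n).symm.app S.X₂) ?_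
    ((torIsoHfun M n).inv.naturality S.f).symm
  dsimp [δ₂]
  simp

include hS in
/-- `Tor₀(M, S.X₂) ⟶ Tor₀(M, S.X₃)` is an epimorphism. -/
lemma epi_map_g_zero₂ : Epi (((Tor (ModuleCat.{u} R) 0).obj M).map S.g) := by
  have h := (TorLES.torZeroIso M).hom.naturality S.g
  haveI : Epi S.g := hS.epi_g
  haveI : (tensorLeft M).PreservesEpimorphisms := by
    haveI : PreservesColimitsOfShape WalkingSpan (tensorLeft M) :=
      PreservesFiniteColimits.preservesFiniteColimits WalkingSpan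
    exact preservesEpimorphisms_of_preservesColimitsOfShape _
  haveI : Epi ((tensorLeft M).map S.g) := (tensorLeft M).map_epi S.g
  have h2 : Epi (((Tor (ModuleCat.{u} R) 0).obj M).map S.g ≫ (TorLES.torZeroIso M).hom.app S.X₃) := by
    rw [h]; infer_instance
  have e : ((Tor (ModuleCat.{u} R) 0).obj M).map S.g =
      (((Tor (ModuleCat.{u} R) 0).obj M).map S.g ≫ (TorLES.torZeroIso M).hom.app S.X₃) ≫
        (TorLES.torZeroIso M).inv.app S.X₃ := by
    rw [assoc, Iso.hom_inv_id_app, comp_id]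
  rw [e]; infer_instance

end Groth.Agent.Lib.Helper46.TorLES2
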