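import Groth.Agent.Lib.Helper46.TorBaseChange
import Groth.Agent.Lib.Helper46.TorLinear
import Mathlib.RingTheory.TensorProduct.Quotient
import Mathlib.RingTheory.Localization.BaseChange
import Mathlib.RingTheory.Flat.Localization
import Mathlib.RingTheory.LocalRing.ResidueField.Ideal
import Mathlib.RingTheory.Ideal.Colon
import Mathlib.RingTheory.Flat.Tensor

/-!
# Detecting vanishing of `Tor` on residue fields (helper46)
-/

set_option autoImplicit false
set_option backward.isDefEq.respectTransparency false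
set_option backward.defeqAttrib.useBackward true

namespace Groth.Agent.Lib.Helper46.TorResidue

open CategoryTheory Limits MonoidalCategory Category
open Groth.Agent.Lib.Helper46 Groth.Agent.Lib.Helper46.TorShift
open Groth.Agent.Lib.Helper46.TorBaseChange

universe u

variable {A : Type u} [CommRing A]

/-- exactness of `A/I --r--> A/I --> A/(I + (r))`. -/
theorem exact_quot_sup (I : Ideal A) (r : A) :
    Function.Exact (r • (LinearMap.id : (A ⧸ I) →ₗ[A] (A ⧸ I)))
      (Submodule.factor (le_sup_left : I ≤ I ⊔ Ideal.span {r})) := by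
  intro y
  obtain ⟨a, rfl⟩ := Submodule.Quotient.mk_surjective I y
  have hmk : Submodule.factor (le_sup_left : I ≤ I ⊔ Ideal.span {r})
      (Submodule.Quotient.mk (p := I) a) =
      Submodule.Quotient.mk (p := I ⊔ Ideal.span {r}) a := Submodule.factor_mk _ a
  rw [hmk, Submodule.Quotient.mk_eq_zero]
  constructor
  · intro ha
    obtain ⟨y, hy, z, hz, rfl⟩ := Submodule.mem_sup.mp ha
    obtain ⟨c, rfl⟩ := Ideal.mem_span_singleton'.mp hz
    refine ⟨Submodule.Quotient.mk (p := I) c, ?_⟩
    simp only [LinearMap.smul_apply, LinearMap.id_coe, id_eq]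
    rw [← Submodule.Quotient.mk_smul, Submodule.Quotient.mk_add,
      (Submodule.Quotient.mk_eq_zero _).mpr hy, zero_add, smul_eq_mul, mul_comm]
  · rintro ⟨z, hz⟩
    obtain ⟨c, rfl⟩ := Submodule.Quotient.mk_surjective I z
    simp only [LinearMap.smul_apply, LinearMap.id_coe, id_eq] at hz
    rw [← Submodule.Quotient.mk_smul, Submodule.Quotient.eq] at hz
    have h1 : r • c ∈ I ⊔ Ideal.span {r} :=
      Submodule.mem_sup_right (by
        rw [smul_eq_mul, mul_comm]; exact Ideal.mul_mem_left _ _ (Ideal.mem_span_singleton_self r))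
    have h2 : r • c - a ∈ I ⊔ Ideal.span {r} := Submodule.mem_sup_left hz
    have := Submodule.sub_mem _ h1 h2
    simpa using this

lemma isSMulRegular_quot_prime (p : Ideal A) [p.IsPrime] (r : A) (hr : r ∉ p) :
    IsSMulRegular (A ⧸ p) r := by
  intro x y hxy
  obtain ⟨a, rfl⟩ := Submodule.Quotient.mk_surjective p x
  obtain ⟨b, rfl⟩ := Submodule.Quotient.mk_surjective p y
  change r • Submodule.Quotient.mk (p := p) a = r • Submodule.Quotient.mk (p := p) b at hxy
  rw [← Submodule.Quotient.mk_smul, ← Submodule.Quotient.mk_smul, Submodule.Quotient.eq] at hxy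
  rw [Submodule.Quotient.eq]
  rw [← smul_sub, smul_eq_mul] at hxy
  exact (Ideal.IsPrime.mem_or_mem ‹_› hxy).resolve_left hr

section Colon

variable (I : Ideal A) (a : A)

/-- the ideal `(I : a)` -/
def colon : Ideal A := Submodule.comap (LinearMap.lsmul A A a) I

lemma mem_colon (x : A) : x ∈ colon I a ↔ a * x ∈ I := Iff.rfl

lemma le_colon : I ≤ colon I a := fun x hx => I.mul_mem_left a hx

/-- multiplication by `a` : `A/(I : a) → A/I` -/
def colonMap : (A ⧸ colon I a) →ₗ[A] (A ⧸ I) :=
  Submodule.mapQ (colon I a) I (LinearMap.lsmul A A a) le_rfl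

lemma colonMap_mk (x : A) :
    colonMap I a (Submodule.Quotient.mk (p := colon I a) x) =
      Submodule.Quotient.mk (p := I) (a * x) := rfl

lemma colonMap_injective : Function.Injective (colonMap I a) := by
  rw [injective_iff_map_eq_zero]
  intro x hx
  obtain ⟨c, rfl⟩ := Submodule.Quotient.mk_surjective (colon I a) x
  rw [colonMap_mk, Submodule.Quotient.mk_eq_zero] at hx
  exact (Submodule.Quotient.mk_eq_zero _).mpr hx

theorem exact_colon :
    Function.Exact (colonMap I a) (Submodule.factor (le_sup_left : I ≤ I ⊔ Ideal.span {a})) := by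
  intro y
  obtain ⟨b, rfl⟩ := Submodule.Quotient.mk_surjective I y
  have hmk : Submodule.factor (le_sup_left : I ≤ I ⊔ Ideal.span {a})
      (Submodule.Quotient.mk (p := I) b) =
      Submodule.Quotient.mk (p := I ⊔ Ideal.span {a}) b := Submodule.factor_mk _ b
  rw [hmk, Submodule.Quotient.mk_eq_zero]
  constructor
  · intro hb
    obtain ⟨y, hy, z, hz, rfl⟩ := Submodule.mem_sup.mp hb
    obtain ⟨c, rfl⟩ := Ideal.mem_span_singleton'.mp hz
    refine ⟨Submodule.Quotient.mk (p := colon I a) c, ?_⟩
    rw [colonMap_mk, Submodule.Quotient.mk_add, (Submodule.Quotient.mk_eq_zero _).mpr hy,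
      zero_add, mul_comm]
  · rintro ⟨z, hz⟩
    obtain ⟨c, rfl⟩ := Submodule.Quotient.mk_surjective (colon I a) z
    rw [colonMap_mk, Submodule.Quotient.eq] at hz
    have h1 : a * c ∈ I ⊔ Ideal.span {a} :=
      Submodule.mem_sup_right (by
        rw [mul_comm]; exact Ideal.mul_mem_left _ _ (Ideal.mem_span_singleton_self a))
    have h2 : a * c - b ∈ I ⊔ Ideal.span {a} := Submodule.mem_sup_left hz
    have := Submodule.sub_mem _ h1 h2
    simpa using this

end Colon

section Prime

variable (p : Ideal A) [p.IsPrime]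

/-- `A_p ⊗[A] A/p ≅ k(p)` as `A_p`-modules -/
noncomputable def bcQuotIso :
    (bc A (Localization.AtPrime p)).obj (ModuleCat.of A (A ⧸ p)) ≅
      ModuleCat.of (Localization.AtPrime p) p.ResidueField :=
  ((Algebra.TensorProduct.quotIdealMapEquivTensorQuot (Localization.AtPrime p) p).symm.toLinearEquiv
    ≪≫ₗ Submodule.quotEquivOfEq _ _ Localization.AtPrime.map_eq_maximalIdeal).toModuleIso

variable (M : ModuleCat.{u} A) (i : ℕ)

/-- If every `f ∉ p` acts injectively on `Torᵢ(A/p, M)` and `Torᵢ(k(p), M) = 0` then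
`Torᵢ(A/p, M) = 0`. -/
theorem isZero_tor_quot_prime_of_residue
    (hinj : ∀ f : A, f ∉ p → Function.Injective
      (fun t : ((Tor (ModuleCat.{u} A) i).obj (ModuleCat.of A (A ⧸ p))).obj M => f • t))
    (hres : IsZero (((Tor (ModuleCat.{u} A) i).obj (ModuleCat.of A p.ResidueField)).obj M)) :
    IsZero (((Tor (ModuleCat.{u} A) i).obj (ModuleCat.of A (A ⧸ p))).obj M) := by
  haveI : Module.Flat A (Localization.AtPrime p) :=
    IsLocalization.flat (Localization.AtPrime p) p.primeCompl
  have hM : ∀ q : ℕ, IsZero (((Tor (ModuleCat.{u} A) (q + 1)).obj M).obj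
      (ModuleCat.of A (Localization.AtPrime p))) := fun q =>
    TorLES.isZero_tor_succ_of_flat_right (ModuleCat.of A (Localization.AtPrime p)) q M
  have h3a : IsZero ((rs A (Localization.AtPrime p)).obj
      (((Tor (ModuleCat.{u} (Localization.AtPrime p)) i).obj
        ((bc A (Localization.AtPrime p)).obj M)).obj
        (ModuleCat.of (Localization.AtPrime p) p.ResidueField))) :=
    hres.of_iso ((torBaseChangeIso A (Localization.AtPrime p) p.ResidueField M hM i).symm ≪≫
      TorPrime.torSymm M (ModuleCat.of A p.ResidueField) i)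
  have h3b : IsZero (((Tor (ModuleCat.{u} (Localization.AtPrime p)) i).obj
        ((bc A (Localization.AtPrime p)).obj M)).obj
        (ModuleCat.of (Localization.AtPrime p) p.ResidueField)) := by
    have hs := ModuleCat.subsingleton_of_isZero h3a
    haveI : Subsingleton (((Tor (ModuleCat.{u} (Localization.AtPrime p)) i).obj
        ((bc A (Localization.AtPrime p)).obj M)).obj
        (ModuleCat.of (Localization.AtPrime p) p.ResidueField)) := hs
    exact ModuleCat.isZero_of_subsingleton _
  have h3c := h3b.of_iso (TorPrime.torSymm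
    (ModuleCat.of (Localization.AtPrime p) p.ResidueField)
    ((bc A (Localization.AtPrime p)).obj M) i)
  have h2 := h3c.of_iso (((Tor (ModuleCat.{u} (Localization.AtPrime p)) i).mapIso
    (bcQuotIso p)).app ((bc A (Localization.AtPrime p)).obj M))
  have h1 := h2.of_iso (torFlatBaseChangeIso A (Localization.AtPrime p)
    (ModuleCat.of A (A ⧸ p)) M i)
  have hsub : Subsingleton (TensorProduct A (Localization.AtPrime p)
      (((Tor (ModuleCat.{u} A) i).obj (ModuleCat.of A (A ⧸ p))).obj M)) :=
    ModuleCat.subsingleton_of_isZero h1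
  haveI : IsLocalizedModule p.primeCompl (TensorProduct.mk A (Localization.AtPrime p)
      (((Tor (ModuleCat.{u} A) i).obj (ModuleCat.of A (A ⧸ p))).obj M) 1) :=
    (isLocalizedModule_iff_isBaseChange p.primeCompl (Localization.AtPrime p) _).mpr
      (TensorProduct.isBaseChange A _ (Localization.AtPrime p))
  have hall : ∀ t : ((Tor (ModuleCat.{u} A) i).obj (ModuleCat.of A (A ⧸ p))).obj M, t = 0 := by
    intro t
    have h0 : TensorProduct.mk A (Localization.AtPrime p)
        (((Tor (ModuleCat.{u} A) i).obj (ModuleCat.of A (A ⧸ p))).obj M) 1 t = 0 :=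
      Subsingleton.elim _ _
    obtain ⟨s, hs⟩ := (IsLocalizedModule.eq_zero_iff p.primeCompl _).mp h0
    apply hinj s.1 s.2
    change s.1 • t = s.1 • 0
    rw [smul_zero]
    exact hs
  haveI : Subsingleton (((Tor (ModuleCat.{u} A) i).obj (ModuleCat.of A (A ⧸ p))).obj M) :=
    ⟨fun a b => (hall a).trans (hall b).symm⟩
  exact ModuleCat.isZero_of_subsingleton _

end Prime

section Noeth

variable [IsNoetherianRing A] (M : ModuleCat.{u} A) (n : ℕ)

/-- Step B: over a Noetherian ring, vanishing of `Torᵢ(k(x), M)` for all primes `x` and `i > n`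
implies vanishing of `Torᵢ(A/I, M)` for all ideals `I` and `i > n`. -/
theorem isZero_tor_quot_of_residue
    (h : ∀ (x : Ideal A) [x.IsPrime] (i : ℕ), n < i →
      IsZero (((Tor (ModuleCat.{u} A) i).obj (ModuleCat.of A x.ResidueField)).obj M))
    (I : Ideal A) : ∀ i, n < i →
      IsZero (((Tor (ModuleCat.{u} A) i).obj (ModuleCat.of A (A ⧸ I))).obj M) := by
  refine IsNoetherian.induction (P := fun I : Ideal A => ∀ i, n < i →
    IsZero (((Tor (ModuleCat.{u} A) i).obj (ModuleCat.of A (A ⧸ I))).obj M)) ?_ I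
  intro (I : Ideal A) IH i hi
  by_cases htop : I = ⊤
  · subst htop
    obtain ⟨k, rfl⟩ : ∃ k, i = k + 1 := ⟨i - 1, by omega⟩
    haveI : Subsingleton (A ⧸ (⊤ : Ideal A)) := Submodule.Quotient.subsingleton_iff.mpr rfl
    exact TorLES.isZero_tor_succ_of_flat_left _ _ k
  by_cases hp : Ideal.IsPrime I
  · haveI : Ideal.IsPrime I := hp
    refine isZero_tor_quot_prime_of_residue I M i ?_ (h I i hi)
    intro f hf
    have hreg := isSMulRegular_quot_prime I f hf
    have hι := TorLinear.smulId_injective f hreg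
    have hex := exact_quot_sup I f
    have hπ : Function.Surjective (Submodule.factor (le_sup_left : I ≤ I ⊔ Ideal.span {f})) :=
      Submodule.factor_surjective _
    have hS := sesSC_shortExact _ _ hι hex hπ
    have hlt : I < I ⊔ Ideal.span {f} := by
      refine lt_of_le_of_ne le_sup_left ?_
      intro heq
      apply hf
      rw [heq]
      exact Submodule.mem_sup_right (Ideal.mem_span_singleton_self f)
    have hz := IH _ hlt (i + 1) (by omega)
    have hmono : Mono (((Tor (ModuleCat.{u} A) i).map (sesSC _ _ hex).f).app M) :=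
      (TorLES.exact₁ _ hS M i).mono_g (hz.eq_of_src _ _)
    have hf' : ((Tor (ModuleCat.{u} A) i).map (sesSC _ _ hex).f).app M = f • 𝟙 _ :=
      TorLinear.tor_map_smul_id_app f (ModuleCat.of A (A ⧸ I)) M i
    rw [hf'] at hmono
    exact TorLinear.isSMulRegular_of_mono_smul_id f _ hmono
  · obtain ⟨a, ha, b, hb, hab⟩ := (Ideal.not_isPrime_iff.mp hp).resolve_left htop
    have hι := colonMap_injective I a
    have hex := exact_colon I a
    have hπ : Function.Surjective (Submodule.factor (le_sup_left : I ≤ I ⊔ Ideal.span {a})) :=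
      Submodule.factor_surjective _
    have hS := sesSC_shortExact _ _ hι hex hπ
    have hlt1 : I < colon I a := by
      refine lt_of_le_of_ne (le_colon I a) ?_
      intro heq
      apply hb
      rw [heq]
      exact (mem_colon I a b).mpr hab
    have hlt2 : I < I ⊔ Ideal.span {a} := by
      refine lt_of_le_of_ne le_sup_left ?_
      intro heq
      apply ha
      rw [heq]
      exact Submodule.mem_sup_right (Ideal.mem_span_singleton_self a)
    exact (TorLES.exact₂ _ hS M i).isZero_X₂ ((IH _ hlt1 i hi).eq_of_src _ _)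
      ((IH _ hlt2 i hi).eq_of_tgt _ _)

end Noeth

/-- Step C: vanishing of `Torᵢ(A/I, M)` for all ideals `I` and `i > n` implies vanishing of
`Torᵢ(N, M)` for all modules `N` and `i > n`. -/
theorem isZero_tor_of_quot (n : ℕ) : ∀ (M : ModuleCat.{u} A),
    (∀ (I : Ideal A) (i : ℕ), n < i →
      IsZero (((Tor (ModuleCat.{u} A) i).obj (ModuleCat.of A (A ⧸ I))).obj M)) →
    ∀ (N : ModuleCat.{u} A) (i : ℕ), n < i → IsZero (((Tor (ModuleCat.{u} A) i).obj N).obj M) := by
  induction n with
  | zero =>
    intro M h N i hi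
    have hflat : Module.Flat A M := by
      rw [Module.Flat.iff_rTensor_injective']
      intro I
      exact (TorOne.isZero_tor_one_iff_injective_rTensor (M := M) I.subtype I.mkQ
        I.injective_subtype (LinearMap.exact_subtype_mkQ I) I.mkQ_surjective).mp (h I 1 one_pos)
    obtain ⟨k, rfl⟩ : ∃ k, i = k + 1 := ⟨i - 1, by omega⟩
    exact TorLES.isZero_tor_succ_of_flat_right M k N
  | succ n ih =>
    intro M h N i hi
    let S := TorLES.presentation M
    have hS : S.ShortExact := TorLES.presentation_shortExact M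
    have hK : ∀ (I : Ideal A) (j : ℕ), n < j →
        IsZero (((Tor (ModuleCat.{u} A) j).obj (ModuleCat.of A (A ⧸ I))).obj S.X₁) := by
      intro I j hj
      obtain ⟨k, rfl⟩ : ∃ k, j = k + 1 := ⟨j - 1, by omega⟩
      have h3 : IsZero (((Tor (ModuleCat.{u} A) (k + 1 + 1)).obj (ModuleCat.of A (A ⧸ I))).obj S.X₃) :=
        h I (k + 1 + 1) (by omega)
      have h2 : IsZero (((Tor (ModuleCat.{u} A) (k + 1)).obj (ModuleCat.of A (A ⧸ I))).obj S.X₂) :=
        TorLES.isZero_tor_succ_of_flat_right S.X₂ k _
      exact (TorLES2.exact₁₂ (ModuleCat.of A (A ⧸ I)) S hS (k + 1)).isZero_X₂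
        (h3.eq_of_src _ _) (h2.eq_of_tgt _ _)
    have hK' := ih S.X₁ hK
    obtain ⟨j, rfl⟩ : ∃ j, i = j + 1 := ⟨i - 1, by omega⟩
    have h2 : IsZero (((Tor (ModuleCat.{u} A) (j + 1)).obj N).obj S.X₂) :=
      TorLES.isZero_tor_succ_of_flat_right S.X₂ j _
    have h1 : IsZero (((Tor (ModuleCat.{u} A) j).obj N).obj S.X₁) := hK' N j (by omega)
    exact (TorLES2.exact₃₂ N S hS j).isZero_X₂ (h2.eq_of_src _ _) (h1.eq_of_tgt _ _)

end Groth.Agent.Lib.Helper46.TorResidue
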