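import Mathlib.LinearAlgebra.Trace
import Mathlib.LinearAlgebra.Determinant
import Mathlib.LinearAlgebra.Dimension.Constructions
import Mathlib.LinearAlgebra.Quotient.Basic
import Mathlib.RingTheory.Length
import Mathlib.RingTheory.FiniteLength
import Mathlib.RingTheory.Artinian.Module
import Mathlib.RingTheory.SimpleModule.Basic
import Mathlib.RingTheory.Trace.Basic
import Mathlib.RingTheory.LocalRing.ResidueField.Basic

/-!
# Trace and filtrations (helper46)

* `trace_eq_trace_restrict_add_trace_mapQ` : additivity of the trace along a stable submodule.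
* `trace_lsmul_eq` : for a finite local `k`-algebra `C` with residue field `k'`, and a `C`-module `V`
  finite over `k`, the `k`-trace of multiplication by `x : C` on `V` is
  `length_C V • Tr_{k'/k} (x mod m)`.
-/

set_option autoImplicit false

namespace Groth.Agent.Lib.Helper46.TraceFil

open Module

section Additivity

variable {R V : Type*} [CommRing R] [AddCommGroup V] [Module R V] [Module.Finite R V]
    (W : Submodule R V) [Module.Free R W] [Module.Finite R W] [Module.Free R (V ⧸ W)]

open Module.Basis in
theorem trace_eq_trace_restrict_add_trace_mapQ (e : V →ₗ[R] V) (he : W ≤ W.comap e) :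
    LinearMap.trace R V e =
      LinearMap.trace R W (e.restrict he) + LinearMap.trace R (V ⧸ W) (W.mapQ W e he) := by
  classical
  let m := Module.Free.ChooseBasisIndex R W
  let bW : Basis m R W := Module.Free.chooseBasis R W
  let n := Module.Free.ChooseBasisIndex R (V ⧸ W)
  let bQ : Basis n R (V ⧸ W) := Module.Free.chooseBasis R (V ⧸ W)
  let b := sumQuot bW bQ
  let A : Matrix m m R := LinearMap.toMatrix bW bW (e.restrict he)
  let B : Matrix m n R := Matrix.of fun i l ↦
    ((sumQuot bW bQ).repr (e ((sumQuot bW bQ) (Sum.inr l)))) (Sum.inl i)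
  let D : Matrix n n R := LinearMap.toMatrix bQ bQ (W.mapQ W e he)
  suffices LinearMap.toMatrix b b e = Matrix.fromBlocks A B 0 D by
    rw [LinearMap.trace_eq_matrix_trace R b, this, LinearMap.trace_eq_matrix_trace R bW,
      LinearMap.trace_eq_matrix_trace R bQ]
    simp [Matrix.trace, Fintype.sum_sum_type, A, D]
  ext u v
  cases u with
  | inl i =>
    cases v with
    | inl k =>
      simp only [b, sumQuot_inl, Matrix.fromBlocks_apply₁₁, A, LinearMap.toMatrix_apply]
      apply sumQuot_repr_inl_of_mem
    | inr l => simp [b, LinearMap.toMatrix_apply, Matrix.fromBlocks_apply₁₂, B]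
  | inr j =>
    cases v with
    | inl k =>
      suffices W.mkQ (e (bW k)) = 0 by simp [LinearMap.toMatrix_apply, b, this]
      rw [← LinearMap.mem_ker, Submodule.ker_mkQ]
      exact he (Submodule.coe_mem (bW k))
    | inr l =>
      simp only [LinearMap.toMatrix_apply, sumQuot_repr_inr,
        Matrix.fromBlocks_apply₂₂, b, D]
      rw [← sumQuot_inr bW bQ l, W.mapQ_apply]
      simp

end Additivity

section Local

open IsLocalRing

variable (k : Type*) [Field k] (C : Type*) [CommRing C] [Algebra k C] [IsLocalRing C]

theorem trace_lsmul_eq_aux (V : Type*) [AddCommGroup V] [Module C V] (h : IsFiniteLength C V) :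
    ∀ [Module k V] [IsScalarTower k C V] [Module.Finite k V] (x : C),
      LinearMap.trace k V (Algebra.lsmul k k V x) =
        (Module.length C V).toNat • Algebra.trace k (ResidueField C) (residue C x) := by
  induction h with
  | of_subsingleton =>
    intro _ _ _ x
    rw [Module.length_eq_zero]
    rw [Subsingleton.elim (Algebra.lsmul k k _ x) 0]
    simp
  | @of_simple_quotient M _ _ N _ hN ih =>
    intro _ _ _ x
    have : Module.Finite k N :=
      Module.Finite.of_injective (N.subtype.restrictScalars k) N.injective_subtype
    let W : Submodule k M := N.restrictScalars k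
    have he : W ≤ W.comap (Algebra.lsmul k k M x) := fun v hv => N.smul_mem x hv
    have hadd := trace_eq_trace_restrict_add_trace_mapQ W (Algebra.lsmul k k M x) he
    have h1 : LinearMap.trace k W ((Algebra.lsmul k k M x).restrict he) =
        LinearMap.trace k N (Algebra.lsmul k k N x) := by
      let eW : W ≃ₗ[k] N := (Submodule.restrictScalarsEquiv k C M N).restrictScalars k
      rw [← LinearMap.trace_conj' _ eW]
      congr 1
    have h2 : LinearMap.trace k (M ⧸ W) (W.mapQ W _ he) =
        Algebra.trace k (ResidueField C) (residue C x) := by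
      obtain ⟨I, hI, ⟨φ⟩⟩ := isSimpleModule_iff_quot_maximal.1
        (inferInstance : IsSimpleModule C (M ⧸ N))
      have hIm : I = IsLocalRing.maximalIdeal C := IsLocalRing.eq_maximalIdeal hI
      subst hIm
      let φ' : (M ⧸ N) ≃ₗ[C] ResidueField C := φ
      let eQ : (M ⧸ W) ≃ₗ[k] ResidueField C :=
        (Submodule.Quotient.restrictScalarsEquiv k N) ≪≫ₗ (φ'.restrictScalars k)
      rw [← LinearMap.trace_conj' _ eQ, Algebra.trace_apply]
      congr 1
      ext y
      obtain ⟨z, rfl⟩ := eQ.surjective y
      obtain ⟨v, rfl⟩ := W.mkQ_surjective z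
      simp only [LinearEquiv.conj_apply, LinearMap.comp_apply, LinearEquiv.coe_coe,
        LinearEquiv.symm_apply_apply, Submodule.mkQ_apply, Submodule.mapQ_apply]
      change φ' (N.mkQ (x • v)) = residue C x * φ' (N.mkQ v)
      rw [map_smul, map_smul]
      rfl
    have hlen : Module.length C M = Module.length C N + 1 := by
      rw [Module.length_eq_add_of_exact N.subtype N.mkQ N.injective_subtype N.mkQ_surjective
        (LinearMap.exact_subtype_mkQ N), Module.length_eq_one (R := C) (M := M ⧸ N)]
    have hfin : Module.length C N ≠ ⊤ := Module.length_ne_top_iff.2 hN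
    rw [hadd, h1, ih, h2, hlen, ENat.toNat_add hfin ENat.one_ne_top, ENat.toNat_one, add_smul,
      one_smul]

theorem trace_lsmul_eq (V : Type*) [AddCommGroup V] [Module C V] [Module k V]
    [IsScalarTower k C V] [Module.Finite k V] (x : C) :
    LinearMap.trace k V (Algebra.lsmul k k V x) =
      (Module.length C V).toNat • Algebra.trace k (ResidueField C) (residue C x) := by
  have h : IsFiniteLength C V := by
    rw [isFiniteLength_iff_isNoetherian_isArtinian]
    exact ⟨isNoetherian_of_tower k inferInstance, isArtinian_of_tower k inferInstance⟩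
  exact trace_lsmul_eq_aux k C V h x

/-- `Tr_{C/k} x = length(C) • Tr_{k'/k} (x mod m)` -/
theorem algebra_trace_eq [Module.Finite k C] (x : C) :
    Algebra.trace k C x =
      (Module.length C C).toNat • Algebra.trace k (ResidueField C) (residue C x) := by
  rw [← trace_lsmul_eq k C C x, Algebra.trace_apply]
  congr 1

end Local

end Groth.Agent.Lib.Helper46.TraceFil
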